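import Cfsg.Prelude.Def_Blocks
import Cfsg.Agent.Blocks.Local
import Mathlib.GroupTheory.Rank
import Mathlib.GroupTheory.GroupAction.ConjAct
import Mathlib.RingTheory.SimpleModule.Rank
import Mathlib.Tactic

/-!
# Basic facts about blocks

`SameBlock` is an equivalence relation, blocks are its classes, characters, central characters
and block coefficients are constant on conjugacy classes, transport of defect classes and defect
groups by conjugation, induced central characters as sums over classes of the subgroup.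
-/

set_option autoImplicit false
set_option linter.unusedSectionVars false
set_option linter.unusedVariables false

open Cfsg Cfsg.Agent.Blocks.Local

namespace Cfsg.Agent.Blocks.Basic

variable {G : Type*} [Group G]

/-! ### Unfolding lemmas (use these instead of `unfold`/`simp [..]`) -/

theorem centralChar_def (χ : G → ℂ) (g : G) : centralChar χ g =
    ((Subgroup.centralizer ({g} : Set G)).index : ℂ) * χ g / χ 1 := rfl

theorem charDegree_def (χ : G → ℂ) : charDegree χ = ⌊(χ 1).re⌋₊ := rfl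

theorem blockCoeff_def (B : Set (IrrCharacter G)) (g : G) : blockCoeff B g =
    (Nat.card G : ℂ)⁻¹ * ∑ᶠ χ ∈ B, (χ : G → ℂ) 1 * (starRingEnd ℂ) ((χ : G → ℂ) g) := rfl

theorem blockDefect_def (p : ℕ) (B : Set (IrrCharacter G)) : blockDefect p B =
    (Nat.card G).factorization p -
      sInf ((fun χ : IrrCharacter G => (charDegree (χ : G → ℂ)).factorization p) '' B) := rfl

theorem blockHeight_def (p : ℕ) (B : Set (IrrCharacter G)) (χ : G → ℂ) : blockHeight p B χ =
    (charDegree χ).factorization p -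
      sInf ((fun ψ : IrrCharacter G => (charDegree (ψ : G → ℂ)).factorization p) '' B) := rfl

theorem inducedCentralChar_def (H : Subgroup G) (ξ : H → ℂ) (g : G) :
    inducedCentralChar H ξ g = ∑ᶠ h ∈ {h : H | IsConj g (h : G)}, ξ h / ξ 1 := rfl

theorem brauerCentralChar_def (P H : Subgroup G) (ξ : H → ℂ) (g : G) :
    brauerCentralChar P H ξ g = ∑ᶠ h ∈ {h : H | IsConj g (h : G) ∧
      (h : G) ∈ Subgroup.centralizer (P : Set G)}, ξ h / ξ 1 := rfl

theorem classInner_def [Fintype G] (φ ψ : G → ℂ) : classInner φ ψ =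
    (Nat.card G : ℂ)⁻¹ * ∑ g : G, φ g * (starRingEnd ℂ) (ψ g) := rfl

/-! ### Irreducible characters are class functions with positive integral degree -/

theorem irr_conj {χ : G → ℂ} (hχ : IsIrrCharacter G χ) (g h : G) : χ (h * g * h⁻¹) = χ g := by
  obtain ⟨n, ρ, _, rfl⟩ := hχ
  exact ρ.char_conj g h

theorem irr_mul_comm {χ : G → ℂ} (hχ : IsIrrCharacter G χ) (g h : G) : χ (g * h) = χ (h * g) := by
  obtain ⟨n, ρ, _, rfl⟩ := hχ
  exact ρ.char_mul_comm h g

theorem irr_isClassFunction {χ : G → ℂ} (hχ : IsIrrCharacter G χ) : IsClassFunction G χ :=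
  irr_conj hχ

theorem irr_isConj {χ : G → ℂ} (hχ : IsIrrCharacter G χ) {g h : G} (hgh : IsConj g h) :
    χ g = χ h := by
  obtain ⟨c, rfl⟩ := isConj_iff.1 hgh
  exact (irr_conj hχ g c).symm

theorem irr_isCharacter {χ : G → ℂ} (hχ : IsIrrCharacter G χ) : IsCharacter G χ := by
  obtain ⟨n, ρ, _, rfl⟩ := hχ
  exact ⟨n, ρ, rfl⟩

theorem irr_one_eq_natCast {χ : G → ℂ} (hχ : IsIrrCharacter G χ) :
    ∃ n : ℕ, 0 < n ∧ χ 1 = n := by
  obtain ⟨n, ρ, hρ, rfl⟩ := hχ
  refine ⟨n, ?_, ?_⟩
  · rcases Nat.eq_zero_or_pos n with rfl | hn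
    · exfalso
      have hne : Nontrivial (Representation.asModule ρ) := by
        have : IsSimpleModule (MonoidAlgebra ℂ G) ρ.asModule :=
          (Representation.irreducible_iff_isSimpleModule_asModule ρ).1 hρ
        exact IsSimpleModule.nontrivial (MonoidAlgebra ℂ G) _
      obtain ⟨x, y, hxy⟩ := hne
      exact hxy (Subsingleton.elim (α := Fin 0 → ℂ) x y)
    · exact hn
  · rw [Representation.char_one]
    simp

theorem irr_one_ne_zero {χ : G → ℂ} (hχ : IsIrrCharacter G χ) : χ 1 ≠ 0 := by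
  obtain ⟨n, hn, h⟩ := irr_one_eq_natCast hχ
  rw [h]
  exact_mod_cast hn.ne'

theorem charDegree_of_eq {χ : G → ℂ} {n : ℕ} (h : χ 1 = n) : charDegree χ = n := by
  rw [charDegree_def, h]
  simp

theorem irr_one_eq_charDegree {χ : G → ℂ} (hχ : IsIrrCharacter G χ) :
    χ 1 = (charDegree χ : ℂ) := by
  obtain ⟨n, hn, h⟩ := irr_one_eq_natCast hχ
  rw [charDegree_of_eq h, h]

theorem charDegree_pos {χ : G → ℂ} (hχ : IsIrrCharacter G χ) : 0 < charDegree χ := by
  obtain ⟨n, hn, h⟩ := irr_one_eq_natCast hχ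
  rw [charDegree_of_eq h]
  exact hn

theorem isIrrCharacter_one : IsIrrCharacter G (fun _ : G => (1 : ℂ)) := by
  refine ⟨1, Representation.trivial ℂ G (Fin 1 → ℂ), ?_, ?_⟩
  · have h1 : IsSimpleModule ℂ (Fin 1 → ℂ) := by
      apply isSimpleModule_iff_finrank_eq_one.2
      simp
    have hs : IsSimpleOrder (Submodule ℂ (Fin 1 → ℂ)) := by
      rwa [isSimpleModule_iff] at h1
    have hbot : (⊥ : Submodule ℂ (Fin 1 → ℂ)) ≠ ⊤ := bot_ne_top
    have hnt : Nontrivial (Subrepresentation (Representation.trivial ℂ G (Fin 1 → ℂ))) := by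
      refine ⟨⟨⊥, ⊤, ?_⟩⟩
      intro h
      apply hbot
      exact congrArg (fun W => W.toSubmodule) h
    refine ⟨fun W => ?_⟩
    rcases eq_bot_or_eq_top W.toSubmodule with h | h
    · left
      exact Subrepresentation.toSubmodule_injective h
    · right
      exact Subrepresentation.toSubmodule_injective h
  · ext g
    simp [Representation.character]

/-! ### Conjugation invariance of the index of centralizers -/

theorem index_centralizer_eq_ncard (g : G) :
    (Subgroup.centralizer ({g} : Set G)).index = {h : G | IsConj g h}.ncard := by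
  have h1 : (Subgroup.centralizer ({g} : Set G)).index =
      (MulAction.stabilizer (ConjAct G) g).index := by
    rw [Subgroup.centralizer_eq_comap_stabilizer]
    exact Subgroup.index_comap_of_surjective _ (ConjAct.toConjAct (G := G)).surjective
  rw [h1, MulAction.index_stabilizer]
  congr 1
  ext h
  rw [ConjAct.mem_orbit_conjAct]
  exact ⟨fun h => h.symm, fun h => h.symm⟩

theorem index_centralizer_isConj {g h : G} (hgh : IsConj g h) :
    (Subgroup.centralizer ({g} : Set G)).index = (Subgroup.centralizer ({h} : Set G)).index := by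
  rw [index_centralizer_eq_ncard, index_centralizer_eq_ncard]
  congr 1
  ext x
  exact ⟨fun h1 => hgh.symm.trans h1, fun h1 => hgh.trans h1⟩

theorem centralChar_isConj {χ : G → ℂ} (hχ : IsIrrCharacter G χ) {g h : G} (hgh : IsConj g h) :
    centralChar χ g = centralChar χ h := by
  rw [centralChar_def, centralChar_def, irr_isConj hχ hgh, index_centralizer_isConj hgh]

theorem centralChar_one {χ : G → ℂ} (hχ : χ 1 ≠ 0) : centralChar χ 1 = 1 := by
  rw [centralChar_def]
  have : (Subgroup.centralizer ({1} : Set G)) = ⊤ := by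
    rw [Subgroup.centralizer_eq_top_iff_subset]
    simp
  rw [this]
  simp [hχ]

theorem blockCoeff_isConj (B : Set (IrrCharacter G)) {g h : G} (hgh : IsConj g h) :
    blockCoeff B g = blockCoeff B h := by
  rw [blockCoeff_def, blockCoeff_def]
  congr 1
  refine finsum_mem_congr rfl fun χ _ => ?_
  rw [irr_isConj χ.2 hgh]

/-! ### `SameBlock` is an equivalence relation -/

section Block

variable {M : Ideal AlgInt}

theorem sameBlock_refl [M.IsPrime] (χ : G → ℂ) : SameBlock M χ χ := by
  intro g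
  rw [sub_self]
  exact memLocalIdeal_zero

theorem sameBlock_symm [M.IsPrime] {χ ψ : G → ℂ} (h : SameBlock M χ ψ) : SameBlock M ψ χ :=
  fun g => memLocalIdeal_sub_comm (h g)

theorem sameBlock_trans [M.IsPrime] {χ ψ φ : G → ℂ} (h : SameBlock M χ ψ)
    (h' : SameBlock M ψ φ) : SameBlock M χ φ :=
  fun g => memLocalIdeal_sub_trans (h g) (h' g)

theorem mem_blockOf {χ : G → ℂ} {ψ : IrrCharacter G} :
    ψ ∈ blockOf M χ ↔ SameBlock M χ (ψ : G → ℂ) := Iff.rfl

theorem mem_blockOf_self [M.IsPrime] (χ : IrrCharacter G) : χ ∈ blockOf M (χ : G → ℂ) :=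
  sameBlock_refl _

theorem blockOf_eq_of_sameBlock [M.IsPrime] {χ ψ : G → ℂ} (h : SameBlock M χ ψ) :
    blockOf M χ = blockOf M ψ := by
  ext φ
  exact ⟨fun h1 => sameBlock_trans (sameBlock_symm h) h1, fun h1 => sameBlock_trans h h1⟩

theorem blockOf_eq_iff [M.IsPrime] {χ : G → ℂ} {ψ : IrrCharacter G} :
    blockOf M χ = blockOf M (ψ : G → ℂ) ↔ SameBlock M χ ψ := by
  refine ⟨fun h => ?_, blockOf_eq_of_sameBlock⟩
  have : ψ ∈ blockOf M χ := by
    rw [h]
    exact mem_blockOf_self ψ
  exact this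

theorem isPBlock_blockOf (χ : IrrCharacter G) : IsPBlock M (blockOf M (χ : G → ℂ)) := ⟨χ, rfl⟩

theorem isPBlock_nonempty [M.IsPrime] {B : Set (IrrCharacter G)} (hB : IsPBlock M B) :
    B.Nonempty := by
  obtain ⟨χ, rfl⟩ := hB
  exact ⟨χ, mem_blockOf_self χ⟩

theorem isPBlock_eq_blockOf [M.IsPrime] {B : Set (IrrCharacter G)} (hB : IsPBlock M B)
    {χ : IrrCharacter G} (hχ : χ ∈ B) : B = blockOf M (χ : G → ℂ) := by
  obtain ⟨ψ, rfl⟩ := hB
  exact blockOf_eq_of_sameBlock hχ

theorem isPBlock_sameBlock [M.IsPrime] {B : Set (IrrCharacter G)} (hB : IsPBlock M B)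
    {χ ψ : IrrCharacter G} (hχ : χ ∈ B) (hψ : ψ ∈ B) : SameBlock M (χ : G → ℂ) (ψ : G → ℂ) := by
  rw [isPBlock_eq_blockOf hB hχ] at hψ
  exact hψ

theorem isPBlock_mem_of_sameBlock [M.IsPrime] {B : Set (IrrCharacter G)} (hB : IsPBlock M B)
    {χ ψ : IrrCharacter G} (hχ : χ ∈ B) (h : SameBlock M (χ : G → ℂ) (ψ : G → ℂ)) : ψ ∈ B := by
  rw [isPBlock_eq_blockOf hB hχ]
  exact h

theorem isPBlock_mem_iff [M.IsPrime] {B : Set (IrrCharacter G)} (hB : IsPBlock M B)
    {χ ψ : IrrCharacter G} (hχ : χ ∈ B) :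
    ψ ∈ B ↔ SameBlock M (χ : G → ℂ) (ψ : G → ℂ) :=
  ⟨isPBlock_sameBlock hB hχ, isPBlock_mem_of_sameBlock hB hχ⟩

theorem isPBlock_eq_of_mem [M.IsPrime] {B B' : Set (IrrCharacter G)} (hB : IsPBlock M B)
    (hB' : IsPBlock M B') {χ : IrrCharacter G} (hχ : χ ∈ B) (hχ' : χ ∈ B') : B = B' := by
  rw [isPBlock_eq_blockOf hB hχ, isPBlock_eq_blockOf hB' hχ']

theorem isPBlock_eq_of_sameBlock [M.IsPrime] {B B' : Set (IrrCharacter G)} (hB : IsPBlock M B)
    (hB' : IsPBlock M B') {χ χ' : IrrCharacter G} (hχ : χ ∈ B) (hχ' : χ' ∈ B')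
    (h : SameBlock M (χ : G → ℂ) (χ' : G → ℂ)) : B = B' :=
  isPBlock_eq_of_mem hB hB' (isPBlock_mem_of_sameBlock hB hχ h) hχ'

theorem isPBlock_disjoint [M.IsPrime] {B B' : Set (IrrCharacter G)} (hB : IsPBlock M B)
    (hB' : IsPBlock M B') (hne : B ≠ B') : Disjoint B B' := by
  rw [Set.disjoint_left]
  intro χ h h'
  exact hne (isPBlock_eq_of_mem hB hB' h h')

theorem centralChar_memLocalIdeal_iff [M.IsPrime] {B : Set (IrrCharacter G)} (hB : IsPBlock M B)
    {χ ψ : IrrCharacter G} (hχ : χ ∈ B) (hψ : ψ ∈ B) (g : G) :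
    MemLocalIdeal M (centralChar (χ : G → ℂ) g) ↔
      MemLocalIdeal M (centralChar (ψ : G → ℂ) g) :=
  memLocalIdeal_iff_of_sub (isPBlock_sameBlock hB hχ hψ g)

/-! ### Defect classes and defect groups under conjugation -/

theorem isDefectClass_isConj {B : Set (IrrCharacter G)} {g h : G} (hgh : IsConj g h)
    (hg : IsDefectClass M B g) : IsDefectClass M B h := by
  refine ⟨?_, ?_, ?_⟩
  · rw [← blockCoeff_isConj B hgh]
    exact hg.1
  · rw [← blockCoeff_isConj B hgh]
    exact hg.2.1
  · intro χ hχ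
    rw [← centralChar_isConj χ.2 hgh]
    exact hg.2.2 χ hχ

theorem isDefectClass_isConj_iff {B : Set (IrrCharacter G)} {g h : G} (hgh : IsConj g h) :
    IsDefectClass M B g ↔ IsDefectClass M B h :=
  ⟨isDefectClass_isConj hgh, isDefectClass_isConj hgh.symm⟩

/-- For a defect class it is enough to test one central character. -/
theorem isDefectClass_of_mem [M.IsPrime] {B : Set (IrrCharacter G)} (hB : IsPBlock M B)
    {χ : IrrCharacter G} (hχ : χ ∈ B) {g : G} (h1 : MemLocalRing M (blockCoeff B g))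
    (h2 : ¬ MemLocalIdeal M (blockCoeff B g))
    (h3 : ¬ MemLocalIdeal M (centralChar (χ : G → ℂ) g)) : IsDefectClass M B g :=
  ⟨h1, h2, fun ψ hψ h => h3 ((centralChar_memLocalIdeal_iff hB hχ hψ g).2 h)⟩

end Block

/-- `D` is a Sylow `p`-subgroup of the centralizer of `g`, viewed in `G`. -/
def IsSylowCentralizer (p : ℕ) (g : G) (D : Subgroup G) : Prop :=
  ∃ P : Sylow p (Subgroup.centralizer ({g} : Set G)),
    D = (P : Subgroup (Subgroup.centralizer ({g} : Set G))).map
      (Subgroup.centralizer ({g} : Set G)).subtype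

theorem isDefectGroup_iff {p : ℕ} {M : Ideal AlgInt} {B : Set (IrrCharacter G)}
    {D : Subgroup G} : IsDefectGroup p M B D ↔
      ∃ g : G, IsDefectClass M B g ∧ IsSylowCentralizer p g D := Iff.rfl

theorem map_conj_map_conj (D : Subgroup G) (x y : G) :
    (D.map (MulAut.conj x).toMonoidHom).map (MulAut.conj y).toMonoidHom =
      D.map (MulAut.conj (y * x)).toMonoidHom := by
  rw [Subgroup.map_map]
  congr 1
  ext z
  simp [mul_assoc]

theorem map_conj_one (D : Subgroup G) : D.map (MulAut.conj (1 : G)).toMonoidHom = D := by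
  have : (MulAut.conj (1 : G)).toMonoidHom = MonoidHom.id G := by
    ext z
    simp
  rw [this, Subgroup.map_id]

/-- A subgroup is Sylow in the centralizer of `g` iff it is a maximal `p`-subgroup of it. -/
theorem isSylowCentralizer_iff (p : ℕ) (g : G) (D : Subgroup G) :
    IsSylowCentralizer p g D ↔ IsPGroup p D ∧ D ≤ Subgroup.centralizer ({g} : Set G) ∧
      ∀ Q : Subgroup G, IsPGroup p Q → Q ≤ Subgroup.centralizer ({g} : Set G) → D ≤ Q →
        Q = D := by
  constructor
  · rintro ⟨P, rfl⟩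
    refine ⟨P.2.map _, Subgroup.map_subtype_le _, fun Q hQ hQC hDQ => ?_⟩
    have h1 : IsPGroup p (Q.subgroupOf (Subgroup.centralizer ({g} : Set G))) :=
      hQ.comap_subtype
    have h2 : (P : Subgroup (Subgroup.centralizer ({g} : Set G))) ≤
        Q.subgroupOf (Subgroup.centralizer ({g} : Set G)) := by
      intro x hx
      rw [Subgroup.mem_subgroupOf]
      exact hDQ ⟨x, hx, rfl⟩
    have h3 := P.3 h1 h2
    rw [← h3, Subgroup.subgroupOf_map_subtype, inf_eq_left.2 hQC]
  · rintro ⟨h1, h2, h3⟩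
    have hp : IsPGroup p (D.subgroupOf (Subgroup.centralizer ({g} : Set G))) :=
      h1.comap_subtype
    refine ⟨⟨D.subgroupOf (Subgroup.centralizer ({g} : Set G)), hp, ?_⟩, ?_⟩
    · intro Q hQ hDQ
      have h4 := h3 (Q.map (Subgroup.centralizer ({g} : Set G)).subtype) (hQ.map _)
        (Subgroup.map_subtype_le _) (by
          have := Subgroup.map_mono (f := (Subgroup.centralizer ({g} : Set G)).subtype) hDQ
          rwa [Subgroup.subgroupOf_map_subtype, inf_eq_left.2 h2] at this)
      rw [← h4, Subgroup.subgroupOf, Subgroup.comap_map_eq_self_of_injective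
        (Subgroup.subtype_injective _)]
    · change D = (D.subgroupOf (Subgroup.centralizer ({g} : Set G))).map _
      rw [Subgroup.subgroupOf_map_subtype, inf_eq_left.2 h2]

theorem centralizer_conj (g x : G) : Subgroup.centralizer ({x * g * x⁻¹} : Set G) =
    (Subgroup.centralizer ({g} : Set G)).map (MulAut.conj x).toMonoidHom := by
  ext y
  rw [Subgroup.mem_map_equiv, Subgroup.mem_centralizer_singleton_iff,
    Subgroup.mem_centralizer_singleton_iff, MulAut.conj_symm_apply]
  constructor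
  · intro h
    have : x⁻¹ * (y * (x * g * x⁻¹)) * x = x⁻¹ * (x * g * x⁻¹ * y) * x := by rw [h]
    simpa [mul_assoc] using this
  · intro h
    have : x * (x⁻¹ * y * x * g) * x⁻¹ = x * (g * (x⁻¹ * y * x)) * x⁻¹ := by rw [h]
    simpa [mul_assoc] using this

theorem isSylowCentralizer_conj {p : ℕ} {g : G} {D : Subgroup G}
    (h : IsSylowCentralizer p g D) (x : G) :
    IsSylowCentralizer p (x * g * x⁻¹) (D.map (MulAut.conj x).toMonoidHom) := by
  rw [isSylowCentralizer_iff] at h ⊢
  obtain ⟨h1, h2, h3⟩ := h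
  refine ⟨h1.map _, ?_, ?_⟩
  · rw [centralizer_conj]
    exact Subgroup.map_mono h2
  · intro Q hQ hQC hDQ
    have h4 := h3 (Q.map (MulAut.conj x⁻¹).toMonoidHom) (hQ.map _) (by
        have h5 := Subgroup.map_mono (f := (MulAut.conj x⁻¹).toMonoidHom) hQC
        rw [← centralizer_conj] at h5
        convert h5 using 3
        simp [mul_assoc]) (by
        have h5 := Subgroup.map_mono (f := (MulAut.conj x⁻¹).toMonoidHom) hDQ
        rwa [map_conj_map_conj, inv_mul_cancel, map_conj_one] at h5)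
    rw [← h4, map_conj_map_conj, mul_inv_cancel, map_conj_one]

theorem isPGroup_of_isSylowCentralizer {p : ℕ} {g : G} {D : Subgroup G}
    (h : IsSylowCentralizer p g D) : IsPGroup p D := by
  obtain ⟨P, rfl⟩ := h
  exact P.2.map _

theorem le_centralizer_of_isSylowCentralizer {p : ℕ} {g : G} {D : Subgroup G}
    (h : IsSylowCentralizer p g D) : D ≤ Subgroup.centralizer ({g} : Set G) := by
  obtain ⟨P, rfl⟩ := h
  exact Subgroup.map_subtype_le _

theorem exists_isSylowCentralizer [Finite G] {p : ℕ} [Fact p.Prime] {g : G} {Q : Subgroup G}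
    (hQ : IsPGroup p Q) (hle : Q ≤ Subgroup.centralizer ({g} : Set G)) :
    ∃ D : Subgroup G, IsSylowCentralizer p g D ∧ Q ≤ D := by
  have h1 : IsPGroup p (Q.subgroupOf (Subgroup.centralizer ({g} : Set G))) :=
    hQ.comap_subtype
  obtain ⟨P, hP⟩ := h1.exists_le_sylow
  refine ⟨_, ⟨P, rfl⟩, ?_⟩
  have := Subgroup.map_mono (f := (Subgroup.centralizer ({g} : Set G)).subtype) hP
  rwa [Subgroup.subgroupOf_map_subtype, inf_eq_left.2 hle] at this

/-- Two Sylow subgroups of centralizers of conjugate elements are conjugate. -/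
theorem isSylowCentralizer_conj_of_isConj [Finite G] {p : ℕ} [Fact p.Prime] {g h : G}
    {D E : Subgroup G} (hD : IsSylowCentralizer p g D) (hE : IsSylowCentralizer p h E)
    (hgh : IsConj g h) : ∃ x : G, x * g * x⁻¹ = h ∧ E = D.map (MulAut.conj x).toMonoidHom := by
  obtain ⟨c, rfl⟩ := isConj_iff.1 hgh
  obtain ⟨P, hP⟩ := isSylowCentralizer_conj hD c
  obtain ⟨Q, rfl⟩ := hE
  obtain ⟨y, hy⟩ := MulAction.exists_smul_eq
    (Subgroup.centralizer ({c * g * c⁻¹} : Set G)) P Q
  refine ⟨(y : G) * c, ?_, ?_⟩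
  · have h1 := Subgroup.mem_centralizer_singleton_iff.1 y.2
    calc (y : G) * c * g * ((y : G) * c)⁻¹ = (y : G) * (c * g * c⁻¹) * (y : G)⁻¹ := by group
      _ = c * g * c⁻¹ := by rw [h1]; group
  · rw [← map_conj_map_conj, hP, ← hy, Subgroup.map_map, Sylow.coe_subgroup_smul]
    ext z
    simp only [Subgroup.mem_map, Subgroup.mem_smul_pointwise_iff_exists]
    constructor
    · rintro ⟨w, ⟨v, hv, rfl⟩, rfl⟩
      exact ⟨v, hv, rfl⟩
    · rintro ⟨v, hv, rfl⟩
      exact ⟨_, ⟨v, hv, rfl⟩, rfl⟩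

section DefectGroup

variable {p : ℕ} {M : Ideal AlgInt} {B : Set (IrrCharacter G)} {D : Subgroup G}

theorem isDefectGroup_conj (hD : IsDefectGroup p M B D) (x : G) :
    IsDefectGroup p M B (D.map (MulAut.conj x).toMonoidHom) := by
  obtain ⟨g, hg, hD⟩ := isDefectGroup_iff.1 hD
  exact ⟨x * g * x⁻¹, isDefectClass_isConj (isConj_iff.2 ⟨x, rfl⟩) hg,
    isSylowCentralizer_conj hD x⟩

theorem isPGroup_of_isDefectGroup (hD : IsDefectGroup p M B D) : IsPGroup p D := by
  obtain ⟨g, hg, hD⟩ := isDefectGroup_iff.1 hD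
  exact isPGroup_of_isSylowCentralizer hD

end DefectGroup

/-! ### Induced central characters as sums over classes of the subgroup -/

section Induced

variable [Finite G] (H : Subgroup G)

open Classical in
/-- The sum of `ξ h / ξ 1` over a conjugation-stable set of elements of a finite group is the sum
of the central characters over the classes in that set. -/
theorem finsum_mem_eq_sum_centralChar {K : Type*} [Group K] [Fintype K] {ξ : K → ℂ}
    (hξ : IsIrrCharacter K ξ) (S : Set K) (hS : ∀ x ∈ S, ∀ y, IsConj x y → y ∈ S) :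
    ∑ᶠ h ∈ S, ξ h / ξ 1 = ∑ c ∈ S.toFinset.image ConjClasses.mk,
      centralChar ξ (Quotient.out c) := by
  rw [finsum_mem_eq_toFinset_sum,
    ← Finset.sum_fiberwise_of_maps_to (g := ConjClasses.mk)
      (t := S.toFinset.image ConjClasses.mk) (fun x hx => Finset.mem_image_of_mem _ hx)]
  refine Finset.sum_congr rfl fun c hc => ?_
  obtain ⟨x, hx, rfl⟩ := Finset.mem_image.1 hc
  have hx' : x ∈ S := by simpa using hx
  set y : K := Quotient.out (ConjClasses.mk x) with hy
  have hxy : IsConj x y := by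
    rw [← ConjClasses.mk_eq_mk_iff_isConj]
    exact (Quotient.out_eq _).symm
  have h1 : S.toFinset.filter (fun z => ConjClasses.mk z = ConjClasses.mk x) =
      {h : K | IsConj y h}.toFinset := by
    ext z
    simp only [Finset.mem_filter, Set.mem_toFinset, Set.mem_ofPred_eq,
      ConjClasses.mk_eq_mk_iff_isConj]
    constructor
    · rintro ⟨_, hz⟩
      exact hxy.symm.trans hz.symm
    · intro hz
      exact ⟨hS x hx' z (hxy.trans hz), (hxy.trans hz).symm⟩
  rw [h1, Finset.sum_congr rfl (g := fun _ => ξ y / ξ 1)]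
  · rw [Finset.sum_const, centralChar_def, index_centralizer_eq_ncard,
      Set.ncard_eq_toFinset_card', nsmul_eq_mul, mul_div_assoc]
  · intro z hz
    rw [irr_isConj hξ (show IsConj y z by simpa using hz)]

/-- If the induced central character of `ξ` at `g` is nonzero modulo `M`, then some element of
`H` conjugate in `G` to `g` has central character nonzero modulo `M`. -/
theorem exists_isConj_of_inducedCentralChar {M : Ideal AlgInt} [M.IsPrime] {ξ : H → ℂ}
    (hξ : IsIrrCharacter H ξ) {g : G} (h : ¬ MemLocalIdeal M (inducedCentralChar H ξ g)) :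
    ∃ y : H, IsConj g (y : G) ∧ ¬ MemLocalIdeal M (centralChar ξ y) := by
  classical
  have := Fintype.ofFinite G
  have := Fintype.ofFinite H
  rw [inducedCentralChar_def, finsum_mem_eq_sum_centralChar hξ {h : H | IsConj g (h : G)}] at h
  · obtain ⟨c, hc, hc'⟩ := exists_not_memLocalIdeal_of_sum h
    obtain ⟨x, hx, rfl⟩ := Finset.mem_image.1 hc
    refine ⟨Quotient.out (ConjClasses.mk x), ?_, hc'⟩
    have hxy : IsConj x (Quotient.out (ConjClasses.mk x)) := by
      rw [← ConjClasses.mk_eq_mk_iff_isConj]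
      exact (Quotient.out_eq _).symm
    have hx' : IsConj g (x : G) := by simpa using hx
    refine hx'.trans ?_
    obtain ⟨c, hc⟩ := isConj_iff.1 hxy
    exact isConj_iff.2 ⟨c, by rw [← hc]; simp⟩
  · intro x hx y hxy
    obtain ⟨c, rfl⟩ := isConj_iff.1 hxy
    have hx' : IsConj g (x : G) := hx
    refine hx'.trans (isConj_iff.2 ⟨c, by simp⟩)

end Induced

end Cfsg.Agent.Blocks.Basic
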