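import Mathlib
import Cfsg.Prelude.Def_Blocks

/-!
# The trace lemma

`R` is a subring of a field `K` with a ring homomorphism `φ : R → k` to a domain of characteristic
`p`, and `R` contains a primitive `p`-th root of unity.  If `E` is an idempotent matrix over `R`
commuting with a matrix `T` over `K` which is homogeneous of degree one for some `ℤ/p`-grading of
the basis, then `tr (E T) = 0`.
-/

set_option autoImplicit false

open Matrix
open Cfsg

namespace Cfsg.Agent.Blocks.TraceLemma

section core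

variable {p : ℕ} [hp : Fact p.Prime]
variable {K : Type*} [Field K] {k : Type*} [CommRing k] [IsDomain k] [CharP k p]
variable {Ω : Type*} [Fintype Ω] [DecidableEq Ω]

/-- **Trace lemma, graded form.** -/
theorem trace_eq_zero_core (R : Subring K) (φ : R →+* k) (μ : R) (hμ : μ ^ p = 1) (hμ1 : μ ≠ 1)
    (E : Matrix Ω Ω R) (hE : E * E = E) (T : Matrix Ω Ω K)
    (hET : E.map R.subtype * T = T * E.map R.subtype)
    (d : Ω → ZMod p) (hd : ∀ a b, T a b ≠ 0 → d a = d b + 1) :
    (E.map R.subtype * T).trace = 0 := by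
  classical
  have : NeZero p := ⟨hp.out.ne_zero⟩
  -- `φ μ = 1`
  have hφμ : φ μ = 1 := by
    have h1 : (φ μ - 1) ^ p = 0 := by
      rw [sub_pow_char, one_pow, ← map_pow, hμ, map_one, sub_self]
    exact sub_eq_zero.mp (pow_eq_zero_iff hp.out.ne_zero |>.mp h1)
  -- the diagonal matrices
  set u : Ω → R := fun a => μ ^ (d a).val with hu
  set v : Ω → R := fun a => μ ^ (p - (d a).val) with hv
  have huv : ∀ a, u a * v a = 1 := by
    intro a
    simp only [hu, hv]
    rw [← pow_add, Nat.add_sub_cancel' (ZMod.val_lt (d a)).le, hμ]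
  set D : Matrix Ω Ω R := Matrix.diagonal u with hD
  set D' : Matrix Ω Ω R := Matrix.diagonal v with hD'
  have hDD' : D * D' = 1 := by
    rw [hD, hD', Matrix.diagonal_mul_diagonal]
    simp only [huv]
    exact Matrix.diagonal_one
  have hD'D : D' * D = 1 := by
    rw [hD, hD', Matrix.diagonal_mul_diagonal]
    simp only [mul_comm (v _), huv]
    exact Matrix.diagonal_one
  set F : Matrix Ω Ω R := D' * E * D with hF
  have hFF : F * F = F := by
    have : F * F = D' * (E * (D * D') * E) * D := by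
      rw [hF]; simp only [Matrix.mul_assoc]
    rw [this, hDD', Matrix.mul_one, hE]
  have hφF : F.map φ = E.map φ := by
    ext a b
    simp only [hF, hD, hD', Matrix.map_apply, Matrix.diagonal_mul, Matrix.mul_diagonal, map_mul,
      hu, hv, map_pow, hφμ, one_pow, one_mul, mul_one]
  set X : Matrix Ω Ω R := E * F + (1 - E) * (1 - F) with hX
  have hEX : E * X = X * F := by
    have h1 : E * (1 - E) = 0 := by rw [Matrix.mul_sub, hE, Matrix.mul_one, sub_self]
    have h2 : (1 - F) * F = 0 := by rw [Matrix.sub_mul, hFF, Matrix.one_mul, sub_self]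
    rw [hX, Matrix.mul_add, Matrix.add_mul, ← Matrix.mul_assoc E (1 - E), h1, Matrix.zero_mul,
      add_zero, Matrix.mul_assoc (1 - E), h2, Matrix.mul_zero, add_zero, ← Matrix.mul_assoc, hE,
      Matrix.mul_assoc E F F, hFF]
  have hφX : X.map φ = 1 := by
    have hEφ : E.map φ * E.map φ = E.map φ := by
      rw [← Matrix.map_mul, hE]
    have h1 : (1 : Matrix Ω Ω R).map φ = 1 := Matrix.map_one φ (map_zero φ) (map_one φ)
    have h3 : (E * F).map φ = E.map φ := by
      rw [Matrix.map_mul, hφF, hEφ]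
    have h4 : ((1 - E) * (1 - F)).map φ = 1 - E.map φ := by
      rw [Matrix.map_mul, Matrix.map_sub φ (map_sub φ), Matrix.map_sub φ (map_sub φ), h1, hφF]
      simp only [Matrix.sub_mul, Matrix.mul_sub, hEφ, Matrix.mul_one, Matrix.one_mul,
        sub_self, sub_zero]
    rw [hX, Matrix.map_add φ (map_add φ), h3, h4, add_sub_cancel]
  have hdet : X.det ≠ 0 := by
    intro h0
    have : φ X.det = 1 := by
      rw [RingHom.map_det]
      show (X.map φ).det = 1
      rw [hφX, Matrix.det_one]
    rw [h0, map_zero] at this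
    exact zero_ne_one this
  -- pass to `K`
  set s := R.subtype with hs
  set e : Matrix Ω Ω K := E.map s with he
  set f : Matrix Ω Ω K := F.map s with hf
  set x : Matrix Ω Ω K := X.map s with hx
  set δ : Matrix Ω Ω K := D.map s with hδ
  set δ' : Matrix Ω Ω K := D'.map s with hδ'
  have hone : (1 : Matrix Ω Ω R).map s = 1 := Matrix.map_one s (map_zero s) (map_one s)
  have hex : e * x = x * f := by
    rw [he, hx, hf, ← Matrix.map_mul, ← Matrix.map_mul, hEX]
  have hxdet : IsUnit x.det := by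
    rw [isUnit_iff_ne_zero]
    have : x.det = s X.det := by
      rw [RingHom.map_det]; rfl
    rw [this]
    intro h0
    apply hdet
    exact Subtype.ext h0
  have hfdef : f = δ' * e * δ := by
    rw [hf, hF, Matrix.map_mul, Matrix.map_mul]
  have hδδ' : δ * δ' = 1 := by
    rw [hδ, hδ', ← Matrix.map_mul, hDD', hone]
  have hδ'δ : δ' * δ = 1 := by
    rw [hδ, hδ', ← Matrix.map_mul, hD'D, hone]
  -- homogeneity
  have hDT : δ * T = (μ : K) • (T * δ) := by
    ext a b
    simp only [hδ, hD, Matrix.diagonal_map (map_zero s), Matrix.diagonal_mul, Matrix.mul_diagonal,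
      Matrix.smul_apply, smul_eq_mul]
    by_cases h0 : T a b = 0
    · simp [h0]
    · have h1 := hd a b h0
      have h2 : u a = μ * u b := by
        simp only [hu, h1]
        rw [← pow_succ']
        have h3 : (d b + 1).val ≡ (d b).val + 1 [MOD p] := by
          rw [← ZMod.natCast_eq_natCast_iff]
          simp
        rw [pow_eq_pow_mod (d b + 1).val hμ, pow_eq_pow_mod ((d b).val + 1) hμ]
        exact congrArg (fun n => μ ^ n) h3
      have h4 : s (u a) = μ * s (u b) := by rw [h2, map_mul]; rfl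
      rw [h4]; ring
  have hTD : T * δ' = (μ : K) • (δ' * T) := by
    calc T * δ' = (δ' * δ) * T * δ' := by rw [hδ'δ, Matrix.one_mul]
      _ = δ' * (δ * T) * δ' := by simp only [Matrix.mul_assoc]
      _ = (μ : K) • (δ' * T) := by
        rw [hDT, Matrix.mul_smul, Matrix.smul_mul, ← Matrix.mul_assoc, Matrix.mul_assoc (δ' * T),
          hδδ', Matrix.mul_one]
  have hfT1 : f * T = (μ : K) • (δ' * e * T * δ) := by
    rw [hfdef, Matrix.mul_assoc, hDT, Matrix.mul_smul, Matrix.mul_assoc (δ' * e)]
  have hfT : f * T = T * f := by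
    rw [hfT1, hfdef, ← Matrix.mul_assoc, ← Matrix.mul_assoc, hTD, Matrix.smul_mul, Matrix.smul_mul,
      Matrix.mul_assoc δ' e T, hET, ← Matrix.mul_assoc]
  have htr1 : (f * T).trace = μ * (e * T).trace := by
    rw [hfT1, Matrix.trace_smul, Matrix.trace_mul_comm, ← Matrix.mul_assoc, ← Matrix.mul_assoc,
      hδδ', Matrix.one_mul, smul_eq_mul]
  -- `x` commutes with `T`
  have hxdef : x = e * f + (1 - e) * (1 - f) := by
    rw [hx, hX, Matrix.map_add s (map_add s), Matrix.map_mul (L := E) (M := F) (f := s),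
      Matrix.map_mul (L := 1 - E) (M := 1 - F) (f := s),
      Matrix.map_sub s (map_sub s) 1 E, Matrix.map_sub s (map_sub s) 1 F, hone]
  have hxT : x * T = T * x := by
    have h1 : (1 - e) * T = T * (1 - e) := by
      rw [Matrix.sub_mul, Matrix.mul_sub, Matrix.one_mul, Matrix.mul_one, hET]
    have h2 : (1 - f) * T = T * (1 - f) := by
      rw [Matrix.sub_mul, Matrix.mul_sub, Matrix.one_mul, Matrix.mul_one, hfT]
    rw [hxdef, Matrix.add_mul, Matrix.mul_add, Matrix.mul_assoc, hfT, ← Matrix.mul_assoc, hET,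
      Matrix.mul_assoc T, Matrix.mul_assoc (1 - e), h2, ← Matrix.mul_assoc (1 - e), h1,
      Matrix.mul_assoc T]
  have htr2 : (f * T).trace = (e * T).trace := by
    have h1 : f = x⁻¹ * (e * x) := by
      rw [hex, ← Matrix.mul_assoc, Matrix.nonsing_inv_mul x hxdet, Matrix.one_mul]
    have h2 : f * T = x⁻¹ * (e * T * x) := by
      rw [h1, Matrix.mul_assoc, Matrix.mul_assoc, hxT, Matrix.mul_assoc]
    rw [h2, Matrix.trace_mul_comm, Matrix.mul_assoc, Matrix.mul_nonsing_inv x hxdet,
      Matrix.mul_one]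
  have hfin : ((1 : K) - μ) * (e * T).trace = 0 := by
    rw [sub_mul, one_mul, ← htr1, htr2, sub_self]
  rcases mul_eq_zero.mp hfin with h | h
  · exfalso
    apply hμ1
    apply Subtype.ext
    have := sub_eq_zero.mp h
    rw [← this]
    rfl
  · exact h

end core

section localRing

variable {p : ℕ} {M : Ideal AlgInt}

/-- The local ring at `M` as a subring of `ℂ`. -/
def locR (M : Ideal AlgInt) [hM : M.IsPrime] : Subring ℂ where
  carrier := {z | MemLocalRing M z}
  mul_mem' := by
    rintro _ _ ⟨a, b, hb, rfl⟩ ⟨c, d, hd, rfl⟩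
    exact ⟨a * c, b * d, fun h => (hM.mem_or_mem h).elim hb hd, by push_cast; ring⟩
  one_mem' := ⟨1, 1, fun h => hM.ne_top ((Ideal.eq_top_iff_one M).mpr h), by simp⟩
  add_mem' := by
    rintro _ _ ⟨a, b, hb, rfl⟩ ⟨c, d, hd, rfl⟩
    have hb0 : (b : ℂ) ≠ 0 := fun h => hb (by
      have : b = 0 := Subtype.ext h
      rw [this]; exact M.zero_mem)
    have hd0 : (d : ℂ) ≠ 0 := fun h => hd (by
      have : d = 0 := Subtype.ext h
      rw [this]; exact M.zero_mem)
    refine ⟨a * d + b * c, b * d, fun h => (hM.mem_or_mem h).elim hb hd, ?_⟩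
    push_cast
    rw [div_add_div _ _ hb0 hd0]
  zero_mem' := ⟨0, 1, fun h => hM.ne_top ((Ideal.eq_top_iff_one M).mpr h), by simp⟩
  neg_mem' := by
    rintro _ ⟨a, b, hb, rfl⟩
    exact ⟨-a, b, hb, by push_cast; ring⟩

theorem mem_locR [M.IsPrime] {z : ℂ} : z ∈ locR M ↔ MemLocalRing M z := Iff.rfl

theorem coe_ne_zero_of_not_mem {b : AlgInt} (hb : b ∉ M) : (b : ℂ) ≠ 0 := fun h => hb (by
  have : b = 0 := Subtype.ext h
  rw [this]; exact M.zero_mem)

/-- The local ideal at `M`, as an ideal of the local ring. -/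
def locI (M : Ideal AlgInt) [hM : M.IsPrime] : Ideal (locR M) where
  carrier := {z | MemLocalIdeal M (z : ℂ)}
  add_mem' := by
    rintro ⟨_, _⟩ ⟨_, _⟩ ⟨a, b, ha, hb, hab⟩ ⟨c, d, hc, hd, hcd⟩
    have hb0 := coe_ne_zero_of_not_mem hb
    have hd0 := coe_ne_zero_of_not_mem hd
    refine ⟨a * d + b * c, b * d, M.add_mem (M.mul_mem_right _ ha) (M.mul_mem_left _ hc),
      fun h => (hM.mem_or_mem h).elim hb hd, ?_⟩
    simp only at hab hcd
    push_cast
    rw [← hab, ← hcd, div_add_div _ _ hb0 hd0]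
  zero_mem' := ⟨0, 1, M.zero_mem, fun h => hM.ne_top ((Ideal.eq_top_iff_one M).mpr h), by simp⟩
  smul_mem' := by
    rintro ⟨_, ⟨a, b, hb, hab⟩⟩ ⟨_, _⟩ ⟨c, d, hc, hd, hcd⟩
    refine ⟨a * c, b * d, M.mul_mem_left _ hc, fun h => (hM.mem_or_mem h).elim hb hd, ?_⟩
    simp only at hcd
    simp only [smul_eq_mul]
    push_cast
    rw [← hab, ← hcd, div_mul_div_comm]

theorem mem_locI [M.IsPrime] {z : locR M} : z ∈ locI M ↔ MemLocalIdeal M (z : ℂ) := Iff.rfl

theorem coe_mem_locI [hM : M.IsPrime] (a : AlgInt) (ha : MemLocalRing M (a : ℂ)) :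
    (⟨(a : ℂ), ha⟩ : locR M) ∈ locI M ↔ a ∈ M := by
  constructor
  · rintro ⟨c, d, hc, hd, hcd⟩
    have hd0 := coe_ne_zero_of_not_mem hd
    simp only at hcd
    have h1 : c = a * d := by
      apply Subtype.ext
      push_cast
      rw [div_eq_iff hd0] at hcd
      exact hcd
    rw [h1] at hc
    exact (hM.mem_or_mem hc).resolve_right hd
  · intro h
    exact ⟨a, 1, h, fun h => hM.ne_top ((Ideal.eq_top_iff_one M).mpr h), by simp⟩

theorem memLocalRing_coe [hM : M.IsPrime] (a : AlgInt) : MemLocalRing M (a : ℂ) :=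
  ⟨a, 1, fun h => hM.ne_top ((Ideal.eq_top_iff_one M).mpr h), by simp⟩

theorem locI_isPrime (M : Ideal AlgInt) [hM : M.IsPrime] : (locI M).IsPrime where
  ne_top' := by
    intro h
    rw [Ideal.eq_top_iff_one] at h
    have : (1 : AlgInt) ∈ M := by
      rw [← coe_mem_locI (1 : AlgInt) (memLocalRing_coe 1)]
      exact h
    exact hM.ne_top ((Ideal.eq_top_iff_one M).mpr this)
  mem_or_mem' := by
    rintro ⟨_, ⟨a, b, hb, rfl⟩⟩ ⟨_, ⟨c, d, hd, rfl⟩⟩ ⟨x, y, hx, hy, hxy⟩
    have hb0 := coe_ne_zero_of_not_mem hb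
    have hd0 := coe_ne_zero_of_not_mem hd
    have hy0 := coe_ne_zero_of_not_mem hy
    have h1 : x * (b * d) = a * c * y := by
      apply Subtype.ext
      push_cast
      have h2 : (x : ℂ) / y = (a / b) * (c / d) := hxy
      rw [div_mul_div_comm, div_eq_div_iff hy0 (mul_ne_zero hb0 hd0)] at h2
      exact h2
    have h3 : a * c * y ∈ M := by rw [← h1]; exact M.mul_mem_right _ hx
    rcases hM.mem_or_mem h3 with h4 | h4
    · rcases hM.mem_or_mem h4 with h5 | h5
      · exact Or.inl ⟨a, b, h5, hb, rfl⟩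
      · exact Or.inr ⟨c, d, h5, hd, rfl⟩
    · exact absurd h4 hy

theorem isPrime_of_isPModular (hM : IsPModular p M) : M.IsPrime := hM.2.1.isPrime

theorem charP_locR_quotient (hM : IsPModular p M) [hM' : M.IsPrime] : CharP (locR M ⧸ locI M) p := by
  have hprime := hM.1
  have hmem : ((p : ℕ) : locR M) ∈ locI M := by
    have h := (coe_mem_locI (p : AlgInt) (memLocalRing_coe _)).mpr hM.2.2
    convert! h
  have h0 : ((p : ℕ) : locR M ⧸ locI M) = 0 := by
    rw [← map_natCast (Ideal.Quotient.mk (locI M))]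
    exact Ideal.Quotient.eq_zero_iff_mem.mpr hmem
  have := locI_isPrime M
  have hnt : Nontrivial (locR M ⧸ locI M) := inferInstance
  exact (CharP.charP_iff_prime_eq_zero hprime).mpr h0

/-- Algebraic integers are local integers. -/
theorem memLocalRing_of_isIntegral [M.IsPrime] {z : ℂ} (hz : IsIntegral ℤ z) : MemLocalRing M z :=
  memLocalRing_coe (⟨z, hz⟩ : AlgInt)

end localRing

section main

variable {p : ℕ} {M : Ideal AlgInt}
variable {Ω : Type*} [Fintype Ω] [DecidableEq Ω]

/-- **Trace lemma, graded form** over the local ring at `M`. -/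
theorem trace_eq_zero_of_grading (hM : IsPModular p M) (E T : Matrix Ω Ω ℂ) (hE : E * E = E)
    (hR : ∀ a b, MemLocalRing M (E a b)) (hET : E * T = T * E) (d : Ω → ZMod p)
    (hd : ∀ a b, T a b ≠ 0 → d a = d b + 1) : (E * T).trace = 0 := by
  have : Fact p.Prime := ⟨hM.1⟩
  have := isPrime_of_isPModular hM
  have := locI_isPrime M
  have := charP_locR_quotient hM
  have hprim := Complex.isPrimitiveRoot_exp p hM.1.ne_zero
  set μ := Complex.exp (2 * Real.pi * Complex.I / p) with hμ
  have hμi : IsIntegral ℤ μ := hprim.isIntegral hM.1.pos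
  let μ' : locR M := ⟨μ, memLocalRing_of_isIntegral hμi⟩
  have hμ'p : μ' ^ p = 1 := Subtype.ext hprim.pow_eq_one
  have hμ'1 : μ' ≠ 1 := fun h => hprim.ne_one hM.1.one_lt (congrArg Subtype.val h)
  let E' : Matrix Ω Ω (locR M) := fun a b => ⟨E a b, hR a b⟩
  have hEE' : E'.map (locR M).subtype = E := by ext a b; rfl
  have hinj : Function.Injective (fun A : Matrix Ω Ω (locR M) => A.map (locR M).subtype) :=
    Matrix.map_injective (Subtype.val_injective)
  have hE' : E' * E' = E' := by
    apply hinj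
    simp only [Matrix.map_mul, hEE', hE]
  have key := trace_eq_zero_core (locR M) (Ideal.Quotient.mk (locI M)) μ' hμ'p hμ'1 E' hE' T
    (by rw [hEE', hET]) d hd
  rwa [hEE'] at key

omit [Fintype Ω] [DecidableEq Ω] in
/-- For a permutation all of whose cycles have length divisible by `p` there is a labelling of the
points by `ℤ/p` increasing by one along the cycles. -/
theorem exists_grading_of_perm (p : ℕ) (τ : Equiv.Perm Ω)
    (hcyc : ∀ (a : Ω) (n : ℕ), (τ ^ n) a = a → p ∣ n) :
    ∃ d : Ω → ZMod p, ∀ a, d (τ a) = d a + 1 := by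
  classical
  have hz : ∀ (a : Ω) (n : ℤ), (τ ^ n) a = a → (p : ℤ) ∣ n := by
    intro a n hn
    rcases Int.eq_nat_or_neg n with ⟨m, rfl | rfl⟩
    · rw [zpow_natCast] at hn
      exact_mod_cast hcyc a m hn
    · rw [_root_.zpow_neg, zpow_natCast, Equiv.Perm.inv_eq_iff_eq] at hn
      rw [Int.dvd_neg]
      exact_mod_cast hcyc a m hn.symm
  let S : Setoid Ω := Equiv.Perm.SameCycle.setoid τ
  let r : Ω → Ω := fun a => (Quotient.mk S a).out
  have hr : ∀ a, ∃ n : ℤ, (τ ^ n) (r a) = a := by
    intro a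
    have : S (r a) a := Quotient.mk_out a
    exact this
  choose j hj using hr
  have hrτ : ∀ a, r (τ a) = r a := by
    intro a
    have : Quotient.mk S (τ a) = Quotient.mk S a := by
      apply Quotient.sound
      show Equiv.Perm.SameCycle τ (τ a) a
      exact (Equiv.Perm.SameCycle.refl τ a).apply_left
    show (Quotient.mk S (τ a)).out = (Quotient.mk S a).out
    rw [this]
  refine ⟨fun a => (j a : ZMod p), fun a => ?_⟩
  have h1 : (τ ^ (j (τ a))) (r a) = τ a := by
    have := hj (τ a)
    rwa [hrτ a] at this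
  have h2 : (τ ^ (j a + 1)) (r a) = τ a := by
    rw [add_comm, _root_.zpow_add, zpow_one, Equiv.Perm.mul_apply, hj a]
  have h3 : (τ ^ (j (τ a) - (j a + 1))) (r a) = r a := by
    rw [sub_eq_neg_add, _root_.zpow_add, Equiv.Perm.mul_apply, h1, ← h2, ← Equiv.Perm.mul_apply,
      ← _root_.zpow_add, neg_add_cancel, zpow_zero, Equiv.Perm.one_apply]
  have h4 := hz (r a) _ h3
  have h5 : ((j (τ a) - (j a + 1) : ℤ) : ZMod p) = 0 := (ZMod.intCast_zmod_eq_zero_iff_dvd _ _).mpr h4
  push_cast at h5
  exact sub_eq_zero.mp h5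

/-- **Trace lemma, permutation form**: if `E` is an idempotent matrix over the local ring at `M`
commuting with (the permutation matrix of) `τ`, all of whose cycles have length divisible by `p`,
then the trace of `E` times this permutation matrix vanishes. -/
theorem sum_eq_zero_of_perm (hM : IsPModular p M) (E : Matrix Ω Ω ℂ) (hE : E * E = E)
    (hR : ∀ a b, MemLocalRing M (E a b)) (τ : Equiv.Perm Ω) (hτ : ∀ a b, E (τ a) (τ b) = E a b)
    (hcyc : ∀ (a : Ω) (n : ℕ), (τ ^ n) a = a → p ∣ n) : ∑ a, E a (τ a) = 0 := by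
  obtain ⟨d, hd⟩ := exists_grading_of_perm p τ hcyc
  let T : Matrix Ω Ω ℂ := Matrix.of fun a b => if a = τ b then 1 else 0
  have hTdef : ∀ a b, T a b = if a = τ b then 1 else 0 := fun a b => rfl
  have hET : ∀ a b, (E * T) a b = E a (τ b) := by
    intro a b
    rw [Matrix.mul_apply, Finset.sum_eq_single (τ b)]
    · simp [hTdef]
    · intro c _ hc
      simp [hTdef, hc]
    · simp
  have hTE : ∀ a b, (T * E) a b = E (τ.symm a) b := by
    intro a b
    rw [Matrix.mul_apply, Finset.sum_eq_single (τ.symm a)]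
    · simp [hTdef]
    · intro c _ hc
      have : a ≠ τ c := fun h => hc (by rw [h, Equiv.symm_apply_apply])
      simp [hTdef, this]
    · simp
  have hcomm : E * T = T * E := by
    ext a b
    rw [hET, hTE]
    have := hτ (τ.symm a) b
    rwa [Equiv.apply_symm_apply] at this
  have h := trace_eq_zero_of_grading hM E T hE hR hcomm d (by
    intro a b hab
    have : a = τ b := by
      by_contra h
      exact hab (by simp [hTdef, h])
    rw [this, hd])
  rw [Matrix.trace] at h
  simpa [hET] using h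

end main

end Cfsg.Agent.Blocks.TraceLemma
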