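import Mathlib
import Cfsg.Prelude.Def_Blocks
import Cfsg.Agent.Blocks.TraceLemma
import Cfsg.Agent.Blocks.Basic
import Cfsg.Agent.Characters.Central
import Cfsg.Agent.S0909

/-!
# Block orthogonality

Everything here is deduced from the trace lemma and the integrality of the coefficients of the
block idempotent (Osima), which is a hypothesis `hR` of the main results.

* `sum_conj_eq_zero` : for an integral central idempotent `e` and `g`, `h` with non-conjugate
  `p`-parts, `∑ a, e (a h a⁻¹ g⁻¹) = 0`.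
* `conv_blockCoeff` : `∑ x, e_B x * e_B (x⁻¹ g) = e_B g`.
* `block_orthogonality` : `∑ χ ∈ B, χ g * conj (χ h) = 0` if the `p`-parts are not conjugate.
* `weak_block_orthogonality`, `orthogonal_on_p_regular`.
-/

set_option autoImplicit false

open Cfsg
open scoped ComplexConjugate

namespace Cfsg.Agent.Blocks.Orthogonality

section pparts

variable {G : Type*} [Group G]

/-- If the `p`-parts of `g` and `h` are not conjugate and `g ^ n` is conjugate to `h ^ n`, then
`p` divides `n`. -/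
theorem dvd_of_pow_conj {p : ℕ} (hp : p.Prime) {g h x y : G} (hg : IsPPart p g x)
    (hh : IsPPart p h y) (hxy : ¬ IsConj x y) (a : G) (n : ℕ) (hn : g ^ n * a = a * h ^ n) :
    p ∣ n := by
  by_contra hpn
  obtain ⟨x', hx1, hx2, ⟨k, hx3⟩, hx4⟩ := hg
  obtain ⟨y', hy1, hy2, ⟨l, hy3⟩, hy4⟩ := hh
  have hcop : Nat.Coprime (n * orderOf x' * orderOf y') (p ^ (k + l + 1)) := by
    apply Nat.Coprime.pow_right
    rw [Nat.coprime_comm, hp.coprime_iff_not_dvd]
    intro hd
    rcases hp.dvd_mul.mp hd with hd | hd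
    · rcases hp.dvd_mul.mp hd with hd | hd
      · exact hpn hd
      · exact hx4 hd
    · exact hy4 hd
  have hgt : 1 < p ^ (k + l + 1) := Nat.one_lt_pow (by omega) hp.one_lt
  obtain ⟨t, ht⟩ := Nat.exists_mul_mod_eq_one_of_coprime hcop hgt
  set N := n * orderOf x' * orderOf y' * t with hN
  have hNx : N % orderOf x = 1 % orderOf x := by
    have hdvd : orderOf x ∣ p ^ (k + l + 1) := by
      rw [hx3]; exact pow_dvd_pow p (by omega)
    have h1 : N % p ^ (k + l + 1) = 1 % p ^ (k + l + 1) := by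
      rw [Nat.mod_eq_of_lt hgt]; exact ht.2
    exact Nat.ModEq.of_dvd hdvd h1
  have hNy : N % orderOf y = 1 % orderOf y := by
    have hdvd : orderOf y ∣ p ^ (k + l + 1) := by
      rw [hy3]; exact pow_dvd_pow p (by omega)
    have h1 : N % p ^ (k + l + 1) = 1 % p ^ (k + l + 1) := by
      rw [Nat.mod_eq_of_lt hgt]; exact ht.2
    exact Nat.ModEq.of_dvd hdvd h1
  have hgN : g ^ N = x := by
    rw [← hx1, hx2.mul_pow]
    have h1 : x' ^ N = 1 := by
      apply orderOf_dvd_iff_pow_eq_one.mp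
      exact ⟨n * orderOf y' * t, by rw [hN]; ring⟩
    have h2 : x ^ N = x := by
      rw [← pow_mod_orderOf, hNx, pow_mod_orderOf, pow_one]
    rw [h1, h2, mul_one]
  have hhN : h ^ N = y := by
    rw [← hy1, hy2.mul_pow]
    have h1 : y' ^ N = 1 := by
      apply orderOf_dvd_iff_pow_eq_one.mp
      exact ⟨n * orderOf x' * t, by rw [hN]; ring⟩
    have h2 : y ^ N = y := by
      rw [← pow_mod_orderOf, hNy, pow_mod_orderOf, pow_one]
    rw [h1, h2, mul_one]
  apply hxy
  have hsc : SemiconjBy a (h ^ n) (g ^ n) := hn.symm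
  have hsc2 := hsc.pow_right (orderOf x' * orderOf y' * t)
  rw [← pow_mul, ← pow_mul, show n * (orderOf x' * orderOf y' * t) = N by rw [hN]; ring,
    hgN, hhN] at hsc2
  have : IsConj y x := by
    rw [isConj_iff]
    refine ⟨a, ?_⟩
    rw [hsc2.eq, mul_inv_cancel_right]
  exact this.symm

/-- The permutation `a ↦ g * a * h⁻¹`. -/
def lrPerm (g h : G) : Equiv.Perm G := (Equiv.mulLeft g).trans (Equiv.mulRight h⁻¹)

theorem lrPerm_apply (g h a : G) : lrPerm g h a = g * a * h⁻¹ := rfl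

theorem lrPerm_pow_apply (g h : G) (n : ℕ) (a : G) : (lrPerm g h ^ n) a = g ^ n * a * (h ^ n)⁻¹ := by
  induction n with
  | zero => simp
  | succ n ih =>
    rw [pow_succ', Equiv.Perm.mul_apply, ih, lrPerm_apply]
    rw [pow_succ' g n, pow_succ h n]
    group

/-- `p`-parts exist. -/
theorem exists_isPPart [Finite G] {p : ℕ} (hp : p.Prime) (g : G) : ∃ x, IsPPart p g x := by
  have hpos := orderOf_pos g
  obtain ⟨k, m, hm, hkm⟩ := Nat.exists_eq_pow_mul_and_not_dvd hpos.ne' p hp.ne_one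
  have hcop : Nat.Coprime (p ^ k) m :=
    Nat.Coprime.pow_left _ ((hp.coprime_iff_not_dvd).mpr hm)
  -- choose `u m + v p^k = 1`
  obtain ⟨u, v, huv⟩ : ∃ u v : ℤ, (p ^ k : ℕ) * u + m * v = 1 := by
    have := Nat.gcd_eq_gcd_ab (p ^ k) m
    rw [hcop.gcd_eq_one] at this
    exact ⟨_, _, by exact_mod_cast this.symm⟩
  refine ⟨g ^ ((m : ℤ) * v), g ^ ((p ^ k : ℕ) * u : ℤ), ?_, ?_, ?_, ?_⟩
  · rw [← zpow_add, add_comm, huv, zpow_one]
  · exact (Commute.refl g).zpow_zpow _ _
  · have : (g ^ ((m : ℤ) * v)) ^ (p ^ k) = 1 := by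
      rw [← zpow_natCast, ← zpow_mul]
      have : (m : ℤ) * v * (p ^ k : ℕ) = (orderOf g : ℤ) * v := by
        rw [hkm]; push_cast; ring
      rw [this, zpow_mul, zpow_natCast, pow_orderOf_eq_one, one_zpow]
    obtain ⟨j, _, hj⟩ := (Nat.dvd_prime_pow hp).mp (orderOf_dvd_of_pow_eq_one this)
    exact ⟨j, hj⟩
  · intro hd
    have : (g ^ ((p ^ k : ℕ) * u : ℤ)) ^ m = 1 := by
      rw [← zpow_natCast, ← zpow_mul]
      have : ((p ^ k : ℕ) : ℤ) * u * (m : ℤ) = (orderOf g : ℤ) * u := by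
        rw [hkm]; push_cast; ring
      rw [this, zpow_mul, zpow_natCast, pow_orderOf_eq_one, one_zpow]
    exact hm (hd.trans (orderOf_dvd_of_pow_eq_one this))

theorem isPPart_one_of_not_dvd {p : ℕ} {g : G} (hg : ¬ p ∣ orderOf g) : IsPPart p g 1 :=
  ⟨g, one_mul g, Commute.one_left g, ⟨0, by simp⟩, hg⟩

theorem ne_one_of_isPPart {p : ℕ} {g x : G} (hg : p ∣ orderOf g) (h : IsPPart p g x) : x ≠ 1 := by
  rintro rfl
  obtain ⟨y, h1, -, -, h4⟩ := h
  rw [one_mul] at h1
  exact h4 (h1 ▸ hg)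

end pparts

section idempotent

variable {G : Type*} [Group G] [Fintype G] {p : ℕ} {M : Ideal AlgInt}

/-- For a central idempotent `e` of the group algebra over the local ring at `M` and elements `g`,
`h` whose `p`-parts are not conjugate, `∑ a, e (a h a⁻¹ g⁻¹) = 0`. -/
theorem sum_conj_eq_zero (hM : IsPModular p M) (e : G → ℂ) (hcl : IsClassFunction G e)
    (hR : ∀ g, MemLocalRing M (e g)) (he : ∀ g, ∑ x, e x * e (x⁻¹ * g) = e g)
    {g h x y : G} (hg : IsPPart p g x) (hh : IsPPart p h y) (hxy : ¬ IsConj x y) :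
    ∑ a, e (a * h * a⁻¹ * g⁻¹) = 0 := by
  classical
  let E : Matrix G G ℂ := Matrix.of fun a b => e (a * b⁻¹)
  have hEdef : ∀ a b, E a b = e (a * b⁻¹) := fun a b => rfl
  have hE : E * E = E := by
    ext a b
    rw [Matrix.mul_apply, hEdef, ← he (a * b⁻¹)]
    refine Fintype.sum_equiv ((Equiv.inv G).trans (Equiv.mulLeft a)) _ _ fun c => ?_
    simp only [hEdef, Equiv.trans_apply, Equiv.inv_apply, Equiv.coe_mulLeft]
    congr 2
    group
  have h1 := TraceLemma.sum_eq_zero_of_perm hM E hE (fun a b => hR _) (lrPerm g h)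
    (by
      intro a b
      rw [hEdef, hEdef, lrPerm_apply, lrPerm_apply]
      rw [show g * a * h⁻¹ * (g * b * h⁻¹)⁻¹ = g * (a * b⁻¹) * g⁻¹ by group]
      exact hcl _ _)
    (by
      intro a n hn
      rw [lrPerm_pow_apply, mul_inv_eq_iff_eq_mul] at hn
      exact dvd_of_pow_conj hM.1 hg hh hxy a n hn)
  rw [← h1]
  refine Finset.sum_congr rfl fun a _ => ?_
  rw [hEdef, lrPerm_apply]
  congr 1
  group

end idempotent

section characters

variable {G : Type*} [Group G]

theorem irr_apply_inv [Finite G] {χ : G → ℂ} (hχ : IsIrrCharacter G χ) (g : G) :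
    χ g⁻¹ = conj (χ g) := by
  obtain ⟨n, ρ, hρ, rfl⟩ := hχ
  exact S0909.char_inv ρ g

theorem conj_irr_one [Finite G] {χ : G → ℂ} (hχ : IsIrrCharacter G χ) : conj (χ 1) = χ 1 := by
  rw [← irr_apply_inv hχ, inv_one]

/-- Generalized orthogonality relation. -/
theorem sum_irr_mul_irr [Fintype G] [DecidableEq (IrrCharacter G)] (χ ψ : IrrCharacter G) (y : G) :
    ∑ x, (χ : G → ℂ) x * (ψ : G → ℂ) (x⁻¹ * y) =
      if χ = ψ then (Nat.card G : ℂ) * (χ : G → ℂ) y / (χ : G → ℂ) 1 else 0 := by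
  split_ifs with h
  · subst h
    exact Characters.Central.sum_char_mul_char_inv_mul χ.2 y
  · have horth := S0909.orthog χ ψ
    rw [if_neg h] at horth
    have hne : (Nat.card G : ℂ) ≠ 0 := by exact_mod_cast Nat.card_pos.ne'
    have h0 : ∑ x, (χ : G → ℂ) x * conj ((ψ : G → ℂ) x) = 0 :=
      (mul_eq_zero.mp horth).resolve_left (inv_ne_zero hne)
    obtain ⟨χ, hχ⟩ := χ
    obtain ⟨ψ, m, σ, hσ, rfl⟩ := ψ
    simp only at h0 ⊢
    have hcl : IsClassFunction G (fun x => χ x⁻¹) := by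
      intro g z
      have := Blocks.Basic.irr_conj hχ g⁻¹ z
      simp only
      rw [← this]
      congr 1
      group
    have h1 := Characters.Central.sum_classFun_smul σ hσ hcl
    have h2 : ∑ g, (fun x => χ x⁻¹) g * σ.character g = 0 := by
      rw [← h0]
      refine Fintype.sum_equiv (Equiv.inv G) _ _ fun x => ?_
      simp only [Equiv.inv_apply]
      rw [← S0909.char_inv σ x⁻¹, inv_inv]
    rw [h2, zero_div, zero_smul] at h1
    have h3 : ∑ x, χ x * σ.character (x⁻¹ * y) =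
        LinearMap.trace ℂ _ ((∑ x, (fun x => χ x⁻¹) x • σ x) * σ y) := by
      rw [Finset.sum_mul, map_sum]
      refine Fintype.sum_equiv (Equiv.inv G) _ _ fun a => ?_
      rw [smul_mul_assoc, map_smul, ← map_mul, smul_eq_mul]
      simp only [Equiv.inv_apply, inv_inv]
      rfl
    rw [h3, h1, zero_mul, map_zero]

theorem blockCoeff_eq_sum [Fintype G] (B : Set (IrrCharacter G)) [Fintype (IrrCharacter G)]
    [DecidablePred (· ∈ B)] (g : G) :
    blockCoeff B g = (Nat.card G : ℂ)⁻¹ *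
      ∑ χ : IrrCharacter G with χ ∈ B, (χ : G → ℂ) 1 * conj ((χ : G → ℂ) g) := by
  rw [Blocks.Basic.blockCoeff_def]
  congr 1
  rw [finsum_mem_eq_finite_toFinset_sum _ (Set.toFinite B)]
  refine Finset.sum_congr ?_ fun _ _ => rfl
  ext χ
  simp

theorem finsum_mem_eq_sum_filter [Fintype (IrrCharacter G)] (B : Set (IrrCharacter G))
    [DecidablePred (· ∈ B)] (f : IrrCharacter G → ℂ) :
    ∑ᶠ χ ∈ B, f χ = ∑ χ : IrrCharacter G with χ ∈ B, f χ := by
  rw [finsum_mem_eq_finite_toFinset_sum _ (Set.toFinite B)]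
  refine Finset.sum_congr ?_ fun _ _ => rfl
  ext χ
  simp

theorem isClassFunction_blockCoeff (B : Set (IrrCharacter G)) :
    IsClassFunction G (blockCoeff B) := by
  intro g h
  exact (Blocks.Basic.blockCoeff_isConj B (isConj_iff.mpr ⟨h, rfl⟩)).symm

/-- The block coefficients form an idempotent under convolution (for any set `B` of irreducible
characters). -/
theorem conv_blockCoeff [Fintype G] (B : Set (IrrCharacter G)) (g : G) :
    ∑ x, blockCoeff B x * blockCoeff B (x⁻¹ * g) = blockCoeff B g := by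
  classical
  have : Finite (IrrCharacter G) := S0909.finite_irr
  have := Fintype.ofFinite (IrrCharacter G)
  have hne : (Nat.card G : ℂ) ≠ 0 := by exact_mod_cast Nat.card_pos.ne'
  have h1 : ∀ x, blockCoeff B x * blockCoeff B (x⁻¹ * g) =
      (Nat.card G : ℂ)⁻¹ * (Nat.card G : ℂ)⁻¹ *
      ∑ χ : IrrCharacter G with χ ∈ B, ∑ ψ : IrrCharacter G with ψ ∈ B,
        (χ : G → ℂ) 1 * (ψ : G → ℂ) 1 * conj ((χ : G → ℂ) x * (ψ : G → ℂ) (x⁻¹ * g)) := by
    intro x
    rw [blockCoeff_eq_sum B x, blockCoeff_eq_sum B (x⁻¹ * g), mul_mul_mul_comm,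
      Finset.sum_mul_sum]
    congr 1
    refine Finset.sum_congr rfl fun χ _ => Finset.sum_congr rfl fun ψ _ => ?_
    rw [map_mul]; ring
  rw [Finset.sum_congr rfl fun x _ => h1 x, ← Finset.mul_sum, Finset.sum_comm]
  have h2 : ∀ χ ∈ (Finset.univ.filter (· ∈ B) : Finset (IrrCharacter G)),
      ∑ x : G, ∑ ψ : IrrCharacter G with ψ ∈ B,
        (χ : G → ℂ) 1 * (ψ : G → ℂ) 1 * conj ((χ : G → ℂ) x * (ψ : G → ℂ) (x⁻¹ * g)) =
      (Nat.card G : ℂ) * ((χ : G → ℂ) 1 * conj ((χ : G → ℂ) g)) := by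
    intro χ hχ
    rw [Finset.sum_comm]
    have h3 : ∀ ψ ∈ (Finset.univ.filter (· ∈ B) : Finset (IrrCharacter G)),
        ∑ x : G, (χ : G → ℂ) 1 * (ψ : G → ℂ) 1 * conj ((χ : G → ℂ) x * (ψ : G → ℂ) (x⁻¹ * g)) =
        if χ = ψ then (Nat.card G : ℂ) * ((χ : G → ℂ) 1 * conj ((χ : G → ℂ) g)) else 0 := by
      intro ψ _
      rw [← Finset.mul_sum, ← map_sum, sum_irr_mul_irr]
      split_ifs with h
      · subst h
        have h4 := Blocks.Basic.irr_one_ne_zero χ.2
        rw [map_div₀, map_mul, conj_irr_one χ.2, Complex.conj_natCast]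
        field_simp
      · rw [map_zero, mul_zero]
    rw [Finset.sum_congr rfl h3, Finset.sum_ite_eq, if_pos hχ]
  rw [Finset.sum_congr rfl h2, ← Finset.mul_sum, blockCoeff_eq_sum B g]
  field_simp

/-- `∑ a, e_B (a h a⁻¹ g⁻¹) = ∑ χ ∈ B, χ g * conj (χ h)`. -/
theorem sum_blockCoeff_conj [Fintype G] (B : Set (IrrCharacter G)) (g h : G) :
    ∑ a, blockCoeff B (a * h * a⁻¹ * g⁻¹) =
      ∑ᶠ χ ∈ B, (χ : G → ℂ) g * conj ((χ : G → ℂ) h) := by
  classical
  have : Finite (IrrCharacter G) := S0909.finite_irr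
  have := Fintype.ofFinite (IrrCharacter G)
  have hne : (Nat.card G : ℂ) ≠ 0 := by exact_mod_cast Nat.card_pos.ne'
  rw [finsum_mem_eq_sum_filter, Finset.sum_congr rfl fun a _ => blockCoeff_eq_sum B _,
    ← Finset.mul_sum, Finset.sum_comm, Finset.mul_sum]
  refine Finset.sum_congr rfl fun χ _ => ?_
  rw [← Finset.mul_sum, ← map_sum, Characters.Central.sum_char_conj_mul χ.2]
  have h4 := Blocks.Basic.irr_one_ne_zero χ.2
  rw [map_div₀, map_mul, map_mul, conj_irr_one χ.2, Complex.conj_natCast, irr_apply_inv χ.2,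
    Complex.conj_conj]
  field_simp

end characters

section main

variable {G : Type*} [Group G] [Finite G] {p : ℕ} {M : Ideal AlgInt}

/-- **Block orthogonality**: if `B` is a set of irreducible characters whose idempotent has local
integer coefficients and the `p`-parts of `g` and `h` are not conjugate, then
`∑ χ ∈ B, χ g * conj (χ h) = 0`. -/
theorem block_orthogonality (hM : IsPModular p M) (B : Set (IrrCharacter G))
    (hR : ∀ g, MemLocalRing M (blockCoeff B g)) {g h x y : G} (hg : IsPPart p g x)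
    (hh : IsPPart p h y) (hxy : ¬ IsConj x y) :
    ∑ᶠ χ ∈ B, (χ : G → ℂ) g * conj ((χ : G → ℂ) h) = 0 := by
  have := Fintype.ofFinite G
  rw [← sum_blockCoeff_conj]
  exact sum_conj_eq_zero hM _ (isClassFunction_blockCoeff B) hR (conv_blockCoeff B) hg hh hxy

/-- **Weak block orthogonality.** -/
theorem weak_block_orthogonality (hM : IsPModular p M) (B : Set (IrrCharacter G))
    (hR : ∀ g, MemLocalRing M (blockCoeff B g)) {x y : G} (hx : ¬ p ∣ orderOf x)
    (hy : p ∣ orderOf y) : ∑ᶠ χ ∈ B, (χ : G → ℂ) x * conj ((χ : G → ℂ) y) = 0 := by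
  obtain ⟨z, hz⟩ := exists_isPPart hM.1 y
  refine block_orthogonality hM B hR (isPPart_one_of_not_dvd hx) hz fun h => ?_
  exact ne_one_of_isPPart hy hz (isConj_one_right.mp h)

theorem conj_finsum_block (B : Set (IrrCharacter G)) (x y : G) :
    conj (∑ᶠ χ ∈ B, (χ : G → ℂ) x * conj ((χ : G → ℂ) y)) =
      ∑ᶠ χ ∈ B, (χ : G → ℂ) y * conj ((χ : G → ℂ) x) := by
  classical
  have : Finite (IrrCharacter G) := S0909.finite_irr
  have := Fintype.ofFinite (IrrCharacter G)
  rw [finsum_mem_eq_sum_filter, finsum_mem_eq_sum_filter, map_sum]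
  refine Finset.sum_congr rfl fun χ _ => ?_
  rw [map_mul, Complex.conj_conj, mul_comm]

/-- The kernel `A (y, z) = ∑ φ ∈ B, φ y * conj (φ z)` reproduces the members of `B` and kills the
other irreducible characters (second variable). -/
theorem sum_kernel_mul [Fintype G] (B : Set (IrrCharacter G)) [DecidablePred (· ∈ B)]
    (χ : IrrCharacter G) (y : G) :
    ∑ z, (∑ᶠ φ ∈ B, (φ : G → ℂ) y * conj ((φ : G → ℂ) z)) * (χ : G → ℂ) z =
      if χ ∈ B then (Nat.card G : ℂ) * (χ : G → ℂ) y else 0 := by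
  classical
  have : Finite (IrrCharacter G) := S0909.finite_irr
  have := Fintype.ofFinite (IrrCharacter G)
  have hne : (Nat.card G : ℂ) ≠ 0 := by exact_mod_cast Nat.card_pos.ne'
  have h0 : ∀ φ : IrrCharacter G, ∑ z, (χ : G → ℂ) z * conj ((φ : G → ℂ) z) =
      if χ = φ then (Nat.card G : ℂ) else 0 := by
    intro φ
    have h := S0909.orthog χ φ
    rw [inv_mul_eq_iff_eq_mul₀ hne] at h
    rw [h]
    split_ifs <;> simp
  simp only [finsum_mem_eq_sum_filter, Finset.sum_mul]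
  rw [Finset.sum_comm]
  have h1 : ∀ φ ∈ (Finset.univ.filter (· ∈ B) : Finset (IrrCharacter G)),
      ∑ z, (φ : G → ℂ) y * conj ((φ : G → ℂ) z) * (χ : G → ℂ) z =
      if χ = φ then (Nat.card G : ℂ) * (χ : G → ℂ) y else 0 := by
    intro φ _
    have h2 : ∀ z, (φ : G → ℂ) y * conj ((φ : G → ℂ) z) * (χ : G → ℂ) z =
        (φ : G → ℂ) y * ((χ : G → ℂ) z * conj ((φ : G → ℂ) z)) := fun z => by ring
    rw [Finset.sum_congr rfl fun z _ => h2 z, ← Finset.mul_sum, h0]
    split_ifs with h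
    · rw [h]; ring
    · rw [mul_zero]
  rw [Finset.sum_congr rfl h1, Finset.sum_ite_eq]
  simp

/-- If `i` is a function with `i y = i z` whenever `∑ φ ∈ B, φ y * conj (φ z) ≠ 0`, then
characters inside and outside `B` are orthogonal with respect to the weight `i`. -/
theorem orthogonal_of_compat [Fintype G] (B : Set (IrrCharacter G)) (i : G → ℂ)
    (hi : ∀ y z : G, ∑ᶠ φ ∈ B, (φ : G → ℂ) y * conj ((φ : G → ℂ) z) ≠ 0 → i y = i z)
    (χ ψ : IrrCharacter G) (hχ : χ ∈ B) (hψ : ψ ∉ B) :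
    ∑ x, i x * ((χ : G → ℂ) x * conj ((ψ : G → ℂ) x)) = 0 := by
  classical
  have hne : (Nat.card G : ℂ) ≠ 0 := by exact_mod_cast Nat.card_pos.ne'
  set A : G → G → ℂ := fun y z => ∑ᶠ φ ∈ B, (φ : G → ℂ) y * conj ((φ : G → ℂ) z) with hA
  have hAi : ∀ y z, i y * A y z = A y z * i z := by
    intro y z
    by_cases h : A y z = 0
    · rw [h, mul_zero, zero_mul]
    · rw [hi y z h, mul_comm]
  have hAsymm : ∀ y z, conj (A y z) = A z y := fun y z => conj_finsum_block B y z
  have h1 : ∀ y, ∑ z, A y z * (χ : G → ℂ) z = (Nat.card G : ℂ) * (χ : G → ℂ) y := by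
    intro y
    have := sum_kernel_mul B χ y
    rwa [if_pos hχ] at this
  have h2 : ∀ z, ∑ y, A y z * conj ((ψ : G → ℂ) y) = 0 := by
    intro z
    have := sum_kernel_mul B ψ z
    rw [if_neg hψ] at this
    have h3 := congrArg conj this
    rw [map_sum, map_zero] at h3
    rw [← h3]
    refine Finset.sum_congr rfl fun y _ => ?_
    rw [map_mul, ← hAsymm z y]
  have h3 : (Nat.card G : ℂ) * ∑ x, i x * ((χ : G → ℂ) x * conj ((ψ : G → ℂ) x)) = 0 := by
    have h4 : ∀ y, (Nat.card G : ℂ) * (i y * ((χ : G → ℂ) y * conj ((ψ : G → ℂ) y))) =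
        ∑ z, (i z * (χ : G → ℂ) z) * (A y z * conj ((ψ : G → ℂ) y)) := by
      intro y
      have h5 : (Nat.card G : ℂ) * (i y * ((χ : G → ℂ) y * conj ((ψ : G → ℂ) y))) =
          (i y * conj ((ψ : G → ℂ) y)) * ((Nat.card G : ℂ) * (χ : G → ℂ) y) := by ring
      rw [h5, ← h1 y, Finset.mul_sum]
      refine Finset.sum_congr rfl fun z _ => ?_
      have := hAi y z
      calc i y * conj ((ψ : G → ℂ) y) * (A y z * (χ : G → ℂ) z)
          = (i y * A y z) * (conj ((ψ : G → ℂ) y) * (χ : G → ℂ) z) := by ring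
        _ = (i z * (χ : G → ℂ) z) * (A y z * conj ((ψ : G → ℂ) y)) := by rw [this]; ring
    rw [Finset.mul_sum, Finset.sum_congr rfl fun y _ => h4 y, Finset.sum_comm]
    refine Finset.sum_eq_zero fun z _ => ?_
    rw [← Finset.mul_sum, h2, mul_zero]
  exact (mul_eq_zero.mp h3).resolve_left hne

/-- Characters in different blocks are orthogonal over the `p`-regular elements. -/
theorem orthogonal_on_p_regular (hM : IsPModular p M) (B : Set (IrrCharacter G))
    (hR : ∀ g, MemLocalRing M (blockCoeff B g)) (χ ψ : IrrCharacter G) (hχ : χ ∈ B)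
    (hψ : ψ ∉ B) :
    ∑ᶠ x ∈ {x : G | ¬ p ∣ orderOf x}, (χ : G → ℂ) x * conj ((ψ : G → ℂ) x) = 0 := by
  classical
  have := Fintype.ofFinite G
  have h1 : ∑ᶠ x ∈ {x : G | ¬ p ∣ orderOf x}, (χ : G → ℂ) x * conj ((ψ : G → ℂ) x) =
      ∑ x, (if ¬ p ∣ orderOf x then (1 : ℂ) else 0) *
        ((χ : G → ℂ) x * conj ((ψ : G → ℂ) x)) := by
    rw [finsum_mem_eq_finite_toFinset_sum _ (Set.toFinite _)]
    simp only [ite_mul, zero_mul, one_mul]
    rw [← Finset.sum_filter]
    refine Finset.sum_congr ?_ fun _ _ => rfl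
    ext x
    simp
  rw [h1]
  refine orthogonal_of_compat B _ (fun y z hyz => ?_) χ ψ hχ hψ
  by_cases hy : p ∣ orderOf y <;> by_cases hz : p ∣ orderOf z
  · rw [if_neg (not_not.mpr hy), if_neg (not_not.mpr hz)]
  · exfalso
    apply hyz
    rw [← conj_finsum_block, weak_block_orthogonality hM B hR hz hy, map_zero]
  · exact absurd (weak_block_orthogonality hM B hR hy hz) hyz
  · rw [if_pos hy, if_pos hz]

/-- Characters in different blocks are orthogonal over every `p`-section (indeed over every set of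
elements which is a union of `p`-sections). -/
theorem orthogonal_on_section (hM : IsPModular p M) (B : Set (IrrCharacter G))
    (hR : ∀ g, MemLocalRing M (blockCoeff B g)) (χ ψ : IrrCharacter G) (hχ : χ ∈ B)
    (hψ : ψ ∉ B) (u : G) :
    ∑ᶠ x ∈ {x : G | ∃ z, IsPPart p x z ∧ IsConj u z}, (χ : G → ℂ) x * conj ((ψ : G → ℂ) x) = 0 := by
  classical
  have := Fintype.ofFinite G
  have h1 : ∑ᶠ x ∈ {x : G | ∃ z, IsPPart p x z ∧ IsConj u z},
      (χ : G → ℂ) x * conj ((ψ : G → ℂ) x) =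
      ∑ x, (if ∃ z, IsPPart p x z ∧ IsConj u z then (1 : ℂ) else 0) *
        ((χ : G → ℂ) x * conj ((ψ : G → ℂ) x)) := by
    rw [finsum_mem_eq_finite_toFinset_sum _ (Set.toFinite _)]
    simp only [ite_mul, zero_mul, one_mul]
    rw [← Finset.sum_filter]
    refine Finset.sum_congr ?_ fun _ _ => rfl
    ext x
    simp
  rw [h1]
  refine orthogonal_of_compat B _ (fun y z hyz => ?_) χ ψ hχ hψ
  have key : ∀ {a b : G}, (∑ᶠ φ ∈ B, (φ : G → ℂ) a * conj ((φ : G → ℂ) b)) ≠ 0 →
      (∃ w, IsPPart p a w ∧ IsConj u w) → ∃ w, IsPPart p b w ∧ IsConj u w := by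
    rintro a b hab ⟨w, hw1, hw2⟩
    obtain ⟨v, hv⟩ := exists_isPPart hM.1 b
    by_cases h : IsConj w v
    · exact ⟨v, hv, hw2.trans h⟩
    · exact absurd (block_orthogonality hM B hR hw1 hv h) hab
  have hzy : (∑ᶠ φ ∈ B, (φ : G → ℂ) z * conj ((φ : G → ℂ) y)) ≠ 0 := by
    intro h0
    apply hyz
    rw [← conj_finsum_block, h0, map_zero]
  have hiff : (∃ w, IsPPart p y w ∧ IsConj u w) ↔ ∃ w, IsPPart p z w ∧ IsConj u w :=
    ⟨key hyz, key hzy⟩
  simp only [hiff]

/-- If a class function vanishes on a `p`-section then so does its `B`-part. -/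
theorem blockPart_eq_zero (hM : IsPModular p M) (B : Set (IrrCharacter G))
    (hR : ∀ g, MemLocalRing M (blockCoeff B g)) (ϑ : G → ℂ) (x : G)
    (hϑ : ∀ u z : G, IsPPart p u z → IsConj x z → ϑ u = 0) (u z : G) (hu : IsPPart p u z)
    (hxz : IsConj x z) : blockPart B ϑ u = 0 := by
  classical
  have : Finite (IrrCharacter G) := S0909.finite_irr
  have := Fintype.ofFinite (IrrCharacter G)
  let _ := Fintype.ofFinite G
  have h1 : blockPart B ϑ u = ∑ᶠ χ ∈ B, classInner ϑ (χ : G → ℂ) * (χ : G → ℂ) u := rfl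
  rw [h1, finsum_mem_eq_sum_filter]
  have h2 : ∀ χ : IrrCharacter G, classInner ϑ (χ : G → ℂ) * (χ : G → ℂ) u =
      (Nat.card G : ℂ)⁻¹ * ∑ g, ϑ g * ((χ : G → ℂ) u * conj ((χ : G → ℂ) g)) := by
    intro χ
    rw [Blocks.Basic.classInner_def, mul_assoc, Finset.sum_mul]
    congr 1
    exact Finset.sum_congr rfl fun g _ => by ring
  rw [Finset.sum_congr rfl fun χ _ => h2 χ, ← Finset.mul_sum, Finset.sum_comm]
  have h3 : ∀ g, ∑ χ : IrrCharacter G with χ ∈ B,
      ϑ g * ((χ : G → ℂ) u * conj ((χ : G → ℂ) g)) = 0 := by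
    intro g
    rw [← Finset.mul_sum, ← finsum_mem_eq_sum_filter B
      (fun χ => (χ : G → ℂ) u * conj ((χ : G → ℂ) g))]
    obtain ⟨w, hw⟩ := exists_isPPart hM.1 g
    by_cases h : IsConj z w
    · rw [hϑ g w hw (hxz.trans h), zero_mul]
    · rw [block_orthogonality hM B hR hu hw h, mul_zero]
  rw [Finset.sum_eq_zero fun g _ => h3 g, mul_zero]

end main

end Cfsg.Agent.Blocks.Orthogonality
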