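import Mathlib
import Cfsg.Prelude.Def_Blocks
import Cfsg.Agent.Characters.Core
import Cfsg.Agent.Blocks.Central
import Cfsg.Agent.Blocks.LocalRing

/-!
# Osima's theorem: block idempotents have local-integral coefficients

* `irrIdem A = ∑_{χ∈A} e_χ` for a set `A` of irreducible characters, with
  coefficients `blockCoeff A`, and `omegaL ψ (irrIdem A) = 1` if `ψ ∈ A`, `0` otherwise;
* `eq_of_omegaL_eq`: central characters separate the centre of `ℂ[G]`;
* `memLocalRing_blockCoeff_of_separated`: Osima's theorem for any set of irreducible characters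
  separated from its complement modulo the local ideal (e.g. a union of blocks);
* `memLocalRing_blockCoeff` : Osima's theorem for a block;
* `exists_isDefectClass` : every block has a defect class.
-/

set_option autoImplicit false
set_option linter.unusedSectionVars false

namespace Cfsg.Agent.Blocks.Osima

open Cfsg
open scoped ComplexConjugate
open Cfsg.Agent.Blocks.Central Cfsg.Agent.Blocks.LocalRing Cfsg.Agent.Characters.Core

universe u

variable {G : Type u} [Group G]

/-! ### The idempotents -/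

/-- The sum of the central idempotents `e_χ` for `χ ∈ A`. -/
noncomputable def irrIdem [Finite G] (A : Set (IrrCharacter G)) : MonoidAlgebra ℂ G :=
  ofFun (blockCoeff A)

theorem coeff_irrIdem [Finite G] (A : Set (IrrCharacter G)) (g : G) :
    (irrIdem A).coeff g = blockCoeff A g := rfl

theorem blockCoeff_def (A : Set (IrrCharacter G)) (g : G) :
    blockCoeff A g = (Nat.card G : ℂ)⁻¹ * ∑ᶠ χ ∈ A, (χ : G → ℂ) 1 * conj ((χ : G → ℂ) g) := rfl

open scoped Classical in
theorem blockCoeff_eq_sum [Finite G] [Fintype (IrrCharacter G)] (A : Set (IrrCharacter G))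
    (g : G) : blockCoeff A g = (Nat.card G : ℂ)⁻¹ *
      ∑ χ : IrrCharacter G, if χ ∈ A then (χ : G → ℂ) 1 * conj ((χ : G → ℂ) g) else 0 := by
  rw [blockCoeff_def, finsum_mem_eq_finite_toFinset_sum _ (Set.toFinite A), ← Finset.sum_filter]
  congr 1
  refine Finset.sum_congr ?_ fun _ _ => rfl
  ext χ; simp

theorem isClassFunction_blockCoeff [Finite G] (A : Set (IrrCharacter G)) :
    IsClassFunction G (blockCoeff A) := by
  intro g h
  rw [blockCoeff_def, blockCoeff_def]
  congr 1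
  refine finsum_congr fun χ => finsum_congr fun _ => ?_
  rw [isClassFunction_of_irr χ.2 g h]

theorem irrIdem_mem_center [Finite G] (A : Set (IrrCharacter G)) :
    irrIdem A ∈ Subalgebra.center ℂ (MonoidAlgebra ℂ G) :=
  ofFun_mem_center_iff.2 (isClassFunction_blockCoeff A)

open scoped Classical in
/-- `ω_ψ(∑_{χ∈A} e_χ) = 1` if `ψ ∈ A` and `0` otherwise. -/
theorem omegaL_irrIdem [Finite G] (A : Set (IrrCharacter G)) (ψ : IrrCharacter G) :
    omegaL (ψ : G → ℂ) (irrIdem A) = if ψ ∈ A then 1 else 0 := by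
  have := Fintype.ofFinite G
  have : Finite (IrrCharacter G) := finite_irr
  have := Fintype.ofFinite (IrrCharacter G)
  have hψ1 := irr_one_ne_zero ψ.2
  rw [omegaL_apply, div_eq_iff hψ1]
  have h1 : ∀ g : G, (irrIdem A).coeff g * (ψ : G → ℂ) g =
      ∑ χ : IrrCharacter G, if χ ∈ A then (χ : G → ℂ) 1 *
        ((Nat.card G : ℂ)⁻¹ * ((ψ : G → ℂ) g * conj ((χ : G → ℂ) g))) else 0 := by
    intro g
    rw [coeff_irrIdem, blockCoeff_eq_sum, Finset.mul_sum, Finset.sum_mul]
    refine Finset.sum_congr rfl fun χ _ => ?_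
    split_ifs
    · ring
    · ring
  rw [Finset.sum_congr rfl fun g _ => h1 g, Finset.sum_comm]
  have h2 : ∀ χ : IrrCharacter G, (∑ g : G, if χ ∈ A then (χ : G → ℂ) 1 *
        ((Nat.card G : ℂ)⁻¹ * ((ψ : G → ℂ) g * conj ((χ : G → ℂ) g))) else 0) =
      if ψ = χ then (if ψ ∈ A then (ψ : G → ℂ) 1 else 0) else 0 := by
    intro χ
    by_cases hA : χ ∈ A
    · simp only [hA, if_true]
      rw [← Finset.mul_sum, ← Finset.mul_sum]
      have h3 : (Nat.card G : ℂ)⁻¹ * ∑ g : G, (ψ : G → ℂ) g * conj ((χ : G → ℂ) g) =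
          classInner (ψ : G → ℂ) (χ : G → ℂ) := rfl
      rw [h3, classInner_irr ψ.2 χ.2]
      by_cases hχ : ψ = χ
      · subst hχ
        simp [hA]
      · have : (ψ : G → ℂ) ≠ (χ : G → ℂ) := fun h => hχ (Subtype.ext h)
        simp [hχ, this]
    · simp only [hA, if_false, Finset.sum_const_zero]
      by_cases hχ : ψ = χ
      · subst hχ; simp [hA]
      · simp [hχ]
  rw [Finset.sum_congr rfl fun χ _ => h2 χ, Finset.sum_ite_eq]
  simp

theorem omegaL_irrIdem_of_mem [Finite G] {A : Set (IrrCharacter G)} {ψ : IrrCharacter G}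
    (h : ψ ∈ A) : omegaL (ψ : G → ℂ) (irrIdem A) = 1 := by
  classical
  rw [omegaL_irrIdem, if_pos h]

theorem omegaL_irrIdem_of_notMem [Finite G] {A : Set (IrrCharacter G)} {ψ : IrrCharacter G}
    (h : ψ ∉ A) : omegaL (ψ : G → ℂ) (irrIdem A) = 0 := by
  classical
  rw [omegaL_irrIdem, if_neg h]

/-! ### Central characters separate the centre -/

theorem eq_zero_of_omegaL_eq_zero [Finite G] {a : MonoidAlgebra ℂ G}
    (ha : a ∈ Subalgebra.center ℂ (MonoidAlgebra ℂ G))
    (h : ∀ χ : IrrCharacter G, omegaL (χ : G → ℂ) a = 0) : a = 0 := by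
  have := Fintype.ofFinite G
  have hf : IsClassFunction G (fun g => a.coeff g) := fun g x => mem_center_iff.1 ha g x
  have h1 : (fun g => a.coeff g) = (0 : G → ℂ) := by
    refine classFunction_eq_zero hf ?_
    intro χ hχ
    have h2 := h ⟨fun g => conj (χ g), isIrr_conj hχ⟩
    rw [omegaL_apply, div_eq_zero_iff] at h2
    have h3 : ∑ g : G, a.coeff g * conj (χ g) = 0 :=
      h2.resolve_right (irr_one_ne_zero (isIrr_conj hχ))
    show (Nat.card G : ℂ)⁻¹ * ∑ g : G, a.coeff g * conj (χ g) = 0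
    rw [h3, mul_zero]
  apply ext_coeff
  intro g
  have := congrFun h1 g
  simpa using this

theorem eq_of_omegaL_eq [Finite G] {a b : MonoidAlgebra ℂ G}
    (ha : a ∈ Subalgebra.center ℂ (MonoidAlgebra ℂ G))
    (hb : b ∈ Subalgebra.center ℂ (MonoidAlgebra ℂ G))
    (h : ∀ χ : IrrCharacter G, omegaL (χ : G → ℂ) a = omegaL (χ : G → ℂ) b) : a = b := by
  rw [← sub_eq_zero]
  refine eq_zero_of_omegaL_eq_zero (Subalgebra.sub_mem _ ha hb) fun χ => ?_
  rw [map_sub, h χ, sub_self]

/-- A central element acting as `1` on the characters in `A` and `0` on the others is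
`irrIdem A`. -/
theorem eq_irrIdem [Finite G] {A : Set (IrrCharacter G)} {a : MonoidAlgebra ℂ G}
    (ha : a ∈ Subalgebra.center ℂ (MonoidAlgebra ℂ G))
    (h1 : ∀ χ : IrrCharacter G, χ ∈ A → omegaL (χ : G → ℂ) a = 1)
    (h0 : ∀ χ : IrrCharacter G, χ ∉ A → omegaL (χ : G → ℂ) a = 0) : a = irrIdem A := by
  refine eq_of_omegaL_eq ha (irrIdem_mem_center A) fun χ => ?_
  by_cases h : χ ∈ A
  · rw [h1 χ h, omegaL_irrIdem_of_mem h]
  · rw [h0 χ h, omegaL_irrIdem_of_notMem h]

theorem irrIdem_mul_irrIdem [Finite G] (A B : Set (IrrCharacter G)) :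
    irrIdem A * irrIdem B = irrIdem (A ∩ B) := by
  classical
  refine eq_irrIdem (Subalgebra.mul_mem _ (irrIdem_mem_center A) (irrIdem_mem_center B)) ?_ ?_
  · intro χ hχ
    rw [omegaL_mul χ.2 (irrIdem_mem_center A), omegaL_irrIdem_of_mem hχ.1,
      omegaL_irrIdem_of_mem hχ.2, one_mul]
  · intro χ hχ
    rw [omegaL_mul χ.2 (irrIdem_mem_center A), omegaL_irrIdem, omegaL_irrIdem]
    by_cases h1 : χ ∈ A
    · have h2 : χ ∉ B := fun h => hχ ⟨h1, h⟩
      rw [if_neg h2, mul_zero]
    · rw [if_neg h1, zero_mul]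

theorem irrIdem_mul_self [Finite G] (A : Set (IrrCharacter G)) :
    irrIdem A * irrIdem A = irrIdem A := by
  rw [irrIdem_mul_irrIdem, Set.inter_self]

theorem irrIdem_univ [Finite G] : irrIdem (Set.univ : Set (IrrCharacter G)) = 1 := by
  symm
  refine eq_irrIdem (Subalgebra.one_mem _) (fun χ _ => omegaL_one χ.2) ?_
  intro χ h
  exact absurd (Set.mem_univ χ) h

/-! ### The `R`-form of the centre -/

section local_

variable {p : ℕ} {M : Ideal AlgInt}

/-- The elements of the centre of `ℂ[G]` with local-integral coefficients. -/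
noncomputable def centerR [Finite G] (hM : IsPModular p M) : Subring (MonoidAlgebra ℂ G) where
  carrier := {a | a ∈ Subalgebra.center ℂ (MonoidAlgebra ℂ G) ∧ ∀ g, MemLocalRing M (a.coeff g)}
  mul_mem' := by
    rintro a b ⟨ha, ha'⟩ ⟨hb, hb'⟩
    have := Fintype.ofFinite G
    refine ⟨Subalgebra.mul_mem _ ha hb, fun g => ?_⟩
    rw [coeff_mul_eq_sum]
    exact memLocalRing_sum hM _ _ fun x _ => memLocalRing_mul hM (ha' x) (hb' _)
  one_mem' := by
    classical
    refine ⟨Subalgebra.one_mem _, fun g => ?_⟩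
    rw [MonoidAlgebra.one_def, MonoidAlgebra.coeff_single, Finsupp.single_apply]
    split_ifs
    · exact memLocalRing_one hM
    · exact memLocalRing_zero hM
  add_mem' := by
    rintro a b ⟨ha, ha'⟩ ⟨hb, hb'⟩
    refine ⟨Subalgebra.add_mem _ ha hb, fun g => ?_⟩
    rw [MonoidAlgebra.coeff_add, Finsupp.add_apply]
    exact memLocalRing_add hM (ha' g) (hb' g)
  zero_mem' := by
    refine ⟨Subalgebra.zero_mem _, fun g => ?_⟩
    rw [MonoidAlgebra.coeff_zero, Finsupp.zero_apply]
    exact memLocalRing_zero hM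
  neg_mem' := by
    rintro a ⟨ha, ha'⟩
    refine ⟨Subalgebra.neg_mem _ ha, fun g => ?_⟩
    rw [MonoidAlgebra.coeff_neg, Finsupp.neg_apply]
    exact memLocalRing_neg (ha' g)

theorem mem_centerR [Finite G] (hM : IsPModular p M) {a : MonoidAlgebra ℂ G} :
    a ∈ centerR hM ↔ a ∈ Subalgebra.center ℂ (MonoidAlgebra ℂ G) ∧
      ∀ g, MemLocalRing M (a.coeff g) := Iff.rfl

theorem classSum_mem_centerR [Finite G] (hM : IsPModular p M) (g : G) :
    classSum ℂ g ∈ centerR hM := by
  classical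
  refine ⟨classSum_mem_center g, fun x => ?_⟩
  rw [coeff_classSum]
  split_ifs
  · exact memLocalRing_one hM
  · exact memLocalRing_zero hM

theorem smul_mem_centerR [Finite G] (hM : IsPModular p M) {a : MonoidAlgebra ℂ G} {c : ℂ}
    (hc : MemLocalRing M c) (ha : a ∈ centerR hM) : c • a ∈ centerR hM := by
  refine ⟨Subalgebra.smul_mem _ ha.1 c, fun g => ?_⟩
  rw [MonoidAlgebra.coeff_smul_apply, smul_eq_mul]
  exact memLocalRing_mul hM hc (ha.2 g)

theorem memLocalRing_centralChar [Finite G] (hM : IsPModular p M) {χ : G → ℂ}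
    (hχ : IsIrrCharacter G χ) (g : G) : MemLocalRing M (centralChar χ g) :=
  memLocalRing_of_isIntegral hM (isIntegral_centralChar hχ g)

/-- Central characters are local-integral on the `R`-form of the centre. -/
theorem memLocalRing_omegaL [Finite G] (hM : IsPModular p M) {χ : G → ℂ}
    (hχ : IsIrrCharacter G χ) {a : MonoidAlgebra ℂ G} (ha : a ∈ centerR hM) :
    MemLocalRing M (omegaL χ a) := by
  have := Fintype.ofFinite (ConjClasses G)
  rw [omegaL_eq_sum_centralChar (isClassFunction_of_irr hχ) ha.1]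
  exact memLocalRing_sum hM _ _ fun c _ =>
    memLocalRing_mul hM (ha.2 _) (memLocalRing_centralChar hM hχ _)

/-- Characters in the same block have congruent central characters on the `R`-form. -/
theorem memLocalIdeal_omegaL_sub [Finite G] (hM : IsPModular p M) {χ ψ : G → ℂ}
    (hχ : IsIrrCharacter G χ) (hψ : IsIrrCharacter G ψ) (h : SameBlock M χ ψ)
    {a : MonoidAlgebra ℂ G} (ha : a ∈ centerR hM) :
    MemLocalIdeal M (omegaL χ a - omegaL ψ a) := by
  have := Fintype.ofFinite (ConjClasses G)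
  rw [omegaL_eq_sum_centralChar (isClassFunction_of_irr hχ) ha.1,
    omegaL_eq_sum_centralChar (isClassFunction_of_irr hψ) ha.1, ← Finset.sum_sub_distrib]
  refine memLocalIdeal_sum hM _ _ fun c _ => ?_
  rw [← mul_sub]
  exact memLocalIdeal_mul_left hM (ha.2 _) (h _)

/-- An element of the `R`-form of the centre that is a unit at `χ` and vanishes at all
characters outside `A`. -/
theorem exists_separating [Finite G] (hM : IsPModular p M) (A : Set (IrrCharacter G))
    (χ : IrrCharacter G)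
    (hA : ∀ ψ : IrrCharacter G, ψ ∉ A → ¬ SameBlock M (χ : G → ℂ) (ψ : G → ℂ)) :
    ∃ z ∈ centerR (G := G) hM, ¬ MemLocalIdeal M (omegaL (χ : G → ℂ) z) ∧
      ∀ ψ : IrrCharacter G, ψ ∉ A → omegaL (ψ : G → ℂ) z = 0 := by
  classical
  have : Finite (IrrCharacter G) := finite_irr
  have := Fintype.ofFinite (IrrCharacter G)
  have h1 : ∀ ψ : IrrCharacter G, ∃ g : G, ψ ∉ A →
      ¬ MemLocalIdeal M (centralChar (χ : G → ℂ) g - centralChar (ψ : G → ℂ) g) := by
    intro ψ
    by_cases hψ : ψ ∈ A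
    · exact ⟨1, fun h => absurd hψ h⟩
    · have := hA ψ hψ
      unfold SameBlock at this
      push Not at this
      obtain ⟨g, hg⟩ := this
      exact ⟨g, fun _ => hg⟩
  choose g hg using h1
  -- work in the centre
  let zc : IrrCharacter G → Subalgebra.center ℂ (MonoidAlgebra ℂ G) := fun ψ =>
    ⟨classSum ℂ (g ψ), classSum_mem_center _⟩ - algebraMap ℂ _ (centralChar (ψ : G → ℂ) (g ψ))
  have hzc : ∀ ψ : IrrCharacter G, ((zc ψ : MonoidAlgebra ℂ G)) =
      classSum ℂ (g ψ) - centralChar (ψ : G → ℂ) (g ψ) • 1 := by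
    intro ψ
    show classSum ℂ (g ψ) - algebraMap ℂ (MonoidAlgebra ℂ G) (centralChar (ψ : G → ℂ) (g ψ)) = _
    rw [Algebra.algebraMap_eq_smul_one]
  have hzR : ∀ ψ : IrrCharacter G, (zc ψ : MonoidAlgebra ℂ G) ∈ centerR hM := by
    intro ψ
    rw [hzc]
    exact (centerR hM).sub_mem (classSum_mem_centerR hM _)
      (smul_mem_centerR hM (memLocalRing_centralChar hM ψ.2 _) (centerR hM).one_mem)
  have hzω : ∀ ψ θ : IrrCharacter G, omegaL (θ : G → ℂ) (zc ψ : MonoidAlgebra ℂ G) =
      centralChar (θ : G → ℂ) (g ψ) - centralChar (ψ : G → ℂ) (g ψ) := by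
    intro ψ θ
    rw [hzc, map_sub, map_smul, omegaL_one θ.2, omegaL_classSum (isClassFunction_of_irr θ.2),
      smul_eq_mul, mul_one]
  let S : Finset (IrrCharacter G) := Finset.univ.filter fun ψ => ψ ∉ A
  refine ⟨((∏ ψ ∈ S, zc ψ : Subalgebra.center ℂ (MonoidAlgebra ℂ G)) : MonoidAlgebra ℂ G),
    ?_, ?_, ?_⟩
  · have : ∀ T : Finset (IrrCharacter G),
        ((∏ ψ ∈ T, zc ψ : Subalgebra.center ℂ (MonoidAlgebra ℂ G)) : MonoidAlgebra ℂ G) ∈
          centerR hM := by
      intro T
      induction T using Finset.induction_on with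
      | empty =>
        rw [Finset.prod_empty]
        exact (centerR hM).one_mem
      | insert a T ha ih =>
        rw [Finset.prod_insert ha]
        exact (centerR hM).mul_mem (hzR a) ih
    exact this S
  · rw [omegaL_prod χ.2, memLocalIdeal_prod_iff hM]
    · rintro ⟨ψ, hψ, h⟩
      rw [hzω] at h
      exact hg ψ (Finset.mem_filter.1 hψ).2 h
    · intro ψ _
      exact memLocalRing_omegaL hM χ.2 (hzR ψ)
  · intro ψ hψ
    rw [omegaL_prod ψ.2]
    refine Finset.prod_eq_zero (i := ψ) (Finset.mem_filter.2 ⟨Finset.mem_univ _, hψ⟩) ?_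
    rw [hzω, sub_self]

/-- **Osima's theorem** (general form): if no character in `A` lies in the block of a character
outside `A`, then `∑_{χ∈A} e_χ` has local-integral coefficients. -/
theorem irrIdem_mem_centerR [Finite G] (hM : IsPModular p M) (A : Set (IrrCharacter G))
    (hA : ∀ χ ∈ A, ∀ ψ : IrrCharacter G, ψ ∉ A → ¬ SameBlock M (χ : G → ℂ) (ψ : G → ℂ)) :
    irrIdem A ∈ centerR hM := by
  classical
  have : Finite (IrrCharacter G) := finite_irr
  have := Fintype.ofFinite (IrrCharacter G)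
  have h1 : ∀ χ : IrrCharacter G, ∃ z ∈ centerR (G := G) hM,
      (χ ∈ A → ¬ MemLocalIdeal M (omegaL (χ : G → ℂ) z)) ∧
      ∀ ψ : IrrCharacter G, ψ ∉ A → omegaL (ψ : G → ℂ) z = 0 := by
    intro χ
    by_cases hχ : χ ∈ A
    · obtain ⟨z, hz, h2, h3⟩ := exists_separating hM A χ (hA χ hχ)
      exact ⟨z, hz, fun _ => h2, h3⟩
    · exact ⟨0, (centerR hM).zero_mem, fun h => absurd h hχ, fun _ _ => map_zero _⟩
  choose z hzR hzu hz0 using h1
  let w : IrrCharacter G → Subalgebra.center ℂ (MonoidAlgebra ℂ G) := fun χ =>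
    1 - (omegaL (χ : G → ℂ) (z χ))⁻¹ • ⟨z χ, (hzR χ).1⟩
  have hwv : ∀ χ : IrrCharacter G, ((w χ : MonoidAlgebra ℂ G)) =
      1 - (omegaL (χ : G → ℂ) (z χ))⁻¹ • z χ := fun χ => rfl
  have hwR : ∀ χ ∈ A, ((w χ : MonoidAlgebra ℂ G)) ∈ centerR hM := by
    intro χ hχ
    rw [hwv]
    exact (centerR hM).sub_mem (centerR hM).one_mem (smul_mem_centerR hM
      (memLocalRing_inv (memLocalRing_omegaL hM χ.2 (hzR χ)) (hzu χ hχ)) (hzR χ))
  have hwω : ∀ χ θ : IrrCharacter G, omegaL (θ : G → ℂ) (w χ : MonoidAlgebra ℂ G) =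
      1 - (omegaL (χ : G → ℂ) (z χ))⁻¹ * omegaL (θ : G → ℂ) (z χ) := by
    intro χ θ
    rw [hwv, map_sub, map_smul, omegaL_one θ.2, smul_eq_mul]
  let S : Finset (IrrCharacter G) := Finset.univ.filter fun ψ => ψ ∈ A
  have hprodR : ∀ T : Finset (IrrCharacter G), (∀ χ ∈ T, χ ∈ A) →
      ((∏ ψ ∈ T, w ψ : Subalgebra.center ℂ (MonoidAlgebra ℂ G)) : MonoidAlgebra ℂ G) ∈
        centerR hM := by
    intro T
    induction T using Finset.induction_on with
    | empty =>
      intro _
      rw [Finset.prod_empty]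
      exact (centerR hM).one_mem
    | insert a T ha ih =>
      intro hT
      rw [Finset.prod_insert ha]
      exact (centerR hM).mul_mem (hwR a (hT a (Finset.mem_insert_self _ _)))
        (ih fun χ hχ => hT χ (Finset.mem_insert_of_mem hχ))
  have hSR := hprodR S fun χ hχ => (Finset.mem_filter.1 hχ).2
  have heq : 1 - ((∏ ψ ∈ S, w ψ : Subalgebra.center ℂ (MonoidAlgebra ℂ G)) :
      MonoidAlgebra ℂ G) = irrIdem A := by
    refine eq_irrIdem (Subalgebra.sub_mem _ (Subalgebra.one_mem _) hSR.1) ?_ ?_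
    · intro χ hχ
      rw [map_sub, omegaL_one χ.2, omegaL_prod χ.2]
      rw [Finset.prod_eq_zero (i := χ) (Finset.mem_filter.2 ⟨Finset.mem_univ _, hχ⟩), sub_zero]
      rw [hwω, inv_mul_cancel₀ (ne_zero_of_not_memLocalIdeal hM (hzu χ hχ)), sub_self]
    · intro χ hχ
      rw [map_sub, omegaL_one χ.2, omegaL_prod χ.2]
      rw [Finset.prod_eq_one, sub_self]
      intro ψ _
      rw [hwω, hz0 ψ χ hχ, mul_zero, sub_zero]
  rw [← heq]
  exact (centerR hM).sub_mem (centerR hM).one_mem hSR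

theorem memLocalRing_blockCoeff_of_separated [Finite G] (hM : IsPModular p M)
    (A : Set (IrrCharacter G))
    (hA : ∀ χ ∈ A, ∀ ψ : IrrCharacter G, ψ ∉ A → ¬ SameBlock M (χ : G → ℂ) (ψ : G → ℂ))
    (g : G) : MemLocalRing M (blockCoeff A g) :=
  (irrIdem_mem_centerR hM A hA).2 g

/-! ### Blocks -/

theorem sameBlock_refl (hM : IsPModular p M) (χ : G → ℂ) : SameBlock M χ χ := by
  intro g
  rw [sub_self]
  exact memLocalIdeal_zero hM

theorem sameBlock_symm {χ ψ : G → ℂ} (h : SameBlock M χ ψ) : SameBlock M ψ χ := by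
  intro g
  rw [memLocalIdeal_sub_comm]
  exact h g

theorem sameBlock_trans (hM : IsPModular p M) {χ ψ θ : G → ℂ} (h : SameBlock M χ ψ)
    (h' : SameBlock M ψ θ) : SameBlock M χ θ := by
  intro g
  have := memLocalIdeal_add hM (h g) (h' g)
  rwa [sub_add_sub_cancel] at this

theorem sameBlock_of_mem_of_mem (hM : IsPModular p M) {B : Set (IrrCharacter G)}
    (hB : IsPBlock M B) {χ ψ : IrrCharacter G} (hχ : χ ∈ B) (hψ : ψ ∈ B) :
    SameBlock M (χ : G → ℂ) (ψ : G → ℂ) := by
  obtain ⟨θ, rfl⟩ := hB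
  exact sameBlock_trans hM (sameBlock_symm hχ) hψ

theorem mem_of_sameBlock (hM : IsPModular p M) {B : Set (IrrCharacter G)}
    (hB : IsPBlock M B) {χ ψ : IrrCharacter G} (hχ : χ ∈ B)
    (h : SameBlock M (χ : G → ℂ) (ψ : G → ℂ)) : ψ ∈ B := by
  obtain ⟨θ, rfl⟩ := hB
  exact sameBlock_trans hM (show SameBlock M (θ : G → ℂ) (χ : G → ℂ) from hχ) h

theorem isPBlock_nonempty (hM : IsPModular p M) {B : Set (IrrCharacter G)}
    (hB : IsPBlock M B) : ∃ χ : IrrCharacter G, χ ∈ B := by
  obtain ⟨θ, rfl⟩ := hB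
  exact ⟨θ, sameBlock_refl hM _⟩

/-- The block idempotent lies in the `R`-form of the centre. -/
theorem irrIdem_block_mem_centerR [Finite G] (hM : IsPModular p M) {B : Set (IrrCharacter G)}
    (hB : IsPBlock M B) : irrIdem B ∈ centerR hM :=
  irrIdem_mem_centerR hM B fun _ hχ _ hψ h => hψ (mem_of_sameBlock hM hB hχ h)

/-- **Osima's theorem**. -/
theorem memLocalRing_blockCoeff [Finite G] (hM : IsPModular p M) {B : Set (IrrCharacter G)}
    (hB : IsPBlock M B) (g : G) : MemLocalRing M (blockCoeff B g) :=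
  (irrIdem_block_mem_centerR hM hB).2 g

/-- `∑_K a_B(K) ω_χ(K) = 1` for `χ ∈ B`. -/
theorem sum_blockCoeff_mul_centralChar [Finite G] [Fintype (ConjClasses G)]
    {B : Set (IrrCharacter G)} {χ : IrrCharacter G} (hχ : χ ∈ B) :
    ∑ c : ConjClasses G, blockCoeff B (Quotient.out c) *
      centralChar (χ : G → ℂ) (Quotient.out c : G) = 1 := by
  rw [← omegaL_irrIdem_of_mem hχ, omegaL_eq_sum_centralChar (isClassFunction_of_irr χ.2)
    (irrIdem_mem_center B)]
  rfl

/-- `∑_K a_B(K) ω_χ(K) = 0` for `χ ∉ B`. -/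
theorem sum_blockCoeff_mul_centralChar_of_notMem [Finite G] [Fintype (ConjClasses G)]
    {B : Set (IrrCharacter G)} {χ : IrrCharacter G} (hχ : χ ∉ B) :
    ∑ c : ConjClasses G, blockCoeff B (Quotient.out c) *
      centralChar (χ : G → ℂ) (Quotient.out c : G) = 0 := by
  rw [← omegaL_irrIdem_of_notMem hχ, omegaL_eq_sum_centralChar (isClassFunction_of_irr χ.2)
    (irrIdem_mem_center B)]
  rfl

/-- Every block has a defect class. -/
theorem exists_isDefectClass [Finite G] (hM : IsPModular p M) {B : Set (IrrCharacter G)}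
    (hB : IsPBlock M B) : ∃ g : G, IsDefectClass M B g := by
  have := Fintype.ofFinite (ConjClasses G)
  obtain ⟨χ, hχ⟩ := isPBlock_nonempty hM hB
  have h1 := sum_blockCoeff_mul_centralChar hχ
  have h2 : ∃ c : ConjClasses G, ¬ MemLocalIdeal M (blockCoeff B (Quotient.out c) *
      centralChar (χ : G → ℂ) (Quotient.out c : G)) := by
    by_contra hcon
    push Not at hcon
    apply not_memLocalIdeal_one hM
    rw [← h1]
    exact memLocalIdeal_sum hM _ _ fun c _ => hcon c
  obtain ⟨c, hc⟩ := h2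
  rw [memLocalIdeal_mul_iff hM (memLocalRing_blockCoeff hM hB _)
    (memLocalRing_centralChar hM χ.2 _), not_or] at hc
  refine ⟨Quotient.out c, memLocalRing_blockCoeff hM hB _, hc.1, ?_⟩
  intro ψ hψ h
  exact hc.2 ((memLocalIdeal_congr hM (sameBlock_of_mem_of_mem hM hB hχ hψ _)).2 h)

end local_

end Cfsg.Agent.Blocks.Osima
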