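import Mathlib
import Cfsg.Prelude.Def_Blocks
import Cfsg.Agent.Blocks.LocalRing

/-!
# The twist trick

An elementary replacement for relative projectivity (Green) in characteristic zero: if an
idempotent `π` of the group algebra over the local ring commutes with `g`, and is congruent
modulo the local ideal to an element `T` with `g T = ζ T g`, `ζ ≠ 1`, then every trace function
vanishes at `g π`.
-/

set_option autoImplicit false
set_option linter.unusedSectionVars false

namespace Cfsg.Agent.Blocks.Twist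

open Cfsg Cfsg.Agent.Blocks.LocalRing

/-! ### (A) The algebraic lemma -/

/-- **Twist lemma.** -/
theorem trace_zero_of_twist {A : Type*} [Ring A] [Algebra ℂ A] (τ : A →ₗ[ℂ] ℂ)
    (hτ : ∀ a b, τ (a * b) = τ (b * a)) {h π T : A} {ζ : ℂ} (hζ : ζ ≠ 1)
    (hπ : π * π = π) (hhπ : h * π = π * h) (hT : h * T = ζ • (T * h))
    (hU : IsUnit (π * T * π + (1 - π))) : τ (h * π) = 0 := by
  obtain ⟨U, hU⟩ := hU
  have h1 : (U : A) * π = π * T * π := by
    rw [hU, add_mul, sub_mul, one_mul, hπ, sub_self, add_zero, mul_assoc (π * T), hπ]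
  have h2 : π * (U : A) = π * T * π := by
    rw [hU, mul_add, mul_sub, mul_one, hπ, sub_self, add_zero, ← mul_assoc, ← mul_assoc, hπ]
  have h3 : h * (π * T * π) = ζ • (π * T * π * h) := by
    calc h * (π * T * π) = h * π * T * π := by simp only [mul_assoc]
      _ = π * (h * T) * π := by rw [hhπ]; simp only [mul_assoc]
      _ = ζ • (π * (T * h) * π) := by rw [hT]; simp
      _ = ζ • (π * T * (h * π)) := by simp only [mul_assoc]
      _ = ζ • (π * T * π * h) := by rw [hhπ]; simp only [mul_assoc]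
  have h4 : τ (h * π) = ζ * τ (h * π) := by
    calc τ (h * π) = τ (h * (π * (U : A)) * ((U⁻¹ : Aˣ) : A)) := by
          congr 1
          rw [mul_assoc h, mul_assoc π, Units.mul_inv, mul_one]
      _ = τ (h * (π * T * π) * ((U⁻¹ : Aˣ) : A)) := by rw [h2]
      _ = ζ * τ (π * T * π * (h * ((U⁻¹ : Aˣ) : A))) := by
          rw [h3, smul_mul_assoc, map_smul, smul_eq_mul, mul_assoc (π * T * π)]
      _ = ζ * τ (h * ((U⁻¹ : Aˣ) : A) * (π * T * π)) := by rw [hτ]
      _ = ζ * τ (h * (((U⁻¹ : Aˣ) : A) * ((U : A) * π))) := by rw [h1, mul_assoc h]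
      _ = ζ * τ (h * π) := by rw [← mul_assoc ((U⁻¹ : Aˣ) : A), Units.inv_mul, one_mul]
  have h5 : (1 - ζ) * τ (h * π) = 0 := by rw [sub_mul, one_mul, ← h4, sub_self]
  exact (mul_eq_zero.1 h5).resolve_left (sub_ne_zero.2 hζ.symm)

/-! ### (B) Units -/

section Units

variable {p : ℕ} {M : Ideal AlgInt}

/-- A matrix over the local ring, congruent to the identity modulo the local ideal, is a unit. -/
theorem isUnit_matrix {n : Type*} [Fintype n] [DecidableEq n] (hM : IsPModular p M)
    (U : Matrix n n ℂ) (hU : ∀ i j, MemLocalIdeal M (U i j - (1 : Matrix n n ℂ) i j)) :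
    IsUnit U := by
  have h1 : ∀ i j, MemLocalRing M ((1 : Matrix n n ℂ) i j) := by
    intro i j
    rw [Matrix.one_apply]
    split_ifs
    · exact memLocalRing_one hM
    · exact memLocalRing_zero hM
  have hUR : ∀ i j, MemLocalRing M (U i j) := by
    intro i j
    have := memLocalRing_add hM (memLocalIdeal_memLocalRing (hU i j)) (h1 i j)
    rwa [sub_add_cancel] at this
  set U' : Matrix n n (locRing hM) := Matrix.of fun i j => ⟨U i j, hUR i j⟩ with hU'
  have hmap : U'.map (Ideal.Quotient.mk (locIdeal hM)) = 1 := by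
    ext i j
    rw [Matrix.map_apply, ← Matrix.map_one (Ideal.Quotient.mk (locIdeal hM)) (map_zero _)
      (map_one _), Matrix.map_apply, Ideal.Quotient.eq, mem_locIdeal]
    have := hU i j
    have h2 : (((U' i j - (1 : Matrix n n (locRing hM)) i j : locRing hM)) : ℂ) =
        U i j - (1 : Matrix n n ℂ) i j := by
      rw [AddSubgroupClass.coe_sub, hU', Matrix.of_apply, Matrix.one_apply, Matrix.one_apply]
      split_ifs <;> rfl
    rw [h2]
    exact this
  have hdet : Ideal.Quotient.mk (locIdeal hM) U'.det = 1 := by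
    rw [RingHom.map_det, RingHom.mapMatrix_apply, hmap, Matrix.det_one]
  have hdet2 : U'.det ∉ locIdeal hM := by
    intro h
    rw [Ideal.Quotient.eq_zero_iff_mem.2 h] at hdet
    have h3 : (1 : locRing hM) ∈ locIdeal hM := by
      rw [← Ideal.Quotient.eq_zero_iff_mem, map_one, ← hdet]
    exact not_memLocalIdeal_one hM h3
  have hUmap : U = U'.map (locRing hM).subtype := by
    ext i j; rfl
  rw [Matrix.isUnit_iff_isUnit_det, hUmap, ← RingHom.mapMatrix_apply, ← RingHom.map_det]
  exact ((isUnit_locRing_iff hM).2 hdet2).map _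

variable {G : Type*} [Group G]

/-- An element of the group algebra over the local ring, congruent to `1` modulo the local
ideal, is a unit. -/
theorem isUnit_monoidAlgebra [Finite G] (hM : IsPModular p M) (U : MonoidAlgebra ℂ G)
    (hU : ∀ g, MemLocalIdeal M ((U - 1).coeff g)) : IsUnit U := by
  classical
  have := Fintype.ofFinite G
  have key : ∀ (f : G → G → G), (∀ i j, f i j = 1 ↔ i = j) →
      IsUnit (Matrix.of fun i j => U.coeff (f i j)) := by
    intro f hf
    refine isUnit_matrix hM _ fun i j => ?_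
    have := hU (f i j)
    rw [MonoidAlgebra.coeff_sub, Finsupp.sub_apply, MonoidAlgebra.one_def,
      MonoidAlgebra.coeff_single, Finsupp.single_apply] at this
    rw [Matrix.of_apply, Matrix.one_apply]
    have h : ((1 : G) = f i j) = (i = j) := by rw [eq_comm (a := (1 : G))]; exact propext (hf i j)
    simp only [h] at this
    exact this
  -- right inverse
  have hr : ∃ V : MonoidAlgebra ℂ G, U * V = 1 := by
    have h1 := key (fun i j => i * j⁻¹) fun i j => mul_inv_eq_one
    obtain ⟨W, hW⟩ := h1.exists_right_inv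
    refine ⟨.ofCoeff (Finsupp.equivFunOnFinite.symm fun g => W g 1), ?_⟩
    ext g
    rw [MonoidAlgebra.coeff_mul_apply_right, Finsupp.sum_fintype _ _ (by simp)]
    have h2 := congrFun (congrFun hW g) 1
    rw [Matrix.mul_apply] at h2
    simp only [Matrix.of_apply] at h2
    simp only [Finsupp.equivFunOnFinite_symm_apply_apply]
    rw [h2, Matrix.one_apply, MonoidAlgebra.one_def, MonoidAlgebra.coeff_single,
      Finsupp.single_apply]
    simp only [eq_comm]
  have hl : ∃ V : MonoidAlgebra ℂ G, V * U = 1 := by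
    have h1 := key (fun i j => i⁻¹ * j) fun i j => inv_mul_eq_one
    obtain ⟨W, hW⟩ := h1.exists_left_inv
    refine ⟨.ofCoeff (Finsupp.equivFunOnFinite.symm fun g => W 1 g), ?_⟩
    ext g
    rw [MonoidAlgebra.coeff_mul_apply_left, Finsupp.sum_fintype _ _ (by simp)]
    have h2 := congrFun (congrFun hW 1) g
    rw [Matrix.mul_apply] at h2
    simp only [Matrix.of_apply] at h2
    simp only [Finsupp.equivFunOnFinite_symm_apply_apply]
    rw [h2, Matrix.one_apply, MonoidAlgebra.one_def, MonoidAlgebra.coeff_single,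
      Finsupp.single_apply]
  obtain ⟨V, hV⟩ := hr
  obtain ⟨V', hV'⟩ := hl
  have : V' = V := by
    calc V' = V' * (U * V) := by rw [hV, mul_one]
      _ = V := by rw [← mul_assoc, hV', one_mul]
  exact ⟨⟨U, V, hV, by rw [← this, hV']⟩, rfl⟩

end Units

/-! ### (C) The twist function -/

section TwistFunction

variable {p : ℕ} {G : Type*} [Group G]

/-- If `x` is the `p`-part of `g` and `p ∤ n` then `x` is a power of `g ^ n`. -/
theorem mem_zpowers_zpow [Fact p.Prime] {g x : G} (hx : IsPPart p g x) {n : ℤ}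
    (hn : ¬ (p : ℤ) ∣ n) : x ∈ Subgroup.zpowers (g ^ n) := by
  obtain ⟨y, rfl, hxy, ⟨k, hk⟩, hy⟩ := hx
  have hp : Prime (p : ℤ) := Nat.prime_iff_prime_int.1 Fact.out
  have hm : ¬ (p : ℤ) ∣ (orderOf y : ℤ) := by rwa [Int.natCast_dvd_natCast]
  have hcop : IsCoprime (n * orderOf y) ((p : ℤ) ^ k) := by
    apply IsCoprime.pow_right
    rw [isCoprime_comm, Prime.coprime_iff_not_dvd hp]
    intro h
    rcases hp.dvd_or_dvd h with h | h
    · exact hn h
    · exact hm h
  obtain ⟨u, v, huv⟩ := hcop
  have h1 : ((x * y) ^ n) ^ (orderOf y : ℤ) = x ^ (n * orderOf y) := by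
    rw [← zpow_mul, hxy.mul_zpow, mul_comm n, zpow_mul y, zpow_natCast y, pow_orderOf_eq_one,
      one_zpow, mul_one]
  have h2 : x = (((x * y) ^ n) ^ (orderOf y : ℤ)) ^ u := by
    rw [h1, ← zpow_mul]
    have h3 : x ^ (v * (p : ℤ) ^ k) = 1 := by
      rw [mul_comm, zpow_mul, ← Nat.cast_pow, zpow_natCast, ← hk, pow_orderOf_eq_one, one_zpow]
    calc x = x ^ (u * (n * orderOf y) + v * (p : ℤ) ^ k) := by rw [huv, zpow_one]
      _ = x ^ (n * orderOf y * u) := by rw [zpow_add, h3, mul_one, mul_comm u]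
  have h4 : (((x * y) ^ n) ^ (orderOf y : ℤ)) ^ u ∈ Subgroup.zpowers ((x * y) ^ n) :=
    Subgroup.zpow_mem _ (Subgroup.zpow_mem _ (Subgroup.mem_zpowers ((x * y) ^ n)) _) _
  rwa [← h2] at h4

/-- Let `x` be the `p`-part of `g`, let the group act on `X`, and let `ζ ^ p = 1`.  There is a
function to the `p`-th roots of unity which gets multiplied by `ζ` under `g`, at all points not
fixed by `x`. -/
theorem exists_twist [Fact p.Prime] {X : Type*} (φ : G →* Equiv.Perm X) {g x : G}
    (hx : IsPPart p g x) {ζ : ℂ} (hζ : ζ ^ p = 1) :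
    ∃ f : X → ℂ, (∀ z, f z ^ p = 1) ∧ ∀ z, φ x z ≠ z → f (φ g z) = ζ * f z := by
  classical
  have hp0 : p ≠ 0 := (Fact.out : p.Prime).ne_zero
  have hζ0 : ζ ≠ 0 := by
    rintro rfl
    rw [zero_pow hp0] at hζ
    exact zero_ne_one hζ
  set σ : Equiv.Perm X := φ g with hσ
  let rep : X → X := fun z => Quotient.out (s := Equiv.Perm.SameCycle.setoid σ) ⟦z⟧
  have hrep : ∀ z, σ.SameCycle (rep z) z := fun z =>
    Quotient.mk_out (s := Equiv.Perm.SameCycle.setoid σ) z
  have hrep2 : ∀ z, rep (σ z) = rep z := by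
    intro z
    have : (Quotient.mk (Equiv.Perm.SameCycle.setoid σ) (σ z)) =
        Quotient.mk (Equiv.Perm.SameCycle.setoid σ) z :=
      Quotient.sound (s := Equiv.Perm.SameCycle.setoid σ)
        (Equiv.Perm.sameCycle_apply_left.2 (Equiv.Perm.SameCycle.refl σ z))
    exact congrArg (fun q : Quotient (Equiv.Perm.SameCycle.setoid σ) =>
      Quotient.out (s := Equiv.Perm.SameCycle.setoid σ) q) this
  choose k hk using hrep
  refine ⟨fun z => ζ ^ k z, fun z => ?_, fun z hz => ?_⟩
  · have : (ζ ^ k z) ^ p = (ζ ^ p) ^ k z := by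
      rw [← zpow_natCast, ← zpow_mul, mul_comm, zpow_mul, zpow_natCast]
    rw [this, hζ, one_zpow]
  · have h1 : (σ ^ (k (σ z))) (rep z) = (σ ^ (k z + 1)) (rep z) := by
      rw [← hrep2 z, hk (σ z), hrep2 z, add_comm, zpow_add, zpow_one, Equiv.Perm.mul_apply, hk z]
    have h2 : (σ ^ (k (σ z) - (k z + 1))) (rep z) = rep z := by
      rw [sub_eq_neg_add, zpow_add, Equiv.Perm.mul_apply, h1, ← Equiv.Perm.mul_apply, ← zpow_add,
        neg_add_cancel, zpow_zero, Equiv.Perm.one_apply]
    have h3 : (p : ℤ) ∣ k (σ z) - (k z + 1) := by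
      by_contra hn
      apply hz
      obtain ⟨u, hu⟩ := mem_zpowers_zpow hx hn
      have h4 : φ x (rep z) = rep z := by
        rw [← show (g ^ (k (σ z) - (k z + 1))) ^ u = x from hu, map_zpow, map_zpow, ← hσ]
        exact Equiv.Perm.zpow_apply_eq_self_of_apply_eq_self h2 u
      have hcomm : Commute x g := by
        obtain ⟨y, rfl, hxy, -, -⟩ := hx
        exact (Commute.refl x).mul_right hxy
      have h5 : φ x * σ ^ (k z) = σ ^ (k z) * φ x := by
        rw [hσ, ← map_zpow, ← map_mul, ← map_mul]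
        exact congrArg φ ((hcomm.zpow_right (k z)).eq)
      calc φ x z = φ x ((σ ^ (k z)) (rep z)) := by rw [hk z]
        _ = (φ x * σ ^ (k z)) (rep z) := rfl
        _ = (σ ^ (k z)) (φ x (rep z)) := by rw [h5]; rfl
        _ = z := by rw [h4, hk z]
    obtain ⟨m, hm⟩ := h3
    have h6 : k (σ z) = p * m + 1 + k z := by linarith
    change ζ ^ k (σ z) = ζ * ζ ^ k z
    rw [h6, zpow_add₀ hζ0, zpow_add₀ hζ0, zpow_mul, zpow_natCast, hζ, one_zpow, one_mul, zpow_one]

end TwistFunction

/-! ### The order and its radical -/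

section Order

variable {p : ℕ} {M : Ideal AlgInt} {G : Type*} [Group G]

/-- All coefficients are in the local ring. -/
def MemR (M : Ideal AlgInt) (a : MonoidAlgebra ℂ G) : Prop := ∀ s, MemLocalRing M (a.coeff s)

/-- All coefficients are in the local ideal. -/
def MemJ (M : Ideal AlgInt) (a : MonoidAlgebra ℂ G) : Prop := ∀ s, MemLocalIdeal M (a.coeff s)

variable {a b c : MonoidAlgebra ℂ G}

theorem MemJ.memR (h : MemJ M a) : MemR M a := fun s => memLocalIdeal_memLocalRing (h s)

theorem memR_add (hM : IsPModular p M) (ha : MemR M a) (hb : MemR M b) : MemR M (a + b) :=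
  fun s => memLocalRing_add hM (ha s) (hb s)

theorem memR_sub (hM : IsPModular p M) (ha : MemR M a) (hb : MemR M b) : MemR M (a - b) :=
  fun s => memLocalRing_sub hM (ha s) (hb s)

theorem memJ_zero (hM : IsPModular p M) : MemJ M (0 : MonoidAlgebra ℂ G) :=
  fun _ => memLocalIdeal_zero hM

theorem memJ_add (hM : IsPModular p M) (ha : MemJ M a) (hb : MemJ M b) : MemJ M (a + b) :=
  fun s => memLocalIdeal_add hM (ha s) (hb s)

theorem memJ_sub (hM : IsPModular p M) (ha : MemJ M a) (hb : MemJ M b) : MemJ M (a - b) :=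
  fun s => memLocalIdeal_sub hM (ha s) (hb s)

theorem memJ_sub_comm : MemJ M (a - b) ↔ MemJ M (b - a) := by
  refine forall_congr' fun s => ?_
  rw [MonoidAlgebra.coeff_sub, MonoidAlgebra.coeff_sub, Finsupp.sub_apply, Finsupp.sub_apply,
    memLocalIdeal_sub_comm]

theorem memR_single (hM : IsPModular p M) (g : G) {r : ℂ} (hr : MemLocalRing M r) :
    MemR M (MonoidAlgebra.single g r) := by
  classical
  intro s
  rw [MonoidAlgebra.coeff_single, Finsupp.single_apply]
  split_ifs
  · exact hr
  · exact memLocalRing_zero hM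

theorem memJ_single (hM : IsPModular p M) (g : G) {r : ℂ} (hr : MemLocalIdeal M r) :
    MemJ M (MonoidAlgebra.single g r) := by
  classical
  intro s
  rw [MonoidAlgebra.coeff_single, Finsupp.single_apply]
  split_ifs
  · exact hr
  · exact memLocalIdeal_zero hM

theorem memR_one (hM : IsPModular p M) : MemR M (1 : MonoidAlgebra ℂ G) :=
  memR_single hM 1 (memLocalRing_one hM)

theorem coeff_mul_eq_sum [Fintype G] (a b : MonoidAlgebra ℂ G) (s : G) :
    (a * b).coeff s = ∑ t, a.coeff t * b.coeff (t⁻¹ * s) := by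
  rw [MonoidAlgebra.coeff_mul_apply_left, Finsupp.sum_fintype _ _ (by simp)]

theorem memR_mul [Finite G] (hM : IsPModular p M) (ha : MemR M a) (hb : MemR M b) :
    MemR M (a * b) := by
  have := Fintype.ofFinite G
  intro s
  rw [coeff_mul_eq_sum]
  exact memLocalRing_sum hM _ _ fun t _ => memLocalRing_mul hM (ha t) (hb _)

theorem memJ_mul_left [Finite G] (hM : IsPModular p M) (ha : MemR M a) (hb : MemJ M b) :
    MemJ M (a * b) := by
  have := Fintype.ofFinite G
  intro s
  rw [coeff_mul_eq_sum]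
  exact memLocalIdeal_sum hM _ _ fun t _ => memLocalIdeal_mul_left hM (ha t) (hb _)

theorem memJ_mul_right [Finite G] (hM : IsPModular p M) (ha : MemJ M a) (hb : MemR M b) :
    MemJ M (a * b) := by
  have := Fintype.ofFinite G
  intro s
  rw [coeff_mul_eq_sum]
  exact memLocalIdeal_sum hM _ _ fun t _ => memLocalIdeal_mul_right hM (ha t) (hb _)

theorem memR_pow [Finite G] (hM : IsPModular p M) (ha : MemR M a) (n : ℕ) : MemR M (a ^ n) := by
  induction n with
  | zero => rw [pow_zero]; exact memR_one hM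
  | succ n ih => rw [pow_succ]; exact memR_mul hM ih ha

theorem memR_smul (hM : IsPModular p M) {r : ℂ} (hr : MemLocalRing M r) (ha : MemR M a) :
    MemR M (r • a) := by
  intro s
  rw [MonoidAlgebra.coeff_smul, Finsupp.smul_apply, smul_eq_mul]
  exact memLocalRing_mul hM hr (ha s)

theorem memJ_smul (hM : IsPModular p M) {r : ℂ} (hr : MemLocalIdeal M r) (ha : MemR M a) :
    MemJ M (r • a) := by
  intro s
  rw [MonoidAlgebra.coeff_smul, Finsupp.smul_apply, smul_eq_mul]
  exact memLocalIdeal_mul_right hM hr (ha s)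

theorem memR_sum (hM : IsPModular p M) {ι : Type*} (S : Finset ι) (f : ι → MonoidAlgebra ℂ G)
    (h : ∀ i ∈ S, MemR M (f i)) : MemR M (∑ i ∈ S, f i) := by
  intro s
  rw [MonoidAlgebra.coeff_sum, Finsupp.finsetSum_apply]
  exact memLocalRing_sum hM _ _ fun i hi => h i hi s

theorem memJ_sum (hM : IsPModular p M) {ι : Type*} (S : Finset ι) (f : ι → MonoidAlgebra ℂ G)
    (h : ∀ i ∈ S, MemJ M (f i)) : MemJ M (∑ i ∈ S, f i) := by
  intro s
  rw [MonoidAlgebra.coeff_sum, Finsupp.finsetSum_apply]
  exact memLocalIdeal_sum hM _ _ fun i hi => h i hi s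

/-- A `p`-power root of unity is congruent to `1`. -/
theorem memLocalIdeal_sub_one_of_pow_eq_one (hM : IsPModular p M) {z : ℂ} (hz : z ^ p = 1) :
    MemLocalIdeal M (z - 1) := by
  have hp : p.Prime := hM.1
  have hint : IsIntegral ℤ z := IsIntegral.of_pow hp.pos (by rw [hz]; exact isIntegral_one)
  have hint' : IsIntegral ℤ (z - 1) := hint.sub isIntegral_one
  set b : AlgInt := ⟨z - 1, hint'⟩ with hb
  have hbz : (b : ℂ) = z - 1 := rfl
  rw [← hbz, memLocalIdeal_coe_iff hM]
  have h1 : (b + 1) ^ p = 1 := by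
    apply Subtype.ext
    push_cast
    rw [hbz, sub_add_cancel, hz]
  obtain ⟨r, hr⟩ := exists_add_pow_prime_eq hp b 1
  rw [h1, one_pow] at hr
  have h2 : b ^ p = -((p : AlgInt) * (b * 1 * r)) := by linear_combination -hr
  have h3 : b ^ p ∈ M := by
    rw [h2]
    exact M.neg_mem (M.mul_mem_right _ (prime_mem hM))
  exact (isPrime hM).mem_of_pow_mem _ h3

end Order

/-! ### The main theorem -/

section Main

variable {p : ℕ} {M : Ideal AlgInt} {G : Type*} [Group G]

/-- **Main theorem.**  Let `g ∈ G` with `p`-part `x`, and let `π` be an idempotent of the group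
algebra over the local ring at `M`, commuting with `g`.  Suppose that `π ≡ c * w` modulo the local
ideal where `c`, `w` commute with `g` and the coefficients of `c` at all elements commuting with
`x` are in the local ideal.  Then each trace function vanishes on `g * π`. -/
theorem trace_single_mul_eq_zero [Finite G] (hM : IsPModular p M) {g x : G}
    (hx : IsPPart p g x) {π c w : MonoidAlgebra ℂ G} (hππ : π * π = π)
    (hπg : MonoidAlgebra.single g 1 * π = π * MonoidAlgebra.single g 1)
    (hcg : MonoidAlgebra.single g 1 * c = c * MonoidAlgebra.single g 1)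
    (hwg : MonoidAlgebra.single g 1 * w = w * MonoidAlgebra.single g 1)
    (hπR : MemR M π) (hcR : MemR M c) (hwR : MemR M w)
    (hc : ∀ s, Commute x s → MemLocalIdeal M (c.coeff s)) (hcw : MemJ M (c * w - π))
    (τ : MonoidAlgebra ℂ G →ₗ[ℂ] ℂ) (hτ : ∀ a b, τ (a * b) = τ (b * a)) :
    τ (MonoidAlgebra.single g 1 * π) = 0 := by
  classical
  have := Fintype.ofFinite G
  have hp : p.Prime := hM.1
  have : Fact p.Prime := ⟨hp⟩
  obtain ⟨ζ, hζp, hζ1⟩ : ∃ ζ : ℂ, ζ ^ p = 1 ∧ ζ ≠ 1 := by
    have h := Complex.isPrimitiveRoot_exp p hp.ne_zero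
    exact ⟨_, h.pow_eq_one, h.ne_one hp.one_lt⟩
  have hζ0 : ζ ≠ 0 := by
    rintro rfl
    rw [zero_pow hp.ne_zero] at hζp
    exact zero_ne_one hζp
  have hζi : (ζ⁻¹) ^ p = 1 := by rw [inv_pow, hζp, inv_one]
  obtain ⟨f, hf1, hf2⟩ := exists_twist ((MulAut.toPerm G).comp MulAut.conj) hx hζi
  have hf2' : ∀ s, ¬ Commute x s → f (g * s * g⁻¹) = ζ⁻¹ * f s := by
    intro s hs
    refine hf2 s fun h => hs ?_
    have h' : x * s * x⁻¹ = s := h
    rw [mul_inv_eq_iff_eq_mul] at h'
    exact h'
  have hfR : ∀ s, MemLocalRing M (f s) := fun s =>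
    memLocalRing_of_isIntegral hM (IsIntegral.of_pow hp.pos (by rw [hf1]; exact isIntegral_one))
  -- the twist of `c`
  set T₀ : MonoidAlgebra ℂ G := MonoidAlgebra.ofCoeff (Finsupp.equivFunOnFinite.symm
    fun s => if Commute x s then 0 else f s * c.coeff s) with hT₀
  have hT₀s : ∀ s, T₀.coeff s = if Commute x s then 0 else f s * c.coeff s := fun s => rfl
  have hxg : Commute x g := by
    obtain ⟨y, rfl, hxy, -, -⟩ := hx
    exact (Commute.refl x).mul_right hxy
  have hcomm : ∀ s, Commute x (g * s * g⁻¹) ↔ Commute x s := by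
    intro s
    constructor
    · intro h
      have : s = g⁻¹ * (g * s * g⁻¹) * g := by group
      rw [this]
      exact (hxg.inv_right.mul_right h).mul_right hxg
    · intro h
      exact (hxg.mul_right h).mul_right hxg.inv_right
  have hcconj : ∀ s, c.coeff (g * s * g⁻¹) = c.coeff s := by
    intro s
    have h1 := congrArg (fun a => a.coeff (g * s)) hcg
    simp only [MonoidAlgebra.coeff_single_mul_apply, MonoidAlgebra.coeff_mul_single_apply,
      one_mul, mul_one, inv_mul_cancel_left] at h1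
    exact h1.symm
  have hT₀g : MonoidAlgebra.single g 1 * T₀ = ζ • (T₀ * MonoidAlgebra.single g 1) := by
    ext s
    rw [MonoidAlgebra.coeff_smul, Finsupp.smul_apply, MonoidAlgebra.coeff_single_mul_apply,
      MonoidAlgebra.coeff_mul_single_apply, smul_eq_mul, one_mul, mul_one, hT₀s, hT₀s]
    obtain ⟨t, rfl⟩ : ∃ t, s = g * t := ⟨g⁻¹ * s, by group⟩
    rw [inv_mul_cancel_left]
    by_cases ht : Commute x t
    · rw [if_pos ht, if_pos ((hcomm t).2 ht), mul_zero]
    · rw [if_neg ht, if_neg (fun h => ht ((hcomm t).1 h)), hf2' t ht, hcconj]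
      rw [← mul_assoc, ← mul_assoc, mul_inv_cancel₀ hζ0, one_mul]
  have hT₀J : MemJ M (T₀ - c) := by
    intro s
    rw [MonoidAlgebra.coeff_sub, Finsupp.sub_apply, hT₀s]
    split_ifs with h
    · rw [zero_sub]
      exact memLocalIdeal_neg (hc s h)
    · have : f s * c.coeff s - c.coeff s = (f s - 1) * c.coeff s := by ring
      rw [this]
      exact memLocalIdeal_mul_right hM (memLocalIdeal_sub_one_of_pow_eq_one hM (hf1 s)) (hcR s)
  set T : MonoidAlgebra ℂ G := T₀ * w with hT
  have hTg : MonoidAlgebra.single g 1 * T = ζ • (T * MonoidAlgebra.single g 1) := by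
    rw [hT, ← mul_assoc, hT₀g, smul_mul_assoc, mul_assoc T₀, hwg, mul_assoc T₀]
  have hTJ : MemJ M (T - π) := by
    have : T - π = (T₀ - c) * w + (c * w - π) := by rw [hT]; noncomm_ring
    rw [this]
    exact memJ_add hM (memJ_mul_right hM hT₀J hwR) hcw
  have hU : IsUnit (π * T * π + (1 - π)) := by
    apply isUnit_monoidAlgebra hM
    have h1 : π * T * π + (1 - π) - 1 = π * (T - π) * π := by
      have : π * (T - π) * π = π * T * π - π * π * π := by noncomm_ring
      rw [this, hππ, hππ]
      abel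
    rw [h1]
    exact memJ_mul_right hM (memJ_mul_left hM hπR hTJ) hπR
  exact trace_zero_of_twist τ hτ hζ1 hππ hπg hTg hU

end Main

end Cfsg.Agent.Blocks.Twist
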