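import Mathlib
import Cfsg.Prelude.Def_Blocks
import Cfsg.Prelude.Def_Local
import Cfsg.Agent.Blocks.Local
import Cfsg.Agent.Blocks.Basic
import Cfsg.Agent.Blocks.Twist
import Cfsg.Agent.Blocks.RegularCount
import Cfsg.Agent.Characters.Central
import Cfsg.Agent.Lib.Cores

/-!
# Twist trick for representations, and units congruent to one

* `isUnit_one_add` : `1 + ∑ a g • ρ g` is invertible if all `a g` lie in the local ideal.
* `trace_eq_zero_of_twist` : the twist trick.
* `exists_weight` : weights with `w (τ x) = ζ * w x`.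
-/

set_option autoImplicit false

open Cfsg Cfsg.Agent.Blocks.Local

namespace Cfsg.Agent.Blocks.PrincipalConst

section Unit

variable {M : Ideal AlgInt} [hP : M.IsPrime]

theorem localIdeal_le_jacobson : localIdeal M ≤ Ideal.jacobson ⊥ := by
  intro x hx
  rw [Ideal.mem_jacobson_bot]
  intro y
  have h1 : MemLocalIdeal M ((x * y : localRing M) : ℂ) := by
    have := memLocalIdeal_mul_right (mem_localIdeal.1 hx) y.2
    simpa using this
  have h2 : ¬ MemLocalIdeal M ((x * y + 1 : localRing M) : ℂ) := by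
    intro h3
    have := memLocalIdeal_sub h3 h1
    apply not_memLocalIdeal_one (M := M)
    simpa using this
  refine IsUnit.of_mul_eq_one ⟨_, memLocalRing_inv (x * y + 1 : localRing M).2 h2⟩ ?_
  ext
  exact mul_inv_cancel₀ (ne_zero_of_not_memLocalIdeal h2)

variable {G V : Type*} [Group G] [Fintype G] [AddCommGroup V] [Module ℂ V]
  [FiniteDimensional ℂ V] (ρ : Representation ℂ G V)

theorem isUnit_one_add (a : G → ℂ) (ha : ∀ g, MemLocalIdeal M (a g)) :
    IsUnit (1 + ∑ g, a g • ρ g : Module.End ℂ V) := by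
  rw [LinearMap.isUnit_iff_ker_eq_bot, LinearMap.ker_eq_bot']
  intro w hw
  have hw' : w = - ∑ g, a g • ρ g w := by
    have : w + ∑ g, a g • ρ g w = 0 := by simpa using hw
    exact eq_neg_of_add_eq_zero_left this
  let N : Submodule (localRing M) V := Submodule.span (localRing M) (Set.range fun g => ρ g w)
  have hN : N.FG := Submodule.fg_span (Set.finite_range _)
  have hle : N ≤ localIdeal M • N := by
    rw [Submodule.span_le]
    rintro _ ⟨h, rfl⟩
    change ρ h w ∈ localIdeal M • N
    have h1 : ρ h w = - ∑ g, a g • ρ (h * g) w := by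
      conv_lhs => rw [hw']
      rw [map_neg, map_sum]
      congr 1
      refine Finset.sum_congr rfl fun g _ => ?_
      rw [map_smul, map_mul]
      rfl
    rw [h1]
    refine Submodule.neg_mem _ (Submodule.sum_mem _ fun g _ => ?_)
    have h2 : a g • ρ (h * g) w =
      (⟨a g, memLocalRing_of_memLocalIdeal (ha g)⟩ : localRing M) • ρ (h * g) w := rfl
    rw [h2]
    exact Submodule.smul_mem_smul (mem_localIdeal.2 (ha g)) (Submodule.subset_span ⟨h * g, rfl⟩)
  have hbot := Submodule.eq_bot_of_le_smul_of_le_jacobson_bot _ N hN hle localIdeal_le_jacobson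
  have hmem : w ∈ N := Submodule.subset_span ⟨1, by simp⟩
  rw [hbot] at hmem
  simpa using hmem

end Unit

section Twist

variable {V : Type*} [AddCommGroup V] [Module ℂ V]

/-- The twist trick. -/
theorem trace_eq_zero_of_twist {π h T : Module.End ℂ V} {ζ : ℂ} (hζ : ζ ≠ 1)
    (hπ : π * π = π) (hc : h * π = π * h) (hT : h * T = ζ • (T * h))
    (hU : IsUnit (π * T * π + (1 - π))) : LinearMap.trace ℂ V (h * π) = 0 := by
  obtain ⟨U, hU⟩ := hU
  have e1 : (U : Module.End ℂ V) * (h * π) = π * T * h * π := by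
    rw [hU, add_mul, sub_mul]
    have : π * (h * π) = h * π := by rw [← mul_assoc, ← hc, mul_assoc, hπ]
    rw [one_mul, this, sub_self, add_zero, mul_assoc (π * T), this, mul_assoc (π * T)]
  have e2 : h * π * (U : Module.End ℂ V) = ζ • (π * T * h * π) := by
    rw [hU, mul_add, mul_sub, mul_one, mul_assoc h π π, hπ, sub_self, add_zero]
    calc h * π * (π * T * π) = h * (π * π) * T * π := by simp only [mul_assoc]
      _ = π * (h * T) * π := by rw [hπ, hc]; simp only [mul_assoc]
      _ = ζ • (π * T * h * π) := by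
        rw [hT, mul_smul_comm, smul_mul_assoc]; simp only [mul_assoc]
  have e3 : h * π = ζ • ((U : Module.End ℂ V) * (h * π) * (↑U⁻¹ : Module.End ℂ V)) := by
    rw [e1, ← smul_mul_assoc, ← e2, mul_assoc, Units.mul_inv, mul_one]
  have e4 : LinearMap.trace ℂ V (h * π) = ζ * LinearMap.trace ℂ V (h * π) := by
    conv_lhs => rw [e3]
    rw [map_smul, LinearMap.trace_mul_comm, ← mul_assoc, Units.inv_mul, one_mul, smul_eq_mul]
  have e5 : (1 - ζ) * LinearMap.trace ℂ V (h * π) = 0 := by
    rw [sub_mul, one_mul, ← e4, sub_self]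
  rcases mul_eq_zero.1 e5 with h5 | h5
  · exact absurd (sub_eq_zero.1 h5).symm hζ
  · exact h5

end Twist

section Weight

/-- Weights which are multiplied by `ζ` along the cycles of `τ` of length divisible by `p`. -/
theorem exists_weight {X : Type*} (τ : Equiv.Perm X) {p : ℕ} {ζ : ℂ} (hζ : ζ ^ p = 1)
    (hζ0 : ζ ≠ 0) :
    ∃ w : X → ℂ, (∀ x, w x ^ p = 1) ∧
      ∀ x, (∀ k : ℤ, (τ ^ k) x = x → (p : ℤ) ∣ k) → w (τ x) = ζ * w x := by
  classical
  let r : X → X := fun x => (Quotient.out (s := Equiv.Perm.SameCycle.setoid τ) ⟦x⟧)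
  have hr : ∀ x, ∃ k : ℤ, (τ ^ k) (r x) = x := fun x => by
    have h : (Equiv.Perm.SameCycle.setoid τ).r (r x) x :=
      Quotient.exact (s := Equiv.Perm.SameCycle.setoid τ)
        (Quotient.out_eq (s := Equiv.Perm.SameCycle.setoid τ) _)
    exact h
  choose k hk using hr
  refine ⟨fun x => ζ ^ (k x), fun x => ?_, fun x hx => ?_⟩
  · rw [← zpow_natCast, ← zpow_mul, mul_comm, zpow_mul, zpow_natCast, hζ, one_zpow]
  · have hrr : r (τ x) = r x := by
      have : (⟦τ x⟧ : Quotient (Equiv.Perm.SameCycle.setoid τ)) = ⟦x⟧ := by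
        apply Quotient.sound
        exact Equiv.Perm.sameCycle_apply_left.2 (Equiv.Perm.SameCycle.refl τ x)
      show Quotient.out _ = Quotient.out _
      rw [this]
    have h1 : (τ ^ (k (τ x))) (r x) = τ x := by rw [← hrr]; exact hk (τ x)
    have h2 : (τ ^ (k x)) (r x) = x := hk x
    have h3 : (τ ^ (k (τ x) - k x - 1)) x = x := by
      have h4 : (τ ^ (- k x)) x = r x := by
        rw [zpow_neg, Equiv.Perm.inv_eq_iff_eq]
        exact h2.symm
      have h5 : (τ ^ (k (τ x) - k x - 1)) x = (τ ^ (-1 : ℤ)) ((τ ^ (k (τ x))) ((τ ^ (- k x)) x)) := by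
        rw [← Equiv.Perm.mul_apply, ← Equiv.Perm.mul_apply, ← zpow_add, ← zpow_add]
        congr 2
        ring
      rw [h5, h4, h1]
      simp
    obtain ⟨m, hm⟩ := hx _ h3
    have h6 : k (τ x) = 1 + k x + p * m := by linarith
    show ζ ^ (k (τ x)) = ζ * ζ ^ (k x)
    rw [h6, zpow_add₀ hζ0, zpow_add₀ hζ0, zpow_mul, zpow_natCast, hζ, one_zpow, mul_one, zpow_one]

theorem memLocalIdeal_sub_one_of_pow_eq_one {M : Ideal AlgInt} {p : ℕ} (hM : IsPModular p M)
    {w : ℂ} (hw : w ^ p = 1) : MemLocalIdeal M (w - 1) := by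
  have := isPrime_of_isPModular hM
  have hp : p.Prime := hM.1
  have hint : IsIntegral ℤ w := IsIntegral.of_pow hp.pos (by rw [hw]; exact isIntegral_one)
  have hwR : MemLocalRing M w := memLocalRing_of_isIntegral hint
  have : Fact p.Prime := ⟨hp⟩
  have := charP_resField hM
  rw [← redC_eq_iff hwR memLocalRing_one, redC_one]
  have h1 : (redC M w) ^ p = 1 := by rw [← redC_pow hwR, hw, redC_one]
  have h2 : (redC M w - 1) ^ p = 0 := by
    rw [sub_pow_char, h1, one_pow, sub_self]
  exact sub_eq_zero.1 (pow_eq_zero_iff hp.ne_zero |>.1 h2)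

end Weight

section InM

variable {G V : Type*} [Group G] [Fintype G] [AddCommGroup V] [Module ℂ V]

/-- `A` is a combination of the `ρ g` with coefficients in the local ideal. -/
def InM (M : Ideal AlgInt) (ρ : Representation ℂ G V) (A : Module.End ℂ V) : Prop :=
  ∃ a : G → ℂ, (∀ g, MemLocalIdeal M (a g)) ∧ A = ∑ g, a g • ρ g

variable {M : Ideal AlgInt} [hP : M.IsPrime] {ρ : Representation ℂ G V} {A B : Module.End ℂ V}

theorem InM.add (hA : InM M ρ A) (hB : InM M ρ B) : InM M ρ (A + B) := by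
  obtain ⟨a, ha, rfl⟩ := hA
  obtain ⟨b, hb, rfl⟩ := hB
  refine ⟨a + b, fun g => memLocalIdeal_add (ha g) (hb g), ?_⟩
  rw [← Finset.sum_add_distrib]
  exact Finset.sum_congr rfl fun g _ => (add_smul _ _ _).symm

theorem inM_zero : InM M ρ 0 := ⟨0, fun _ => memLocalIdeal_zero, by simp⟩

theorem InM.smul (hA : InM M ρ A) {c : ℂ} (hc : MemLocalRing M c) : InM M ρ (c • A) := by
  obtain ⟨a, ha, rfl⟩ := hA
  refine ⟨fun g => c * a g, fun g => memLocalIdeal_mul_left hc (ha g), ?_⟩
  rw [Finset.smul_sum]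
  exact Finset.sum_congr rfl fun g _ => (mul_smul _ _ _).symm

theorem InM.sum {ι : Type*} {s : Finset ι} {F : ι → Module.End ℂ V}
    (h : ∀ i ∈ s, InM M ρ (F i)) : InM M ρ (∑ i ∈ s, F i) := by
  classical
  induction s using Finset.induction_on with
  | empty => simpa using inM_zero
  | insert a s ha ih =>
    rw [Finset.sum_insert ha]
    exact (h a (Finset.mem_insert_self _ _)).add
      (ih fun i hi => h i (Finset.mem_insert_of_mem hi))

theorem inM_smul_rho {c : ℂ} (hc : MemLocalIdeal M c) (g : G) : InM M ρ (c • ρ g) := by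
  classical
  refine ⟨fun x => if x = g then c else 0, fun x => ?_, ?_⟩
  · show MemLocalIdeal M (if x = g then c else 0)
    split_ifs
    · exact hc
    · exact memLocalIdeal_zero
  · simp

theorem InM.rho_mul (hA : InM M ρ A) (g : G) : InM M ρ (ρ g * A) := by
  obtain ⟨a, ha, rfl⟩ := hA
  rw [Finset.mul_sum]
  refine InM.sum fun x _ => ?_
  rw [mul_smul_comm, ← map_mul]
  exact inM_smul_rho (ha x) _

theorem InM.mul_rho (hA : InM M ρ A) (g : G) : InM M ρ (A * ρ g) := by
  obtain ⟨a, ha, rfl⟩ := hA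
  rw [Finset.sum_mul]
  refine InM.sum fun x _ => ?_
  rw [smul_mul_assoc, ← map_mul]
  exact inM_smul_rho (ha x) _

end InM

section Main

variable {G V : Type*} [Group G] [Fintype G] [AddCommGroup V] [Module ℂ V]
  [FiniteDimensional ℂ V]

/-- If `|class of g| * F g` lies in the local ideal for all `g` then so does `∑ g, F g`, for a
class function `F`. -/
theorem memLocalIdeal_sum_classFunction {M : Ideal AlgInt} [M.IsPrime] {F : G → ℂ}
    (hF : IsClassFunction G F)
    (h : ∀ g : G, MemLocalIdeal M (((Subgroup.centralizer ({g} : Set G)).index : ℂ) * F g)) :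
    MemLocalIdeal M (∑ g, F g) := by
  classical
  rw [← Finset.sum_fiberwise Finset.univ (ConjClasses.mk : G → ConjClasses G) F]
  refine memLocalIdeal_sum fun K _ => ?_
  obtain ⟨g, rfl⟩ := ConjClasses.mk_surjective K
  have h1 : ∀ x ∈ Finset.univ.filter (fun x : G => ConjClasses.mk x = ConjClasses.mk g),
      F x = F g := by
    intro x hx
    rw [Finset.mem_filter, ConjClasses.mk_eq_mk_iff_isConj, isConj_comm, isConj_iff] at hx
    obtain ⟨_, c, rfl⟩ := hx
    exact hF g c
  rw [Finset.sum_congr rfl h1, Finset.sum_const, nsmul_eq_mul]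
  have h2 := h g
  rw [Cfsg.Agent.Blocks.Basic.index_centralizer_eq_ncard] at h2
  have h3 : (Finset.univ.filter (fun x : G => ConjClasses.mk x = ConjClasses.mk g)).card =
      {h : G | IsConj g h}.ncard := by
    rw [← Set.ncard_coe_finset]
    congr 1
    ext x
    rw [Finset.mem_coe, Finset.mem_filter, ConjClasses.mk_eq_mk_iff_isConj, isConj_comm]
    exact ⟨fun h => h.2, fun h => ⟨Finset.mem_univ _, h⟩⟩
  rw [h3]
  exact h2

/-- The main statement. -/
theorem main {M : Ideal AlgInt} {p : ℕ} [hp : Fact p.Prime] (hM : IsPModular p M)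
    (ρ : Representation ℂ G V) (hρ : ρ.IsIrreducible)
    (hB : ∀ g : G, MemLocalIdeal M (((Subgroup.centralizer ({g} : Set G)).index : ℂ) -
      ((Subgroup.centralizer ({g} : Set G)).index : ℂ) * ρ.character g / ρ.character 1))
    {u : G} (hu : ∃ k : ℕ, orderOf u = p ^ k) (N : Subgroup G) [Fintype N]
    (hN1 : ∀ n ∈ N, Commute u n) (hN2 : ∀ c : G, Commute u c → ∀ n ∈ N, c * n * c⁻¹ ∈ N)
    (hN3 : (Nat.card N).Coprime p) {v : G} (hv : v ∈ N) :
    ρ.character (u * v) = (Nat.card N : ℂ)⁻¹ * ∑ n : N, ρ.character (u * v * n) := by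
  classical
  have hMp := isPrime_of_isPModular hM
  have hχ1 : ρ.character 1 ≠ 0 := Cfsg.Agent.Characters.Central.char_one_ne_zero ρ hρ
  have hNp : ¬ p ∣ Nat.card N := (Nat.Prime.coprime_iff_not_dvd hp.out).1 hN3.symm
  have hN0 : (Nat.card N : ℂ) ≠ 0 := by exact_mod_cast Nat.card_pos.ne'
  have hNR : MemLocalRing M ((Nat.card N : ℂ)⁻¹) := memLocalRing_inv_natCast hM hNp
  -- the weights
  obtain ⟨ζ, hζ⟩ : ∃ ζ : ℂ, IsPrimitiveRoot ζ p :=
    ⟨_, Complex.isPrimitiveRoot_exp p hp.out.ne_zero⟩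
  have hζ0 : ζ ≠ 0 := hζ.ne_zero hp.out.ne_zero
  have hζ1 : ζ ≠ 1 := hζ.ne_one hp.out.one_lt
  obtain ⟨w, hw1, hw2⟩ := exists_weight (MulAut.conj (u * v)).toEquiv hζ.pow_eq_one hζ0
  have hτ : ∀ (k : ℤ) (x : G), ((MulAut.conj (u * v)).toEquiv ^ k) x =
      (u * v) ^ k * x * ((u * v) ^ k)⁻¹ := by
    intro k x
    have h1 : ((MulAut.conj (u * v)).toEquiv ^ k : Equiv.Perm G) =
        (MulAut.conj ((u * v) ^ k)).toEquiv := by
      have := map_zpow (MulAut.toPerm G) (MulAut.conj (u * v)) k
      rw [map_zpow]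
      exact this.symm
    rw [h1]
    rfl
  have hpart : IsPPart p (u * v) u := by
    refine ⟨v, rfl, hN1 v hv, hu, fun h => hNp (h.trans ?_)⟩
    have := orderOf_dvd_natCard (⟨v, hv⟩ : N)
    rwa [Subgroup.orderOf_mk] at this
  have hw3 : ∀ x : G, ¬ Commute u x → w (u * v * x * (u * v)⁻¹) = ζ * w x := by
    intro x hx
    have := hw2 x fun k hk => ?_
    · exact this
    · by_contra hpk
      obtain ⟨j, hj⟩ := Cfsg.Agent.Blocks.Twist.mem_zpowers_zpow hpart hpk
      rw [hτ, mul_inv_eq_iff_eq_mul] at hk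
      have hk' : Commute ((u * v) ^ k) x := hk
      apply hx
      have h2 : Commute (((u * v) ^ k) ^ j) x := hk'.zpow_left j
      have hj' : ((u * v) ^ k) ^ j = u := hj
      rwa [hj'] at h2
  -- the sum over p-regular elements
  set F : G → ℂ := fun x => if ¬ p ∣ orderOf x then 1 else 0 with hFdef
  have hFc : ∀ x g : G, F (g * x * g⁻¹) = F x := by
    intro x g
    have : orderOf (g * x * g⁻¹) = orderOf x := (MulAut.conj g).orderOf_eq x
    simp only [hFdef, this]
  set κ : ℂ := (∑ g, F g * ρ.character g) / ρ.character 1 with hκdef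
  have hz : ∑ g, F g • ρ g = κ • (1 : Module.End ℂ V) :=
    Cfsg.Agent.Characters.Central.sum_classFun_smul ρ hρ (θ := F) hFc
  have hcard : ∑ g, F g = (Nat.card {x : G // ¬ p ∣ orderOf x} : ℂ) := by
    simp only [hFdef]
    rw [Finset.sum_boole, Nat.card_eq_fintype_card, Fintype.card_subtype]
  have hκ1 : MemLocalIdeal M (∑ g, F g - κ) := by
    have h1 : ∑ g, F g - κ = ∑ g, (F g * (1 - ρ.character g / ρ.character 1)) := by
      rw [hκdef, Finset.sum_div, ← Finset.sum_sub_distrib]
      exact Finset.sum_congr rfl fun g _ => by ring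
    rw [h1]
    refine memLocalIdeal_sum_classFunction ?_ fun g => ?_
    · intro g h
      show F (h * g * h⁻¹) * (1 - ρ.character (h * g * h⁻¹) / ρ.character 1) = _
      rw [hFc g h, Representation.char_conj]
    · have h2 := memLocalIdeal_mul_left (M := M) (z := F g) ?_ (hB g)
      · convert h2 using 1
        ring
      · simp only [hFdef]
        split_ifs <;> first | exact memLocalRing_one | exact memLocalRing_zero
  have hκ2 : ¬ MemLocalIdeal M κ := by
    rw [← memLocalIdeal_iff_of_sub hκ1, hcard, memLocalIdeal_natCast_iff hM]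
    exact Cfsg.Agent.Blocks.RegularCount.not_dvd_card_regular
  have hκR : MemLocalRing M κ := by
    rw [← memLocalRing_iff_of_sub hκ1, hcard]
    exact memLocalRing_natCast _
  have hκ0 : κ ≠ 0 := ne_zero_of_not_memLocalIdeal hκ2
  have hκinv : MemLocalRing M κ⁻¹ := memLocalRing_inv hκR hκ2
  -- the idempotent
  set e : Module.End ℂ V := (Nat.card N : ℂ)⁻¹ • ∑ n : N, ρ n with hedef
  have hρe : ∀ n : N, ρ n * e = e := by
    intro n
    rw [hedef, mul_smul_comm, Finset.mul_sum]
    congr 1
    refine Fintype.sum_equiv (Equiv.mulLeft n) _ _ fun m => ?_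
    rw [← map_mul]; rfl
  have hee : e * e = e := by
    conv_lhs => rw [hedef, smul_mul_assoc, Finset.sum_mul]
    rw [Finset.sum_congr rfl fun n _ => hρe n, Finset.sum_const, Finset.card_univ,
      Fintype.card_eq_nat_card, ← Nat.cast_smul_eq_nsmul ℂ, smul_smul, inv_mul_cancel₀ hN0, one_smul]
  have hce : ∀ c : G, Commute u c → ρ c * e = e * ρ c := by
    intro c hc
    rw [hedef, mul_smul_comm, smul_mul_assoc, Finset.mul_sum, Finset.sum_mul]
    congr 1
    have hc' : ∀ n ∈ N, c⁻¹ * n * c ∈ N := fun n hn => by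
      have := hN2 c⁻¹ (Commute.inv_right hc) n hn
      simpa using this
    refine Fintype.sum_equiv (⟨fun n => ⟨c * n * c⁻¹, hN2 c hc n n.2⟩,
      fun n => ⟨c⁻¹ * n * c, hc' n n.2⟩, fun n => Subtype.ext (by simp; group),
      fun n => Subtype.ext (by simp; group)⟩ : N ≃ N) _ _ fun n => ?_
    rw [← map_mul, ← map_mul]
    congr 1
    simp
  set f : Module.End ℂ V := 1 - e with hfdef
  have hff : f * f = f := by
    rw [hfdef, mul_sub, sub_mul, sub_mul, hee]; simp
  have huv : Commute u (u * v) := (Commute.refl u).mul_right (hN1 v hv)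
  have hcf : ρ (u * v) * f = f * ρ (u * v) := by
    rw [hfdef, mul_sub, sub_mul, hce _ huv, mul_one, one_mul]
  -- the part of the sum on the centralizer is killed by `f`
  set F₁ : G → ℂ := fun x => if Commute u x then F x else 0 with hF₁def
  set F₂ : G → ℂ := fun x => if Commute u x then 0 else F x with hF₂def
  have hF12 : ∀ x, F x = F₁ x + F₂ x := by
    intro x
    simp only [hF₁def, hF₂def]
    split_ifs <;> simp
  have hregN : ∀ x : G, Commute u x → ∀ n ∈ N, ¬ p ∣ orderOf x → ¬ p ∣ orderOf (x * n) := by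
    intro x hx n hn hreg hdvd
    have h1 : ∀ k : ℕ, ∃ m ∈ N, (x * n) ^ k = x ^ k * m := by
      intro k
      induction k with
      | zero => exact ⟨1, N.one_mem, by simp⟩
      | succ k ih =>
        obtain ⟨m, hm, hk⟩ := ih
        refine ⟨x⁻¹ * m * x⁻¹⁻¹ * n, N.mul_mem (hN2 x⁻¹ (Commute.inv_right hx) m hm) hn, ?_⟩
        rw [pow_succ, hk, pow_succ]
        group
    obtain ⟨m, hm, hk⟩ := h1 (orderOf x)
    rw [pow_orderOf_eq_one, one_mul] at hk
    have h2 : (x * n) ^ (orderOf x * Nat.card N) = 1 := by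
      rw [pow_mul, hk]
      have := pow_card_eq_one' (x := (⟨m, hm⟩ : N))
      exact congrArg Subtype.val this
    have h3 := hdvd.trans (orderOf_dvd_of_pow_eq_one h2)
    rcases (Nat.Prime.dvd_mul hp.out).1 h3 with h | h
    · exact hreg h
    · exact hNp h
  have hF₁N : ∀ x : G, ∀ n ∈ N, F₁ (x * n) = F₁ x := by
    intro x n hn
    simp only [hF₁def, hFdef]
    have h1 : Commute u (x * n) ↔ Commute u x := by
      constructor
      · intro h
        have := h.mul_right (hN1 n hn).inv_right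
        simpa using this
      · intro h
        exact h.mul_right (hN1 n hn)
    by_cases hx : Commute u x
    · rw [if_pos hx, if_pos (h1.2 hx)]
      by_cases hr : p ∣ orderOf x
      · have hr' : p ∣ orderOf (x * n) := by
          by_contra hr'
          have := hregN (x * n) (h1.2 hx) n⁻¹ (N.inv_mem hn) hr'
          rw [mul_inv_cancel_right] at this
          exact this hr
        simp [hr, hr']
      · have hr' := hregN x hx n hn hr
        simp [hr, hr']
    · rw [if_neg hx, if_neg (fun h => hx (h1.1 h))]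
  have hz1 : (∑ x, F₁ x • ρ x) * e = ∑ x, F₁ x • ρ x := by
    have h1 : ∀ n : N, (∑ x, F₁ x • ρ x) * ρ n = ∑ x, F₁ x • ρ x := by
      intro n
      rw [Finset.sum_mul]
      refine Fintype.sum_equiv (Equiv.mulRight (n : G)) _ _ fun x => ?_
      rw [smul_mul_assoc, ← map_mul]
      simp only [Equiv.coe_mulRight]
      rw [hF₁N x n n.2]
    rw [hedef, mul_smul_comm, Finset.mul_sum, Finset.sum_congr rfl fun n _ => h1 n,
      Finset.sum_const, Finset.card_univ, Fintype.card_eq_nat_card, ← Nat.cast_smul_eq_nsmul ℂ,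
      smul_smul, inv_mul_cancel₀ hN0, one_smul]
  have hz1f : (∑ x, F₁ x • ρ x) * f = 0 := by
    rw [hfdef, mul_sub, mul_one, hz1, sub_self]
  have hz2f : (∑ x, F₂ x • ρ x) * f = κ • f := by
    have h1 : ∑ x, F x • ρ x = ∑ x, F₁ x • ρ x + ∑ x, F₂ x • ρ x := by
      rw [← Finset.sum_add_distrib]
      exact Finset.sum_congr rfl fun x _ => by rw [hF12 x, add_smul]
    have h2 : (∑ x, F x • ρ x) * f = κ • f := by rw [hz, smul_mul_assoc, one_mul]
    rw [h1, add_mul, hz1f, zero_add] at h2
    exact h2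
  -- the twisted element
  set T : Module.End ℂ V := κ⁻¹ • ∑ x, (F₂ x * w x) • ρ x with hTdef
  have hT : ρ (u * v) * T = ζ⁻¹ • (T * ρ (u * v)) := by
    rw [hTdef, mul_smul_comm, smul_mul_assoc, smul_comm ζ⁻¹]
    congr 1
    rw [Finset.mul_sum, Finset.sum_mul, Finset.smul_sum]
    refine Fintype.sum_equiv (MulAut.conj (u * v)).toEquiv _ _ fun x => ?_
    have hconj : (MulAut.conj (u * v)).toEquiv x = u * v * x * (u * v)⁻¹ := rfl
    rw [hconj, mul_smul_comm, smul_mul_assoc, ← map_mul, ← map_mul, inv_mul_cancel_right, smul_smul]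
    congr 1
    have hcomm : Commute u (u * v * x * (u * v)⁻¹) ↔ Commute u x := by
      constructor
      · intro h
        have := (huv.inv_right.mul_right h).mul_right huv
        have h2 : (u * v)⁻¹ * (u * v * x * (u * v)⁻¹) * (u * v) = x := by group
        rwa [h2] at this
      · intro h
        exact (huv.mul_right h).mul_right huv.inv_right
    simp only [hF₂def]
    by_cases hx : Commute u x
    · rw [if_pos hx, if_pos (hcomm.2 hx)]; ring
    · rw [if_neg hx, if_neg (fun h => hx (hcomm.1 h)), hFc, hw3 x hx]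
      field_simp
  -- the unit
  have hD : InM M ρ (∑ x, (F₂ x * (w x - 1)) • ρ x) := by
    refine ⟨_, fun x => ?_, rfl⟩
    refine memLocalIdeal_mul_left ?_ (memLocalIdeal_sub_one_of_pow_eq_one hM (hw1 x))
    simp only [hF₂def, hFdef]
    split_ifs <;> first | exact memLocalRing_one | exact memLocalRing_zero
  have hEA : ∀ A, InM M ρ A → InM M ρ (e * A) := by
    intro A hA
    rw [hedef, smul_mul_assoc, Finset.sum_mul]
    refine InM.smul ?_ hNR
    exact InM.sum fun n _ => hA.rho_mul (n : G)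
  have hAE : ∀ A, InM M ρ A → InM M ρ (A * e) := by
    intro A hA
    rw [hedef, mul_smul_comm, Finset.mul_sum]
    refine InM.smul ?_ hNR
    exact InM.sum fun n _ => hA.mul_rho (n : G)
  have hneg : ∀ A, InM M ρ A → InM M ρ (-A) := by
    intro A hA
    have := hA.smul (c := -1) (memLocalRing_neg memLocalRing_one)
    simpa using this
  have hFA : ∀ A, InM M ρ A → InM M ρ (f * A * f) := by
    intro A hA
    have h1 : f * A * f = A + -(e * A) + -(A * e) + e * A * e := by
      rw [hfdef]; noncomm_ring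
    rw [h1]
    exact (((hA.add (hneg _ (hEA _ hA))).add (hneg _ (hAE _ hA)))).add (hAE _ (hEA _ hA))
  have hUeq : f * T * f + (1 - f) = 1 + κ⁻¹ • (f * (∑ x, (F₂ x * (w x - 1)) • ρ x) * f) := by
    have h1 : ∑ x, (F₂ x * (w x - 1)) • ρ x = ∑ x, (F₂ x * w x) • ρ x - ∑ x, F₂ x • ρ x := by
      rw [← Finset.sum_sub_distrib]
      refine Finset.sum_congr rfl fun x _ => ?_
      rw [mul_sub, mul_one, sub_smul]
    have h2 : f * (∑ x, F₂ x • ρ x) * f = κ • f := by
      rw [mul_assoc, hz2f, mul_smul_comm, hff]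
    have h3 : f * (∑ x, (F₂ x * w x) • ρ x - ∑ x, F₂ x • ρ x) * f =
        f * (∑ x, (F₂ x * w x) • ρ x) * f - κ • f := by
      rw [← h2]; noncomm_ring
    rw [h1, h3, smul_sub, smul_smul, inv_mul_cancel₀ hκ0, one_smul, hTdef,
      mul_smul_comm, smul_mul_assoc]
    abel
  have hU : IsUnit (f * T * f + (1 - f)) := by
    rw [hUeq]
    obtain ⟨a, ha, hae⟩ := (hFA _ hD).smul hκinv
    rw [hae]
    exact isUnit_one_add ρ a ha
  have hζ1' : ζ⁻¹ ≠ 1 := by
    intro h
    exact hζ1 (inv_eq_one.1 h)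
  have hfinal := trace_eq_zero_of_twist hζ1' hff hcf hT hU
  rw [hfdef, mul_sub, mul_one, map_sub, sub_eq_zero] at hfinal
  change ρ.character (u * v) = _ at hfinal
  rw [hfinal, hedef, mul_smul_comm, map_smul, Finset.mul_sum, map_sum, smul_eq_mul]
  congr 1
  refine Finset.sum_congr rfl fun n _ => ?_
  rw [← map_mul]
  rfl

end Main

end Cfsg.Agent.Blocks.PrincipalConst
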