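import Mathlib.GroupTheory.Sylow
import Mathlib.GroupTheory.Nilpotent
import Mathlib.GroupTheory.Subgroup.Centralizer

/-!
Sylow subgroups of subgroups, phrased through the image in the big group.
-/

set_option autoImplicit false

namespace Cfsg.Agent.Blocks.SylowIn

variable {G : Type*} [Group G]

/-- `P` is (the image of) a Sylow `p`-subgroup of `K` iff it is a maximal `p`-subgroup of `K`. -/
theorem exists_sylow_map_eq_iff {p : ℕ} {K P : Subgroup G} :
    (∃ S : Sylow p K, (S : Subgroup K).map K.subtype = P) ↔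
      (P ≤ K ∧ IsPGroup p P ∧ ∀ Q : Subgroup G, Q ≤ K → IsPGroup p Q → P ≤ Q → Q = P) := by
  constructor
  · rintro ⟨S, rfl⟩
    refine ⟨Subgroup.map_subtype_le _, S.isPGroup'.map _, ?_⟩
    intro Q hQK hQ hPQ
    have h1 : (S : Subgroup K) ≤ Q.subgroupOf K := by
      intro x hx
      rw [Subgroup.mem_subgroupOf]
      exact hPQ ⟨x, hx, rfl⟩
    have h2 : IsPGroup p (Q.subgroupOf K) := hQ.comap_subtype
    have h3 := S.is_maximal' h2 h1
    have h4 : (Q.subgroupOf K).map K.subtype = Q := by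
      rw [Subgroup.subgroupOf_map_subtype]
      exact inf_eq_left.mpr hQK
    rw [← h4, h3]
  · rintro ⟨hPK, hP, hmax⟩
    have h4 : (P.subgroupOf K).map K.subtype = P := by
      rw [Subgroup.subgroupOf_map_subtype]
      exact inf_eq_left.mpr hPK
    refine ⟨⟨P.subgroupOf K, hP.comap_subtype, ?_⟩, h4⟩
    intro Q hQ hle
    have h5 : P ≤ Q.map K.subtype := by
      rw [← h4]
      exact Subgroup.map_mono hle
    have h6 := hmax (Q.map K.subtype) (Subgroup.map_subtype_le _) (hQ.map _) h5
    have h7 : Q = (Q.map K.subtype).subgroupOf K := by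
      rw [Subgroup.subgroupOf, Subgroup.comap_map_eq_self_of_injective K.subtype_injective]
    rw [h7, h6]

/-- The order of a Sylow `p`-subgroup of `K`, viewed in `G`. -/
theorem card_of_sylow_map_eq [Finite G] {p : ℕ} [Fact p.Prime] {K P : Subgroup G}
    (h : ∃ S : Sylow p K, (S : Subgroup K).map K.subtype = P) :
    Nat.card P = p ^ (Nat.card K).factorization p := by
  obtain ⟨S, rfl⟩ := h
  rw [← S.card_eq_multiplicity]
  exact (Nat.card_congr ((S : Subgroup K).equivMapOfInjective K.subtype K.subtype_injective).toEquiv).symm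

/-- A subgroup of `K` of the right order is a Sylow `p`-subgroup. -/
theorem exists_sylow_map_eq_of_card [Finite G] {p : ℕ} [Fact p.Prime] {K P : Subgroup G}
    (hPK : P ≤ K) (h : Nat.card P = p ^ (Nat.card K).factorization p) :
    ∃ S : Sylow p K, (S : Subgroup K).map K.subtype = P := by
  have h1 : Nat.card (P.subgroupOf K) = p ^ (Nat.card K).factorization p := by
    rw [← h]
    exact Nat.card_congr (Subgroup.subgroupOfEquivOfLe hPK).toEquiv
  refine ⟨Sylow.ofCard (P.subgroupOf K) h1, ?_⟩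
  rw [Sylow.coe_ofCard, Subgroup.subgroupOf_map_subtype]
  exact inf_eq_left.mpr hPK

/-- Two Sylow `p`-subgroups of `K` are conjugate by an element of `K`. -/
theorem exists_conj_of_sylow_map_eq [Finite G] {p : ℕ} [Fact p.Prime] {K P Q : Subgroup G}
    (hP : ∃ S : Sylow p K, (S : Subgroup K).map K.subtype = P)
    (hQ : ∃ S : Sylow p K, (S : Subgroup K).map K.subtype = Q) :
    ∃ k ∈ K, P.map (MulAut.conj k).toMonoidHom = Q := by
  obtain ⟨S, rfl⟩ := hP
  obtain ⟨T, rfl⟩ := hQ
  obtain ⟨k, hk⟩ := MulAction.exists_smul_eq K S T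
  refine ⟨k, k.2, ?_⟩
  rw [← hk]
  ext x
  constructor
  · rintro ⟨y, ⟨z, hz, rfl⟩, rfl⟩
    refine ⟨k * z * k⁻¹, ?_, ?_⟩
    · rw [Sylow.smul_def]
      exact ⟨z, hz, rfl⟩
    · rfl
  · rintro ⟨y, hy, rfl⟩
    rw [Sylow.smul_def] at hy
    obtain ⟨z, hz, rfl⟩ := hy
    exact ⟨z, ⟨z, hz, rfl⟩, rfl⟩

theorem centralizer_singleton_conj (g x : G) :
    (Subgroup.centralizer ({g} : Set G)).map (MulAut.conj x).toMonoidHom =
      Subgroup.centralizer ({x * g * x⁻¹} : Set G) := by
  ext y
  constructor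
  · rintro ⟨z, hz, rfl⟩
    rw [SetLike.mem_coe, Subgroup.mem_centralizer_singleton_iff] at hz
    rw [Subgroup.mem_centralizer_singleton_iff]
    simp only [MulEquiv.toMonoidHom_eq_coe, MonoidHom.coe_coe, MulAut.conj_apply]
    calc x * z * x⁻¹ * (x * g * x⁻¹) = x * (z * g) * x⁻¹ := by group
      _ = x * (g * z) * x⁻¹ := by rw [hz]
      _ = x * g * x⁻¹ * (x * z * x⁻¹) := by group
  · intro hy
    rw [Subgroup.mem_centralizer_singleton_iff] at hy
    refine ⟨x⁻¹ * y * x, ?_, ?_⟩
    · rw [SetLike.mem_coe, Subgroup.mem_centralizer_singleton_iff]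
      calc x⁻¹ * y * x * g = x⁻¹ * (y * (x * g * x⁻¹)) * x := by group
        _ = x⁻¹ * ((x * g * x⁻¹) * y) * x := by rw [hy]
        _ = g * (x⁻¹ * y * x) := by group
    · simp only [MulEquiv.toMonoidHom_eq_coe, MonoidHom.coe_coe, MulAut.conj_apply]
      group

theorem card_centralizer_singleton_conj (g x : G) :
    Nat.card (Subgroup.centralizer ({x * g * x⁻¹} : Set G)) =
      Nat.card (Subgroup.centralizer ({g} : Set G)) := by
  rw [← centralizer_singleton_conj]
  exact (Nat.card_congr ((Subgroup.centralizer ({g} : Set G)).equivMapOfInjective _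
    (MulAut.conj x).injective).toEquiv).symm

theorem card_centralizer_of_isConj {g h : G} (hc : IsConj g h) :
    Nat.card (Subgroup.centralizer ({h} : Set G)) =
      Nat.card (Subgroup.centralizer ({g} : Set G)) := by
  obtain ⟨x, hx⟩ := isConj_iff.mp hc
  rw [← hx]
  exact card_centralizer_singleton_conj g x

/-- Normalizers grow: a `p`-subgroup `P` contained in a `p`-subgroup `Q` of a finite group,
such that every element of `Q` normalizing `P` is in `P`, equals `Q`. -/
theorem eq_of_normalizer_inf_le [Finite G] {p : ℕ} [Fact p.Prime] {P Q : Subgroup G}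
    (hQ : IsPGroup p Q) (hPQ : P ≤ Q) (h : Subgroup.normalizer (P : Set G) ⊓ Q ≤ P) : Q = P := by
  have : Group.IsNilpotent Q := hQ.isNilpotent
  have hnc := Group.normalizerCondition_of_isNilpotent (G := Q)
  by_contra hne
  have hlt : P.subgroupOf Q < ⊤ := by
    rw [lt_top_iff_ne_top]
    intro htop
    apply hne
    exact le_antisymm (Subgroup.subgroupOf_eq_top.mp htop) hPQ
  have h2 := hnc _ hlt
  have h3 := SetLike.exists_of_lt h2
  obtain ⟨x, hx, hxn⟩ := h3
  apply hxn
  rw [Subgroup.mem_subgroupOf]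
  apply h
  refine Subgroup.mem_inf.mpr ⟨?_, x.2⟩
  rw [Subgroup.mem_normalizer_iff]
  rw [Subgroup.mem_normalizer_iff] at hx
  intro y
  constructor
  · intro hy
    have := (hx ⟨y, hPQ hy⟩).mp (by rw [Subgroup.mem_subgroupOf]; exact hy)
    rw [Subgroup.mem_subgroupOf] at this
    exact this
  · intro hy
    have hyQ : y ∈ Q := by
      have h5 : (x : G) * y * (x : G)⁻¹ ∈ Q := hPQ hy
      have h6 := Q.mul_mem (Q.mul_mem (Q.inv_mem x.2) h5) x.2
      have h7 : (x : G)⁻¹ * ((x : G) * y * (x : G)⁻¹) * x = y := by group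
      rwa [h7] at h6
    have := (hx ⟨y, hyQ⟩).mpr (by rw [Subgroup.mem_subgroupOf]; exact hy)
    rw [Subgroup.mem_subgroupOf] at this
    exact this

end Cfsg.Agent.Blocks.SylowIn
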