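import Mathlib
import Cfsg.Prelude.Def_Blocks
import Cfsg.Agent.Blocks.Orthogonality

/-!
# The block part of a class function through the block idempotent

`blockPart b ϑ y = ∑ k, blockCoeff b k * ϑ (k * y)` for a class function `ϑ`.
-/

set_option autoImplicit false

open Cfsg
open scoped ComplexConjugate

namespace Cfsg.Agent.Blocks.BlockPart

open Cfsg.Agent.Blocks.Orthogonality

variable {G : Type*} [Group G]

/-- `∑ k, ψ 1 * conj (ψ k) * ϑ (k * y) = ∑ c, ϑ c * conj (ψ c) * ψ y`. -/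
theorem sum_conj_irr_mul [Fintype G] {ψ : G → ℂ} (hψ : IsIrrCharacter G ψ) {ϑ : G → ℂ}
    (hϑ : IsClassFunction G ϑ) (y : G) :
    ∑ k, ψ 1 * conj (ψ k) * ϑ (k * y) = (∑ c, ϑ c * conj (ψ c)) * ψ y := by
  have hne : (Nat.card G : ℂ) ≠ 0 := by exact_mod_cast Nat.card_pos.ne'
  have hψ1 := Cfsg.Agent.Blocks.Basic.irr_one_ne_zero hψ
  -- substitute `k = c * y⁻¹`
  have h1 : ∑ k, ψ 1 * conj (ψ k) * ϑ (k * y) = ∑ c, ϑ c * (ψ 1 * ψ (y * c⁻¹)) := by
    refine Fintype.sum_equiv (Equiv.mulRight y) _ _ fun k => ?_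
    simp only [Equiv.coe_mulRight]
    rw [← irr_apply_inv hψ, mul_inv_rev, mul_inv_cancel_left]
    ring
  -- average over conjugates
  have h2 : ∀ a : G, ∑ c, ϑ c * (ψ 1 * ψ (y * c⁻¹)) =
      ∑ c, ϑ c * (ψ 1 * ψ (a * c⁻¹ * a⁻¹ * y)) := by
    intro a
    symm
    refine Fintype.sum_equiv (MulAut.conj a).toEquiv _ _ fun c => ?_
    simp only [MulEquiv.toEquiv_eq_coe, EquivLike.coe_coe, MulAut.conj_apply]
    rw [hϑ, Cfsg.Agent.Blocks.Basic.irr_mul_comm hψ y]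
    congr 4
    group
  have h3 : (Nat.card G : ℂ) * ∑ c, ϑ c * (ψ 1 * ψ (y * c⁻¹)) =
      (Nat.card G : ℂ) * ((∑ c, ϑ c * conj (ψ c)) * ψ y) := by
    have h4 : (Nat.card G : ℂ) * ∑ c, ϑ c * (ψ 1 * ψ (y * c⁻¹)) =
        ∑ a : G, ∑ c, ϑ c * (ψ 1 * ψ (a * c⁻¹ * a⁻¹ * y)) := by
      rw [← Finset.sum_congr rfl fun a _ => h2 a, Finset.sum_const, Finset.card_univ,
        Fintype.card_eq_nat_card, nsmul_eq_mul]
    rw [h4, Finset.sum_comm, Finset.sum_mul, Finset.mul_sum]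
    refine Finset.sum_congr rfl fun c _ => ?_
    rw [← Finset.mul_sum, ← Finset.mul_sum,
      Cfsg.Agent.Characters.Central.sum_char_conj_mul hψ, irr_apply_inv hψ]
    field_simp
  rw [h1]
  exact mul_left_cancel₀ hne h3

/-- The block part of a class function through the block idempotent. -/
theorem blockPart_eq_sum [Finite G] [Fintype G] (b : Set (IrrCharacter G)) {ϑ : G → ℂ}
    (hϑ : IsClassFunction G ϑ) (y : G) :
    blockPart b ϑ y = ∑ k, blockCoeff b k * ϑ (k * y) := by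
  classical
  have : Finite (IrrCharacter G) := S0909.finite_irr
  have := Fintype.ofFinite (IrrCharacter G)
  have h1 : blockPart b ϑ y = ∑ᶠ χ ∈ b, classInner ϑ (χ : G → ℂ) * (χ : G → ℂ) y := by
    unfold blockPart
    refine finsum_mem_congr rfl fun χ _ => ?_
    congr 1
    convert rfl
  rw [h1, Cfsg.Agent.Blocks.Orthogonality.finsum_mem_eq_sum_filter]
  have h2 : ∀ k, blockCoeff b k * ϑ (k * y) = (Nat.card G : ℂ)⁻¹ *
      ∑ χ : IrrCharacter G with χ ∈ b, (χ : G → ℂ) 1 * conj ((χ : G → ℂ) k) * ϑ (k * y) := by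
    intro k
    rw [blockCoeff_eq_sum, mul_assoc, Finset.sum_mul]
  rw [Finset.sum_congr rfl fun k _ => h2 k, ← Finset.mul_sum, Finset.sum_comm, Finset.mul_sum]
  refine Finset.sum_congr rfl fun χ _ => ?_
  rw [sum_conj_irr_mul χ.2 hϑ, Blocks.Basic.classInner_def]
  ring

end Cfsg.Agent.Blocks.BlockPart
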