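import Mathlib
import Cfsg.Prelude.Def_Blocks

/-!
# Induced central characters

`centralChar_indFun`: the central character of an induced function is the induced central
character.  `inducedCentralChar_eq_sum`: the induced central character as a sum of central
characters over the classes of `H` inside the class of `g`.
-/

set_option autoImplicit false

namespace Cfsg.Agent.Blocks.Induced

open Cfsg
open scoped ComplexConjugate

universe u

section LocalIdeal

variable {M : Ideal AlgInt}

theorem memLocalIdeal_add (hM : M.IsPrime) {z w : ℂ} (hz : MemLocalIdeal M z)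
    (hw : MemLocalIdeal M w) : MemLocalIdeal M (z + w) := by
  obtain ⟨a, b, ha, hb, rfl⟩ := hz
  obtain ⟨c, d, hc, hd, rfl⟩ := hw
  have hb0 : (b : ℂ) ≠ 0 := fun h => hb (by
    have : b = 0 := Subtype.ext h
    rw [this]; exact M.zero_mem)
  have hd0 : (d : ℂ) ≠ 0 := fun h => hd (by
    have : d = 0 := Subtype.ext h
    rw [this]; exact M.zero_mem)
  refine ⟨a * d + c * b, b * d, M.add_mem (M.mul_mem_right _ ha) (M.mul_mem_right _ hc), ?_, ?_⟩
  · intro h
    rcases hM.mem_or_mem h with h | h
    · exact hb h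
    · exact hd h
  · push_cast
    field_simp

theorem memLocalIdeal_zero (hM : M.IsPrime) : MemLocalIdeal M 0 :=
  ⟨0, 1, M.zero_mem, fun h => hM.ne_top ((Ideal.eq_top_iff_one M).2 h), by simp⟩

theorem memLocalIdeal_neg {z : ℂ} (hz : MemLocalIdeal M z) : MemLocalIdeal M (-z) := by
  obtain ⟨a, b, ha, hb, rfl⟩ := hz
  exact ⟨-a, b, M.neg_mem ha, hb, by push_cast; ring⟩

theorem memLocalIdeal_sub (hM : M.IsPrime) {z w : ℂ} (hz : MemLocalIdeal M z)
    (hw : MemLocalIdeal M w) : MemLocalIdeal M (z - w) := by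
  rw [sub_eq_add_neg]
  exact memLocalIdeal_add hM hz (memLocalIdeal_neg hw)

theorem memLocalIdeal_sum (hM : M.IsPrime) {ι : Type*} (s : Finset ι) (f : ι → ℂ)
    (h : ∀ i ∈ s, MemLocalIdeal M (f i)) : MemLocalIdeal M (∑ i ∈ s, f i) := by
  classical
  induction s using Finset.induction_on with
  | empty => simpa using memLocalIdeal_zero hM
  | insert a s ha ih =>
    rw [Finset.sum_insert ha]
    exact memLocalIdeal_add hM (h a (Finset.mem_insert_self _ _))
      (ih fun i hi => h i (Finset.mem_insert_of_mem hi))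

end LocalIdeal

section Sums

variable {G : Type*} [Group G]

/-- Sum over conjugates as a sum over the class. -/
theorem sum_conj_eq [Fintype G] (F : G → ℂ) (g : G) :
    ∑ x : G, F (x⁻¹ * g * x) =
      (Nat.card (Subgroup.centralizer ({g} : Set G)) : ℂ) * ∑ᶠ y ∈ {y : G | IsConj g y}, F y := by
  classical
  have h1 : ∑ x : G, F (x⁻¹ * g * x) =
      ∑ y : G, (((Finset.univ.filter fun x : G => x⁻¹ * g * x = y).card : ℕ) : ℂ) * F y := by
    rw [← Finset.sum_fiberwise (Finset.univ) (fun x : G => x⁻¹ * g * x)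
      (fun x : G => F (x⁻¹ * g * x))]
    refine Finset.sum_congr rfl fun y _ => ?_
    rw [Finset.sum_congr rfl (g := fun _ => F y) (fun x hx => by
      rw [(Finset.mem_filter.1 hx).2])]
    rw [Finset.sum_const, nsmul_eq_mul]
  have h2 : ∀ y : G, IsConj g y → (Finset.univ.filter fun x : G => x⁻¹ * g * x = y).card =
      Nat.card (Subgroup.centralizer ({g} : Set G)) := by
    intro y hy
    obtain ⟨c, hc⟩ := isConj_iff.1 hy
    rw [← Fintype.card_subtype, ← Nat.card_eq_fintype_card]
    refine Nat.card_congr ⟨fun x => ⟨(x : G) * c, ?_⟩, fun z => ⟨(z : G) * c⁻¹, ?_⟩, ?_, ?_⟩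
    · obtain ⟨x, hx⟩ := x
      rw [Subgroup.mem_centralizer_singleton_iff]
      have : x⁻¹ * g * x = c * g * c⁻¹ := by rw [hx, hc]
      calc x * c * g = x * (c * g * c⁻¹) * c := by group
        _ = x * (x⁻¹ * g * x) * c := by rw [this]
        _ = g * (x * c) := by group
    · obtain ⟨z, hz⟩ := z
      rw [Subgroup.mem_centralizer_singleton_iff] at hz
      rw [← hc]
      calc (z * c⁻¹)⁻¹ * g * (z * c⁻¹) = c * z⁻¹ * (g * z) * c⁻¹ := by group
        _ = c * z⁻¹ * (z * g) * c⁻¹ := by rw [hz]
        _ = c * g * c⁻¹ := by group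
    · intro x; ext; simp
    · intro x; ext; simp
  have h3 : ∀ y : G, ¬ IsConj g y → (Finset.univ.filter fun x : G => x⁻¹ * g * x = y).card = 0 := by
    intro y hy
    rw [Finset.card_eq_zero, Finset.filter_eq_empty_iff]
    intro x _ hx
    exact hy (isConj_iff.2 ⟨x⁻¹, by rw [← hx]; group⟩)
  rw [h1, finsum_mem_eq_finite_toFinset_sum _ (Set.toFinite _), Finset.mul_sum]
  symm
  refine Finset.sum_subset_zero_on_sdiff (Finset.subset_univ _) ?_ ?_
  · intro y hy
    have : ¬ IsConj g y := by simpa using hy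
    rw [h3 y this]; simp
  · intro y hy
    have : IsConj g y := by simpa using hy
    rw [h2 y this]

/-- The central character of an induced function is the induced central character. -/
theorem centralChar_indFun [Fintype G] (H : Subgroup G) (ξ : H → ℂ) (g : G) :
    centralChar (indFun H ξ) g = inducedCentralChar H ξ g := by
  classical
  have hG : (Nat.card G : ℂ) ≠ 0 := by
    exact_mod_cast Nat.card_pos.ne'
  have hH : (Nat.card H : ℂ) ≠ 0 := by
    exact_mod_cast Nat.card_pos.ne'
  have hext : ∀ h : H, extendByZero H ξ (h : G) = ξ h := fun h =>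
    Function.Injective.extend_apply Subtype.val_injective _ _ _
  have h0 : ∀ x : G, x ∉ H → extendByZero H ξ x = 0 := by
    intro x hx
    unfold extendByZero
    rw [Function.extend_apply']
    · rfl
    · rintro ⟨a, rfl⟩; exact hx a.2
  have e1 : indFun H ξ 1 = (Nat.card H : ℂ)⁻¹ * ((Nat.card G : ℂ) * ξ 1) := by
    unfold indFun
    congr 1
    have : ∀ x : G, extendByZero H ξ (x⁻¹ * 1 * x) = ξ 1 := by
      intro x
      rw [mul_one, inv_mul_cancel]
      exact hext 1
    rw [Finset.sum_congr rfl fun x _ => this x, Finset.sum_const, nsmul_eq_mul,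
      Finset.card_univ, ← Nat.card_eq_fintype_card]
  have e2 : indFun H ξ g = (Nat.card H : ℂ)⁻¹ *
      ((Nat.card (Subgroup.centralizer ({g} : Set G)) : ℂ) *
        ∑ᶠ y ∈ {y : G | IsConj g y}, extendByZero H ξ y) := by
    unfold indFun
    rw [sum_conj_eq]
  have e3 : ∑ᶠ y ∈ {y : G | IsConj g y}, extendByZero H ξ y =
      ∑ᶠ h ∈ {h : H | IsConj g (h : G)}, ξ h := by
    rw [← finsum_mem_inter_support]
    have : {y : G | IsConj g y} ∩ Function.support (extendByZero H ξ) ⊆
        ((fun h : H => (h : G)) '' {h : H | IsConj g (h : G)}) := by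
      rintro y ⟨hy, hy'⟩
      by_cases hyH : y ∈ H
      · exact ⟨⟨y, hyH⟩, hy, rfl⟩
      · exact absurd (h0 y hyH) hy'
    have h4 : ∑ᶠ y ∈ {y : G | IsConj g y} ∩ Function.support (extendByZero H ξ),
        extendByZero H ξ y = ∑ᶠ y ∈ ((fun h : H => (h : G)) '' {h : H | IsConj g (h : G)}),
          extendByZero H ξ y := by
      rw [← finsum_mem_inter_support (f := extendByZero H ξ)
        (s := (fun h : H => (h : G)) '' {h : H | IsConj g (h : G)})]
      refine finsum_mem_congr (Set.ext fun y => ?_) fun _ _ => rfl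
      constructor
      · rintro ⟨a, b⟩
        exact ⟨this ⟨a, b⟩, b⟩
      · rintro ⟨⟨h, hh, rfl⟩, b⟩
        exact ⟨hh, b⟩
    rw [h4, finsum_mem_image (fun a _ b _ hab => Subtype.ext hab)]
    refine finsum_mem_congr rfl fun h _ => hext h
  have e4 : ((Subgroup.centralizer ({g} : Set G)).index : ℂ) *
      (Nat.card (Subgroup.centralizer ({g} : Set G)) : ℂ) = Nat.card G := by
    exact_mod_cast Subgroup.index_mul_card _
  unfold centralChar inducedCentralChar
  rw [e1, e2, e3]
  rw [finsum_mem_eq_finite_toFinset_sum _ (Set.toFinite _),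
    finsum_mem_eq_finite_toFinset_sum _ (Set.toFinite _), ← Finset.sum_div]
  set S := ∑ h ∈ (Set.toFinite {h : H | IsConj g (h : G)}).toFinset, ξ h
  rw [show ((Subgroup.centralizer ({g} : Set G)).index : ℂ) * ((Nat.card H : ℂ)⁻¹ *
      ((Nat.card (Subgroup.centralizer ({g} : Set G)) : ℂ) * S)) =
      (Nat.card H : ℂ)⁻¹ * (((Subgroup.centralizer ({g} : Set G)).index : ℂ) *
      (Nat.card (Subgroup.centralizer ({g} : Set G)) : ℂ)) * S by ring, e4,
    ← mul_assoc, mul_div_mul_left]
  exact mul_ne_zero (inv_ne_zero hH) hG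

/-- The class of `g` has as many elements as the index of the centralizer. -/
theorem ncard_conj_eq_index [Finite G] (g : G) :
    Set.ncard {y : G | IsConj g y} = (Subgroup.centralizer ({g} : Set G)).index := by
  classical
  have := Fintype.ofFinite G
  have h := sum_conj_eq (fun _ : G => (1 : ℂ)) g
  rw [finsum_mem_eq_finite_toFinset_sum _ (Set.toFinite _)] at h
  simp only [Finset.sum_const, nsmul_eq_mul, mul_one, Finset.card_univ] at h
  have h' : Nat.card G = Nat.card (Subgroup.centralizer ({g} : Set G)) *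
      (Set.ncard {y : G | IsConj g y}) := by
    rw [Set.ncard_eq_toFinset_card _ (Set.toFinite _), Nat.card_eq_fintype_card]
    exact_mod_cast h
  rw [← Subgroup.index_mul_card (Subgroup.centralizer ({g} : Set G)), mul_comm] at h'
  exact (Nat.eq_of_mul_eq_mul_left Nat.card_pos h').symm

/-- The induced central character is a sum of central characters, over representatives of the
classes of `H` inside the class of `g`. -/
theorem inducedCentralChar_eq_sum [Finite G] (H : Subgroup G) :
    ∀ g : G, ∃ s : Finset H, ∀ ξ : H → ℂ, IsClassFunction H ξ →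
      inducedCentralChar H ξ g = ∑ h ∈ s, centralChar ξ h := by
  classical
  intro g
  have := Fintype.ofFinite G
  have : Fintype (ConjClasses H) := Fintype.ofFinite _
  set T : Finset H := (Set.toFinite {h : H | IsConj g (h : G)}).toFinset with hT
  have hTmem : ∀ h : H, h ∈ T ↔ IsConj g (h : G) := by intro h; simp [hT]
  let r : ConjClasses H → H := fun c => Quotient.out c
  have hr : ∀ c : ConjClasses H, ConjClasses.mk (r c) = c := fun c => Quotient.out_eq c
  refine ⟨(T.image ConjClasses.mk).image r, ?_⟩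
  intro ξ hξ
  have hrinj : Function.Injective r := fun a b hab => by rw [← hr a, ← hr b, hab]
  rw [Finset.sum_image (fun a _ b _ hab => hrinj hab)]
  unfold inducedCentralChar
  rw [finsum_mem_eq_finite_toFinset_sum _ (Set.toFinite _), ← hT]
  rw [← Finset.sum_fiberwise_of_maps_to (s := T) (t := T.image ConjClasses.mk)
    (g := ConjClasses.mk) (fun x hx => Finset.mem_image_of_mem _ hx) (fun h => ξ h / ξ 1)]
  refine Finset.sum_congr rfl fun c hc => ?_
  obtain ⟨h₀, hh₀, rfl⟩ := Finset.mem_image.1 hc
  have hmk : IsConj (r (ConjClasses.mk h₀)) h₀ :=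
    ConjClasses.mk_eq_mk_iff_isConj.1 (hr (ConjClasses.mk h₀))
  set c₀ := r (ConjClasses.mk h₀) with hc₀
  have hval : ∀ y : H, IsConj c₀ y → ξ y = ξ c₀ := by
    intro y hy
    obtain ⟨x, hx⟩ := isConj_iff.1 hy
    rw [← hx, hξ]
  rw [Finset.sum_congr rfl (g := fun _ => ξ c₀ / ξ 1) (fun y hy => by
    have h1 := (Finset.mem_filter.1 hy).2
    have h2 : IsConj c₀ y := by
      rw [← ConjClasses.mk_eq_mk_iff_isConj, h1, hc₀, hr]
    rw [hval y h2])]
  rw [Finset.sum_const, nsmul_eq_mul]
  have hcard : (T.filter fun y => ConjClasses.mk y = ConjClasses.mk h₀).card =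
      (Subgroup.centralizer ({c₀} : Set H)).index := by
    rw [← ncard_conj_eq_index, Set.ncard_eq_toFinset_card _ (Set.toFinite _)]
    congr 1
    ext y
    simp only [Finset.mem_filter, Set.Finite.mem_toFinset, Set.mem_ofPred_eq, hTmem]
    constructor
    · rintro ⟨_, h1⟩
      rw [← ConjClasses.mk_eq_mk_iff_isConj, h1, hc₀, hr]
    · intro h1
      have h2 : IsConj h₀ y := hmk.symm.trans h1
      refine ⟨?_, (ConjClasses.mk_eq_mk_iff_isConj.2 h2).symm⟩
      have h3 : IsConj g (h₀ : G) := (hTmem _).1 hh₀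
      refine h3.trans ?_
      obtain ⟨x, hx⟩ := isConj_iff.1 h2
      exact isConj_iff.2 ⟨(x : G), by rw [← hx]; rfl⟩
  rw [hcard]
  unfold centralChar
  ring

end Sums

theorem isClassFunction_of_isIrrCharacter {G : Type*} [Group G] {χ : G → ℂ}
    (h : IsIrrCharacter G χ) : IsClassFunction G χ := by
  obtain ⟨n, ρ, _, rfl⟩ := h
  intro g x
  exact ρ.char_conj g x

/-- Members of the same block have induced central characters in the same residue class. -/
theorem memLocalIdeal_induced_sub {G : Type*} [Group G] [Finite G] {M : Ideal AlgInt}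
    (hM : M.IsPrime) (H : Subgroup G) (ξ η : IrrCharacter H)
    (h : SameBlock M (ξ : H → ℂ) (η : H → ℂ)) (g : G) :
    MemLocalIdeal M (inducedCentralChar H (ξ : H → ℂ) g - inducedCentralChar H (η : H → ℂ) g) := by
  obtain ⟨s, hs⟩ := inducedCentralChar_eq_sum H g
  rw [hs _ (isClassFunction_of_isIrrCharacter ξ.2), hs _ (isClassFunction_of_isIrrCharacter η.2),
    ← Finset.sum_sub_distrib]
  exact memLocalIdeal_sum hM _ _ fun i _ => h i

theorem sameBlock_refl {G : Type*} [Group G] {M : Ideal AlgInt} (hM : M.IsPrime) (χ : G → ℂ) :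
    SameBlock M χ χ := by
  intro g
  rw [sub_self]
  exact memLocalIdeal_zero hM

end Cfsg.Agent.Blocks.Induced
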