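import Mathlib
import Cfsg.Prelude.Def_Blocks
import Cfsg.Agent.Characters.Core
import Cfsg.Agent.Characters.Values
import Cfsg.Agent.Blocks.Local

/-!
# Frobenius' theorem on the number of p-elements, p-local character form

* `isCharacter_fixedBy` : the permutation character `g ↦ #{x | g • x = x}` is a character.
* `exists_integral_sum_pElements` : for a character `χ` of the finite group `G`, the sum of `χ x`
  over the elements `x` of `p`-power order is `|G|_p` times an algebraic integer.
* `memLocalRing_sum_pElements` : hence `|G|⁻¹` times this sum is a local integer at `M`.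
-/

set_option autoImplicit false

namespace Cfsg.Agent.Blocks.PElements

open Cfsg Representation
open scoped ComplexConjugate

section Perm

variable (G : Type*) [Group G] (X : Type*) [MulAction G X]

/-- The permutation representation on functions. -/
def permRep : Representation ℂ G (X → ℂ) where
  toFun g :=
    { toFun := fun f x => f (g⁻¹ • x)
      map_add' := fun _ _ => rfl
      map_smul' := fun _ _ => rfl }
  map_one' := by
    apply LinearMap.ext; intro f; funext x; simp
  map_mul' a b := by
    apply LinearMap.ext; intro f; funext x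
    simp [mul_smul]

variable {G X}

theorem permRep_apply (g : G) (f : X → ℂ) (x : X) : permRep G X g f x = f (g⁻¹ • x) := rfl

theorem permRep_character [Finite X] (g : G) :
    (permRep G X).character g = (Nat.card (MulAction.fixedBy X g) : ℂ) := by
  classical
  have : Fintype X := Fintype.ofFinite X
  change LinearMap.trace ℂ (X → ℂ) (permRep G X g) = _
  rw [LinearMap.trace_eq_matrix_trace ℂ (Pi.basisFun ℂ X), Matrix.trace]
  have h1 : ∀ x : X, (LinearMap.toMatrix (Pi.basisFun ℂ X) (Pi.basisFun ℂ X)
      (permRep G X g)).diag x = if g • x = x then 1 else 0 := by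
    intro x
    rw [Matrix.diag_apply, LinearMap.toMatrix_apply]
    simp only [Pi.basisFun_apply, Pi.basisFun_repr, permRep_apply, Pi.single_apply]
    congr 1
    rw [eq_iff_iff, inv_smul_eq_iff, eq_comm]
  rw [Finset.sum_congr rfl fun x _ => h1 x, Finset.sum_boole]
  congr 1
  rw [Nat.card_eq_fintype_card, Fintype.card_subtype]
  rfl

theorem isCharacter_fixedBy [Finite X] :
    IsCharacter G (fun g => (Nat.card (MulAction.fixedBy X g) : ℂ)) := by
  have := Characters.Core.isCharacter_of_rep (permRep G X)
  convert this using 1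
  funext g
  exact (permRep_character g).symm

end Perm

section Frobenius

variable {G : Type*} [Group G] [Finite G] {p : ℕ} [hp : Fact p.Prime]

/-- The elements of `p`-power order. -/
def pElements (G : Type*) [Group G] (p : ℕ) : Set G := {x | ∃ k : ℕ, orderOf x = p ^ k}

theorem mem_pElements {x : G} : x ∈ pElements G p ↔ ∃ k : ℕ, orderOf x = p ^ k := Iff.rfl

theorem fixedBy_quotient_of_notMem (P : Sylow p G) {g : G} (hg : g ∉ pElements G p) :
    Nat.card (MulAction.fixedBy (G ⧸ (P : Subgroup G)) g) = 0 := by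
  rw [Nat.card_eq_zero]
  left
  constructor
  rintro ⟨c, hc⟩
  obtain ⟨x, rfl⟩ := QuotientGroup.mk_surjective c
  apply hg
  rw [MulAction.mem_fixedBy, MulAction.Quotient.smul_mk, smul_eq_mul, eq_comm,
    QuotientGroup.eq] at hc
  obtain ⟨k, hk⟩ := (IsPGroup.iff_orderOf.mp P.isPGroup') ⟨_, hc⟩
  rw [Subgroup.orderOf_mk] at hk
  refine ⟨k, ?_⟩
  rw [← hk]
  have : x⁻¹ * (g * x) = MulAut.conj x⁻¹ g := by simp [mul_assoc]
  rw [this]
  exact (MulEquiv.orderOf_eq _ _).symm

theorem not_dvd_fixedBy_quotient (P : Sylow p G) {g : G} (hg : g ∈ pElements G p) :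
    ¬ p ∣ Nat.card (MulAction.fixedBy (G ⧸ (P : Subgroup G)) g) := by
  obtain ⟨k, hk⟩ := hg
  have hpg : IsPGroup p (Subgroup.zpowers g) := by
    rw [IsPGroup.iff_card]
    exact ⟨k, by rw [Nat.card_zpowers, hk]⟩
  have h1 := hpg.card_modEq_card_fixedPoints (α := G ⧸ (P : Subgroup G))
  have h2 : MulAction.fixedPoints (Subgroup.zpowers g) (G ⧸ (P : Subgroup G)) =
      MulAction.fixedBy (G ⧸ (P : Subgroup G)) g := by
    ext c
    constructor
    · intro h
      exact h ⟨g, Subgroup.mem_zpowers g⟩
    · rintro h ⟨y, hy⟩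
      have hle : Subgroup.zpowers g ≤ MulAction.stabilizer G c := by
        rw [Subgroup.zpowers_le]; exact h
      exact hle hy
  rw [h2] at h1
  intro hd
  have h3 : p ∣ Nat.card (G ⧸ (P : Subgroup G)) := by
    rw [← Nat.modEq_zero_iff_dvd] at hd ⊢
    exact h1.trans hd
  exact P.not_dvd_index h3

theorem isCharacter_pow {χ : G → ℂ} (hχ : IsCharacter G χ) (n : ℕ) :
    IsCharacter G (χ ^ n) := by
  induction n with
  | zero => rw [pow_zero]; exact Characters.Core.isCharacter_one
  | succ n ih => rw [pow_succ]; exact Characters.Core.isCharacter_mul ih hχ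

theorem isIntegral_of_isCharacter {χ : G → ℂ} (hχ : IsCharacter G χ) (g : G) :
    IsIntegral ℤ (χ g) := by
  obtain ⟨n, ρ, rfl⟩ := hχ
  exact Characters.Values.character_isIntegral ρ g

open Classical in
/-- **Frobenius**, character form, `p`-part: the sum of a character over the elements of `p`-power
order is the `p`-part of the group order times an algebraic integer. -/
theorem exists_integral_sum_pElements {χ : G → ℂ} (hχ : IsCharacter G χ) :
    ∃ a : ℂ, IsIntegral ℤ a ∧
      ∑ᶠ x ∈ pElements G p, χ x = ((p ^ (Nat.card G).factorization p : ℕ) : ℂ) * a := by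
  have : Fintype G := Fintype.ofFinite G
  obtain ⟨P⟩ : Nonempty (Sylow p G) := inferInstance
  set q : ℕ := p ^ (Nat.card G).factorization p with hq
  set π : G → ℕ := fun g => Nat.card (MulAction.fixedBy (G ⧸ (P : Subgroup G)) g) with hπ
  set N : ℕ := q.totient with hN
  have hqpos : 0 < q := pow_pos hp.out.pos _
  have hNpos : 0 < N := Nat.totient_pos.mpr hqpos
  -- the values of `π ^ N`
  have hval : ∀ g : G, ∃ f : ℤ, ((π g : ℤ)) ^ N = (if g ∈ pElements G p then 1 else 0) +
      (q : ℤ) * f := by
    intro g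
    by_cases hg : g ∈ pElements G p
    · rw [if_pos hg]
      have hcop : (π g).Coprime q := by
        apply Nat.Coprime.pow_right
        rw [Nat.coprime_comm, hp.out.coprime_iff_not_dvd]
        exact not_dvd_fixedBy_quotient P hg
      have h1 : (π g) ^ N ≡ 1 [MOD q] := Nat.ModEq.pow_totient hcop
      have h2 : ((π g : ℤ)) ^ N ≡ 1 [ZMOD q] := by exact_mod_cast (Int.natCast_modEq_iff.mpr h1)
      obtain ⟨f, hf⟩ := h2.symm.dvd
      exact ⟨f, by linarith⟩
    · rw [if_neg hg]
      refine ⟨0, ?_⟩
      rw [show π g = 0 from fixedBy_quotient_of_notMem P hg]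
      simp [hNpos.ne']
  choose f hf using hval
  -- `π ^ N` is a character
  have hπc : IsCharacter G ((fun g => (π g : ℂ)) ^ N) := isCharacter_pow isCharacter_fixedBy N
  -- the inner product of `conj χ` and it
  obtain ⟨m, hm⟩ := Characters.Core.classInner_isNat hπc (Characters.Core.isCharacter_conj hχ)
  have hcard : (Nat.card G : ℂ) ≠ 0 := by exact_mod_cast Nat.card_pos.ne'
  rw [classInner, inv_mul_eq_iff_eq_mul₀ hcard] at hm
  have h1 : ∀ g : G, ((fun g => (π g : ℂ)) ^ N) g * conj (conj (χ g)) =
      (if g ∈ pElements G p then χ g else 0) + (q : ℂ) * ((f g : ℂ) * χ g) := by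
    intro g
    have h2 : ((π g : ℂ)) ^ N = (if g ∈ pElements G p then 1 else 0) + (q : ℂ) * (f g : ℂ) := by
      have := congrArg (fun z : ℤ => (z : ℂ)) (hf g)
      push_cast at this
      rw [this]
    rw [Complex.conj_conj, Pi.pow_apply, h2, add_mul]
    split_ifs <;> ring
  rw [Finset.sum_congr rfl fun g _ => h1 g, Finset.sum_add_distrib, ← Finset.mul_sum] at hm
  have h3 : ∑ᶠ x ∈ pElements G p, χ x = ∑ g : G, if g ∈ pElements G p then χ g else 0 := by
    rw [finsum_mem_def, finsum_eq_sum_of_fintype]
    refine Finset.sum_congr rfl fun g _ => ?_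
    rw [Set.indicator_apply]
  have hdvd : Nat.card G = q * (Nat.card G / q) := (Nat.mul_div_cancel' (Nat.ordProj_dvd _ _)).symm
  refine ⟨((Nat.card G / q : ℕ) : ℂ) * (m : ℂ) - ∑ g : G, (f g : ℂ) * χ g, ?_, ?_⟩
  · apply IsIntegral.sub
    · exact IsIntegral.mul (isIntegral_natCast _) (isIntegral_natCast _)
    · apply IsIntegral.sum
      intro g _
      apply IsIntegral.mul
      · exact isIntegral_intCast _
      · exact isIntegral_of_isCharacter hχ g
  · rw [h3]
    have h4 : (Nat.card G : ℂ) = (q : ℂ) * ((Nat.card G / q : ℕ) : ℂ) := by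
      exact_mod_cast hdvd
    rw [h4] at hm
    linear_combination hm

/-- `|G|⁻¹` times the sum of a character over the `p`-elements is a local integer. -/
theorem memLocalRing_sum_pElements {M : Ideal AlgInt} (hM : IsPModular p M) {χ : G → ℂ}
    (hχ : IsCharacter G χ) :
    MemLocalRing M ((Nat.card G : ℂ)⁻¹ * ∑ᶠ x ∈ pElements G p, χ x) := by
  have := Local.isPrime_of_isPModular hM
  obtain ⟨a, ha, h⟩ := exists_integral_sum_pElements (p := p) hχ
  set q : ℕ := p ^ (Nat.card G).factorization p with hq
  have hqpos : 0 < q := pow_pos hp.out.pos _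
  have hdvd : Nat.card G = q * (Nat.card G / q) := (Nat.mul_div_cancel' (Nat.ordProj_dvd _ _)).symm
  have hq0 : (q : ℂ) ≠ 0 := by exact_mod_cast hqpos.ne'
  have h4 : (Nat.card G : ℂ) = (q : ℂ) * ((Nat.card G / q : ℕ) : ℂ) := by
    exact_mod_cast hdvd
  have hnd : ¬ p ∣ Nat.card G / q := Nat.not_dvd_ordCompl hp.out Nat.card_pos.ne'
  rw [h, h4, mul_inv, mul_comm (q : ℂ)⁻¹, mul_assoc, inv_mul_cancel_left₀ hq0]
  exact Local.memLocalRing_mul (Local.memLocalRing_inv_natCast hM hnd)
    (Local.memLocalRing_of_isIntegral ha)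

end Frobenius

end Cfsg.Agent.Blocks.PElements
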