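import Mathlib
import Cfsg.Prelude.Def_Blocks
import Cfsg.Agent.Blocks.BrauerMap
import Cfsg.Agent.Blocks.AlgHom

/-!
# Blocks of `H` induce blocks of `G` when `P C_G(P) ≤ H ≤ N_G(P)`

`exists_irr_brauer`: for `ξ ∈ Irr(H)` there is `χ ∈ Irr(G)` whose central character is congruent
to the Brauer central character of `ξ` (and to the induced one) modulo the local ideal.
-/

set_option autoImplicit false

namespace Cfsg.Agent.Blocks.BrauerHom

open Cfsg
open Cfsg.Agent.Blocks.Local
open Cfsg.Agent.Blocks.BrauerMap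
open Cfsg.Agent.Blocks.AlgHom
open Cfsg.Agent.Blocks.ConvCentral (conv lin lin_def irr_one_ne_zero isIntegral_centralChar
  classInd_of_isConj classInd_of_not)
open Cfsg.Agent.Blocks.SepCentral (isIntegral_lin_div')

variable {G : Type*} [Group G] {P H : Subgroup G} {p : ℕ} [Fact p.Prime] {M : Ideal AlgInt}

theorem mk_eq_iff_memLocalIdeal [M.IsPrime] {z w : AlgInt} :
    Ideal.Quotient.mk M z = Ideal.Quotient.mk M w ↔ MemLocalIdeal M ((z : ℂ) - (w : ℂ)) := by
  rw [Ideal.Quotient.eq, ← memLocalIdeal_algInt_iff]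
  push_cast
  rfl

open Classical in
/-- The central character of `ξ` composed with the Brauer map, modulo `M`. -/
noncomputable def brL [Fintype H] (M : Ideal AlgInt) (P : Subgroup G) (ξ : H → ℂ)
    (f : G → AlgInt) : AlgInt ⧸ M :=
  if h : IsIntegral ℤ (lin ξ (br P H (fun g => (f g : ℂ))) / ξ 1) then
    Ideal.Quotient.mk M ⟨_, h⟩ else 0

theorem isIntegral_brL [Fintype H] (hHN : H ≤ Subgroup.normalizer (P : Set G)) {ξ : H → ℂ}
    (hξ : IsIrrCharacter H ξ) {f : G → AlgInt} (hf : IsClassR f) :
    IsIntegral ℤ (lin ξ (br P H (fun g => (f g : ℂ))) / ξ 1) :=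
  isIntegral_lin_div' hξ (isClassFunction_br hHN (isClassFunction_coe hf))
    (isIntegral_br fun g => (f g).2)

theorem brL_of [Fintype H] (hHN : H ≤ Subgroup.normalizer (P : Set G)) {ξ : H → ℂ}
    (hξ : IsIrrCharacter H ξ) {f : G → AlgInt} (hf : IsClassR f) :
    brL M P ξ f = Ideal.Quotient.mk M ⟨_, isIntegral_brL hHN hξ hf⟩ := by
  unfold brL
  exact dif_pos _

/-- The Brauer central character of `ξ ∈ Irr(H)` is congruent to the central character of some
`χ ∈ Irr(G)`. -/
theorem exists_irr_brauer [Finite G] (hM : IsPModular p M) (hP : IsPGroup p P)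
    (hCH : Subgroup.centralizer (P : Set G) ≤ H) (hHN : H ≤ Subgroup.normalizer (P : Set G))
    {ξ : H → ℂ} (hξ : IsIrrCharacter H ξ) :
    ∃ χ : IrrCharacter G, ∀ g : G,
      MemLocalIdeal M (brauerCentralChar P H ξ g - centralChar (χ : G → ℂ) g) := by
  classical
  have := Fintype.ofFinite G
  have := Fintype.ofFinite H
  have hprime := isPrime_of_isPModular hM
  have hξ1 := irr_one_ne_zero hξ
  obtain ⟨χ, hχ⟩ := exists_irr_of_hom (G := G) M (brL M P ξ) (by
      intro f f' hf hf'
      rw [brL_of hHN hξ hf, brL_of hHN hξ hf', brL_of hHN hξ (isClassR_add hf hf'), ← map_add]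
      congr 1
      apply Subtype.ext
      push_cast
      rw [← add_div, ← lin_add]
      congr 2
      funext h
      rw [← br_add]
      congr 1) (by
      intro r f hf
      rw [brL_of hHN hξ hf, brL_of hHN hξ (isClassR_smul r hf), ← map_mul]
      congr 1
      apply Subtype.ext
      push_cast
      rw [← mul_div_assoc, ← lin_smul]
      congr 2
      funext h
      rw [← br_smul]
      congr 1) (by
      rw [brL_of hHN hξ isClassR_oneR, ← map_one (Ideal.Quotient.mk M)]
      congr 1
      apply Subtype.ext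
      push_cast
      rw [div_eq_one_iff_eq hξ1, ← lin_oneR ξ]
      congr 1
      funext h
      by_cases hh : h = 1
      · rw [hh, br_of_mem P H _ (by rw [Subgroup.coe_one]; exact Subgroup.one_mem _), oneR_def,
          oneR_def, if_pos (Subgroup.coe_one H), if_pos rfl]
      · rw [br_def, oneR_def, oneR_def, if_neg hh, if_neg]
        · simp
        · intro h'
          exact hh (Subtype.ext h')) (by
      intro f f' hf hf'
      rw [brL_of hHN hξ hf, brL_of hHN hξ hf', brL_of hHN hξ (isClassR_convR hf hf'), ← map_mul,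
        mk_eq_iff_memLocalIdeal]
      push_cast
      rw [coe_convR]
      exact memLocalIdeal_br_conv hM hP hCH hHN hξ (isClassFunction_coe hf)
        (isClassFunction_coe hf') (fun g => (f g).2) (fun g => (f' g).2))
  refine ⟨χ, fun g => ?_⟩
  have h1 := hχ g ⟨_, isIntegral_centralChar χ.2 g⟩ rfl
  rw [brL_of hHN hξ (isClassR_clR g), mk_eq_iff_memLocalIdeal] at h1
  rw [brauerCentralChar_eq_lin]
  convert h1 using 5
  funext x
  rw [clR_def]
  by_cases hx : IsConj g x
  · rw [if_pos hx, ind_of_mem (show x ∈ {x | IsConj g x} from hx)]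
    rfl
  · rw [if_neg hx, ind_of_notMem (show x ∉ {x | IsConj g x} from hx)]
    rfl

/-- The induced central character of `ξ ∈ Irr(H)` is congruent to the central character of some
`χ ∈ Irr(G)`. -/
theorem exists_irr_induced [Finite G] (hM : IsPModular p M) (hP : IsPGroup p P) (hPH : P ≤ H)
    (hCH : Subgroup.centralizer (P : Set G) ≤ H) (hHN : H ≤ Subgroup.normalizer (P : Set G))
    {ξ : H → ℂ} (hξ : IsIrrCharacter H ξ) :
    ∃ χ : IrrCharacter G, ∀ g : G,
      MemLocalIdeal M (inducedCentralChar H ξ g - centralChar (χ : G → ℂ) g) := by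
  have hprime := isPrime_of_isPModular hM
  obtain ⟨χ, hχ⟩ := exists_irr_brauer hM hP hCH hHN hξ
  exact ⟨χ, fun g => memLocalIdeal_sub_trans
    (inducedCentralChar_sub_brauerCentralChar hM hP hPH hHN hξ g) (hχ g)⟩

end Cfsg.Agent.Blocks.BrauerHom
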