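import Mathlib
import Cfsg.Prelude.Def_Blocks
import Cfsg.Agent.Characters.Core

/-!
# Irreducible characters as linear forms on the complex group algebra

`lin χ a = ∑ g, a g * χ g`; multiplicativity on central elements; the idempotent `idem A` of a set
`A` of irreducible characters (coefficients `blockCoeff A`).
-/

set_option autoImplicit false
set_option linter.unusedSectionVars false

open scoped ComplexConjugate
open Cfsg Cfsg.Agent.Characters.Core

namespace Cfsg.Agent.Blocks.GroupAlg

variable {G : Type*} [Group G]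

/-- The linear extension of a function to the group algebra. -/
noncomputable def lin (χ : G → ℂ) : MonoidAlgebra ℂ G →ₗ[ℂ] ℂ where
  toFun a := a.coeff.sum fun g r => r * χ g
  map_add' a b := by
    rw [MonoidAlgebra.coeff_add, Finsupp.sum_add_index'] <;> intros <;> ring
  map_smul' c a := by
    rw [MonoidAlgebra.coeff_smul, Finsupp.sum_smul_index' (by simp), RingHom.id_apply, smul_eq_mul,
      Finsupp.mul_sum]
    simp only [smul_eq_mul, mul_assoc]

theorem lin_apply' (χ : G → ℂ) (a : MonoidAlgebra ℂ G) :
    lin χ a = a.coeff.sum fun g r => r * χ g := rfl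

theorem lin_apply [Fintype G] (χ : G → ℂ) (a : MonoidAlgebra ℂ G) :
    lin χ a = ∑ g, a.coeff g * χ g := by
  rw [lin_apply', Finsupp.sum_fintype _ _ (by simp)]

theorem lin_single (χ : G → ℂ) (g : G) (r : ℂ) : lin χ (MonoidAlgebra.single g r) = r * χ g := by
  rw [lin_apply', MonoidAlgebra.coeff_single, Finsupp.sum_single_index (by simp)]

theorem lin_mul_comm {χ : G → ℂ} (hχ : ∀ g h, χ (g * h) = χ (h * g)) (a b : MonoidAlgebra ℂ G) :
    lin χ (a * b) = lin χ (b * a) := by
  induction a using MonoidAlgebra.induction_linear with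
  | zero => simp
  | add x y hx hy => rw [add_mul, mul_add, map_add, map_add, hx, hy]
  | single g r =>
    induction b using MonoidAlgebra.induction_linear with
    | zero => simp
    | add x y hx hy => rw [add_mul, mul_add, map_add, map_add, hx, hy]
    | single h s =>
      rw [MonoidAlgebra.single_mul_single, MonoidAlgebra.single_mul_single, lin_single, lin_single,
        hχ g h, mul_comm r s]

/-! ### The representation attached to an irreducible character -/

section Rep

variable {V : Type*} [AddCommGroup V] [Module ℂ V]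

theorem trace_asAlgebraHom (ρ : Representation ℂ G V) (a : MonoidAlgebra ℂ G) :
    LinearMap.trace ℂ V (ρ.asAlgebraHom a) = lin ρ.character a := by
  induction a using MonoidAlgebra.induction_linear with
  | zero => simp
  | add x y hx hy => rw [map_add, map_add, map_add, hx, hy]
  | single g r =>
    rw [Representation.asAlgebraHom_single, map_smul, lin_single]
    rfl

/-- Schur's lemma for central elements. -/
theorem exists_scalar [FiniteDimensional ℂ V] (ρ : Representation ℂ G V) (hρ : ρ.IsIrreducible)
    {a : MonoidAlgebra ℂ G} (ha : a ∈ Subalgebra.center ℂ (MonoidAlgebra ℂ G)) :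
    ∃ c : ℂ, ρ.asAlgebraHom a = algebraMap ℂ (Module.End ℂ V) c := by
  have key : ∀ (g : G) (v : V), (ρ.asAlgebraHom a) (ρ g v) = ρ g ((ρ.asAlgebraHom a) v) := by
    intro g v
    have h1 : a * MonoidAlgebra.single g 1 = MonoidAlgebra.single g 1 * a :=
      ((Subalgebra.mem_center_iff.1 ha) (MonoidAlgebra.single g 1)).symm
    have h2 := congrArg ρ.asAlgebraHom h1
    rw [map_mul, map_mul, Representation.asAlgebraHom_single, one_smul] at h2
    exact LinearMap.congr_fun h2 v
  let F : Representation.IntertwiningMap ρ ρ :=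
    (ρ.asAlgebraHom a).intertwiningMap_of_isIntertwiningMap ρ ρ key
  obtain ⟨c, hc⟩ :=
    (Representation.IsIrreducible.algebraMap_intertwiningMap_bijective_of_isAlgClosed
      (ρ := ρ)).2 F
  refine ⟨c, ?_⟩
  ext v
  have h1 : F v = (algebraMap ℂ (Representation.IntertwiningMap ρ ρ) c) v := by rw [hc]
  have h2 : F v = ρ.asAlgebraHom a v := rfl
  rw [← h2, h1]
  rfl

end Rep

/-- The central character attached to `χ` of an element of the group algebra. -/
noncomputable def omega (χ : G → ℂ) (a : MonoidAlgebra ℂ G) : ℂ := lin χ a / χ 1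

theorem omega_def (χ : G → ℂ) (a : MonoidAlgebra ℂ G) : omega χ a = lin χ a / χ 1 := rfl

/-- A representation affording `χ`, with central elements acting as scalars `omega χ`. -/
theorem exists_rep {χ : G → ℂ} (hχ : IsIrrCharacter G χ) :
    ∃ (n : ℕ) (ρ : Representation ℂ G (Fin n → ℂ)), ρ.character = χ ∧
      ∀ a ∈ Subalgebra.center ℂ (MonoidAlgebra ℂ G),
        ρ.asAlgebraHom a = algebraMap ℂ (Module.End ℂ (Fin n → ℂ)) (omega χ a) := by
  have h1 := isIrr_apply_one_ne_zero hχ
  obtain ⟨n, ρ, hρ, rfl⟩ := hχ
  refine ⟨n, ρ, rfl, fun a ha => ?_⟩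
  obtain ⟨c, hc⟩ := exists_scalar ρ hρ ha
  rw [hc]
  congr 1
  rw [omega_def, ← trace_asAlgebraHom, hc, Algebra.algebraMap_eq_smul_one, map_smul,
    LinearMap.trace_one, smul_eq_mul]
  rw [Representation.char_one] at h1 ⊢
  rw [mul_div_cancel_right₀ _ h1]

theorem lin_mul_of_mem_center {χ : G → ℂ} (hχ : IsIrrCharacter G χ) {a : MonoidAlgebra ℂ G}
    (ha : a ∈ Subalgebra.center ℂ (MonoidAlgebra ℂ G)) (b : MonoidAlgebra ℂ G) :
    lin χ (a * b) = omega χ a * lin χ b := by
  obtain ⟨n, ρ, rfl, h⟩ := exists_rep hχ
  rw [← trace_asAlgebraHom, map_mul, h a ha, Algebra.algebraMap_eq_smul_one, smul_mul_assoc,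
    one_mul, map_smul, trace_asAlgebraHom, smul_eq_mul]

theorem omega_mul {χ : G → ℂ} (hχ : IsIrrCharacter G χ) {a : MonoidAlgebra ℂ G}
    (ha : a ∈ Subalgebra.center ℂ (MonoidAlgebra ℂ G)) (b : MonoidAlgebra ℂ G) :
    omega χ (a * b) = omega χ a * omega χ b := by
  rw [omega_def, lin_mul_of_mem_center hχ ha, mul_div_assoc, ← omega_def]

theorem omega_aeval {χ : G → ℂ} (hχ : IsIrrCharacter G χ) {a : MonoidAlgebra ℂ G}
    (ha : a ∈ Subalgebra.center ℂ (MonoidAlgebra ℂ G)) (P : Polynomial ℂ) :
    omega χ (Polynomial.aeval a P) = P.eval (omega χ a) := by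
  have h1 := isIrr_apply_one_ne_zero hχ
  obtain ⟨n, ρ, rfl, h⟩ := exists_rep hχ
  rw [omega_def, ← trace_asAlgebraHom, ← Polynomial.aeval_algHom_apply, h a ha,
    Polynomial.aeval_algebraMap_apply, Algebra.algebraMap_eq_smul_one, map_smul,
    LinearMap.trace_one, smul_eq_mul]
  rw [Representation.char_one] at h1 ⊢
  rw [mul_div_cancel_right₀ _ h1, Polynomial.coe_aeval_eq_eval]

/-! ### Central elements and class functions -/

theorem mem_center_iff {a : MonoidAlgebra ℂ G} :
    a ∈ Subalgebra.center ℂ (MonoidAlgebra ℂ G) ↔ IsClassFunction G (fun g => a.coeff g) := by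
  rw [Subalgebra.mem_center_iff]
  constructor
  · intro h g x
    have h1 := congrArg (fun b => b.coeff (x * g)) (h (MonoidAlgebra.single x 1))
    simp only [MonoidAlgebra.coeff_single_mul_apply, MonoidAlgebra.coeff_mul_single_apply,
      one_mul, mul_one, inv_mul_cancel_left] at h1
    exact h1.symm
  · intro h b
    induction b using MonoidAlgebra.induction_linear with
    | zero => simp
    | add x y hx hy => rw [add_mul, mul_add, hx, hy]
    | single g r =>
      ext s
      rw [MonoidAlgebra.coeff_single_mul_apply, MonoidAlgebra.coeff_mul_single_apply, mul_comm]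
      congr 1
      have := h (g⁻¹ * s) g
      simp only [mul_inv_cancel_left] at this
      exact this.symm

/-- An element of the centre killed by all irreducible characters is zero. -/
theorem eq_zero_of_omega [Finite G] {a : MonoidAlgebra ℂ G}
    (ha : a ∈ Subalgebra.center ℂ (MonoidAlgebra ℂ G))
    (h : ∀ χ : G → ℂ, IsIrrCharacter G χ → omega χ a = 0) : a = 0 := by
  have := Fintype.ofFinite G
  have hc := mem_center_iff.1 ha
  have h0 : (fun g => a.coeff g) = 0 := by
    refine classFunction_eq_zero hc fun χ hχ => ?_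
    have h1 := h _ (isIrr_conj hχ)
    have h2 := isIrr_apply_one_ne_zero (isIrr_conj hχ)
    rw [omega_def, div_eq_zero_iff] at h1
    have h3 := h1.resolve_right h2
    rw [lin_apply] at h3
    rw [classInner_def, h3, mul_zero]
  ext g
  exact congrFun h0 g

/-- Central elements are determined by their central characters. -/
theorem ext_omega [Finite G] {a b : MonoidAlgebra ℂ G}
    (ha : a ∈ Subalgebra.center ℂ (MonoidAlgebra ℂ G))
    (hb : b ∈ Subalgebra.center ℂ (MonoidAlgebra ℂ G))
    (h : ∀ χ : G → ℂ, IsIrrCharacter G χ → omega χ a = omega χ b) : a = b := by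
  rw [← sub_eq_zero]
  refine eq_zero_of_omega (Subalgebra.sub_mem _ ha hb) fun χ hχ => ?_
  rw [omega_def, map_sub, sub_div, ← omega_def, ← omega_def, h χ hχ, sub_self]

/-! ### The idempotent of a set of irreducible characters -/

section Idem

variable [Finite G] (A : Set (IrrCharacter G))

/-- The sum of the central idempotents of the members of `A`. -/
noncomputable def idem : MonoidAlgebra ℂ G :=
  .ofCoeff (Finsupp.equivFunOnFinite.symm (blockCoeff A))

theorem coeff_idem (g : G) : (idem A).coeff g = blockCoeff A g := rfl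

theorem blockCoeff_eq_sum [Fintype (IrrCharacter G)] [DecidablePred (· ∈ A)] (g : G) :
    blockCoeff A g = (Nat.card G : ℂ)⁻¹ *
      ∑ χ : IrrCharacter G, if χ ∈ A then (χ : G → ℂ) 1 * conj ((χ : G → ℂ) g) else 0 := by
  unfold blockCoeff
  congr 1
  rw [← finsum_eq_sum_of_fintype]
  refine finsum_congr fun χ => ?_
  rw [finsum_eq_if]

theorem idem_mem_center : idem A ∈ Subalgebra.center ℂ (MonoidAlgebra ℂ G) := by
  classical
  have := finite_irr (G := G)
  have := Fintype.ofFinite (IrrCharacter G)
  rw [mem_center_iff]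
  intro g h
  simp only [coeff_idem]
  rw [blockCoeff_eq_sum, blockCoeff_eq_sum]
  congr 1
  refine Finset.sum_congr rfl fun χ _ => ?_
  rw [isIrr_isClassFunction χ.2 g h]

theorem omega_idem [DecidablePred (· ∈ A)] (ψ : IrrCharacter G) :
    omega (ψ : G → ℂ) (idem A) = if ψ ∈ A then 1 else 0 := by
  classical
  have := finite_irr (G := G)
  have := Fintype.ofFinite (IrrCharacter G)
  have := Fintype.ofFinite G
  have h1 := isIrr_apply_one_ne_zero ψ.2
  have h2 : lin (ψ : G → ℂ) (idem A) = ∑ χ : IrrCharacter G,
      if χ ∈ A then (χ : G → ℂ) 1 * classInner (ψ : G → ℂ) (χ : G → ℂ) else 0 := by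
    rw [lin_apply]
    simp only [coeff_idem, blockCoeff_eq_sum, classInner_def]
    simp only [mul_assoc, Finset.sum_mul]
    rw [← Finset.mul_sum, Finset.sum_comm, Finset.mul_sum]
    refine Finset.sum_congr rfl fun χ _ => ?_
    split_ifs
    · rw [mul_left_comm]
      congr 1
      rw [Finset.mul_sum]
      refine Finset.sum_congr rfl fun g _ => ?_
      ring
    · simp
  rw [omega_def, h2, Finset.sum_congr rfl (g := fun χ => if χ = ψ then
    (if ψ ∈ A then (ψ : G → ℂ) 1 else 0) else 0)]
  · rw [Finset.sum_ite_eq' Finset.univ ψ, if_pos (Finset.mem_univ _)]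
    split_ifs
    · exact div_self h1
    · exact zero_div _
  · intro χ _
    rw [classInner_irr ψ.2 χ.2]
    by_cases h : χ = ψ
    · subst h
      simp
    · have h' : (ψ : G → ℂ) ≠ (χ : G → ℂ) := fun e => h (Subtype.ext e.symm)
      simp [h, h']

theorem idem_mul_idem : idem A * idem A = idem A := by
  classical
  refine ext_omega (Subalgebra.mul_mem _ (idem_mem_center A) (idem_mem_center A))
    (idem_mem_center A) fun χ hχ => ?_
  rw [omega_mul hχ (idem_mem_center A)]
  have := omega_idem A (⟨χ, hχ⟩ : IrrCharacter G)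
  simp only at this
  rw [this]
  split_ifs <;> simp

end Idem

end Cfsg.Agent.Blocks.GroupAlg
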