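import Mathlib
import Cfsg.Prelude.Def_Blocks
import Cfsg.Agent.Blocks.Local
import Cfsg.Agent.Blocks.Induced

/-!
# Sums against class functions, central characters and induced central characters

`exists_reps`: a finite set `T` of class representatives such that for a class function `f` and any
`F`, `∑ g, f g * F g = ∑ t ∈ T, f t * ∑ (y ~ t) F y`.
`sum_centralChar`, `sum_inducedCentralChar`: the value of a (induced) central character at the
central element with coefficients `f`.
`memLocalIdeal_of_sameBlock`, `memLocalIdeal_of_induced`: congruences between these values.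
-/

set_option autoImplicit false

namespace Cfsg.Agent.Blocks.ClassSum

open Cfsg
open scoped ComplexConjugate

variable {G : Type*} [Group G]

theorem exists_reps [Fintype G] : ∃ T : Finset G, ∀ f F : G → ℂ, IsClassFunction G f →
    ∑ g : G, f g * F g = ∑ t ∈ T, f t * ∑ᶠ y ∈ {y : G | IsConj t y}, F y := by
  classical
  have : Fintype (ConjClasses G) := Fintype.ofFinite _
  let r : ConjClasses G → G := fun c => Quotient.out c
  have hr : ∀ c : ConjClasses G, ConjClasses.mk (r c) = c := fun c => Quotient.out_eq c
  have hrinj : Function.Injective r := fun a b hab => by rw [← hr a, ← hr b, hab]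
  refine ⟨Finset.univ.image r, ?_⟩
  intro f F hf
  rw [Finset.sum_image (fun a _ b _ hab => hrinj hab)]
  rw [← Finset.sum_fiberwise (Finset.univ) (ConjClasses.mk) (fun g => f g * F g)]
  refine Finset.sum_congr rfl fun c _ => ?_
  rw [finsum_mem_eq_finite_toFinset_sum _ (Set.toFinite _), Finset.mul_sum]
  refine Finset.sum_congr ?_ ?_
  · ext y
    simp only [Finset.mem_filter, Finset.mem_univ, true_and, Set.Finite.mem_toFinset,
      Set.mem_ofPred_eq]
    rw [← ConjClasses.mk_eq_mk_iff_isConj, hr]
    exact eq_comm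
  · intro y hy
    have h1 : IsConj (r c) y := by simpa using hy
    obtain ⟨x, hx⟩ := isConj_iff.1 h1
    rw [← hx, hf]

theorem finsum_conj_div [Finite G] {χ : G → ℂ} (hχ : IsClassFunction G χ) (t : G) :
    ∑ᶠ y ∈ {y : G | IsConj t y}, χ y / χ 1 = centralChar χ t := by
  classical
  have h1 : ∑ᶠ y ∈ {y : G | IsConj t y}, χ y / χ 1 = ∑ᶠ y ∈ {y : G | IsConj t y}, χ t / χ 1 := by
    refine finsum_mem_congr rfl fun y hy => ?_
    obtain ⟨x, hx⟩ := isConj_iff.1 (show IsConj t y from hy)
    rw [← hx, hχ]
  rw [h1, finsum_mem_eq_finite_toFinset_sum _ (Set.toFinite _), Finset.sum_const, nsmul_eq_mul,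
    ← Set.ncard_eq_toFinset_card _ (Set.toFinite _), Induced.ncard_conj_eq_index]
  unfold centralChar
  ring

theorem extendByZero_coe' (H : Subgroup G) (ξ : H → ℂ) (h : H) :
    extendByZero H ξ (h : G) = ξ h :=
  Function.Injective.extend_apply Subtype.val_injective _ _ _

theorem extendByZero_of_notMem' (H : Subgroup G) (ξ : H → ℂ) {x : G} (hx : x ∉ H) :
    extendByZero H ξ x = 0 := by
  unfold extendByZero
  rw [Function.extend_apply']
  · rfl
  · rintro ⟨a, rfl⟩; exact hx a.2

theorem finsum_conj_extend [Finite G] (H : Subgroup G) (ξ : H → ℂ) (t : G) :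
    ∑ᶠ y ∈ {y : G | IsConj t y}, extendByZero H ξ y / ξ 1 = inducedCentralChar H ξ t := by
  classical
  unfold inducedCentralChar
  rw [← finsum_mem_inter_support (f := fun y => extendByZero H ξ y / ξ 1)]
  have h4 : {y : G | IsConj t y} ∩ Function.support (fun y => extendByZero H ξ y / ξ 1) =
      ((fun h : H => (h : G)) '' {h : H | IsConj t (h : G)}) ∩
        Function.support (fun y => extendByZero H ξ y / ξ 1) := by
    ext y
    constructor
    · rintro ⟨a, b⟩
      refine ⟨?_, b⟩
      by_cases hyH : y ∈ H
      · exact ⟨⟨y, hyH⟩, a, rfl⟩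
      · exfalso
        apply b
        simp only
        rw [extendByZero_of_notMem' H ξ hyH, zero_div]
    · rintro ⟨⟨h, hh, rfl⟩, b⟩
      exact ⟨hh, b⟩
  rw [h4, finsum_mem_inter_support, finsum_mem_image (fun a _ b _ hab => Subtype.ext hab)]
  refine finsum_mem_congr rfl fun h _ => ?_
  rw [extendByZero_coe']

theorem sum_extend [Fintype G] (H : Subgroup G) [Fintype H] (ξ : H → ℂ) (f : G → ℂ) :
    ∑ g : G, f g * (extendByZero H ξ g / ξ 1) = ∑ h : H, f h * (ξ h / ξ 1) := by
  classical
  have h1 : ∑ g : G, f g * (extendByZero H ξ g / ξ 1) =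
      ∑ g ∈ Finset.univ.map ⟨fun h : H => (h : G), Subtype.val_injective⟩,
        f g * (extendByZero H ξ g / ξ 1) := by
    symm
    refine Finset.sum_subset (Finset.subset_univ _) ?_
    intro x _ hx
    have hx' : x ∉ H := by
      intro hxH
      apply hx
      rw [Finset.mem_map]
      exact ⟨⟨x, hxH⟩, Finset.mem_univ _, rfl⟩
    rw [extendByZero_of_notMem' H ξ hx', zero_div, mul_zero]
  rw [h1, Finset.sum_map]
  refine Finset.sum_congr rfl fun h _ => ?_
  simp only [Function.Embedding.coeFn_mk]
  rw [extendByZero_coe']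

/-- If the central characters of the class functions `χ`, `ψ` agree modulo the local ideal
everywhere, then so do their values at every central element with local coefficients. -/
theorem memLocalIdeal_of_sameBlock {M : Ideal AlgInt} [M.IsPrime] [Fintype G] {χ ψ : G → ℂ}
    (hχ : IsClassFunction G χ) (hψ : IsClassFunction G ψ) (h : SameBlock M χ ψ) {f : G → ℂ}
    (hf : IsClassFunction G f) (hfR : ∀ g, MemLocalRing M (f g)) :
    MemLocalIdeal M (∑ g : G, f g * (χ g / χ 1) - ∑ g : G, f g * (ψ g / ψ 1)) := by
  obtain ⟨T, hT⟩ := exists_reps (G := G)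
  rw [hT f _ hf, hT f _ hf, ← Finset.sum_sub_distrib]
  refine Local.memLocalIdeal_sum fun t _ => ?_
  rw [finsum_conj_div hχ, finsum_conj_div hψ, ← mul_sub]
  exact Local.memLocalIdeal_mul_left (hfR t) (h t)

/-- If the induced central character of `ξ` agrees with the central character of `χ` modulo the
local ideal, then the values at every central element with local coefficients agree. -/
theorem memLocalIdeal_of_induced {M : Ideal AlgInt} [M.IsPrime] [Fintype G] (H : Subgroup G)
    [Fintype H] {ξ : H → ℂ} {χ : G → ℂ} (hχ : IsClassFunction G χ)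
    (h : ∀ g, MemLocalIdeal M (inducedCentralChar H ξ g - centralChar χ g)) {f : G → ℂ}
    (hf : IsClassFunction G f) (hfR : ∀ g, MemLocalRing M (f g)) :
    MemLocalIdeal M (∑ x : H, f x * (ξ x / ξ 1) - ∑ g : G, f g * (χ g / χ 1)) := by
  obtain ⟨T, hT⟩ := exists_reps (G := G)
  rw [← sum_extend H ξ f, hT f _ hf, hT f _ hf, ← Finset.sum_sub_distrib]
  refine Local.memLocalIdeal_sum fun t _ => ?_
  rw [finsum_conj_extend H ξ, finsum_conj_div hχ, ← mul_sub]
  exact Local.memLocalIdeal_mul_left (hfR t) (h t)

/-- The value of a central character at a central element with local coefficients is local. -/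
theorem memLocalRing_sum {M : Ideal AlgInt} [M.IsPrime] [Fintype G] {χ : G → ℂ}
    (hχ : IsClassFunction G χ) (hcc : ∀ g, MemLocalRing M (centralChar χ g)) {f : G → ℂ}
    (hf : IsClassFunction G f) (hfR : ∀ g, MemLocalRing M (f g)) :
    MemLocalRing M (∑ g : G, f g * (χ g / χ 1)) := by
  obtain ⟨T, hT⟩ := exists_reps (G := G)
  rw [hT f _ hf]
  refine Local.memLocalRing_sum fun t _ => ?_
  rw [finsum_conj_div hχ]
  exact Local.memLocalRing_mul (hfR t) (hcc t)

end Cfsg.Agent.Blocks.ClassSum
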