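import Mathlib
import Cfsg.Prelude.Def_Blocks

/-!
Class sums act on irreducible complex representations by the central character; elements of the
integral group ring acting as scalars act as algebraic integers.
-/

set_option autoImplicit false

namespace Cfsg.Agent.Blocks.ClassScalar

open Cfsg

universe u

/-- The index of the centralizer is the size of the conjugacy class. -/
theorem index_centralizer {G : Type u} [Group G] (g : G) :
    (Subgroup.centralizer ({g} : Set G)).index = Nat.card {x : G // IsConj g x} := by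
  have h1 := MulAction.index_stabilizer (G := ConjAct G) (X := G) (x := g)
  have h2 : (Subgroup.centralizer ({g} : Set G)) =
      (MulAction.stabilizer (ConjAct G) g).comap (ConjAct.toConjAct : G ≃* ConjAct G).toMonoidHom := by
    ext x
    rw [Subgroup.mem_centralizer_singleton_iff, Subgroup.mem_comap, MulAction.mem_stabilizer_iff]
    show x * g = g * x ↔ (ConjAct.toConjAct x) • g = g
    rw [ConjAct.smul_def, ConjAct.ofConjAct_toConjAct, mul_inv_eq_iff_eq_mul]
  rw [h2, Subgroup.index_comap_of_surjective _ (ConjAct.toConjAct : G ≃* ConjAct G).surjective, h1]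
  rw [← Nat.card_coe_set_eq]
  have h3 : MulAction.orbit (ConjAct G) g = {x : G | IsConj g x} := by
    rw [ConjAct.orbit_eq_carrier_conjClasses]
    ext x
    rw [ConjClasses.mem_carrier_iff_mk_eq, ConjClasses.mk_eq_mk_iff_isConj]
    exact isConj_comm
  rw [h3]
  rfl

/-- Schur's lemma: an endomorphism commuting with an irreducible complex representation is a
scalar. -/
theorem exists_smul_of_commute {G : Type u} [Group G] {V : Type*} [AddCommGroup V] [Module ℂ V]
    [FiniteDimensional ℂ V] (ρ : Representation ℂ G V) (hρ : ρ.IsIrreducible)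
    (f : Module.End ℂ V) (hf : ∀ g : G, f * ρ g = ρ g * f) : ∃ c : ℂ, f = c • 1 := by
  let F : Representation.IntertwiningMap ρ ρ := ⟨f, hf⟩
  obtain ⟨c, hc⟩ := (Representation.IsIrreducible.algebraMap_intertwiningMap_bijective_of_isAlgClosed
    (ρ := ρ)).2 F
  refine ⟨c, ?_⟩
  have h := congrArg (fun T : Representation.IntertwiningMap ρ ρ => T.toLinearMap) hc
  have h' : (algebraMap ℂ (Representation.IntertwiningMap ρ ρ) c).toLinearMap = f := h
  rw [← h', Representation.IntertwiningMap.algebraMap_apply]
  rfl

theorem finrank_ne_zero {G : Type u} [Group G] {V : Type*} [AddCommGroup V] [Module ℂ V]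
    [FiniteDimensional ℂ V] (ρ : Representation ℂ G V) (hρ : ρ.IsIrreducible) :
    Module.finrank ℂ V ≠ 0 := by
  intro h0
  have hsub : Subsingleton V := Module.finrank_zero_iff.mp h0
  have hnt : Nontrivial (Subrepresentation ρ) := inferInstance
  obtain ⟨A, B, hAB⟩ := hnt
  apply hAB
  ext x
  have : x = 0 := Subsingleton.elim _ _
  rw [this]
  exact ⟨fun _ => B.toSubmodule.zero_mem, fun _ => A.toSubmodule.zero_mem⟩

/-- For a class function `a`, the element `∑ a x • ρ x` commutes with the representation. -/
theorem sum_commute {G : Type u} [Group G] [Fintype G] {V : Type*} [AddCommGroup V] [Module ℂ V]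
    (ρ : Representation ℂ G V) (a : G → ℂ) (ha : ∀ g h : G, a (h * g * h⁻¹) = a g) (h : G) :
    (∑ x : G, a x • ρ x : Module.End ℂ V) * ρ h = ρ h * (∑ x : G, a x • ρ x : Module.End ℂ V) := by
  rw [Finset.sum_mul, Finset.mul_sum]
  refine Fintype.sum_equiv (MulAut.conj h⁻¹).toEquiv _ _ ?_
  intro x
  simp only [MulEquiv.toEquiv_eq_coe, MulEquiv.coe_toEquiv, MulAut.conj_apply]
  rw [smul_mul_assoc, mul_smul_comm, ← map_mul, ← map_mul, ha]
  congr 2
  group

/-- For a class function `a`, the element `∑ a x • ρ x` acts by the scalar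
`(∑ a x * χ x) / χ 1`. -/
theorem sum_smul_eq {G : Type u} [Group G] [Fintype G] {V : Type*} [AddCommGroup V] [Module ℂ V]
    [FiniteDimensional ℂ V] (ρ : Representation ℂ G V) (hρ : ρ.IsIrreducible) (a : G → ℂ)
    (ha : ∀ g h : G, a (h * g * h⁻¹) = a g) :
    (∑ x : G, a x • ρ x : Module.End ℂ V) =
      ((∑ x : G, a x * ρ.character x) / ρ.character 1) • (1 : Module.End ℂ V) := by
  obtain ⟨c, hc⟩ := exists_smul_of_commute ρ hρ (∑ x : G, a x • ρ x) (sum_commute ρ a ha)
  have htr := congrArg (LinearMap.trace ℂ V) hc
  rw [map_sum, map_smul, LinearMap.trace_one] at htr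
  have hn : (Module.finrank ℂ V : ℂ) ≠ 0 := by exact_mod_cast finrank_ne_zero ρ hρ
  have hc' : c = (∑ x : G, a x * ρ.character x) / ρ.character 1 := by
    rw [Representation.char_one, eq_div_iff hn, ← smul_eq_mul, ← htr]
    refine Finset.sum_congr rfl fun x _ => ?_
    rw [map_smul, smul_eq_mul]
    rfl
  rw [hc, hc']

theorem character_conj {G : Type u} [Group G] {V : Type*} [AddCommGroup V] [Module ℂ V]
    (ρ : Representation ℂ G V) (g h : G) : ρ.character (h * g * h⁻¹) = ρ.character g := by
  rw [Representation.char_mul_comm, inv_mul_cancel_left]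

open Classical in
/-- The class sum of `g` acts by the central character of `g`. -/
theorem sum_class_eq {G : Type u} [Group G] [Fintype G] {V : Type*} [AddCommGroup V] [Module ℂ V]
    [FiniteDimensional ℂ V] (ρ : Representation ℂ G V) (hρ : ρ.IsIrreducible) (g : G) :
    (∑ x : G, (if IsConj g x then (1 : ℂ) else 0) • ρ x : Module.End ℂ V) =
      (centralChar ρ.character g) • (1 : Module.End ℂ V) := by
  rw [sum_smul_eq ρ hρ]
  · congr 1
    unfold centralChar
    congr 1
    rw [index_centralizer]
    have h1 : ∀ x : G, (if IsConj g x then (1 : ℂ) else 0) * ρ.character x =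
        if IsConj g x then ρ.character g else 0 := by
      intro x
      split_ifs with hx
      · obtain ⟨c, hc⟩ := isConj_iff.mp hx
        rw [← hc, character_conj, one_mul]
      · rw [zero_mul]
    rw [Finset.sum_congr rfl fun x _ => h1 x, ← Finset.sum_filter, Finset.sum_const,
      nsmul_eq_mul, Nat.card_eq_fintype_card, Fintype.card_subtype]
  · intro x h
    have : IsConj g (h * x * h⁻¹) ↔ IsConj g x := by
      have h2 : IsConj x (h * x * h⁻¹) := isConj_iff.mpr ⟨h, rfl⟩
      exact ⟨fun h3 => h3.trans h2.symm, fun h3 => h3.trans h2⟩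
    simp only [this]

/-- If an element of the integral group ring acts as a scalar, the scalar is an algebraic
integer. -/
theorem isIntegral_of_lift_eq {G : Type u} [Group G] [Finite G] {V : Type*} [AddCommGroup V]
    [Module ℂ V] [Nontrivial V] (ρ : Representation ℂ G V) (y : MonoidAlgebra ℤ G) (t : ℂ)
    (h : MonoidAlgebra.lift ℤ (Module.End ℂ V) G ρ y = t • 1) : IsIntegral ℤ t := by
  have h1 : IsIntegral ℤ y := IsIntegral.of_finite ℤ y
  have h2 : IsIntegral ℤ (MonoidAlgebra.lift ℤ (Module.End ℂ V) G ρ y) := h1.map _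
  rw [h, ← Algebra.algebraMap_eq_smul_one] at h2
  rwa [isIntegral_algebraMap_iff (FaithfulSMul.algebraMap_injective ℂ (Module.End ℂ V))] at h2

end Cfsg.Agent.Blocks.ClassScalar
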