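import Mathlib
import Cfsg.Prelude.Def_Blocks
import Cfsg.Agent.Blocks.ClassScalar

/-!
Normal `p`-subgroups and central characters modulo `p`: an integral class function whose sums over
the cosets of a normal `p`-subgroup are divisible by `p` is killed modulo `p` by every central
character.
-/

set_option autoImplicit false

namespace Cfsg.Agent.Blocks.NormalPSubgroup

open Cfsg Cfsg.Agent.Blocks.ClassScalar

universe u

variable {G : Type u} [Group G]

/-- An element of the group algebra mapping to zero modulo `P` kills the `P`-fixed vectors. -/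
theorem mul_eq_zero_of_fixed {k : Type*} [Field k] (P : Subgroup G) [P.Normal]
    (z b : MonoidAlgebra k G) (h0 : MonoidAlgebra.mapDomain (QuotientGroup.mk' P) z = 0)
    (hb : ∀ u ∈ P, MonoidAlgebra.single u (1 : k) * b = b) : z * b = 0 := by
  classical
  let h : G ⧸ P → k → MonoidAlgebra k G :=
    fun q c => c • (MonoidAlgebra.single (Quotient.out q) (1 : k) * b)
  have h1 : Finsupp.mapDomain (QuotientGroup.mk' P) z.coeff = 0 :=
    congrArg MonoidAlgebra.coeff h0
  have h2 : Finsupp.sum (Finsupp.mapDomain (QuotientGroup.mk' P) z.coeff) h = 0 := by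
    rw [h1, Finsupp.sum_zero_index]
  rw [Finsupp.sum_mapDomain_index (fun q => by simp [h])
    (fun q c₁ c₂ => by simp only [h, add_smul])] at h2
  have h3 : ∀ x : G, ∀ c : k, h (QuotientGroup.mk' P x) c = MonoidAlgebra.single x c * b := by
    intro x c
    obtain ⟨u, hu⟩ := QuotientGroup.mk_out_eq_mul P x
    simp only [h, QuotientGroup.mk'_apply]
    rw [hu]
    have h4 : MonoidAlgebra.single (x * (u : G)) (1 : k) =
        MonoidAlgebra.single x (1 : k) * MonoidAlgebra.single (u : G) (1 : k) := by
      rw [MonoidAlgebra.single_mul_single, one_mul]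
    rw [h4, mul_assoc, hb u u.2, ← smul_mul_assoc, MonoidAlgebra.smul_single, smul_eq_mul, mul_one]
  have h5 : z * b = Finsupp.sum z.coeff (fun x c => MonoidAlgebra.single x c * b) := by
    conv_lhs => rw [← MonoidAlgebra.sum_coeff_single z]
    rw [Finsupp.sum, Finset.sum_mul]
    rfl
  rw [h5, ← h2]
  refine Finsupp.sum_congr fun x _ => (h3 x _).symm

/-- For a normal `p`-subgroup `P` of a finite group, a central element of the group algebra over
`ZMod p` that maps to zero in the group algebra of `G ⧸ P` is nilpotent. -/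
theorem isNilpotent_of_mapDomain_eq_zero [Finite G] {p : ℕ} [Fact p.Prime] (P : Subgroup G)
    [P.Normal] (hP : IsPGroup p P) (z : MonoidAlgebra (ZMod p) G)
    (hz : ∀ r : MonoidAlgebra (ZMod p) G, z * r = r * z)
    (h0 : MonoidAlgebra.mapDomain (QuotientGroup.mk' P) z = 0) : IsNilpotent z := by
  classical
  have hfin : Module.Finite (ZMod p) (MonoidAlgebra (ZMod p) G) := inferInstance
  have hfinR : Finite (MonoidAlgebra (ZMod p) G) := Module.finite_of_finite (ZMod p)
  let f : Module.End (ZMod p) (MonoidAlgebra (ZMod p) G) := LinearMap.mulLeft (ZMod p) z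
  have hf : ∀ (n : ℕ) (r : MonoidAlgebra (ZMod p) G), (f ^ n) r = z ^ n * r := by
    intro n
    induction n with
    | zero => intro r; simp
    | succ n ih =>
      intro r
      rw [pow_succ', Module.End.mul_apply, ih, pow_succ', mul_assoc]
      rfl
  obtain ⟨n, hn1, hn⟩ := ((Filter.eventually_ge_atTop 1).and
    (Module.End.eventually_disjoint_ker_pow_range_pow f)).exists
  have hzn : ∀ r : MonoidAlgebra (ZMod p) G, z ^ n * r = r * z ^ n := by
    intro r
    exact ((show Commute z r from hz r).pow_left n)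
  by_cases hbot : LinearMap.range (f ^ n) = ⊥
  · refine ⟨n, ?_⟩
    have h1 : (f ^ n) 1 ∈ LinearMap.range (f ^ n) := ⟨1, rfl⟩
    rw [hbot, Submodule.mem_bot, hf, mul_one] at h1
    exact h1
  · exfalso
    have hmem : ∀ (u : G) (x : MonoidAlgebra (ZMod p) G), x ∈ LinearMap.range (f ^ n) →
        MonoidAlgebra.single u (1 : ZMod p) * x ∈ LinearMap.range (f ^ n) := by
      rintro u x ⟨y, rfl⟩
      refine ⟨MonoidAlgebra.single u (1 : ZMod p) * y, ?_⟩
      rw [hf, hf, ← mul_assoc, hzn, mul_assoc]
    let act : MulAction P (LinearMap.range (f ^ n)) :=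
      { smul := fun u x => ⟨MonoidAlgebra.single (u : G) (1 : ZMod p) * x.1, hmem u x.1 x.2⟩
        one_smul := by
          intro x
          apply Subtype.ext
          show MonoidAlgebra.single ((1 : P) : G) (1 : ZMod p) * x.1 = x.1
          rw [Subgroup.coe_one, ← MonoidAlgebra.one_def, one_mul]
        mul_smul := by
          intro u v x
          apply Subtype.ext
          show MonoidAlgebra.single ((u * v : P) : G) (1 : ZMod p) * x.1 =
            MonoidAlgebra.single (u : G) (1 : ZMod p) * (MonoidAlgebra.single (v : G) (1 : ZMod p) * x.1)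
          rw [← mul_assoc, MonoidAlgebra.single_mul_single, one_mul, Subgroup.coe_mul] }
    have hsmul : ∀ (u : P) (x : LinearMap.range (f ^ n)),
        ((u • x : LinearMap.range (f ^ n)) : MonoidAlgebra (ZMod p) G) =
          MonoidAlgebra.single (u : G) (1 : ZMod p) * x.1 := fun _ _ => rfl
    have hfinX : Finite (LinearMap.range (f ^ n)) := inferInstance
    have hnt : Nontrivial (LinearMap.range (f ^ n)) := Submodule.nontrivial_iff_ne_bot.mpr hbot
    have hdvd : p ∣ Nat.card (LinearMap.range (f ^ n)) := by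
      obtain ⟨x, hx⟩ := exists_ne (0 : LinearMap.range (f ^ n))
      have h1 : addOrderOf x = p := by
        apply addOrderOf_eq_prime _ hx
        have : ((p : ZMod p) • x) = 0 := by rw [CharP.cast_eq_zero, zero_smul]
        rwa [Nat.cast_smul_eq_nsmul] at this
      exact (dvd_of_eq h1.symm).trans (addOrderOf_dvd_natCard x)
    have h0fix : (0 : LinearMap.range (f ^ n)) ∈ MulAction.fixedPoints P (LinearMap.range (f ^ n)) := by
      intro u
      apply Subtype.ext
      rw [hsmul]
      simp
    obtain ⟨b, hb, hb0⟩ := hP.exists_fixed_point_of_prime_dvd_card_of_fixed_point _ hdvd h0fix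
    have hzb : z * b.1 = 0 := by
      apply mul_eq_zero_of_fixed P z b.1 h0
      intro u hu
      have := congrArg Subtype.val (hb ⟨u, hu⟩)
      rwa [hsmul] at this
    have hker : b.1 ∈ LinearMap.ker (f ^ n) := by
      rw [LinearMap.mem_ker, hf]
      obtain ⟨m, rfl⟩ := Nat.exists_eq_add_of_le' hn1
      rw [pow_succ, mul_assoc, hzb, mul_zero]
    have : b.1 = 0 := Submodule.disjoint_def.mp hn b.1 hker b.2
    exact hb0 (Subtype.ext this.symm)

open Classical in
/-- An integral class function whose sum over every coset of the normal `p`-subgroup `P` is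
divisible by `p` acts, in every complex representation where it acts as a scalar, by a scalar in
`M`. -/
theorem exists_mem_of_fiber_sum [Fintype G] {p : ℕ} {M : Ideal AlgInt} (hM : IsPModular p M)
    (P : Subgroup G) [P.Normal] (hP : IsPGroup p P) {V : Type*} [AddCommGroup V] [Module ℂ V]
    [Nontrivial V] (ρ : Representation ℂ G V) (a : G → ℤ)
    (ha : ∀ g h : G, a (h * g * h⁻¹) = a g)
    (hsum : ∀ q : G ⧸ P, (p : ℤ) ∣ ∑ x ∈ Finset.univ.filter (fun x : G => (QuotientGroup.mk x : G ⧸ P) = q), a x)
    (ω : ℂ) (hω : (∑ x : G, (a x : ℂ) • ρ x : Module.End ℂ V) = ω • 1) :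
    ∃ α : AlgInt, α ∈ M ∧ (α : ℂ) = ω := by
  have hp : Fact p.Prime := ⟨hM.1⟩
  -- the element of the integral group ring
  let z : MonoidAlgebra ℤ G := ∑ x : G, MonoidAlgebra.single x (a x)
  let π : MonoidAlgebra ℤ G →+* MonoidAlgebra (ZMod p) G :=
    MonoidAlgebra.mapRingHom G (Int.castRingHom (ZMod p))
  have hlift : MonoidAlgebra.lift ℤ (Module.End ℂ V) G ρ z = ω • 1 := by
    rw [← hω, map_sum]
    refine Finset.sum_congr rfl fun x _ => ?_
    rw [MonoidAlgebra.lift_single, Int.cast_smul_eq_zsmul]
  have hπz : π z = ∑ x : G, MonoidAlgebra.single x (a x : ZMod p) := by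
    simp only [z, π, map_sum, MonoidAlgebra.mapRingHom_single]
    rfl
  have hcomm : ∀ r : MonoidAlgebra (ZMod p) G, π z * r = r * π z := by
    intro r
    induction r using MonoidAlgebra.induction_linear with
    | zero => simp
    | add r s hr hs => rw [mul_add, add_mul, hr, hs]
    | single g c =>
      rw [hπz, Finset.sum_mul, Finset.mul_sum]
      refine Fintype.sum_equiv (MulAut.conj g⁻¹).toEquiv _ _ ?_
      intro x
      simp only [MulEquiv.toEquiv_eq_coe, MulEquiv.coe_toEquiv, MulAut.conj_apply]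
      rw [MonoidAlgebra.single_mul_single, MonoidAlgebra.single_mul_single, ha, mul_comm c]
      congr 1
      group
  have hzero : MonoidAlgebra.mapDomain (QuotientGroup.mk' P) (π z) = 0 := by
    have h1 : MonoidAlgebra.mapDomain (QuotientGroup.mk' P) (π z) =
        MonoidAlgebra.mapDomainRingHom (ZMod p) (QuotientGroup.mk' P) (π z) := rfl
    rw [h1, hπz, map_sum, ← Finset.sum_fiberwise (s := Finset.univ) (g := fun x : G => (x : G ⧸ P))]
    refine Finset.sum_eq_zero fun q _ => ?_
    have h2 : ∀ x ∈ Finset.univ.filter (fun x : G => (x : G ⧸ P) = q),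
        MonoidAlgebra.mapDomainRingHom (ZMod p) (QuotientGroup.mk' P)
          (MonoidAlgebra.single x (a x : ZMod p)) = MonoidAlgebra.single q (a x : ZMod p) := by
      intro x hx
      rw [Finset.mem_filter] at hx
      show MonoidAlgebra.mapDomain (QuotientGroup.mk' P) (MonoidAlgebra.single x (a x : ZMod p)) = _
      rw [MonoidAlgebra.mapDomain_single, QuotientGroup.mk'_apply, hx.2]
    rw [Finset.sum_congr rfl h2]
    have h3 : (∑ x ∈ Finset.univ.filter (fun x : G => (QuotientGroup.mk x : G ⧸ P) = q), (a x : ZMod p)) = 0 := by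
      obtain ⟨c, hc⟩ := hsum q
      rw [← Int.cast_sum, hc, Int.cast_mul, Int.cast_natCast, CharP.cast_eq_zero, zero_mul]
    have h4 : ∑ x ∈ Finset.univ.filter (fun x : G => (QuotientGroup.mk x : G ⧸ P) = q), MonoidAlgebra.single q (a x : ZMod p) =
        MonoidAlgebra.single q (∑ x ∈ Finset.univ.filter (fun x : G => (QuotientGroup.mk x : G ⧸ P) = q), (a x : ZMod p)) := by
      exact (map_sum (MonoidAlgebra.singleAddHom q) _ _).symm
    rw [h4, h3, MonoidAlgebra.single_zero]
  obtain ⟨n, hn⟩ := isNilpotent_of_mapDomain_eq_zero P hP (π z) hcomm hzero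
  have hker : ∃ y : MonoidAlgebra ℤ G, z ^ n = (p : ℤ) • y := by
    rw [← map_pow] at hn
    refine ⟨∑ x : G, MonoidAlgebra.single x ((z ^ n).coeff x / p), ?_⟩
    ext x
    have h1 : (((z ^ n).coeff x : ℤ) : ZMod p) = 0 := by
      have := congrArg (fun w : MonoidAlgebra (ZMod p) G => w.coeff x) hn
      simp only [π, MonoidAlgebra.coeff_mapRingHom] at this
      exact this
    rw [ZMod.intCast_zmod_eq_zero_iff_dvd] at h1
    rw [MonoidAlgebra.coeff_smul, MonoidAlgebra.coeff_sum, Finsupp.smul_apply,
      Finsupp.finsetSum_apply, Finset.sum_eq_single x]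
    · rw [MonoidAlgebra.coeff_single, Finsupp.single_eq_same, smul_eq_mul,
        Int.mul_ediv_cancel' h1]
    · intro b _ hb
      rw [MonoidAlgebra.coeff_single, Finsupp.single_eq_of_ne hb.symm]
    · intro h
      exact absurd (Finset.mem_univ x) h
  obtain ⟨y, hy⟩ := hker
  have hpC : (p : ℂ) ≠ 0 := by exact_mod_cast hM.1.ne_zero
  have hlifty : MonoidAlgebra.lift ℤ (Module.End ℂ V) G ρ y = (ω ^ n / p) • 1 := by
    have h1 := congrArg (MonoidAlgebra.lift ℤ (Module.End ℂ V) G ρ) hy
    rw [map_pow, hlift, map_zsmul, smul_pow, one_pow] at h1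
    have h2 : ((p : ℤ) • MonoidAlgebra.lift ℤ (Module.End ℂ V) G ρ y) =
        (p : ℂ) • MonoidAlgebra.lift ℤ (Module.End ℂ V) G ρ y := by
      rw [natCast_zsmul, Nat.cast_smul_eq_nsmul]
    rw [h2] at h1
    rw [div_eq_inv_mul, mul_smul, h1, smul_smul, inv_mul_cancel₀ hpC, one_smul]
  have hint : IsIntegral ℤ (ω ^ n / p) := isIntegral_of_lift_eq ρ y _ hlifty
  have hint' : IsIntegral ℤ ω := isIntegral_of_lift_eq ρ z _ hlift
  refine ⟨⟨ω, hint'⟩, ?_, rfl⟩
  have hprime : M.IsPrime := hM.2.1.isPrime
  apply hprime.mem_of_pow_mem n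
  have h3 : (⟨ω, hint'⟩ : AlgInt) ^ n = (p : AlgInt) * ⟨ω ^ n / p, hint⟩ := by
    apply Subtype.ext
    show ω ^ n = (p : ℂ) * (ω ^ n / p)
    field_simp
  rw [h3]
  exact M.mul_mem_right _ hM.2.2

end Cfsg.Agent.Blocks.NormalPSubgroup
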