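import Mathlib
import Cfsg.Prelude.Def_Blocks
import Cfsg.Agent.Blocks.Local
import Cfsg.Agent.Blocks.ConvCentral
import Cfsg.Agent.Blocks.SepCentral
import Cfsg.Agent.Blocks.PowerMap
import Cfsg.Agent.Characters.Core

/-!
# Blocks are determined on `p`-regular elements

For a class function `f` on `G` with values in the local ring at `M`, a large power
`(lin χ f / χ 1) ^ p ^ n` is congruent modulo the local ideal to an explicit combination of the
values of the central character of `χ` at `p`-regular elements.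
-/

set_option autoImplicit false

open Cfsg
open Cfsg.Agent.Blocks.Local Cfsg.Agent.Blocks.ConvCentral Cfsg.Agent.Blocks.SepCentral
open Cfsg.Agent.Blocks.PowerMap

namespace Cfsg.Agent.Blocks.PRegular

variable {G : Type*} [Group G] [Fintype G]

/-- The element of the group algebra with given coefficients. -/
noncomputable def toAlg {A : Type*} [CommRing A] (f : G → A) : MonoidAlgebra A G :=
  MonoidAlgebra.ofCoeff (Finsupp.equivFunOnFinite.symm f)

omit [Group G] in
theorem coeff_toAlg {A : Type*} [CommRing A] (f : G → A) (g : G) : (toAlg f).coeff g = f g := rfl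

theorem coeff_mul_eq {A : Type*} [CommRing A] (z w : MonoidAlgebra A G) (g : G) :
    (z * w).coeff g = ∑ x : G, z.coeff x * w.coeff (x⁻¹ * g) := by
  rw [MonoidAlgebra.coeff_mul_apply_left, Finsupp.sum_fintype]
  intro x
  rw [zero_mul]

section Complex

variable {R : Subring ℂ}

theorem coeff_mul_conv (z w : MonoidAlgebra R G) :
    (fun g => (((z * w).coeff g : R) : ℂ)) =
      conv (fun g => ((z.coeff g : R) : ℂ)) (fun g => ((w.coeff g : R) : ℂ)) := by
  funext g
  rw [conv_apply, coeff_mul_eq]
  push_cast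
  rfl

omit [Fintype G] in
theorem isClassFunction_coeff_one :
    IsClassFunction G (fun g => (((1 : MonoidAlgebra R G).coeff g : R) : ℂ)) := by
  classical
  intro g h
  simp only [MonoidAlgebra.one_def, MonoidAlgebra.coeff_single, Finsupp.single_apply]
  by_cases hg : 1 = g
  · subst hg
    simp
  · have : ¬ 1 = h * g * h⁻¹ := by
      intro h1
      apply hg
      have := h1.symm
      rw [conj_eq_one_iff] at this
      exact this.symm
    rw [if_neg hg, if_neg this]

theorem lin_coeff_one {χ : G → ℂ} :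
    lin χ (fun g => (((1 : MonoidAlgebra R G).coeff g : R) : ℂ)) = χ 1 := by
  classical
  rw [lin_def, Finset.sum_eq_single 1]
  · rw [MonoidAlgebra.coeff_one_one]; simp
  · intro g _ hg
    rw [MonoidAlgebra.one_def, MonoidAlgebra.coeff_single, Finsupp.single_apply,
      if_neg (Ne.symm hg)]
    simp
  · simp

theorem isClassFunction_coeff_pow {z : MonoidAlgebra R G}
    (hz : IsClassFunction G (fun g => ((z.coeff g : R) : ℂ))) (m : ℕ) :
    IsClassFunction G (fun g => (((z ^ m).coeff g : R) : ℂ)) := by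
  induction m with
  | zero => rw [pow_zero]; exact isClassFunction_coeff_one
  | succ m ih =>
    rw [pow_succ', coeff_mul_conv]
    exact isClassFunction_conv hz ih

theorem lin_coeff_pow {χ : G → ℂ} (hχ : IsIrrCharacter G χ) {z : MonoidAlgebra R G}
    (hz : IsClassFunction G (fun g => ((z.coeff g : R) : ℂ))) (m : ℕ) :
    lin χ (fun g => (((z ^ m).coeff g : R) : ℂ)) / χ 1 =
      (lin χ (fun g => ((z.coeff g : R) : ℂ)) / χ 1) ^ m := by
  have h1 := irr_one_ne_zero hχ
  induction m with
  | zero => rw [pow_zero, pow_zero, lin_coeff_one, div_self h1]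
  | succ m ih =>
    rw [pow_succ', pow_succ', ← ih, coeff_mul_conv]
    have := lin_conv hχ hz (f' := fun g => (((z ^ m).coeff g : R) : ℂ))
    field_simp
    rw [this]

end Complex

section Main

variable {p : ℕ} [Fact p.Prime] {M : Ideal AlgInt}

/-- Coefficients of a large `p`-power of a central element, modulo the local ideal. -/
theorem coeff_pow_mod [M.IsPrime] (hM : IsPModular p M) [DecidableEq G]
    {z : MonoidAlgebra (localRing M) G}
    (hz : IsClassFunction G (fun g => ((z.coeff g : localRing M) : ℂ))) {n r : ℕ} (hr : ¬ p ∣ r)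
    (hG : ∀ g : G, g ^ (p ^ n * r) = 1) (hn : p ^ n ≡ 1 [MOD r]) (x : G) :
    MemLocalIdeal M ((((z ^ p ^ n).coeff x : localRing M) : ℂ) -
      if p ∣ orderOf x then 0 else
        ∑ g with (g * x⁻¹) ^ p ^ n = 1, ((z.coeff g : localRing M) : ℂ) ^ p ^ n) := by
  have hchar := charP_resField hM
  let φ : MonoidAlgebra (localRing M) G →+* MonoidAlgebra (ResField M) G :=
    MonoidAlgebra.mapRingHom G (red M)
  have hφ : ∀ (w : MonoidAlgebra (localRing M) G) (g : G),
      (φ w).coeff g = red M (w.coeff g) := fun w g => by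
    simp [φ]
  have hz' : ∀ g h, (φ z).coeff (h * g * h⁻¹) = (φ z).coeff g := by
    intro g h
    rw [hφ, hφ]
    congr 1
    exact Subtype.ext (hz g h)
  split_ifs with hx
  · rw [sub_zero, ← red_eq_zero_iff, ← hφ, map_pow]
    exact coeff_pow_of_dvd (φ z) hz' hr hG hn hx
  · have h1 := coeff_pow_of_not_dvd (φ z) hz' hG hn hx
    rw [← map_pow, hφ] at h1
    simp only [hφ] at h1
    have h2 : red M ((z ^ p ^ n).coeff x) =
        red M (∑ g with (g * x⁻¹) ^ p ^ n = 1, (z.coeff g) ^ p ^ n) := by
      rw [h1, map_sum]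
      simp only [map_pow]
    rw [red_eq_red_iff] at h2
    push_cast at h2
    exact h2

/-- A large `p`-power of the value of a central character, modulo the local ideal, in terms of the
values of the central character on `p`-regular classes. -/
theorem exists_lin_pow_mod (G : Type*) [Group G] [Fintype G] [DecidableEq G] (p : ℕ)
    [Fact p.Prime] :
    ∃ s : Finset G, (∀ x ∈ s, ¬ p ∣ orderOf x) ∧
      ∀ (M : Ideal AlgInt) (_ : IsPModular p M) (f : G → ℂ) (_ : IsClassFunction G f)
        (_ : ∀ g, MemLocalRing M (f g)) (n r : ℕ) (_ : ¬ p ∣ r)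
        (_ : ∀ g : G, g ^ (p ^ n * r) = 1) (_ : p ^ n ≡ 1 [MOD r])
        (χ : G → ℂ) (_ : IsIrrCharacter G χ),
        MemLocalIdeal M ((lin χ f / χ 1) ^ p ^ n -
          ∑ x ∈ s, (∑ g with (g * x⁻¹) ^ p ^ n = 1, f g ^ p ^ n) * centralChar χ x) := by
  obtain ⟨s, hs⟩ := exists_reps G
  refine ⟨s.filter (fun x => ¬ p ∣ orderOf x), fun x hx => (Finset.mem_filter.1 hx).2, ?_⟩
  intro M hM f hf hfM n r hr hG hn χ hχ
  have := isPrime_of_isPModular hM
  let z : MonoidAlgebra (localRing M) G := toAlg (fun g => ⟨f g, hfM g⟩)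
  have hz : ∀ g, ((z.coeff g : localRing M) : ℂ) = f g := fun g => rfl
  have hzf : (fun g => ((z.coeff g : localRing M) : ℂ)) = f := rfl
  have hzc : IsClassFunction G (fun g => ((z.coeff g : localRing M) : ℂ)) := hzf ▸ hf
  have h1 := lin_coeff_pow hχ hzc (p ^ n)
  rw [hzf] at h1
  rw [← h1, hs χ _ (Cfsg.Agent.Blocks.Induced.isClassFunction_of_isIrrCharacter hχ)
    (isClassFunction_coeff_pow hzc (p ^ n)), Finset.sum_filter]
  apply memLocalIdeal_sum_sub_sum
  intro x _
  have h2 := coeff_pow_mod hM hzc hr hG hn x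
  simp only [hz] at h2
  have h3 : MemLocalRing M (centralChar χ x) :=
    memLocalRing_of_isIntegral (isIntegral_centralChar hχ x)
  have h4 := memLocalIdeal_mul_right h2 h3
  rw [sub_mul] at h4
  by_cases hx : p ∣ orderOf x
  · simpa [hx] using h4
  · simpa [hx] using h4

/-- Two irreducible characters whose central characters agree modulo `M` on `p`-regular elements
lie in the same block. -/
theorem sameBlock_of_isPRegular (hM : IsPModular p M) {χ ψ : G → ℂ} (hχ : IsIrrCharacter G χ)
    (hψ : IsIrrCharacter G ψ)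
    (h : ∀ g, IsPRegular p g → MemLocalIdeal M (centralChar χ g - centralChar ψ g)) :
    SameBlock M χ ψ := by
  classical
  intro g
  have := isPrime_of_isPModular hM
  have hchar := charP_resField hM
  have hp : p.Prime := Fact.out
  obtain ⟨n, r, hn1, hr0, hr, hG, hn⟩ := exists_exponent p G 1
  obtain ⟨s, hs, H⟩ := exists_lin_pow_mod G p
  have hf : ∀ x, MemLocalRing M ((classInd g x : ℤ) : ℂ) := fun x => memLocalRing_intCast _
  have h1 := H M hM _ (isClassFunction_classInd g) hf n r hr hG hn χ hχ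
  have h2 := H M hM _ (isClassFunction_classInd g) hf n r hr hG hn ψ hψ
  rw [lin_classInd (Cfsg.Agent.Blocks.Induced.isClassFunction_of_isIrrCharacter hχ)] at h1
  rw [lin_classInd (Cfsg.Agent.Blocks.Induced.isClassFunction_of_isIrrCharacter hψ)] at h2
  have hχg : MemLocalRing M (centralChar χ g) :=
    memLocalRing_of_isIntegral (isIntegral_centralChar hχ g)
  have hψg : MemLocalRing M (centralChar ψ g) :=
    memLocalRing_of_isIntegral (isIntegral_centralChar hψ g)
  have h3 : MemLocalIdeal M
      (∑ x ∈ s, (∑ y with (y * x⁻¹) ^ p ^ n = 1, ((classInd g y : ℤ) : ℂ) ^ p ^ n) *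
          centralChar χ x -
        ∑ x ∈ s, (∑ y with (y * x⁻¹) ^ p ^ n = 1, ((classInd g y : ℤ) : ℂ) ^ p ^ n) *
          centralChar ψ x) := by
    apply memLocalIdeal_sum_sub_sum
    intro x hx
    rw [← mul_sub]
    exact memLocalIdeal_mul_left
      (memLocalRing_sum fun y _ => memLocalRing_pow (hf y) _) (h x (hs x hx))
  have h4 : MemLocalIdeal M (centralChar χ g ^ p ^ n - centralChar ψ g ^ p ^ n) := by
    have := memLocalIdeal_sub (memLocalIdeal_add h1 h3) h2
    convert this using 1
    ring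
  rw [← redC_eq_iff (memLocalRing_pow hχg _) (memLocalRing_pow hψg _), redC_pow hχg,
    redC_pow hψg] at h4
  rw [← redC_eq_iff hχg hψg]
  exact iterateFrobenius_inj (ResField M) p n (by simpa [iterateFrobenius_def] using h4)

/-- Blocks are determined by the central characters on `p`-regular elements. -/
theorem sameBlock_iff_of_isPRegular (hM : IsPModular p M) (χ ψ : IrrCharacter G) :
    SameBlock M (χ : G → ℂ) (ψ : G → ℂ) ↔ ∀ g, IsPRegular p g →
      MemLocalIdeal M (centralChar (χ : G → ℂ) g - centralChar (ψ : G → ℂ) g) :=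
  ⟨fun h g _ => h g, sameBlock_of_isPRegular hM χ.2 ψ.2⟩

omit [Fintype G] in
/-- For a normal `p`-subgroup `P`, a `p`-element of the quotient lifts only to `p`-elements. -/
theorem pow_eq_one_iff_mk (P : Subgroup G) [P.Normal] (hP : IsPGroup p P) {n r : ℕ} (hr : ¬ p ∣ r)
    (hG : ∀ g : G, g ^ (p ^ n * r) = 1) (y : G) :
    y ^ p ^ n = 1 ↔ (QuotientGroup.mk y : G ⧸ P) ^ p ^ n = 1 := by
  have hp : p.Prime := Fact.out
  constructor
  · intro h
    rw [← QuotientGroup.mk_pow, h, QuotientGroup.mk_one]
  · intro h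
    rw [← QuotientGroup.mk_pow, QuotientGroup.eq_one_iff] at h
    obtain ⟨k, hk⟩ := hP ⟨_, h⟩
    have hk' : (y ^ p ^ n) ^ p ^ k = 1 := by
      have := congrArg Subtype.val hk
      simpa using this
    have h1 : (y ^ p ^ n) ^ r = 1 := by rw [← pow_mul, hG]
    have h2 : orderOf (y ^ p ^ n) ∣ Nat.gcd (p ^ k) r :=
      Nat.dvd_gcd (orderOf_dvd_of_pow_eq_one hk') (orderOf_dvd_of_pow_eq_one h1)
    have h3 : Nat.gcd (p ^ k) r = 1 :=
      Nat.Coprime.pow_left k ((Nat.Prime.coprime_iff_not_dvd hp).2 hr)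
    rw [h3, Nat.dvd_one, orderOf_eq_one_iff] at h2
    exact h2

/-- Lifting a `p`-regular element from a quotient. -/
theorem exists_isPRegular_lift (G : Type*) [Group G] [Finite G] (p : ℕ) [Fact p.Prime]
    (N : Subgroup G) [N.Normal] {x : G ⧸ N} (hx : IsPRegular p x) :
    ∃ g : G, IsPRegular p g ∧ (QuotientGroup.mk g : G ⧸ N) = x := by
  have hp : p.Prime := Fact.out
  obtain ⟨n, r, hn1, hr0, hr, hG, hn⟩ := exists_exponent p G 1
  obtain ⟨g, rfl⟩ := QuotientGroup.mk_surjective x
  refine ⟨g ^ p ^ n, ?_, ?_⟩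
  · intro h
    apply hr
    exact h.trans (orderOf_dvd_of_pow_eq_one (by rw [← pow_mul, hG]))
  · have h1 : (QuotientGroup.mk g : G ⧸ N) ^ r = 1 := by
      rw [← orderOf_dvd_iff_pow_eq_one]
      have h2 : orderOf (QuotientGroup.mk g : G ⧸ N) ∣ p ^ n * r := by
        apply orderOf_dvd_of_pow_eq_one
        rw [← QuotientGroup.mk_pow, hG, QuotientGroup.mk_one]
      have h3 : Nat.Coprime (orderOf (QuotientGroup.mk g : G ⧸ N)) (p ^ n) :=
        Nat.Coprime.pow_right n (((Nat.Prime.coprime_iff_not_dvd hp).2 hx).symm)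
      exact h3.dvd_of_dvd_mul_left h2
    have hN : 0 < p ^ n := pow_pos hp.pos n
    obtain ⟨m, hm⟩ := (Nat.modEq_iff_dvd' hN).1 hn.symm
    have hm' : p ^ n = r * m + 1 := by omega
    rw [QuotientGroup.mk_pow, hm', pow_succ, pow_mul, h1, one_pow, one_mul]

/-- A central element whose coset sums modulo a normal `p`-subgroup lie in the local ideal is killed
by every central character modulo the local ideal. -/
theorem memLocalIdeal_lin_of_coset_sum (hM : IsPModular p M) (P : Subgroup G) [P.Normal]
    (hP : IsPGroup p P) [DecidableEq (G ⧸ P)] {f : G → ℂ} (hf : IsClassFunction G f)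
    (hfM : ∀ g, MemLocalRing M (f g))
    (h0 : ∀ x : G ⧸ P, MemLocalIdeal M (∑ g with (QuotientGroup.mk g : G ⧸ P) = x, f g))
    {χ : G → ℂ} (hχ : IsIrrCharacter G χ) : MemLocalIdeal M (lin χ f / χ 1) := by
  classical
  have := isPrime_of_isPModular hM
  have hchar := charP_resField hM
  have hp : p.Prime := Fact.out
  obtain ⟨n, r, hn1, hr0, hr, hG, hn⟩ := exists_exponent p G 1
  obtain ⟨s, hs, H⟩ := exists_lin_pow_mod G p
  have h1 := H M hM f hf hfM n r hr hG hn χ hχ
  have hdiv : ∀ x, MemLocalRing M (centralChar χ x) := fun x =>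
    memLocalRing_of_isIntegral (isIntegral_centralChar hχ x)
  have h2 : MemLocalIdeal M (∑ x ∈ s, (∑ g with (g * x⁻¹) ^ p ^ n = 1, f g ^ p ^ n) *
      centralChar χ x) := by
    apply memLocalIdeal_sum
    intro x _
    refine memLocalIdeal_mul_right ?_ (hdiv x)
    have e1 : MemLocalIdeal M (∑ g with (g * x⁻¹) ^ p ^ n = 1, f g) := by
      rw [← Finset.sum_fiberwise _ (fun g : G => (QuotientGroup.mk g : G ⧸ P))]
      apply memLocalIdeal_sum
      intro y _
      rw [Finset.filter_filter]
      by_cases hy : (y * (QuotientGroup.mk x : G ⧸ P)⁻¹) ^ p ^ n = 1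
      · have : (Finset.univ.filter fun g : G => (g * x⁻¹) ^ p ^ n = 1 ∧
            (QuotientGroup.mk g : G ⧸ P) = y) =
            Finset.univ.filter fun g : G => (QuotientGroup.mk g : G ⧸ P) = y := by
          apply Finset.filter_congr
          intro g _
          refine ⟨fun h => h.2, fun h => ⟨?_, h⟩⟩
          rw [pow_eq_one_iff_mk P hP hr hG, QuotientGroup.mk_mul, QuotientGroup.mk_inv, h]
          exact hy
        rw [this]
        exact h0 y
      · have : (Finset.univ.filter fun g : G => (g * x⁻¹) ^ p ^ n = 1 ∧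
            (QuotientGroup.mk g : G ⧸ P) = y) = ∅ := by
          rw [Finset.filter_eq_empty_iff]
          rintro g _ ⟨hg1, hg2⟩
          apply hy
          rw [pow_eq_one_iff_mk P hP hr hG, QuotientGroup.mk_mul, QuotientGroup.mk_inv, hg2] at hg1
          exact hg1
        rw [this, Finset.sum_empty]
        exact memLocalIdeal_zero
    rw [← redC_eq_zero_iff (memLocalRing_sum fun g _ => hfM g), redC_sum (fun g _ => hfM g)] at e1
    rw [← redC_eq_zero_iff (memLocalRing_sum fun g _ => memLocalRing_pow (hfM g) _),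
      redC_sum (fun g _ => memLocalRing_pow (hfM g) _)]
    simp only [redC_pow (hfM _)]
    rw [← sum_pow_char_pow, e1, zero_pow (pow_pos hp.pos n).ne']
  have h3 : MemLocalIdeal M ((lin χ f / χ 1) ^ p ^ n) := by
    have := memLocalIdeal_add h1 h2
    simpa using this
  have h4 : MemLocalRing M (lin χ f / χ 1) := by
    obtain ⟨s', hs'⟩ := exists_reps G
    rw [hs' χ f (Cfsg.Agent.Blocks.Induced.isClassFunction_of_isIrrCharacter hχ) hf]
    exact memLocalRing_sum fun x _ => memLocalRing_mul (hfM x) (hdiv x)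
  exact memLocalIdeal_of_pow h4 h3

/-- Pushing forward a class function to a quotient. -/
theorem isClassFunction_push (N : Subgroup G) [N.Normal] [DecidableEq (G ⧸ N)] {f : G → ℂ}
    (hf : IsClassFunction G f) :
    IsClassFunction (G ⧸ N) (fun x => ∑ g with (QuotientGroup.mk g : G ⧸ N) = x, f g) := by
  intro x h
  obtain ⟨h, rfl⟩ := QuotientGroup.mk_surjective h
  symm
  refine Finset.sum_bij (fun g _ => h * g * h⁻¹) ?_ ?_ ?_ ?_
  · intro g hg
    rw [Finset.mem_filter] at hg ⊢
    refine ⟨Finset.mem_univ _, ?_⟩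
    rw [QuotientGroup.mk_mul, QuotientGroup.mk_mul, QuotientGroup.mk_inv, hg.2]
  · intro a _ b _ hab
    simpa using hab
  · intro g hg
    rw [Finset.mem_filter] at hg
    refine ⟨h⁻¹ * g * h, ?_, by group⟩
    rw [Finset.mem_filter]
    refine ⟨Finset.mem_univ _, ?_⟩
    rw [QuotientGroup.mk_mul, QuotientGroup.mk_mul, QuotientGroup.mk_inv, hg.2]
    group
  · intro g _
    exact (hf g h).symm

theorem lin_push (N : Subgroup G) [N.Normal] [Fintype (G ⧸ N)] [DecidableEq (G ⧸ N)] (f : G → ℂ)
    (θ : G ⧸ N → ℂ) :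
    lin θ (fun x => ∑ g with (QuotientGroup.mk g : G ⧸ N) = x, f g) =
      lin (θ ∘ (QuotientGroup.mk : G → G ⧸ N)) f := by
  rw [lin_def, lin_def, ← Finset.sum_fiberwise Finset.univ (fun g : G => (QuotientGroup.mk g : G ⧸ N))]
  refine Finset.sum_congr rfl fun x _ => ?_
  rw [Finset.sum_mul]
  refine Finset.sum_congr rfl fun g hg => ?_
  rw [Finset.mem_filter] at hg
  rw [Function.comp_apply, hg.2]

/-- A class function killed by all the irreducible characters is zero. -/
theorem eq_zero_of_lin_eq_zero {f : G → ℂ} (hf : IsClassFunction G f)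
    (h : ∀ χ : G → ℂ, IsIrrCharacter G χ → lin χ f = 0) : f = 0 := by
  have h1 : (fun g => (starRingEnd ℂ) (f g)) = 0 := by
    apply Cfsg.Agent.Characters.Core.classFunction_eq_zero
    · intro g x
      simp only [hf g x]
    · intro χ hχ
      unfold classInner
      have h2 := h χ hχ
      rw [lin_def] at h2
      have h3 : ∑ g, (starRingEnd ℂ) (f g) * (starRingEnd ℂ) (χ g) = 0 := by
        rw [← map_zero (starRingEnd ℂ), ← h2, map_sum]
        simp only [map_mul]
      rw [h3, mul_zero]
  funext g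
  have h2 := congrFun h1 g
  simpa using h2

/-- Every block contains a character inflated from the quotient by a normal `p`-subgroup. -/
theorem exists_inflation_sameBlock (hM : IsPModular p M) (P : Subgroup G) [P.Normal]
    (hP : IsPGroup p P) {χ₀ : G → ℂ} (hχ₀ : IsIrrCharacter G χ₀) :
    ∃ θ : IrrCharacter (G ⧸ P),
      SameBlock M χ₀ ((θ : G ⧸ P → ℂ) ∘ (QuotientGroup.mk : G → G ⧸ P)) := by
  classical
  by_contra hcon
  push Not at hcon
  have := isPrime_of_isPModular hM
  have := Fintype.ofFinite (G ⧸ P)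
  have := Cfsg.Agent.Characters.Core.finite_irr (G := G ⧸ P)
  have := Fintype.ofFinite (IrrCharacter (G ⧸ P))
  let infl : IrrCharacter (G ⧸ P) → IrrCharacter G := fun θ =>
    ⟨(θ : G ⧸ P → ℂ) ∘ (QuotientGroup.mk' P),
      Cfsg.Agent.Characters.Core.isIrr_comp (QuotientGroup.mk' P)
        (QuotientGroup.mk'_surjective P) θ.2⟩
  obtain ⟨f, hf, hfi, hf0, hfM⟩ := exists_separating (isPrime_of_isPModular hM) hχ₀
    (Finset.univ.image infl) (by
      intro χ hχ
      obtain ⟨θ, _, rfl⟩ := Finset.mem_image.1 hχ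
      exact hcon θ)
  apply hfM
  refine memLocalIdeal_lin_of_coset_sum hM P hP hf
    (fun g => memLocalRing_of_isIntegral (hfi g)) ?_ hχ₀
  have h1 : (fun x : G ⧸ P => ∑ g with (QuotientGroup.mk g : G ⧸ P) = x, f g) = 0 := by
    apply eq_zero_of_lin_eq_zero (isClassFunction_push P hf)
    intro θ hθ
    rw [lin_push]
    exact hf0 (infl ⟨θ, hθ⟩) (Finset.mem_image_of_mem _ (Finset.mem_univ _))
  intro x
  rw [congrFun h1 x]
  exact memLocalIdeal_zero

end Main

end Cfsg.Agent.Blocks.PRegular
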