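import Mathlib
import Cfsg.Prelude.Def_Blocks
import Cfsg.Agent.Characters.Core
import Cfsg.Agent.Lib.Cores
import Cfsg.Agent.Blocks.PPart
import Cfsg.Agent.S0925
import Cfsg.Agent.S0947

/-!
# Columns of the principal block at an abelian Sylow subgroup with semiregular normalizer action

`P` is an abelian Sylow `p`-subgroup of `G` with `C_G(z) ∩ N_G(P) = C_G(P)` for all `1 ≠ z ∈ P`.
Then for `u, v ∈ P`, `u ≠ 1`, the sum of `χ u * conj (χ v)` over the principal block is `|P|` when
`u` and `v` are conjugate in `G` and `0` otherwise.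
-/

set_option autoImplicit false

open scoped ComplexConjugate
open Cfsg Cfsg.Agent.Characters.Core

namespace Cfsg.Agent.Blocks.SylowColumns

universe u

variable {G : Type u} [Group G] [Finite G] {p : ℕ} [Fact p.Prime]

omit [Finite G] [Fact p.Prime] in
theorem normalizerMonoidHom_coe (P : Subgroup G) (n : Subgroup.normalizer (P : Set G)) (u : P) :
    ((P.normalizerMonoidHom n u : P) : G) = n * u * n⁻¹ := rfl

theorem fus (P : Sylow p G) (hab : ∀ x y : P, x * y = y * x) (u v : P) :
    IsConj (u : G) (v : G) ↔ ∃ s ∈ (P : Subgroup G).normalizerMonoidHom.range, s u = v := by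
  constructor
  · intro h
    obtain ⟨c, hc⟩ := isConj_iff.mp h
    have : IsMulCommutative P := ⟨⟨hab⟩⟩
    have h1 : (c⁻¹)⁻¹ * (u : G) * c⁻¹ ∈ P := by
      rw [inv_inv, hc]; exact v.2
    obtain ⟨n, hn, h2⟩ := P.conj_eq_normalizer_conj_of_mem (u : G) c⁻¹ u.2 h1
    rw [inv_inv, hc] at h2
    refine ⟨_, ⟨⟨n, hn⟩⁻¹, rfl⟩, ?_⟩
    apply Subtype.ext
    rw [normalizerMonoidHom_coe, h2]
    simp
  · rintro ⟨s, ⟨n, rfl⟩, rfl⟩
    rw [normalizerMonoidHom_coe]
    exact isConj_iff.mpr ⟨n, rfl⟩

omit [Finite G] [Fact p.Prime] in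
theorem sr (P : Subgroup G)
    (hsr : ∀ z ∈ P, z ≠ 1 → Subgroup.centralizer ({z} : Set G) ⊓ Subgroup.normalizer (P : Set G) =
      Subgroup.centralizer (P : Set G)) :
    ∀ s ∈ P.normalizerMonoidHom.range, ∀ u : P, u ≠ 1 → s u = u → s = 1 := by
  rintro _ ⟨n, rfl⟩ u hu hnu
  have h1 : (n : G) ∈ Subgroup.centralizer ({(u : G)} : Set G) ⊓ Subgroup.normalizer (P : Set G) := by
    refine Subgroup.mem_inf.mpr ⟨?_, n.2⟩
    rw [Subgroup.mem_centralizer_singleton_iff]
    have h2 : (n : G) * u * (n : G)⁻¹ = u := congrArg Subtype.val hnu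
    calc (n : G) * u = n * u * (n : G)⁻¹ * n := by group
      _ = u * n := by rw [h2]
  rw [hsr u u.2 (fun h => hu (Subtype.ext h))] at h1
  rw [← MonoidHom.mem_ker, Subgroup.normalizerMonoidHom_ker]
  exact h1

theorem card_range (P : Subgroup G) : Nat.card P.normalizerMonoidHom.range =
    (Subgroup.centralizer (P : Set G)).relIndex (Subgroup.normalizer (P : Set G)) := by
  rw [Subgroup.relIndex, ← Subgroup.normalizerMonoidHom_ker, Subgroup.index_ker]

/-- A Sylow subgroup `P` inside `H` with `N_H(P) ≤ C_H(P)`: the largest normal `p'`-subgroup of `H`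
has `p`-power index. -/
theorem exists_index_pPrimeCore (P : Sylow p G)
    (hN : Subgroup.normalizer ((P : Subgroup G) : Set G) ≤ Subgroup.centralizer (P : Set G)) :
    ∃ k : ℕ, (pPrimeCore p G).index = p ^ k := by
  have h1 := MonoidHom.ker_transferSylow_isComplement' P hN
  have h2 := MonoidHom.not_dvd_card_ker_transferSylow P hN
  have h3 : (MonoidHom.transferSylow P hN).ker ≤ pPrimeCore p G :=
    Cfsg.Agent.Lib.Cores.le_pPrimeCore inferInstance
      (((Fact.out : p.Prime).coprime_iff_not_dvd.mpr h2).symm)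
  have h4 : (pPrimeCore p G).index ∣ Nat.card (P : Subgroup G) := by
    rw [← h1.symm.index_eq_card]
    exact Subgroup.index_dvd_of_le h3
  obtain ⟨n, hn⟩ := IsPGroup.iff_card.mp P.isPGroup'
  rw [hn] at h4
  obtain ⟨k, -, hk⟩ := (Nat.dvd_prime_pow Fact.out).mp h4
  exact ⟨k, hk⟩

theorem normalizer_le_centralizer (P : Sylow p G) (u : G)
    (hle : (P : Subgroup G) ≤ Subgroup.centralizer ({u} : Set G))
    (hsr : Subgroup.centralizer ({u} : Set G) ⊓ Subgroup.normalizer ((P : Subgroup G) : Set G) =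
      Subgroup.centralizer ((P : Subgroup G) : Set G)) :
    Subgroup.normalizer (((P.subtype hle : Sylow p (Subgroup.centralizer ({u} : Set G))) :
      Subgroup (Subgroup.centralizer ({u} : Set G))) : Set (Subgroup.centralizer ({u} : Set G))) ≤
    Subgroup.centralizer ((P.subtype hle : Sylow p (Subgroup.centralizer ({u} : Set G))) :
      Set (Subgroup.centralizer ({u} : Set G))) := by
  intro n hn
  have h1 : (n : G) ∈ Subgroup.normalizer ((P : Subgroup G) : Set G) := by
    rw [Subgroup.mem_normalizer_iff] at hn ⊢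
    intro x
    constructor
    · intro hx
      exact (hn ⟨x, hle hx⟩).mp hx
    · intro hx
      have hxc : x ∈ Subgroup.centralizer ({u} : Set G) := by
        have h3 : (n : G)⁻¹ * (n * x * (n : G)⁻¹) * n ∈ Subgroup.centralizer ({u} : Set G) :=
          Subgroup.mul_mem _ (Subgroup.mul_mem _ (Subgroup.inv_mem _ n.2) (hle hx)) n.2
        have h4 : (n : G)⁻¹ * (n * x * (n : G)⁻¹) * n = x := by group
        rwa [h4] at h3
      exact (hn ⟨x, hxc⟩).mpr hx
  have h2 : (n : G) ∈ Subgroup.centralizer ((P : Subgroup G) : Set G) := by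
    rw [← hsr]
    exact ⟨n.2, h1⟩
  rw [Subgroup.mem_centralizer_iff] at h2 ⊢
  intro x hx
  exact Subtype.ext (h2 x hx)

open scoped Classical in
theorem columns (M : Ideal AlgInt) (hM : IsPModular p M) (P : Sylow p G)
    (hab : ∀ x y : P, x * y = y * x)
    (hsr : ∀ z ∈ (P : Subgroup G), z ≠ 1 →
      Subgroup.centralizer ({z} : Set G) ⊓ Subgroup.normalizer ((P : Subgroup G) : Set G) =
      Subgroup.centralizer ((P : Subgroup G) : Set G))
    (hfin : (principalBlock M G).Finite) (u v : P) (hu : u ≠ 1) :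
    ∑ χ ∈ hfin.toFinset, (χ : G → ℂ) u * conj ((χ : G → ℂ) v) =
      if IsConj (u : G) (v : G) then (Nat.card P : ℂ) else 0 := by
  have hu' : (u : G) ≠ 1 := fun h => hu (Subtype.ext h)
  have hpow : ∀ x : P, ∃ k : ℕ, orderOf (x : G) = p ^ k := by
    intro x
    rw [orderOf_submonoid]
    exact (IsPGroup.iff_orderOf.mp P.isPGroup') x
  have hppart : ∀ x : P, IsPPart p (x : G) (x : G) := by
    intro x
    refine ⟨1, mul_one _, Commute.one_right _, hpow x, ?_⟩
    rw [orderOf_one]
    exact (Fact.out : p.Prime).not_dvd_one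
  have hB : IsPBlock M (principalBlock M G) := ⟨⟨fun _ => 1, isIrr_one⟩, rfl⟩
  split_ifs with hc
  · -- conjugate: norm
    have h1 : ∀ χ : IrrCharacter G, (χ : G → ℂ) v = (χ : G → ℂ) u := by
      intro χ
      obtain ⟨c, hc'⟩ := isConj_iff.mp hc
      rw [← hc']
      exact isIrr_isClassFunction χ.2 _ _
    simp only [h1]
    have hle : (P : Subgroup G) ≤ Subgroup.centralizer ({(u : G)} : Set G) := by
      intro x hx
      rw [Subgroup.mem_centralizer_singleton_iff]
      exact congrArg Subtype.val (hab ⟨x, hx⟩ u)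
    have h2 := (Cfsg.Agent.S0947.result p M hM (u : G) (hpow u) hu' 1 (by
      rw [orderOf_one]; exact (Fact.out : p.Prime).not_dvd_one)).2
      (exists_index_pPrimeCore (P.subtype hle) (normalizer_le_centralizer P (u : G) hle
        (hsr u u.2 hu')))
    rw [Subgroup.coe_one, mul_one] at h2
    have h3 : p ^ (Nat.card (Subgroup.centralizer ({(u : G)} : Set G))).factorization p =
        Nat.card P := by
      rw [← (P.subtype hle).card_eq_multiplicity]
      exact Nat.card_congr (Subgroup.subgroupOfEquivOfLe hle).toEquiv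
    rw [h3, finsum_mem_eq_finite_toFinset_sum _ hfin] at h2
    have h4 : ∀ χ : IrrCharacter G, (χ : G → ℂ) u * conj ((χ : G → ℂ) u) =
        ((‖(χ : G → ℂ) u‖ ^ 2 : ℝ) : ℂ) := by
      intro χ
      rw [Complex.mul_conj, Complex.normSq_eq_norm_sq]
    simp only [h4]
    rw [← Complex.ofReal_sum, h2]
    simp
  · have h1 := (Cfsg.Agent.S0925.result p M hM).2 (u : G) (v : G) (u : G) (v : G) (hppart u)
      (hppart v) hc _ hB
    rw [finsum_mem_eq_finite_toFinset_sum _ hfin] at h1
    rw [← h1]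
    refine Finset.sum_congr rfl fun χ _ => ?_
    rw [isCharacter_apply_inv (isIrr_isCharacter χ.2)]

end Cfsg.Agent.Blocks.SylowColumns
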