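import Mathlib
import Cfsg.Prelude.Def_Blocks
import Cfsg.Agent.Characters.Core
import Cfsg.Agent.Blocks.Kulshammer
import Cfsg.Agent.Blocks.PrincipalKernel
import Cfsg.Agent.Blocks.PrincipalSection
import Cfsg.Agent.Blocks.CentralizerSum
import Cfsg.Agent.Blocks.Deflate

/-!
# The principal block and quotients by `p'`-subgroups

* `exists_deflate`, `apply_mul`: an irreducible character of the principal `p`-block is trivial on
  the normal `p'`-subgroups;
* `exists_comp`: for `π : H →* C` onto, with kernel of order prime to `p`, every character in the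
  principal block of `H` comes from a character in the principal block of `C`;
* `section_eq`: for a `p`-element `z` of `G`, `H = C_G(z)` and a character `ζ` of `G` in the principal
  block, `ζ (z * y) = ∑ ⟨ζ (z * ·), ξ⟩ ξ y` over the `ξ` in the principal block of `H`, `y`
  `p`-regular.
-/

set_option autoImplicit false

open Cfsg Cfsg.Agent.Blocks.Local
open scoped ComplexConjugate

namespace Cfsg.Agent.Blocks.PrincipalInflate

section Inflate

variable {H : Type*} [Group H] [Finite H] {C : Type*} [Group C] {p : ℕ} [hp : Fact p.Prime]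
  {M : Ideal AlgInt}

/-- Characters of the principal block come from the quotient by a normal `p'`-subgroup. -/
theorem exists_deflate (hM : IsPModular p M) {N : Subgroup H} [N.Normal] (hN : ¬ p ∣ Nat.card N)
    {ψ : IrrCharacter H} (hψ : ψ ∈ principalBlock M H) :
    ∃ χ' : IrrCharacter (H ⧸ N), (ψ : H → ℂ) = (χ' : H ⧸ N → ℂ) ∘ QuotientGroup.mk := by
  have := Fintype.ofFinite H
  have := Fintype.ofFinite N
  refine Deflate.exists_deflation N ψ ψ.2 ?_
  rw [Finset.sum_congr rfl (fun n _ => PrincipalKernel.principalBlock_apply_eq hM hN hψ n.2),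
    Finset.sum_const, Finset.card_univ, nsmul_eq_mul]
  refine mul_ne_zero ?_ (Basic.irr_one_ne_zero ψ.2)
  exact_mod_cast Fintype.card_ne_zero

/-- Characters of the principal block are constant on the cosets of a normal `p'`-subgroup. -/
theorem apply_mul (hM : IsPModular p M) {N : Subgroup H} [N.Normal] (hN : ¬ p ∣ Nat.card N)
    {ψ : IrrCharacter H} (hψ : ψ ∈ principalBlock M H) {n : H} (hn : n ∈ N) (g : H) :
    (ψ : H → ℂ) (n * g) = (ψ : H → ℂ) g := by
  obtain ⟨χ', hχ'⟩ := exists_deflate hM hN hψ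
  rw [hχ', Function.comp_apply, Function.comp_apply, QuotientGroup.mk_mul,
    (QuotientGroup.eq_one_iff n).2 hn, one_mul]

/-- Cardinality of a preimage under a surjective homomorphism. -/
theorem card_preimage {H : Type*} [Group H] {C : Type*} [Group C] (π : H →* C)
    (hπ : Function.Surjective π) (A : Set C) :
    Nat.card (π ⁻¹' A) = Nat.card π.ker * Nat.card A := by
  choose s hs using hπ
  rw [← Nat.card_prod]
  refine Nat.card_congr
    { toFun := fun x => (⟨(s (π x))⁻¹ * x, ?_⟩, ⟨π x, x.2⟩)
      invFun := fun y => ⟨s y.2 * y.1, ?_⟩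
      left_inv := fun x => ?_
      right_inv := fun y => ?_ }
  · rw [MonoidHom.mem_ker, map_mul, map_inv, hs, inv_mul_cancel]
  · rw [Set.mem_preimage, map_mul, hs, (MonoidHom.mem_ker).1 y.1.2, mul_one]
    exact y.2.2
  · ext
    simp
  · have h1 : π (s y.2 * y.1) = y.2 := by
      rw [map_mul, hs, (MonoidHom.mem_ker).1 y.1.2, mul_one]
    ext
    · simp [h1]
    · simp [h1]

/-- **The principal block of a quotient by a `p'`-subgroup.** -/
theorem exists_comp (hM : IsPModular p M) {π : H →* C} (hπ : Function.Surjective π)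
    (hN : ¬ p ∣ Nat.card π.ker) {ψ : IrrCharacter H} (hψ : ψ ∈ principalBlock M H) :
    ∃ ψ' : IrrCharacter C, ψ' ∈ principalBlock M C ∧ (ψ : H → ℂ) = fun h => (ψ' : C → ℂ) (π h) := by
  classical
  have hMp := isPrime_of_isPModular hM
  have := Fintype.ofFinite H
  obtain ⟨χ', hχ'⟩ := exists_deflate hM hN hψ
  let e : H ⧸ π.ker ≃* C := QuotientGroup.quotientKerEquivOfSurjective π hπ
  have he : ∀ h : H, e.symm (π h) = QuotientGroup.mk h := by
    intro h
    rw [MulEquiv.symm_apply_eq]
    rfl
  let ψ' : IrrCharacter C := ⟨fun c => (χ' : H ⧸ π.ker → ℂ) (e.symm c),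
    Characters.Core.isIrr_comp e.symm.toMonoidHom e.symm.surjective χ'.2⟩
  have hψ' : (ψ : H → ℂ) = fun h => (ψ' : C → ℂ) (π h) := by
    rw [hχ']
    funext h
    change _ = (χ' : H ⧸ π.ker → ℂ) (e.symm (π h))
    rw [he]
    rfl
  refine ⟨ψ', ?_, hψ'⟩
  intro c
  set S : Set H := π ⁻¹' {x : C | IsConj c x} with hSdef
  have hS : ∀ g h : H, h * g * h⁻¹ ∈ S ↔ g ∈ S := by
    intro g h
    rw [hSdef, Set.mem_preimage, Set.mem_preimage, Set.mem_setOf_eq, Set.mem_setOf_eq, map_mul,
      map_mul, map_inv]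
    have h1 : IsConj (π g) (π h * π g * (π h)⁻¹) := isConj_iff.2 ⟨π h, rfl⟩
    exact ⟨fun h2 => h2.trans h1.symm, fun h2 => h2.trans h1⟩
  have h1 := Kulshammer.memLocalIdeal_lin_sub hM hψ hS
  have hlin : ConvCentral.lin (ψ : H → ℂ) (S.indicator 1) = (Nat.card S : ℂ) * (ψ' : C → ℂ) c := by
    rw [ConvCentral.lin_def]
    have h2 : ∀ g : H, S.indicator (1 : H → ℂ) g * (ψ : H → ℂ) g =
        if g ∈ S then (ψ' : C → ℂ) c else 0 := by
      intro g
      rw [Set.indicator_apply]
      split_ifs with hg
      · rw [Pi.one_apply, one_mul, hψ']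
        exact (Basic.irr_isConj ψ'.2 hg).symm
      · rw [zero_mul]
    rw [Finset.sum_congr rfl (fun g _ => h2 g), ← Finset.sum_filter, Finset.sum_const, nsmul_eq_mul,
      ← Fintype.card_subtype, ← Nat.card_eq_fintype_card]
  have hψ1 : (ψ : H → ℂ) 1 = (ψ' : C → ℂ) 1 := by
    rw [hψ']
    simp only [map_one]
  have hcard : Nat.card S = Nat.card π.ker * (Subgroup.centralizer ({c} : Set C)).index := by
    rw [hSdef, card_preimage π hπ, Basic.index_centralizer_eq_ncard]
    rfl
  have hK : MemLocalRing M ((Nat.card π.ker : ℂ)⁻¹) := memLocalRing_inv_natCast hM hN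
  have hK0 : (Nat.card π.ker : ℂ) ≠ 0 := by exact_mod_cast Nat.card_pos.ne'
  have hψ0 : (ψ' : C → ℂ) 1 ≠ 0 := Basic.irr_one_ne_zero ψ'.2
  rw [hlin, hψ1, hcard] at h1
  have h2 := memLocalIdeal_mul_left hK (memLocalIdeal_sub_comm h1)
  unfold centralChar
  convert h2 using 1
  push_cast
  field_simp

end Inflate

section Section

variable {G : Type*} [Group G] [Finite G] {p : ℕ} [hp : Fact p.Prime] {M : Ideal AlgInt}

open Classical in
/-- A character of the principal block on the section of the `p`-element `z`. -/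
theorem section_eq (hM : IsPModular p M) (z : G) (hz : ∃ k : ℕ, orderOf z = p ^ k)
    {H : Subgroup G} (hH : H = Subgroup.centralizer ({z} : Set G))
    [Fintype (IrrCharacter H)] [Fintype H] {ζ : IrrCharacter G} (hζ : ζ ∈ principalBlock M G)
    (y : H) (hy : ¬ p ∣ orderOf y) :
    (ζ : G → ℂ) (z * (y : G)) = ∑ ξ : IrrCharacter H with ξ ∈ principalBlock M H,
      classInner (fun c : H => (ζ : G → ℂ) (z * (c : G))) (ξ : H → ℂ) * (ξ : H → ℂ) y := by
  have := Fintype.ofFinite G
  have h1 := CentralizerSum.sum_components hM z hz hH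
    (PrincipalSection.isPBlock_principalBlock (M := M))
    (A := principalBlock M H)
    (fun ξ => PrincipalSection.mem_principalBlock_iff_induced hM z hz hH ξ) y hy ζ
  rw [if_pos hζ] at h1
  exact h1.symm

end Section

end Cfsg.Agent.Blocks.PrincipalInflate
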