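import Mathlib
import Cfsg.Prelude.Def_Blocks
import Cfsg.Agent.Characters.Core
import Cfsg.Agent.Characters.Linear

/-!
# Multiplicity differences along an abelian subgroup with semiregular normalizer action

`P` is an abelian subgroup of the finite group `G`, `N = N_G(P)` controls fusion in `P`, and
`C_G(u) ∩ N = C_G(P)` for every `u ∈ P`, `u ≠ 1`.  `B` is a finite set of irreducible characters of `G`
whose columns at the elements of `P` are orthogonal with norm `|P|` (as happens for the principal
`p`-block when `P` is a Sylow `p`-subgroup).  For a linear character `l` of `P` the coefficient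
`coef P χ l = ⟨χ|P, 1 - l⟩` is an integer and the Gram matrix of these integer vectors (indexed by
`χ ∈ B`) is computed: `e + [l, m in the same N-orbit]` with `e = |N : C|`.
-/

set_option autoImplicit false

open scoped ComplexConjugate
open Cfsg Cfsg.Agent.Characters.Core Cfsg.Agent.Characters.Linear

namespace Cfsg.Agent.Blocks.SemiregularGram

universe u

variable {G : Type u} [Group G]

/-- the value of a homomorphism into `ℂˣ` as a complex-valued function. -/
def toFun {P : Type*} [Group P] (l : P →* ℂˣ) : P → ℂ := fun u => (l u : ℂ)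

theorem toFun_apply {P : Type*} [Group P] (l : P →* ℂˣ) (u : P) : toFun l u = (l u : ℂ) := rfl

theorem toFun_injective {P : Type*} [Group P] : Function.Injective (toFun (P := P)) := by
  intro l m h
  ext u
  exact congrFun h u

theorem toFun_one {P : Type*} [Group P] : toFun (1 : P →* ℂˣ) = 1 := by
  funext u
  simp [toFun]

theorem isIrr_toFun {P : Type u} [Group P] (l : P →* ℂˣ) : IsIrrCharacter P (toFun l) :=
  isIrrCharacter_hom l

theorem finite_hom (P : Type*) [Group P] [Finite P] : Finite (P →* ℂˣ) := by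
  have h1 : Finite (IrrCharacter P) := finite_irr
  exact Finite.of_injective (fun l => (⟨toFun l, isIrr_toFun l⟩ : IrrCharacter P)) (by
    intro l m h
    exact toFun_injective (congrArg Subtype.val h))

/-- For an abelian group every irreducible character is a homomorphism to `ℂˣ`. -/
theorem exists_toFun_eq {P : Type u} [Group P] [Finite P] (hab : ∀ x y : P, x * y = y * x)
    (χ : IrrCharacter P) : ∃ l : P →* ℂˣ, toFun l = (χ : P → ℂ) := by
  have h1 : Finite (IrrCharacter P) := finite_irr
  have h2 : Finite (P →* ℂˣ) := finite_hom P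
  let f : (P →* ℂˣ) → IrrCharacter P := fun l => ⟨toFun l, isIrr_toFun l⟩
  have hf : Function.Injective f := by
    intro l m h
    exact toFun_injective (congrArg Subtype.val h)
  letI : CommGroup P := { ‹Group P› with mul_comm := hab }
  have hcard : Nat.card (P →* ℂˣ) = Nat.card (IrrCharacter P) := by
    rw [card_irr, CommGroup.card_monoidHom_of_hasEnoughRootsOfUnity P ℂ]
    refine Nat.card_congr (Equiv.ofBijective (fun x : P => ConjClasses.mk x) ⟨?_, ?_⟩)
    · intro x y hxy
      have h3 : IsConj x y := ConjClasses.mk_eq_mk_iff_isConj.mp hxy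
      exact isConj_iff_eq.mp h3
    · exact ConjClasses.mk_surjective
  have hbij : Function.Bijective f := by
    rw [Nat.bijective_iff_injective_and_card]
    exact ⟨hf, hcard⟩
  obtain ⟨l, hl⟩ := hbij.2 χ
  exact ⟨l, congrArg Subtype.val hl⟩

open scoped Classical in
theorem classInner_toFun {P : Type u} [Group P] [Fintype P] (l m : P →* ℂˣ) :
    classInner (toFun l) (toFun m) = if l = m then 1 else 0 := by
  rw [classInner_irr (isIrr_toFun l) (isIrr_toFun m)]
  by_cases h : l = m
  · simp [h]
  · have : toFun l ≠ toFun m := fun h' => h (toFun_injective h')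
    simp [h, this]

/-- Fourier expansion on a finite abelian group. -/
theorem eq_sum_toFun {P : Type u} [Group P] [Fintype P] [Fintype (P →* ℂˣ)]
    (hab : ∀ x y : P, x * y = y * x) (f : P → ℂ) :
    f = ∑ l : P →* ℂˣ, classInner f (toFun l) • toFun l := by
  have : Finite (IrrCharacter P) := finite_irr
  letI : Fintype (IrrCharacter P) := Fintype.ofFinite _
  have hf : IsClassFunction P f := by
    intro g h
    rw [hab h g, mul_assoc, mul_inv_cancel, mul_one]
  conv_lhs => rw [classFunction_eq_sum hf]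
  symm
  let F : (P →* ℂˣ) → IrrCharacter P := fun l => ⟨toFun l, isIrr_toFun l⟩
  have hF : Function.Bijective F := by
    constructor
    · intro l m h
      exact toFun_injective (congrArg Subtype.val h)
    · intro χ
      obtain ⟨l, hl⟩ := exists_toFun_eq hab χ
      exact ⟨l, Subtype.ext hl⟩
  exact Fintype.sum_bijective F hF _ _ (fun l => rfl)

/-- `⟨χ|P, 1 - l⟩`. -/
noncomputable def coef (P : Subgroup G) [Fintype P] (χ : G → ℂ) (l : P →* ℂˣ) : ℂ :=
  classInner (fun u : P => χ u) (1 - toFun l)

theorem coef_eq (P : Subgroup G) [Fintype P] (χ : G → ℂ) (l : P →* ℂˣ) :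
    coef P χ l = (Nat.card P : ℂ)⁻¹ * ∑ u : P, χ u * (1 - conj (toFun l u)) := by
  rw [coef, classInner_def]
  simp

theorem coef_one (P : Subgroup G) [Fintype P] (χ : G → ℂ) : coef P χ 1 = 0 := by
  rw [coef, toFun_one, sub_self, classInner_zero_right]

theorem coef_int (P : Subgroup G) [Fintype P] {χ : G → ℂ} (hχ : IsCharacter G χ) (l : P →* ℂˣ) :
    ∃ n : ℤ, coef P χ l = n := by
  have h0 : IsCharacter P (fun u : P => χ u) := isCharacter_comp P.subtype hχ
  obtain ⟨a, ha⟩ := classInner_isNat h0 (isCharacter_one (G := P))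
  obtain ⟨b, hb⟩ := classInner_isNat h0 (isIrr_isCharacter (isIrr_toFun l))
  refine ⟨(a : ℤ) - b, ?_⟩
  rw [coef, classInner_sub_right, ha, hb]
  push_cast
  ring

/-- Second orthogonality for a finite abelian group: `∑ l, l u = 0` for `u ≠ 1`. -/
theorem sum_toFun_apply {P : Type u} [Group P] [Fintype P] [Fintype (P →* ℂˣ)]
    (hab : ∀ x y : P, x * y = y * x) (u : P) (hu : u ≠ 1) : ∑ l : P →* ℂˣ, toFun l u = 0 := by
  classical
  have h := eq_sum_toFun hab (fun v : P => if v = 1 then (1 : ℂ) else 0)
  have h1 : ∀ l : P →* ℂˣ,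
      classInner (fun v : P => if v = 1 then (1 : ℂ) else 0) (toFun l) = (Nat.card P : ℂ)⁻¹ := by
    intro l
    rw [classInner_def]
    simp [toFun]
  simp only [h1] at h
  have h2 := congrFun h u
  simp only [hu, if_false, Finset.sum_apply, Pi.smul_apply, smul_eq_mul] at h2
  rw [← Finset.mul_sum] at h2
  have h3 : (Nat.card P : ℂ)⁻¹ ≠ 0 := inv_ne_zero card_ne_zero_complex
  exact (mul_eq_zero.mp h2.symm).resolve_left h3

theorem card_hom {P : Type u} [Group P] [Fintype P] [Fintype (P →* ℂˣ)]
    (hab : ∀ x y : P, x * y = y * x) : (Fintype.card (P →* ℂˣ) : ℂ) = Nat.card P := by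
  classical
  have h := eq_sum_toFun hab (fun v : P => if v = 1 then (1 : ℂ) else 0)
  have h1 : ∀ l : P →* ℂˣ,
      classInner (fun v : P => if v = 1 then (1 : ℂ) else 0) (toFun l) = (Nat.card P : ℂ)⁻¹ := by
    intro l
    rw [classInner_def]
    simp [toFun]
  simp only [h1] at h
  have h2 := congrFun h 1
  simp only [if_true, Finset.sum_apply, Pi.smul_apply, smul_eq_mul] at h2
  rw [← Finset.mul_sum] at h2
  have h4 : ∑ l : P →* ℂˣ, toFun l 1 = (Fintype.card (P →* ℂˣ) : ℂ) := by
    simp [toFun, Finset.card_univ]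
  rw [h4] at h2
  have h3 : (Nat.card P : ℂ) ≠ 0 := card_ne_zero_complex
  field_simp at h2
  exact h2.symm

/-- the value at a nontrivial element of `P` in terms of the coefficients. -/
theorem apply_eq_neg_sum (P : Subgroup G) [Fintype P] [Fintype (P →* ℂˣ)]
    (hab : ∀ x y : P, x * y = y * x) (χ : G → ℂ) (u : P) (hu : u ≠ 1) :
    χ u = - ∑ l : P →* ℂˣ, coef P χ l * toFun l u := by
  have h := congrFun (eq_sum_toFun hab (fun v : P => χ v)) u
  simp only [Finset.sum_apply, Pi.smul_apply, smul_eq_mul] at h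
  have h1 : ∑ l : P →* ℂˣ, coef P χ l * toFun l u =
      classInner (fun v : P => χ v) 1 * ∑ l : P →* ℂˣ, toFun l u -
        ∑ l : P →* ℂˣ, classInner (fun v : P => χ v) (toFun l) * toFun l u := by
    rw [Finset.mul_sum, ← Finset.sum_sub_distrib]
    refine Finset.sum_congr rfl fun l _ => ?_
    rw [coef, classInner_sub_right]
    ring
  rw [h1, sum_toFun_apply hab u hu, mul_zero, zero_sub, neg_neg]
  exact h

/-- the degree in terms of the coefficients. -/
theorem apply_one_eq (P : Subgroup G) [Fintype P] [Fintype (P →* ℂˣ)]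
    (hab : ∀ x y : P, x * y = y * x) (χ : G → ℂ) :
    χ 1 = (Nat.card P : ℂ) * classInner (fun v : P => χ v) 1 - ∑ l : P →* ℂˣ, coef P χ l := by
  have h := congrFun (eq_sum_toFun hab (fun v : P => χ v)) 1
  simp only [Finset.sum_apply, Pi.smul_apply, smul_eq_mul] at h
  have h1 : ∑ l : P →* ℂˣ, coef P χ l =
      classInner (fun v : P => χ v) 1 * (Fintype.card (P →* ℂˣ) : ℂ) -
        ∑ l : P →* ℂˣ, classInner (fun v : P => χ v) (toFun l) * toFun l 1 := by
    rw [← Finset.card_univ, Finset.cast_card, Finset.mul_sum, ← Finset.sum_sub_distrib]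
    refine Finset.sum_congr rfl fun l _ => ?_
    rw [coef, classInner_sub_right]
    simp [toFun]
  rw [h1, ← h, card_hom hab]
  have : (((1 : P) : G)) = 1 := rfl
  rw [this]
  ring

open scoped Classical in
theorem sum_conj_eq (P : Subgroup G) [Fintype P] (E : Subgroup (MulAut P)) [Fintype E]
    (hfus : ∀ u v : P, IsConj (u : G) (v : G) ↔ ∃ s ∈ E, s u = v)
    (hsr : ∀ s ∈ E, ∀ u : P, u ≠ 1 → s u = u → s = 1) (F : P → ℂ) (u : P) (hu : u ≠ 1) :
    ∑ v : P, (if IsConj (u : G) (v : G) then F v else 0) = ∑ s : E, F ((s : MulAut P) u) := by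
  rw [← Finset.sum_filter]
  symm
  refine Finset.sum_bij (fun (s : E) _ => (s : MulAut P) u) ?_ ?_ ?_ ?_
  · intro s _
    rw [Finset.mem_filter]
    exact ⟨Finset.mem_univ _, (hfus _ _).mpr ⟨s, s.2, rfl⟩⟩
  · intro s _ t _ hst
    have h1 : ((t : MulAut P)⁻¹ * (s : MulAut P)) u = u := by
      rw [MulAut.mul_apply, hst, MulAut.inv_apply_self]
    have h2 := hsr _ (E.mul_mem (E.inv_mem t.2) s.2) u hu h1
    have h3 : (s : MulAut P) = t := by
      rw [inv_mul_eq_one] at h2
      exact h2.symm
    exact Subtype.ext h3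
  · intro v hv
    rw [Finset.mem_filter] at hv
    obtain ⟨s, hs, hsv⟩ := (hfus _ _).mp hv.2
    exact ⟨⟨s, hs⟩, Finset.mem_univ _, hsv⟩
  · intro s _
    rfl

/-- a semiregular group of automorphisms of an abelian group is semiregular on characters. -/
theorem comp_eq_self {P : Type u} [Group P] [Finite P] (hab : ∀ x y : P, x * y = y * x)
    (s : MulAut P) (hsr : ∀ u : P, u ≠ 1 → s u = u → s = 1) (m : P →* ℂˣ) (hm : m ≠ 1)
    (h : m.comp s.toMonoidHom = m) : s = 1 := by
  by_contra hs
  apply hm
  have hinj : Function.Injective (fun u : P => s u * u⁻¹) := by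
    intro u v huv
    simp only at huv
    by_contra hne
    have h1 : v⁻¹ * u ≠ 1 := by
      intro h'
      rw [inv_mul_eq_one] at h'
      exact hne h'.symm
    refine hs (hsr _ h1 ?_)
    rw [map_mul, map_inv]
    have h2 : s u = s v * v⁻¹ * u := by
      rw [← huv]; group
    rw [h2]
    rw [mul_assoc (s v), ← mul_assoc, inv_mul_cancel, one_mul]
  have hsurj : Function.Surjective (fun u : P => s u * u⁻¹) := Finite.surjective_of_injective hinj
  ext v
  obtain ⟨u, rfl⟩ := hsurj v
  have h1 : m (s u) = m u := DFunLike.congr_fun h u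
  simp [h1]

open scoped Classical in
/-- **Gram matrix** of the coefficient vectors. -/
theorem gram (P : Subgroup G) [Fintype P] (hab : ∀ x y : P, x * y = y * x)
    (E : Subgroup (MulAut P)) [Fintype E]
    (hfus : ∀ u v : P, IsConj (u : G) (v : G) ↔ ∃ s ∈ E, s u = v)
    (hsr : ∀ s ∈ E, ∀ u : P, u ≠ 1 → s u = u → s = 1)
    (B : Finset (IrrCharacter G))
    (horth : ∀ u v : P, u ≠ 1 → ∑ χ ∈ B, (χ : G → ℂ) u * conj ((χ : G → ℂ) v) =
      if IsConj (u : G) (v : G) then (Nat.card P : ℂ) else 0)
    (l m : P →* ℂˣ) (hl : l ≠ 1) (hm : m ≠ 1) :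
    ∑ χ ∈ B, coef P (χ : G → ℂ) l * conj (coef P (χ : G → ℂ) m) =
      (Nat.card E : ℂ) + if ∃ s ∈ E, m.comp s.toMonoidHom = l then 1 else 0 := by
  have hP : (Nat.card P : ℂ) ≠ 0 := card_ne_zero_complex
  -- step 1: expand
  have h1 : ∑ χ ∈ B, coef P (χ : G → ℂ) l * conj (coef P (χ : G → ℂ) m) =
      (Nat.card P : ℂ)⁻¹ * (Nat.card P : ℂ)⁻¹ * ∑ u : P, ∑ v : P,
        (1 - conj (toFun l u)) * (1 - toFun m v) *
          ∑ χ ∈ B, (χ : G → ℂ) u * conj ((χ : G → ℂ) v) := by
    have h2 : ∀ χ : IrrCharacter G, coef P (χ : G → ℂ) l * conj (coef P (χ : G → ℂ) m) =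
        (Nat.card P : ℂ)⁻¹ * (Nat.card P : ℂ)⁻¹ * ∑ u : P, ∑ v : P,
          (1 - conj (toFun l u)) * (1 - toFun m v) * ((χ : G → ℂ) u * conj ((χ : G → ℂ) v)) := by
      intro χ
      rw [coef_eq, coef_eq]
      simp only [map_mul, map_inv₀, map_natCast, map_sum, map_sub, map_one, Complex.conj_conj]
      rw [show ∀ a b c d : ℂ, a * b * (c * d) = a * c * (b * d) from fun a b c d => by ring]
      rw [Finset.sum_mul_sum]
      congr 1
      refine Finset.sum_congr rfl fun u _ => Finset.sum_congr rfl fun v _ => ?_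
      ring
    simp only [h2]
    rw [← Finset.mul_sum]
    congr 1
    rw [Finset.sum_comm]
    refine Finset.sum_congr rfl fun u _ => ?_
    rw [Finset.sum_comm]
    refine Finset.sum_congr rfl fun v _ => ?_
    rw [Finset.mul_sum]
  rw [h1]
  -- step 2: use orthogonality
  have h3 : ∀ u : P, ∑ v : P, (1 - conj (toFun l u)) * (1 - toFun m v) *
          ∑ χ ∈ B, (χ : G → ℂ) u * conj ((χ : G → ℂ) v) =
        (Nat.card P : ℂ) * ∑ s : E, (1 - conj (toFun l u)) * (1 - toFun m ((s : MulAut P) u)) := by
    intro u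
    by_cases hu : u = 1
    · subst hu
      have : toFun l (1 : P) = 1 := by simp [toFun]
      simp [this]
    · simp only [horth u _ hu]
      have h4 : ∀ v : P, (1 - conj (toFun l u)) * (1 - toFun m v) *
          (if IsConj (u : G) (v : G) then (Nat.card P : ℂ) else 0) =
          (Nat.card P : ℂ) * (1 - conj (toFun l u)) *
            (if IsConj (u : G) (v : G) then (1 - toFun m v) else 0) := by
        intro v
        split_ifs
        · ring
        · simp
      simp only [h4]
      rw [← Finset.mul_sum, sum_conj_eq P E hfus hsr (fun v => 1 - toFun m v) u hu, Finset.mul_sum,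
        Finset.mul_sum]
      refine Finset.sum_congr rfl fun s _ => ?_
      ring
  simp only [h3]
  rw [← Finset.mul_sum, Finset.sum_comm]
  have h5 : ∀ s : E, ∑ u : P, (1 - conj (toFun l u)) * (1 - toFun m ((s : MulAut P) u)) =
      (Nat.card P : ℂ) * (1 + if m.comp (s : MulAut P).toMonoidHom = l then 1 else 0) := by
    intro s
    have h6 : classInner (1 - toFun (m.comp (s : MulAut P).toMonoidHom)) (1 - toFun l) =
        1 + if m.comp (s : MulAut P).toMonoidHom = l then 1 else 0 := by
      have hms : m.comp (s : MulAut P).toMonoidHom ≠ 1 := by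
        intro h
        apply hm
        ext v
        have h7 := DFunLike.congr_fun h ((s : MulAut P)⁻¹ v)
        simp only [MonoidHom.comp_apply, MulEquiv.toMonoidHom_eq_coe, MonoidHom.coe_coe,
          MulAut.apply_inv_self, MonoidHom.one_apply] at h7
        simp [h7]
      rw [← toFun_one, classInner_sub_left, classInner_sub_right, classInner_sub_right,
        classInner_toFun, classInner_toFun, classInner_toFun, classInner_toFun, if_pos rfl,
        if_neg (Ne.symm hl), if_neg hms]
      ring
    rw [← h6, classInner_def, ← mul_assoc, mul_inv_cancel₀ hP, one_mul]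
    refine Finset.sum_congr rfl fun u _ => ?_
    simp only [Pi.sub_apply, Pi.one_apply, map_sub, map_one, toFun_apply, MonoidHom.comp_apply,
      MulEquiv.toMonoidHom_eq_coe, MonoidHom.coe_coe]
    ring
  simp only [h5]
  rw [← Finset.mul_sum, Finset.sum_add_distrib]
  have h8 : ∑ s : E, (if m.comp (s : MulAut P).toMonoidHom = l then (1 : ℂ) else 0) =
      if ∃ s ∈ E, m.comp s.toMonoidHom = l then 1 else 0 := by
    split_ifs with hex
    · obtain ⟨s, hs, hsl⟩ := hex
      rw [Finset.sum_eq_single (⟨s, hs⟩ : E)]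
      · exact if_pos hsl
      · intro t _ hts
        rw [if_neg]
        intro htl
        apply hts
        have h9 : m.comp ((t : MulAut P) * s⁻¹).toMonoidHom = m := by
          ext v
          have h10 : m ((t : MulAut P) (s⁻¹ v)) = l (s⁻¹ v) := DFunLike.congr_fun htl (s⁻¹ v)
          have h11 : m (s (s⁻¹ v)) = l (s⁻¹ v) := DFunLike.congr_fun hsl (s⁻¹ v)
          rw [MulAut.apply_inv_self] at h11
          simp only [MonoidHom.comp_apply, MulEquiv.toMonoidHom_eq_coe, MonoidHom.coe_coe,
            MulAut.mul_apply, h10, h11]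
        have h12 := comp_eq_self hab _ (hsr _ (E.mul_mem t.2 (E.inv_mem hs))) m hm h9
        rw [mul_inv_eq_one] at h12
        exact Subtype.ext h12
      · intro h
        exact absurd (Finset.mem_univ _) h
    · refine Finset.sum_eq_zero fun s _ => ?_
      rw [if_neg]
      intro h
      exact hex ⟨s, s.2, h⟩
  rw [h8]
  simp only [Finset.sum_const, Finset.card_univ, nsmul_eq_mul, mul_one]
  rw [← Nat.card_eq_fintype_card, ← mul_assoc, ← mul_assoc]
  have h9 : (Nat.card P : ℂ)⁻¹ * (Nat.card P : ℂ)⁻¹ * (Nat.card P : ℂ) * (Nat.card P : ℂ) = 1 := by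
    field_simp
  rw [h9, one_mul]

end Cfsg.Agent.Blocks.SemiregularGram
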