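import Mathlib
import Cfsg.Prelude.Def_Blocks
import Cfsg.Agent.Characters.Values

/-!
# Averages of character values over a subgroup commuting with an element

`(1 / |Q|) ∑ q ∈ Q, ψ (g * q)` is an algebraic integer when `g` commutes with every element of the
subgroup `Q`.
-/

set_option autoImplicit false

namespace Cfsg.Agent.Blocks.AvgIntegral

open Cfsg

/-- If `z ^ (n+1) = z` for every root `z` of the characteristic polynomial... then the trace is integral. -/
theorem isIntegral_trace_of_pow {V : Type*} [AddCommGroup V] [Module ℂ V] [FiniteDimensional ℂ V]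
    {f : Module.End ℂ V} {n : ℕ} (hn : n ≠ 0) (hf : f ^ (n + 1) = f) :
    IsIntegral ℤ (LinearMap.trace ℂ V f) := by
  rw [Cfsg.Agent.Characters.Values.trace_eq_sum_roots]
  apply IsIntegral.multiset_sum
  intro z hz
  have hroot : f.charpoly.IsRoot z := (Polynomial.mem_roots'.1 hz).2
  have hev : f.HasEigenvalue z := (Module.End.hasEigenvalue_iff_isRoot_charpoly f z).2 hroot
  obtain ⟨v, hv⟩ := hev.exists_hasEigenvector
  have h1 : f v = z • v := hv.apply_eq_smul
  have hpow : ∀ k : ℕ, (f ^ k) v = z ^ k • v := by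
    intro k
    induction k with
    | zero => simp
    | succ k ih => rw [pow_succ', Module.End.mul_apply, ih, map_smul, h1, smul_smul, ← pow_succ]
  have h2 := hpow (n + 1)
  rw [hf, h1] at h2
  have h3 : (z ^ (n + 1) - z) • v = 0 := by rw [sub_smul, ← h2, sub_self]
  rcases smul_eq_zero.1 h3 with h | h
  · have h4 : z * (z ^ n - 1) = 0 := by rw [← h]; ring
    rcases mul_eq_zero.1 h4 with h5 | h5
    · rw [h5]; exact isIntegral_zero
    · refine IsIntegral.of_pow (n := n) (Nat.pos_of_ne_zero hn) ?_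
      rw [sub_eq_zero.1 h5]; exact isIntegral_one
  · exact absurd h hv.2

/-- For a representation `ρ` of `G`, a finite subgroup `Q` and an element `g` of finite order
commuting with every element of `Q`, the average of the character over the coset `g Q` is an
algebraic integer. -/
theorem isIntegral_avg_rep {G : Type*} [Group G] {V : Type*} [AddCommGroup V] [Module ℂ V]
    [FiniteDimensional ℂ V] (ρ : Representation ℂ G V) (Q : Subgroup G) [Fintype Q] (g : G)
    (hg : IsOfFinOrder g) (hcomm : ∀ q ∈ Q, g * q = q * g) :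
    IsIntegral ℤ ((Nat.card Q : ℂ)⁻¹ * ∑ q : Q, ρ.character (g * q)) := by
  have hc : (Nat.card Q : ℂ) ≠ 0 := by
    rw [Nat.card_eq_fintype_card]
    exact_mod_cast Fintype.card_ne_zero
  set π : Module.End ℂ V := (Nat.card Q : ℂ)⁻¹ • ∑ q : Q, ρ q with hπ
  have hmul : ∀ q : Q, ρ q * π = π := by
    intro q
    rw [hπ, mul_smul_comm, Finset.mul_sum]
    congr 1
    refine Fintype.sum_equiv (Equiv.mulLeft q) _ _ fun x => ?_
    simp
  have hidem : π * π = π := by
    conv_lhs => rw [hπ]
    rw [smul_mul_assoc, Finset.sum_mul, Finset.sum_congr rfl fun q _ => hmul q]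
    rw [Finset.sum_const, Finset.card_univ, ← Nat.card_eq_fintype_card, ← Nat.cast_smul_eq_nsmul ℂ,
      smul_smul, inv_mul_cancel₀ hc, one_smul]
  have hcom : Commute (ρ g) π := by
    rw [Commute, SemiconjBy, hπ, mul_smul_comm, smul_mul_assoc, Finset.mul_sum, Finset.sum_mul]
    congr 1
    refine Finset.sum_congr rfl fun q _ => ?_
    rw [← map_mul, ← map_mul, hcomm q q.2]
  have hpow : ∀ k : ℕ, k ≠ 0 → π ^ k = π := by
    intro k hk
    induction k with
    | zero => exact absurd rfl hk
    | succ k ih =>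
      by_cases h0 : k = 0
      · subst h0; simp
      · rw [pow_succ, ih h0, hidem]
  have hT : (ρ g * π) ^ (orderOf g + 1) = ρ g * π := by
    rw [hcom.mul_pow, hpow _ (Nat.succ_ne_zero _), ← map_pow, pow_succ, pow_orderOf_eq_one, one_mul]
  have hint := isIntegral_trace_of_pow (hg.orderOf_pos.ne') hT
  have heq : LinearMap.trace ℂ V (ρ g * π) =
      (Nat.card Q : ℂ)⁻¹ * ∑ q : Q, ρ.character (g * q) := by
    rw [hπ, mul_smul_comm, map_smul, smul_eq_mul, Finset.mul_sum, map_sum]
    congr 1
    refine Finset.sum_congr rfl fun q _ => ?_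
    rw [← map_mul]
    rfl
  rwa [heq] at hint

/-- Average of a character over a coset `g Q`, with `g` commuting with `Q`, is an algebraic
integer. -/
theorem isIntegral_avg {G : Type*} [Group G] [Finite G] {χ : G → ℂ} (hχ : IsCharacter G χ)
    (Q : Subgroup G) [Fintype Q] (g : G) (hcomm : ∀ q ∈ Q, g * q = q * g) :
    IsIntegral ℤ ((Nat.card Q : ℂ)⁻¹ * ∑ q : Q, χ (g * q)) := by
  obtain ⟨n, ρ, rfl⟩ := hχ
  exact isIntegral_avg_rep ρ Q g (isOfFinOrder_of_finite g) hcomm

/-- Same for generalized characters. -/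
theorem isIntegral_avg_generalized {G : Type*} [Group G] [Finite G] {θ : G → ℂ}
    (hθ : IsGeneralizedCharacter G θ)
    (Q : Subgroup G) [Fintype Q] (g : G) (hcomm : ∀ q ∈ Q, g * q = q * g) :
    IsIntegral ℤ ((Nat.card Q : ℂ)⁻¹ * ∑ q : Q, θ (g * q)) := by
  obtain ⟨χ, ψ, hχ, hψ, rfl⟩ := hθ
  have := (isIntegral_avg hχ Q g hcomm).sub (isIntegral_avg hψ Q g hcomm)
  rw [← mul_sub, ← Finset.sum_sub_distrib] at this
  exact this

/-- The product of a `p`-regular element and a commuting nontrivial `p`-element is `p`-singular. -/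
theorem dvd_orderOf_mul {G : Type*} [Group G] {p : ℕ} (hp : p.Prime) {g q : G}
    (hcomm : g * q = q * g) (hg : ¬ p ∣ orderOf g) (hq1 : q ≠ 1) {k : ℕ} (hq : q ^ p ^ k = 1) :
    p ∣ orderOf (g * q) := by
  have hc : Commute g q := hcomm
  obtain ⟨j, hj, hj'⟩ := (Nat.dvd_prime_pow hp).1 (orderOf_dvd_of_pow_eq_one hq)
  have hj0 : j ≠ 0 := by
    rintro rfl
    rw [pow_zero, orderOf_eq_one_iff] at hj'
    exact hq1 hj'
  have hcop : (orderOf g).Coprime (orderOf q) := by
    rw [hj']
    exact Nat.Coprime.pow_right _ ((Nat.Prime.coprime_iff_not_dvd hp).2 hg).symm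
  rw [hc.orderOf_mul_eq_mul_orderOf_of_coprime hcop, hj']
  exact Dvd.dvd.mul_left (dvd_pow_self p hj0) _

/-- A generalized-character-like function (any function with integral averages) that vanishes on
`p`-singular elements is divisible by the order of any `p`-subgroup `Q` centralizing `g`. -/
theorem isIntegral_div_card_of_vanish {G : Type*} [Group G] [Finite G] {p : ℕ} (hp : p.Prime)
    {θ : G → ℂ} (hvan : ∀ y : G, p ∣ orderOf y → θ y = 0)
    (Q : Subgroup G) (hQ : IsPGroup p Q) (g : G) (hg : ¬ p ∣ orderOf g)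
    (hcomm : ∀ q ∈ Q, g * q = q * g)
    (hint : ∀ [Fintype Q], IsIntegral ℤ ((Nat.card Q : ℂ)⁻¹ * ∑ q : Q, θ (g * q))) :
    IsIntegral ℤ (θ g / Nat.card Q) := by
  classical
  have := Fintype.ofFinite Q
  have h := hint
  rw [Finset.sum_eq_single (1 : Q)] at h
  · rw [div_eq_inv_mul]; simpa using h
  · intro q _ hq
    apply hvan
    obtain ⟨k, hk⟩ := hQ q
    refine dvd_orderOf_mul hp (hcomm q q.2) hg (fun h1 => hq (Subtype.ext h1)) (k := k) ?_
    have := congrArg Subtype.val hk
    simpa using this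
  · intro h; exact absurd (Finset.mem_univ _) h

end Cfsg.Agent.Blocks.AvgIntegral
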