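import Mathlib
import Cfsg.Prelude.Def_Blocks
import Cfsg.Agent.Characters.Core
import Cfsg.Agent.Blocks.LocalRing
import Cfsg.Agent.Blocks.Basic
import Cfsg.Agent.Blocks.ConvCentral
import Cfsg.Agent.Blocks.OrbitSum

/-!
# Block idempotents as functions on the group

`blockCoeff B` is a class function, idempotent for convolution, on which the central characters
take the values `1` (on `B`) and `0` (off `B`).  A class function which is idempotent modulo the
local ideal and is killed modulo the local ideal by all central characters lies in the local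
ideal.
-/

set_option autoImplicit false

namespace Cfsg.Agent.Blocks.BlockIdem

open Cfsg
open scoped ComplexConjugate
open Cfsg.Agent.Blocks.LocalRing Cfsg.Agent.Blocks.ConvCentral
open Cfsg.Agent.Blocks.Basic (blockCoeff_def centralChar_def irr_isClassFunction
  brauerCentralChar_def inducedCentralChar_def blockCoeff_isConj)

variable {p : ℕ} {M : Ideal AlgInt}

section Complete

variable {G : Type*} [Group G] [Fintype G]

/-- Completeness of the irreducible characters, in terms of `lin`. -/
theorem eq_zero_of_lin {f : G → ℂ} (hf : IsClassFunction G f)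
    (h : ∀ χ : IrrCharacter G, lin (χ : G → ℂ) f = 0) : f = 0 := by
  refine Cfsg.Agent.Characters.Core.classFunction_eq_zero hf fun χ hχ => ?_
  have h1 := h ⟨fun g => conj (χ g), Cfsg.Agent.Characters.Core.isIrr_conj hχ⟩
  rw [lin_def] at h1
  rw [Cfsg.Agent.Characters.Core.classInner_def]
  simp only at h1
  rw [h1, mul_zero]

omit [Fintype G] in
theorem isClassFunction_blockCoeff (B : Set (IrrCharacter G)) :
    IsClassFunction G (blockCoeff B) := by
  intro g h
  exact (blockCoeff_isConj B (isConj_iff.2 ⟨h, rfl⟩)).symm

open Classical in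
/-- The value of an irreducible character on the block idempotent. -/
theorem lin_blockCoeff (B : Set (IrrCharacter G)) (χ : IrrCharacter G) :
    lin (χ : G → ℂ) (blockCoeff B) = if χ ∈ B then (χ : G → ℂ) 1 else 0 := by
  have hfin : Finite (IrrCharacter G) := Cfsg.Agent.Characters.Core.finite_irr
  have : Fintype (IrrCharacter G) := Fintype.ofFinite _
  have h1 : ∀ g : G, blockCoeff B g = (Nat.card G : ℂ)⁻¹ *
      ∑ ψ ∈ Finset.univ.filter (· ∈ B), (ψ : G → ℂ) 1 * conj ((ψ : G → ℂ) g) := by
    intro g
    rw [blockCoeff_def, finsum_mem_eq_toFinset_sum]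
    congr 1
    refine Finset.sum_congr ?_ fun _ _ => rfl
    ext ψ
    simp
  rw [lin_def]
  simp_rw [h1]
  have h2 : ∑ g : G, (Nat.card G : ℂ)⁻¹ * (∑ ψ ∈ Finset.univ.filter (· ∈ B),
      (ψ : G → ℂ) 1 * conj ((ψ : G → ℂ) g)) * (χ : G → ℂ) g =
      ∑ ψ ∈ Finset.univ.filter (· ∈ B), (ψ : G → ℂ) 1 * classInner (χ : G → ℂ) (ψ : G → ℂ) := by
    simp_rw [Cfsg.Agent.Characters.Core.classInner_def, Finset.mul_sum, Finset.sum_mul]
    rw [Finset.sum_comm]
    refine Finset.sum_congr rfl fun ψ _ => Finset.sum_congr rfl fun g _ => ?_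
    ring
  rw [h2]
  have h3 : ∀ ψ : IrrCharacter G, classInner (χ : G → ℂ) (ψ : G → ℂ) =
      if χ = ψ then 1 else 0 := by
    intro ψ
    by_cases h : χ = ψ
    · rw [if_pos h, h]
      exact Cfsg.Agent.Characters.Core.classInner_irr_self ψ.2
    · rw [if_neg h]
      exact Cfsg.Agent.Characters.Core.classInner_irr_ne χ.2 ψ.2 fun h' => h (Subtype.ext h')
  simp_rw [h3]
  by_cases hχ : χ ∈ B
  · rw [if_pos hχ, Finset.sum_eq_single χ]
    · simp
    · intro ψ _ hne
      rw [if_neg (fun h => hne h.symm), mul_zero]
    · intro h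
      simp [hχ] at h
  · rw [if_neg hχ]
    refine Finset.sum_eq_zero fun ψ hψ => ?_
    rw [if_neg, mul_zero]
    rintro rfl
    exact hχ (by simpa using hψ)

/-- The block idempotent is idempotent for convolution. -/
theorem conv_blockCoeff_self (B : Set (IrrCharacter G)) :
    conv (blockCoeff B) (blockCoeff B) = blockCoeff B := by
  classical
  have hc := isClassFunction_blockCoeff (G := G) B
  have h : (fun g => conv (blockCoeff B) (blockCoeff B) g - blockCoeff B g) = 0 := by
    refine eq_zero_of_lin (fun g k => ?_) fun χ => ?_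
    · rw [isClassFunction_conv hc hc g k, hc g k]
    · have h1 := lin_conv χ.2 (f := blockCoeff B) (f' := blockCoeff B) hc
      have hχ1 := irr_one_ne_zero χ.2
      rw [lin_def]
      simp_rw [sub_mul]
      rw [Finset.sum_sub_distrib, ← lin_def, ← lin_def]
      rw [lin_blockCoeff] at h1 ⊢
      by_cases hχ : χ ∈ B
      · rw [if_pos hχ] at h1 ⊢
        rw [mul_right_cancel₀ hχ1 h1, sub_self]
      · rw [if_neg hχ] at h1 ⊢
        rw [mul_zero] at h1
        rw [(mul_eq_zero.1 h1).resolve_right hχ1, sub_self]
  funext g
  exact sub_eq_zero.1 (congrFun h g)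

/-- A class function with values in the local ring, idempotent modulo the local ideal, and
killed by all central characters modulo the local ideal, has all values in the local ideal. -/
theorem memLocalIdeal_of_idem (hM : IsPModular p M) {z : G → ℂ} (hz : IsClassFunction G z)
    (hzR : ∀ g, MemLocalRing M (z g)) (hidem : ∀ g, MemLocalIdeal M (conv z z g - z g))
    (hlin : ∀ χ : IrrCharacter G, MemLocalIdeal M (lin (χ : G → ℂ) z / (χ : G → ℂ) 1)) (g : G) :
    MemLocalIdeal M (z g) := by
  classical
  have hfin : Finite (IrrCharacter G) := Cfsg.Agent.Characters.Core.finite_irr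
  have : Fintype (IrrCharacter G) := Fintype.ofFinite _
  have key : ∀ T : Finset (IrrCharacter G), ∃ f : G → ℂ, IsClassFunction G f ∧
      (∀ g, MemLocalRing M (f g)) ∧ (∀ g, MemLocalIdeal M (f g - z g)) ∧
      ∀ χ ∈ T, lin (χ : G → ℂ) f = 0 := by
    intro T
    induction T using Finset.induction_on with
    | empty =>
      refine ⟨z, hz, hzR, fun g => ?_, by simp⟩
      rw [sub_self]
      exact memLocalIdeal_zero hM
    | insert χ T hχT ih =>
      obtain ⟨f, hf, hfR, hfz, hfT⟩ := ih
      have hχ1 := irr_one_ne_zero χ.2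
      set c : ℂ := lin (χ : G → ℂ) z / (χ : G → ℂ) 1 with hc
      refine ⟨fun g => conv z f g - c * f g, ?_, ?_, ?_, ?_⟩
      · intro g k
        change conv z f (k * g * k⁻¹) - c * f (k * g * k⁻¹) = conv z f g - c * f g
        rw [isClassFunction_conv hz hf g k, hf g k]
      · intro g
        refine memLocalRing_sub hM ?_ (memLocalRing_mul hM
          (memLocalIdeal_memLocalRing (hlin χ)) (hfR g))
        rw [conv_apply]
        exact memLocalRing_sum hM _ _ fun x _ => memLocalRing_mul hM (hzR _) (hfR _)
      · intro g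
        have h1 : MemLocalIdeal M (conv z f g - conv z z g) := by
          rw [conv_apply, conv_apply, ← Finset.sum_sub_distrib]
          refine memLocalIdeal_sum hM _ _ fun x _ => ?_
          rw [← mul_sub]
          exact memLocalIdeal_mul_left hM (hzR _) (hfz _)
        have h2 : conv z f g - c * f g - z g =
            (conv z f g - conv z z g) + (conv z z g - z g) - c * f g := by ring
        rw [h2]
        exact memLocalIdeal_sub hM (memLocalIdeal_add hM h1 (hidem g))
          (memLocalIdeal_mul_right hM (hlin χ) (hfR g))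
      · intro ψ hψ
        have hψ1 := irr_one_ne_zero ψ.2
        have h1 := lin_conv ψ.2 (f := z) (f' := f) hz
        have h2 : lin (ψ : G → ℂ) (fun g => conv z f g - c * f g) =
            lin (ψ : G → ℂ) (conv z f) - c * lin (ψ : G → ℂ) f := by
          rw [lin_def, lin_def, lin_def, Finset.mul_sum, ← Finset.sum_sub_distrib]
          refine Finset.sum_congr rfl fun x _ => ?_
          ring
        rw [h2]
        rcases Finset.mem_insert.1 hψ with rfl | hψT
        · apply mul_right_cancel₀ hψ1
          rw [sub_mul, h1, hc]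
          field_simp
          ring
        · rw [hfT ψ hψT, mul_zero] at h1
          rw [hfT ψ hψT, (mul_eq_zero.1 h1).resolve_right hψ1, mul_zero, sub_zero]
  obtain ⟨f, hf, -, hfz, hfT⟩ := key Finset.univ
  have hf0 : f = 0 := eq_zero_of_lin hf fun χ => hfT χ (Finset.mem_univ _)
  have h1 := hfz g
  rw [hf0, Pi.zero_apply, zero_sub] at h1
  exact memLocalIdeal_neg_iff.1 h1

end Complete

end Cfsg.Agent.Blocks.BlockIdem
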