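import Mathlib
import Cfsg.Prelude.Def_Blocks
import Cfsg.Agent.Characters.Core
import Cfsg.Agent.Blocks.Central
import Cfsg.Agent.Blocks.LocalRing
import Cfsg.Agent.Blocks.Local
import Cfsg.Agent.Blocks.Osima
import Cfsg.Agent.Blocks.PPart
import Cfsg.Agent.Blocks.ModularTraces

/-!
# A lower bound for the number of characters in a block

If `ρ_1, …, ρ_r` are pairwise non-equivalent irreducible representations over the residue field,
lying in the block `B`, and `f_1, …, f_t` are local-integral functions in the span of `B` that vanish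
modulo the local ideal on `p`-regular elements and are independent modulo the local ideal, then
`r + t ≤ |B|`.
-/

set_option autoImplicit false

namespace Cfsg.Agent.Blocks.BlockRank

open Cfsg Module
open Cfsg.Agent.Blocks.Central Cfsg.Agent.Blocks.Local Cfsg.Agent.Blocks.Osima
open Cfsg.Agent.Blocks.PPart Cfsg.Agent.Blocks.ModularTraces Cfsg.Agent.Characters.Core

universe u

section lift

variable {M : Ideal AlgInt} [hP : M.IsPrime]

/-- Functions with values in the local ring that are linearly independent after reduction are
linearly independent over the complex numbers. -/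
theorem linearIndependent_of_redC {ι X : Type*} [Finite ι] [Finite X] (v : ι → X → ℂ)
    (hv : ∀ i x, MemLocalRing M (v i x))
    (h : LinearIndependent (ResField M) (fun i x => redC M (v i x))) :
    LinearIndependent ℂ v := by
  classical
  have := Fintype.ofFinite ι
  have := Fintype.ofFinite X
  -- coordinate functionals
  have hex : ∀ j : ι, ∃ φ : Module.Dual (ResField M) (X → ResField M),
      ∀ i, φ (fun x => redC M (v i x)) = if i = j then 1 else 0 := by
    intro j
    obtain ⟨φ, hφ⟩ := LinearMap.exists_extend ((Basis.span h).coord j)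
    refine ⟨φ, fun i => ?_⟩
    have h1 := LinearMap.congr_fun hφ (Basis.span h i)
    rw [Basis.coord_apply, Basis.repr_self, Finsupp.single_apply, LinearMap.comp_apply,
      Submodule.subtype_apply, Basis.span_apply] at h1
    exact h1
  choose φ hφ' using hex
  have hφ : ∀ i j, φ j (fun x => redC M (v i x)) = if i = j then 1 else 0 := fun i j => hφ' j i
  -- lifts
  have hl : ∀ (x : X) (j : ι), ∃ c : localRing M, red M c = φ j (Pi.single x 1) := fun x j =>
    red_surjective _
  choose c hc using hl
  let N : Matrix ι ι (localRing M) := fun i j => ∑ x, ⟨v i x, hv i x⟩ * c x j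
  have hN : N.map (red M) = 1 := by
    ext i j
    rw [Matrix.map_apply, Matrix.one_apply, ← hφ i j]
    have h1 : (fun x => redC M (v i x)) = ∑ x, redC M (v i x) • (Pi.single x 1 : X → ResField M) := by
      funext y
      simp [Finset.sum_apply, Pi.single_apply]
    have h2 : φ j (fun x => redC M (v i x)) = ∑ x, redC M (v i x) * φ j (Pi.single x 1) := by
      conv_lhs => rw [h1]
      rw [map_sum]
      exact Finset.sum_congr rfl fun x _ => by rw [map_smul, smul_eq_mul]
    rw [h2]
    have h3 : red M (∑ x, ⟨v i x, hv i x⟩ * c x j) =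
        ∑ x, red M (⟨v i x, hv i x⟩ * c x j) := map_sum _ _ _
    refine h3.trans (Finset.sum_congr rfl fun x _ => ?_)
    rw [map_mul, hc, redC_def (hv i x)]
  have hdet : red M N.det = 1 := by
    rw [RingHom.map_det]
    show (N.map (red M)).det = 1
    rw [hN, Matrix.det_one]
  have hdet0 : (N.map ((localRing M).subtype)).det ≠ 0 := by
    have h1 : (N.map ((localRing M).subtype)).det = (localRing M).subtype N.det := by
      rw [RingHom.map_det]; rfl
    rw [h1]
    intro h2
    have h3 : N.det = 0 := Subtype.ext h2
    rw [h3, map_zero] at hdet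
    exact zero_ne_one hdet
  rw [Fintype.linearIndependent_iff]
  intro a ha
  have h1 : Matrix.vecMul a (N.map ((localRing M).subtype)) = 0 := by
    funext j
    show ∑ i, a i * (((∑ x, ⟨v i x, hv i x⟩ * c x j : localRing M)) : ℂ) = 0
    have h2 : ∀ i, (((∑ x, ⟨v i x, hv i x⟩ * c x j : localRing M)) : ℂ) =
        ∑ x, v i x * (c x j : ℂ) := by
      intro i
      rw [AddSubmonoidClass.coe_finsetSum]
      rfl
    simp only [h2, Finset.mul_sum]
    rw [Finset.sum_comm]
    apply Finset.sum_eq_zero
    intro x _
    have h3 := congrFun ha x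
    rw [Finset.sum_apply] at h3
    calc ∑ i, a i * (v i x * (c x j : ℂ)) = (∑ i, (a i • v i) x) * (c x j : ℂ) := by
          rw [Finset.sum_mul]
          refine Finset.sum_congr rfl fun i _ => ?_
          rw [Pi.smul_apply, smul_eq_mul, mul_assoc]
      _ = 0 := by rw [h3]; simp
  have h2 := Matrix.eq_zero_of_vecMul_eq_zero hdet0 h1
  intro i
  exact congrFun h2 i

end lift

section blockOp

variable {G : Type u} [Group G] [Fintype G]

/-- Multiplication by the block idempotent on functions. -/
noncomputable def blockOp (B : Set (IrrCharacter G)) : (G → ℂ) →ₗ[ℂ] (G → ℂ) where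
  toFun f g := ∑ h, blockCoeff B h * f (h * g)
  map_add' f f' := by
    funext g
    simp only [Pi.add_apply, mul_add, Finset.sum_add_distrib]
  map_smul' c f := by
    funext g
    simp only [Pi.smul_apply, smul_eq_mul, RingHom.id_apply, Finset.mul_sum]
    exact Finset.sum_congr rfl fun _ _ => by ring

theorem blockOp_apply (B : Set (IrrCharacter G)) (f : G → ℂ) (g : G) :
    blockOp B f g = ∑ h, blockCoeff B h * f (h * g) := rfl

open scoped Classical in
theorem blockOp_irr (B : Set (IrrCharacter G)) (χ : IrrCharacter G) :
    blockOp B (χ : G → ℂ) = (if χ ∈ B then (1 : ℂ) else 0) • (χ : G → ℂ) := by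
  funext g
  rw [blockOp_apply, Pi.smul_apply, smul_eq_mul, ← omegaL_irrIdem B χ]
  have h1 := chExt_mul χ.2 (irrIdem_mem_center B) (MonoidAlgebra.single g 1)
  rw [chExt_single, one_mul] at h1
  rw [← h1, chExt_apply]
  refine Fintype.sum_equiv (Equiv.mulRight g) _ _ fun h => ?_
  rw [Equiv.coe_mulRight, MonoidAlgebra.coeff_mul_single_apply, coeff_irrIdem, mul_one,
    mul_inv_cancel_right]

theorem blockOp_mem_span (B : Set (IrrCharacter G)) {f : G → ℂ} (hf : IsClassFunction G f) :
    blockOp B f ∈ Submodule.span ℂ ((fun χ : IrrCharacter G => (χ : G → ℂ)) '' B) := by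
  classical
  have : Finite (IrrCharacter G) := finite_irr
  have := Fintype.ofFinite (IrrCharacter G)
  rw [classFunction_eq_sum hf, map_sum]
  refine Submodule.sum_mem _ fun χ _ => ?_
  rw [map_smul, blockOp_irr]
  refine Submodule.smul_mem _ _ ?_
  split_ifs with h
  · exact Submodule.smul_mem _ _ (Submodule.subset_span ⟨χ, h, rfl⟩)
  · rw [zero_smul]
    exact Submodule.zero_mem _

end blockOp

section main

variable {G : Type u} [Group G] [Finite G] {p : ℕ} [Fact p.Prime] {M : Ideal AlgInt}
  [hP : M.IsPrime]

/-- The lower bound. -/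
theorem add_le_card (hM : IsPModular p M) [IsAlgClosed (ResField M)] {B : Set (IrrCharacter G)}
    (hB : IsPBlock M B) {χ₀ : IrrCharacter G} (hχ₀ : χ₀ ∈ B)
    {ι κ : Type*} [Finite ι] [Finite κ] {V : ι → Type*} [∀ i, AddCommGroup (V i)]
    [∀ i, Module (ResField M) (V i)] [∀ i, FiniteDimensional (ResField M) (V i)]
    (ρ : ∀ i, Representation (ResField M) G (V i)) (hirr : ∀ i, (ρ i).IsIrreducible)
    (hne : ∀ i j, i ≠ j → IsEmpty (Representation.Equiv (ρ i) (ρ j)))
    (hcen : ∀ i (g : G), (ρ i).asAlgebraHom (classSum (ResField M) g) =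
      redC M (centralChar (χ₀ : G → ℂ) g) • 1)
    (f : κ → G → ℂ) (hfs : ∀ j, f j ∈
      Submodule.span ℂ ((fun χ : IrrCharacter G => (χ : G → ℂ)) '' B))
    (hfR : ∀ j g, MemLocalRing M (f j g))
    (hf0 : ∀ j g, ¬ p ∣ orderOf g → redC M (f j g) = 0)
    (hfi : LinearIndependent (ResField M) (fun j g => redC M (f j g))) :
    Nat.card ι + Nat.card κ ≤ Nat.card B := by
  classical
  have := Fintype.ofFinite G
  have := Fintype.ofFinite ι
  have := Fintype.ofFinite κ
  have : Finite (IrrCharacter G) := finite_irr
  have := Fintype.ofFinite B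
  have hchar : CharP (ResField M) p := charP_resField hM
  let tr : ι → G → ResField M := fun i g => LinearMap.trace (ResField M) (V i) (ρ i g)
  have htrc : ∀ i (g h : G), tr i (h * g * h⁻¹) = tr i g := by
    intro i g h
    show LinearMap.trace _ _ _ = LinearMap.trace _ _ _
    rw [map_mul, LinearMap.trace_mul_comm, ← map_mul]
    congr 2
    group
  -- lifts
  have hsec : ∀ x : ResField M, ∃ c : ℂ, MemLocalRing M c ∧ redC M c = x := by
    intro x
    obtain ⟨c, hc⟩ := red_surjective x
    exact ⟨c, c.2, by rw [redC_coe, hc]⟩
  choose s hsR hs using hsec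
  let τ : ι → G → ℂ := fun i g => s (tr i g)
  have hτ : ∀ i, IsClassFunction G (τ i) := by
    intro i g h
    show s _ = s _
    rw [htrc]
  let θ : ι → G → ℂ := fun i => blockOp B (τ i)
  have haR := memLocalRing_blockCoeff hM hB
  have hθR : ∀ i g, MemLocalRing M (θ i g) := by
    intro i g
    exact memLocalRing_sum fun h _ => memLocalRing_mul (haR h) (hsR _)
  -- the block idempotent acts as the identity
  let ebar : MonoidAlgebra (ResField M) G := ofFun (fun g => redC M (blockCoeff B g))
  have hebar : ebar ∈ Subalgebra.center (ResField M) (MonoidAlgebra (ResField M) G) := by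
    rw [mem_center_iff]
    intro g h
    show redC M (blockCoeff B _) = redC M (blockCoeff B _)
    rw [isClassFunction_blockCoeff B g h]
  have hact : ∀ i, (ρ i).asAlgebraHom ebar = 1 := by
    intro i
    have := Fintype.ofFinite (ConjClasses G)
    rw [eq_sum_classSum hebar, map_sum]
    have h1 : ∀ c : ConjClasses G, (ρ i).asAlgebraHom
        (ebar.coeff (Quotient.out c) • classSum (ResField M) (Quotient.out c : G)) =
        redC M (blockCoeff B (Quotient.out c) * centralChar (χ₀ : G → ℂ) (Quotient.out c)) •
          (1 : Module.End (ResField M) (V i)) := by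
      intro c
      rw [map_smul, hcen, smul_smul, redC_mul (haR _)
        (LocalRing.memLocalRing_of_isIntegral hM (isIntegral_centralChar χ₀.2 _))]
      rfl
    rw [Finset.sum_congr rfl fun c _ => h1 c, ← Finset.sum_smul, ← redC_sum,
      sum_blockCoeff_mul_centralChar hχ₀, redC_one, one_smul]
    intro c _
    exact memLocalRing_mul (haR _)
      (LocalRing.memLocalRing_of_isIntegral hM (isIntegral_centralChar χ₀.2 _))
  have hθred : ∀ i g, redC M (θ i g) = tr i g := by
    intro i g
    show redC M (∑ h, blockCoeff B h * τ i (h * g)) = _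
    rw [redC_sum fun h _ => memLocalRing_mul (haR h) (hsR _)]
    have h1 : ∀ h : G, redC M (blockCoeff B h * τ i (h * g)) =
        redC M (blockCoeff B h) * tr i (h * g) := by
      intro h
      rw [redC_mul (haR h) (hsR _), hs]
    rw [Finset.sum_congr rfl fun h _ => h1 h]
    have h2 : tr i g = LinearMap.trace (ResField M) (V i)
        ((ρ i).asAlgebraHom ebar * ρ i g) := by
      rw [hact, one_mul]
    have h3 : (ρ i).asAlgebraHom ebar = ∑ h, redC M (blockCoeff B h) • ρ i h := by
      have h4 : ebar = ∑ h, MonoidAlgebra.single h (redC M (blockCoeff B h)) := by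
        apply ext_coeff
        intro x
        rw [MonoidAlgebra.coeff_sum, Finsupp.finsetSum_apply]
        simp only [MonoidAlgebra.coeff_single, Finsupp.single_apply]
        rw [Finset.sum_ite_eq']
        simp [ebar]
      rw [h4, map_sum]
      refine Finset.sum_congr rfl fun h _ => ?_
      rw [Representation.asAlgebraHom_single]
    rw [h2, h3, Finset.sum_mul, map_sum]
    refine Finset.sum_congr rfl fun h _ => ?_
    rw [smul_mul_assoc, map_smul, ← map_mul, smul_eq_mul]
  have hθs : ∀ i, θ i ∈ Submodule.span ℂ ((fun χ : IrrCharacter G => (χ : G → ℂ)) '' B) :=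
    fun i => blockOp_mem_span B (hτ i)
  -- independence
  have hli : LinearIndependent (ResField M)
      (Sum.elim (fun i g => redC M (θ i g)) (fun j g => redC M (f j g)) : ι ⊕ κ → G → ResField M) := by
    have h1 : (fun (i : ι) (g : G) => redC M (θ i g)) = tr := by
      funext i g
      exact hθred i g
    rw [h1, linearIndependent_sum]
    refine ⟨?_, hfi, ?_⟩
    · exact linearIndependent_trace ρ hirr hne
    · rw [Submodule.disjoint_def]
      intro w hw1 hw2
      have hw1' : w ∈ Submodule.span (ResField M) (Set.range tr) := hw1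
      have hw2' : w ∈ Submodule.span (ResField M) (Set.range (fun j g => redC M (f j g))) := hw2
      rw [Submodule.mem_span_range_iff_exists_fun] at hw1' hw2'
      obtain ⟨c, hc⟩ := hw1'
      obtain ⟨d, hd⟩ := hw2'
      -- `w` vanishes at regular elements
      have hreg : ∀ y : G, ¬ p ∣ orderOf y → w y = 0 := by
        intro y hy
        rw [← hd, Finset.sum_apply]
        apply Finset.sum_eq_zero
        intro j _
        rw [Pi.smul_apply, hf0 j y hy, smul_zero]
      funext g
      obtain ⟨x, y, hxyg, hcomm, ⟨k, hk⟩, hy⟩ := exists_isPPart p g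
      have h2 : w g = w y := by
        rw [← hc, Finset.sum_apply, Finset.sum_apply]
        refine Finset.sum_congr rfl fun i _ => ?_
        rw [Pi.smul_apply, Pi.smul_apply]
        congr 1
        show LinearMap.trace _ _ _ = LinearMap.trace _ _ _
        rw [← hxyg]
        exact trace_eq_of_commute p (ρ i) hcomm (k := k) (by rw [← hk, pow_orderOf_eq_one])
      rw [h2, hreg y hy]
      rfl
  have hliC : LinearIndependent ℂ (Sum.elim θ f : ι ⊕ κ → G → ℂ) := by
    apply linearIndependent_of_redC (M := M)
    · rintro (i | j) g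
      · exact hθR i g
      · exact hfR j g
    · convert hli using 1
      funext x
      rcases x with i | j <;> rfl
  -- count
  have hrange : (fun χ : IrrCharacter G => (χ : G → ℂ)) '' B =
      Set.range (fun χ : B => ((χ : IrrCharacter G) : G → ℂ)) := by
    rw [Set.image_eq_range]
  let W := Submodule.span ℂ ((fun χ : IrrCharacter G => (χ : G → ℂ)) '' B)
  let w : ι ⊕ κ → W := fun x => ⟨Sum.elim θ f x, by
    rcases x with i | j
    · exact hθs i
    · exact hfs j⟩
  have hw : LinearIndependent ℂ w := by
    apply LinearIndependent.of_comp W.subtype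
    exact hliC
  have h1 := hw.fintype_card_le_finrank
  have h2 : finrank ℂ W ≤ Fintype.card B := by
    have h3 := finrank_range_le_card (R := ℂ) (fun χ : B => ((χ : IrrCharacter G) : G → ℂ))
    rw [← hrange] at h3
    exact h3
  rw [Nat.card_eq_fintype_card, Nat.card_eq_fintype_card, Nat.card_eq_fintype_card,
    ← Fintype.card_sum]
  exact h1.trans h2

end main

end Cfsg.Agent.Blocks.BlockRank
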