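import Mathlib

/-!
# Integer vectors of norm four with pairwise inner products three

At least five distinct integer vectors with squared norm `4`, pairwise inner products `3` and a common
entry `1` at the place `o` have two more places where they all agree (with entries `± 1`), and outside
these three places each of them has exactly one further nonzero entry, at pairwise distinct places.
-/

set_option autoImplicit false

namespace Cfsg.Agent.Blocks.Sunflower

open Finset

variable {X : Type*} [DecidableEq X]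

/-- At least five 3-sets which pairwise intersect in exactly two points have two points in common. -/
theorem exists_common_pair (F : Finset (Finset X)) (hF : 5 ≤ F.card)
    (h3 : ∀ S ∈ F, S.card = 3) (h2 : ∀ S ∈ F, ∀ S' ∈ F, S ≠ S' → (S ∩ S').card = 2) :
    ∃ T : Finset X, T.card = 2 ∧ ∀ S ∈ F, T ⊆ S := by
  obtain ⟨S₁, hS₁, S₂, hS₂, h12⟩ := Finset.one_lt_card.mp (show 1 < F.card by omega)
  refine ⟨S₁ ∩ S₂, h2 _ hS₁ _ hS₂ h12, ?_⟩
  by_contra hcon
  push Not at hcon
  obtain ⟨S₃, hS₃, hT3⟩ := hcon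
  have hTcard := h2 _ hS₁ _ hS₂ h12
  have hU : (S₁ ∪ S₂).card = 4 := by
    have := Finset.card_union_add_card_inter S₁ S₂
    rw [h3 _ hS₁, h3 _ hS₂, hTcard] at this
    omega
  have h31 : S₃ ≠ S₁ := by rintro rfl; exact hT3 inter_subset_left
  have h32 : S₃ ≠ S₂ := by rintro rfl; exact hT3 inter_subset_right
  have hlt : (S₃ ∩ (S₁ ∩ S₂)).card ≤ 1 := by
    by_contra hlt
    push Not at hlt
    apply hT3
    have h4 : S₃ ∩ (S₁ ∩ S₂) = S₁ ∩ S₂ :=
      Finset.eq_of_subset_of_card_le inter_subset_right (by rw [hTcard]; omega)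
    rw [← h4]
    exact inter_subset_left
  have h3U : S₃ ⊆ S₁ ∪ S₂ := by
    have h4 := Finset.card_union_add_card_inter (S₃ ∩ S₁) (S₃ ∩ S₂)
    rw [h2 _ hS₃ _ hS₁ h31, h2 _ hS₃ _ hS₂ h32, ← Finset.inter_union_distrib_left] at h4
    have h5 : (S₃ ∩ S₁) ∩ (S₃ ∩ S₂) = S₃ ∩ (S₁ ∩ S₂) := by
      ext x; simp only [mem_inter]; tauto
    rw [h5] at h4
    have h6 : S₃ ∩ (S₁ ∪ S₂) = S₃ :=
      Finset.eq_of_subset_of_card_le inter_subset_left (by rw [h3 _ hS₃]; omega)
    rw [← h6]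
    exact inter_subset_right
  have hall : ∀ S ∈ F, S ⊆ S₁ ∪ S₂ := by
    intro S hS
    by_contra hSU
    have hS1 : S ≠ S₁ := by rintro rfl; exact hSU subset_union_left
    have hS2 : S ≠ S₂ := by rintro rfl; exact hSU subset_union_right
    have hS3 : S ≠ S₃ := by rintro rfl; exact hSU h3U
    have hc : (S ∩ (S₁ ∪ S₂)).card ≤ 2 := by
      by_contra hc
      push Not at hc
      apply hSU
      have h6 : S ∩ (S₁ ∪ S₂) = S :=
        Finset.eq_of_subset_of_card_le inter_subset_left (by rw [h3 _ hS]; omega)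
      rw [← h6]
      exact inter_subset_right
    have h7 : S ∩ S₁ = S ∩ (S₁ ∪ S₂) :=
      Finset.eq_of_subset_of_card_le (inter_subset_inter_left subset_union_left)
        (by rw [h2 _ hS _ hS₁ hS1]; exact hc)
    have h8 : S ∩ S₂ = S ∩ (S₁ ∪ S₂) :=
      Finset.eq_of_subset_of_card_le (inter_subset_inter_left subset_union_right)
        (by rw [h2 _ hS _ hS₂ hS2]; exact hc)
    have h9 : S ∩ S₃ ⊆ S₃ ∩ (S₁ ∩ S₂) := by
      intro x hx
      rw [mem_inter] at hx
      have hxU : x ∈ S ∩ (S₁ ∪ S₂) := mem_inter.mpr ⟨hx.1, h3U hx.2⟩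
      have hx1 : x ∈ S ∩ S₁ := by rw [h7]; exact hxU
      have hx2 : x ∈ S ∩ S₂ := by rw [h8]; exact hxU
      exact mem_inter.mpr ⟨hx.2, mem_inter.mpr ⟨(mem_inter.mp hx1).2, (mem_inter.mp hx2).2⟩⟩
    have h10 := Finset.card_le_card h9
    rw [h2 _ hS _ hS₃ hS3] at h10
    omega
  have hsub : F ⊆ Finset.powersetCard 3 (S₁ ∪ S₂) := by
    intro S hS
    rw [Finset.mem_powersetCard]
    exact ⟨hall S hS, h3 S hS⟩
  have hcard := Finset.card_le_card hsub
  rw [Finset.card_powersetCard, hU] at hcard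
  have : Nat.choose 4 3 = 4 := by decide
  omega

variable [Fintype X]

theorem exists_common (o : X) (A : Finset (X → ℤ)) (hA : 5 ≤ A.card)
    (h0 : ∀ a ∈ A, a o = 1) (h4 : ∀ a ∈ A, ∑ x, a x * a x = 4)
    (h3 : ∀ a ∈ A, ∀ b ∈ A, a ≠ b → ∑ x, a x * b x = 3) :
    ∃ x y : X, x ≠ o ∧ y ≠ o ∧ x ≠ y ∧ ∃ d₁ d₂ : ℤ, (d₁ = 1 ∨ d₁ = -1) ∧ (d₂ = 1 ∨ d₂ = -1) ∧
      (∀ a ∈ A, a x = d₁ ∧ a y = d₂) ∧
      (∀ a ∈ A, ∃ z, z ≠ o ∧ z ≠ x ∧ z ≠ y ∧ (a z = 1 ∨ a z = -1) ∧
        ∀ w, w ≠ o → w ≠ x → w ≠ y → w ≠ z → a w = 0) ∧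
      ∀ a ∈ A, ∀ b ∈ A, a ≠ b → ∀ w, w ≠ o → w ≠ x → w ≠ y → a w = 0 ∨ b w = 0 := by
  classical
  let S : (X → ℤ) → Finset X := fun a => univ.filter (fun x => x ≠ o ∧ a x ≠ 0)
  have hSmem : ∀ a x, x ∈ S a ↔ x ≠ o ∧ a x ≠ 0 := by
    intro a x; simp [S]
  -- sums split off `o`
  have hsplit : ∀ a ∈ A, ∀ b ∈ A, ∑ x, a x * b x = 1 + ∑ x ∈ S a ∩ S b, a x * b x := by
    intro a ha b hb
    rw [← Finset.add_sum_erase _ _ (mem_univ o), h0 a ha, h0 b hb, one_mul]
    congr 1
    symm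
    apply Finset.sum_subset_zero_on_sdiff
    · intro x hx
      rw [mem_inter, hSmem, hSmem] at hx
      exact mem_erase.mpr ⟨hx.1.1, mem_univ x⟩
    · intro x hx
      rw [mem_sdiff, mem_inter, hSmem, hSmem, mem_erase] at hx
      by_cases hax : a x = 0
      · rw [hax, zero_mul]
      · by_cases hbx : b x = 0
        · rw [hbx, mul_zero]
        · exact absurd ⟨⟨hx.1.1, hax⟩, ⟨hx.1.1, hbx⟩⟩ hx.2
    · intro x _
      rfl
  -- entries are `0, ±1`
  have hent : ∀ a ∈ A, ∀ x, a x = 0 ∨ a x = 1 ∨ a x = -1 := by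
    intro a ha x
    by_cases hx : x = o
    · rw [hx, h0 a ha]; tauto
    by_cases hax : a x = 0
    · exact Or.inl hax
    have h5 := hsplit a ha a ha
    rw [h4 a ha, inter_self] at h5
    have h6 : a x * a x ≤ ∑ x ∈ S a, a x * a x :=
      Finset.single_le_sum (f := fun x => a x * a x) (fun y _ => mul_self_nonneg _)
        ((hSmem a x).mpr ⟨hx, hax⟩)
    have h7 : a x * a x ≤ 3 := by omega
    have h8 : a x ≤ 1 := by nlinarith
    have h9 : -1 ≤ a x := by nlinarith
    omega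
  have hS3 : ∀ a ∈ A, (S a).card = 3 := by
    intro a ha
    have h5 := hsplit a ha a ha
    rw [h4 a ha, inter_self] at h5
    have h6 : ∑ x ∈ S a, a x * a x = ∑ x ∈ S a, 1 := by
      refine Finset.sum_congr rfl fun x hx => ?_
      rcases hent a ha x with h | h | h
      · exact absurd h ((hSmem a x).mp hx).2
      · rw [h]; norm_num
      · rw [h]; norm_num
    rw [h6, Finset.sum_const, nsmul_eq_mul, mul_one] at h5
    omega
  have hprod : ∀ a ∈ A, ∀ b ∈ A, ∀ x ∈ S a ∩ S b, a x * b x = 1 ∨ a x * b x = -1 := by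
    intro a ha b hb x hx
    rw [mem_inter, hSmem, hSmem] at hx
    rcases hent a ha x with h | h | h
    · exact absurd h hx.1.2
    · rcases hent b hb x with h' | h' | h'
      · exact absurd h' hx.2.2
      · rw [h, h']; norm_num
      · rw [h, h']; norm_num
    · rcases hent b hb x with h' | h' | h'
      · exact absurd h' hx.2.2
      · rw [h, h']; norm_num
      · rw [h, h']; norm_num
  have hpair : ∀ a ∈ A, ∀ b ∈ A, a ≠ b → (S a ∩ S b).card = 2 ∧ ∀ x ∈ S a ∩ S b, a x = b x := by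
    intro a ha b hb hab
    have h5 := hsplit a ha b hb
    rw [h3 a ha b hb hab] at h5
    have h6 : (S a ∩ S b).card ≤ 3 := by
      rw [← hS3 a ha]; exact Finset.card_le_card inter_subset_left
    have h7 : ∑ x ∈ S a ∩ S b, (1 - a x * b x) = (S a ∩ S b).card - 2 := by
      rw [Finset.sum_sub_distrib, Finset.sum_const, nsmul_eq_mul, mul_one]
      omega
    have h8 : (2 : ℤ) ∣ ∑ x ∈ S a ∩ S b, (1 - a x * b x) := by
      refine Finset.dvd_sum fun x hx => ?_
      rcases hprod a ha b hb x hx with h | h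
      · rw [h]; norm_num
      · rw [h]; norm_num
    have h9 : 0 ≤ ∑ x ∈ S a ∩ S b, (1 - a x * b x) := by
      refine Finset.sum_nonneg fun x hx => ?_
      rcases hprod a ha b hb x hx with h | h
      · rw [h]; norm_num
      · rw [h]; norm_num
    have h10 : (S a ∩ S b).card = 2 := by
      rw [h7] at h8 h9
      omega
    refine ⟨h10, ?_⟩
    rw [h10] at h7
    have h11 : ∑ x ∈ S a ∩ S b, (1 - a x * b x) = 0 := by rw [h7]; norm_num
    rw [Finset.sum_eq_zero_iff_of_nonneg] at h11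
    · intro x hx
      have h12 := h11 x hx
      have hx' := hx
      rw [mem_inter, hSmem, hSmem] at hx'
      rcases hent a ha x with h | h | h
      · exact absurd h hx'.1.2
      · rw [h] at h12 ⊢; omega
      · rw [h] at h12 ⊢; omega
    · intro x hx
      rcases hprod a ha b hb x hx with h | h
      · rw [h]; norm_num
      · rw [h]; norm_num
  -- the family of supports
  have hinj : Set.InjOn S (A : Set (X → ℤ)) := by
    intro a ha b hb hab
    by_contra hne
    have h5 := (hpair a ha b hb hne).1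
    rw [hab, inter_self, hS3 b hb] at h5
    omega
  obtain ⟨T, hT2, hT⟩ := exists_common_pair (A.image S)
    (by rw [Finset.card_image_of_injOn hinj]; exact hA)
    (by
      intro s hs
      obtain ⟨a, ha, rfl⟩ := mem_image.mp hs
      exact hS3 a ha)
    (by
      intro s hs s' hs' hne
      obtain ⟨a, ha, rfl⟩ := mem_image.mp hs
      obtain ⟨b, hb, rfl⟩ := mem_image.mp hs'
      exact (hpair a ha b hb (fun h => hne (by rw [h]))).1)
  obtain ⟨x, y, hxy, rfl⟩ := Finset.card_eq_two.mp hT2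
  have hT' : ∀ a ∈ A, x ∈ S a ∧ y ∈ S a := by
    intro a ha
    have h5 := hT _ (mem_image_of_mem S ha)
    exact ⟨h5 (by simp), h5 (by simp)⟩
  have hne : A.Nonempty := by
    rw [← Finset.card_pos]; omega
  obtain ⟨a₀, ha₀⟩ := hne
  have hval : ∀ a ∈ A, a x = a₀ x ∧ a y = a₀ y := by
    intro a ha
    by_cases h : a = a₀
    · rw [h]; exact ⟨rfl, rfl⟩
    · have h5 := (hpair a ha a₀ ha₀ h).2
      exact ⟨h5 x (mem_inter.mpr ⟨(hT' a ha).1, (hT' a₀ ha₀).1⟩),
        h5 y (mem_inter.mpr ⟨(hT' a ha).2, (hT' a₀ ha₀).2⟩)⟩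
  refine ⟨x, y, ((hSmem _ _).mp (hT' a₀ ha₀).1).1, ((hSmem _ _).mp (hT' a₀ ha₀).2).1, hxy,
    a₀ x, a₀ y, ?_, ?_, hval, ?_, ?_⟩
  · rcases hent a₀ ha₀ x with h | h
    · exact absurd h ((hSmem _ _).mp (hT' a₀ ha₀).1).2
    · exact h
  · rcases hent a₀ ha₀ y with h | h
    · exact absurd h ((hSmem _ _).mp (hT' a₀ ha₀).2).2
    · exact h
  · intro a ha
    have h5 : ((S a).erase x).erase y = ((S a).erase x).erase y := rfl
    have h6 : (((S a).erase x).erase y).card = 1 := by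
      rw [Finset.card_erase_of_mem (mem_erase.mpr ⟨hxy.symm, (hT' a ha).2⟩),
        Finset.card_erase_of_mem (hT' a ha).1, hS3 a ha]
    obtain ⟨z, hz⟩ := Finset.card_eq_one.mp h6
    have hz' : z ∈ ((S a).erase x).erase y := by rw [hz]; simp
    rw [mem_erase, mem_erase, hSmem] at hz'
    refine ⟨z, hz'.2.2.1, hz'.2.1, hz'.1, ?_, ?_⟩
    · rcases hent a ha z with h | h
      · exact absurd h hz'.2.2.2
      · exact h
    · intro w hwo hwx hwy hwz
      by_contra haw
      have h7 : w ∈ ((S a).erase x).erase y := by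
        rw [mem_erase, mem_erase, hSmem]
        exact ⟨hwy, hwx, hwo, haw⟩
      rw [hz, mem_singleton] at h7
      exact hwz h7
  · intro a ha b hb hab w hwo hwx hwy
    by_contra hcon
    push Not at hcon
    have h5 : ({x, y, w} : Finset X) ⊆ S a ∩ S b := by
      intro v hv
      rw [mem_insert, mem_insert, mem_singleton] at hv
      rw [mem_inter]
      rcases hv with h | h | h
      · rw [h]; exact ⟨(hT' a ha).1, (hT' b hb).1⟩
      · rw [h]; exact ⟨(hT' a ha).2, (hT' b hb).2⟩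
      · rw [h]; exact ⟨(hSmem _ _).mpr ⟨hwo, hcon.1⟩, (hSmem _ _).mpr ⟨hwo, hcon.2⟩⟩
    have h6 := Finset.card_le_card h5
    rw [(hpair a ha b hb hab).1, Finset.card_eq_three.mpr ⟨x, y, w, hxy, hwx.symm, hwy.symm, rfl⟩] at h6
    omega

end Cfsg.Agent.Blocks.Sunflower
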