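import Mathlib
import Cfsg.Prelude.Def_Blocks
import Cfsg.Agent.Characters.Core
import Cfsg.Agent.Characters.Linear
import Cfsg.Agent.Characters.ClassMul
import Cfsg.Agent.Blocks.SemiregularGram
import Cfsg.Agent.Blocks.Sunflower
import Cfsg.Agent.Blocks.SylowColumns
import Cfsg.Agent.Blocks.ExistsModular

/-!
# Brauer's theorem on homocyclic Sylow 2-subgroups of rank two: the character-theoretic core

If an abelian Sylow `2`-subgroup `P` of `G` has order divisible by `16`, an element of order at least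
four, and `N_G(P)` acts on it as a group of order three, semiregularly on nonidentity elements, then
`G` has a nontrivial linear character which is trivial on `P`.
-/

set_option autoImplicit false

open scoped ComplexConjugate
open Cfsg Cfsg.Agent.Characters.Core Cfsg.Agent.Characters.Linear
open Cfsg.Agent.Blocks.SemiregularGram

namespace Cfsg.Agent.Blocks.BrauerHomocyclic

universe u

variable {G : Type u} [Group G]

/-- the arithmetic end game. -/
theorem arith (a b c : ℤ) (ha : a ≠ 0) (hb : b ≠ 0) (hc : c ≠ 0) (ha' : (16 : ℤ) ∣ a - 1)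
    (hb' : (16 : ℤ) ∣ b - 1) (h1 : 1 + a + b + c = 0)
    (h2 : (1 : ℚ) + 1 / a + 1 / b + 9 / c = 0) : a = 1 := by
  have haq : (a : ℚ) ≠ 0 := by exact_mod_cast ha
  have hbq : (b : ℚ) ≠ 0 := by exact_mod_cast hb
  have hcq : (c : ℚ) ≠ 0 := by exact_mod_cast hc
  have h3 : (a : ℚ) * b * c + b * c + a * c + 9 * a * b = 0 := by
    field_simp at h2
    linarith
  have h4 : a * b * c + b * c + a * c + 9 * a * b = 0 := by exact_mod_cast h3
  have hcc : c = -(1 + a + b) := by omega
  subst hcc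
  -- (1 + a + b) (a b + a + b) = 9 a b
  have h5 : (1 + a + b) * (a * b + a + b) = 9 * (a * b) := by linarith
  obtain ⟨r, hr⟩ := ha'
  obtain ⟨s, hs⟩ := hb'
  have har : a = 16 * r + 1 := by omega
  have hbs : b = 16 * s + 1 := by omega
  by_contra ha1
  have hr0 : r ≠ 0 := by rintro rfl; omega
  by_cases hs0 : s = 0
  · subst hs0
    have hb1 : b = 1 := by omega
    subst hb1
    have h6 : (a - 1) ^ 2 = 0 := by nlinarith
    have h7 : a - 1 = 0 := by simpa using h6
    omega
  -- both `|a|, |b| ≥ 15`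
  have hab : a * b ≠ 0 := mul_ne_zero ha hb
  -- (1 + a + b)(ab + a + b) = 9ab; put q = a b, t = a + b, t ≡ 2 mod 16
  have habs_a : 15 ≤ |a| := by
    rw [har]
    rcases lt_or_gt_of_ne hr0 with h | h
    · rw [abs_of_neg (by omega)]; omega
    · rw [abs_of_pos (by omega)]; omega
  have habs_b : 15 ≤ |b| := by
    rw [hbs]
    rcases lt_or_gt_of_ne hs0 with h | h
    · rw [abs_of_neg (by omega)]; omega
    · rw [abs_of_pos (by omega)]; omega
  -- |a + b| ≤ (2/15) |a b|
  have h8 : 15 * |a + b| ≤ 2 * |a * b| := by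
    have h9 : |a + b| ≤ |a| + |b| := abs_add_le a b
    rw [abs_mul]
    nlinarith
  -- let T = 1 + a + b
  have h10 : |1 + a + b| * |a * b + (a + b)| = 9 * |a * b| := by
    rw [← abs_mul, show (1 + a + b) * (a * b + (a + b)) = 9 * (a * b) by rw [← h5]; ring, abs_mul]
    norm_num
  have hq : 0 < |a * b| := abs_pos.mpr hab
  have h11 : |a * b + (a + b)| ≤ |a * b| + |a + b| := abs_add_le _ _
  have h12 : |a * b| - |a + b| ≤ |a * b + (a + b)| := by
    have := abs_add_le (a * b + (a + b)) (-(a + b))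
    rw [abs_neg, add_neg_cancel_right] at this
    omega
  have h13 : |1 + a + b| ≤ 10 := by
    by_contra h14
    push Not at h14
    have h15 : 11 * |a * b + (a + b)| ≤ |1 + a + b| * |a * b + (a + b)| :=
      mul_le_mul_of_nonneg_right (by omega) (abs_nonneg _)
    omega
  have h14 : 8 ≤ |1 + a + b| := by
    by_contra h14
    push Not at h14
    have h15 : |1 + a + b| * |a * b + (a + b)| ≤ 7 * |a * b + (a + b)| :=
      mul_le_mul_of_nonneg_right (by omega) (abs_nonneg _)
    omega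
  rcases abs_cases (1 + a + b) with h | h
  · omega
  · omega

/-- There is a nontrivial linear character of `P` with `l0 t = 1` whenever `t ^ 2 = 1`. -/
theorem exists_l0 {P : Type u} [Group P] [Finite P] (hab : ∀ x y : P, x * y = y * x)
    (u₀ : P) (hu₀ : u₀ ^ 2 ≠ 1) : ∃ l : P →* ℂˣ, l ≠ 1 ∧ ∀ t : P, t ^ 2 = 1 → l t = 1 := by
  classical
  letI : Fintype P := Fintype.ofFinite P
  have := finite_hom P
  letI : Fintype (P →* ℂˣ) := Fintype.ofFinite _
  have h1 : ∃ m : P →* ℂˣ, m (u₀ ^ 2) ≠ 1 := by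
    by_contra hcon
    push Not at hcon
    have h2 := sum_toFun_apply hab (u₀ ^ 2) hu₀
    simp only [toFun_apply, hcon, Units.val_one, Finset.sum_const, Finset.card_univ,
      nsmul_eq_mul, mul_one] at h2
    rw [card_hom hab] at h2
    exact card_ne_zero_complex h2
  obtain ⟨m, hm⟩ := h1
  refine ⟨m ^ 2, ?_, ?_⟩
  · intro h
    apply hm
    rw [map_pow]
    exact DFunLike.congr_fun h u₀
  · intro t ht
    change m t ^ 2 = 1
    rw [← map_pow, ht, map_one]

/-- The class function `g ↦ ∑ χ(t)² χ(g) / χ(1)` vanishes where `g` is not a product of two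
conjugates of the involution `t`; block version. -/
theorem sum_block_eq_zero [Finite G] (M : Ideal AlgInt) (hM : IsPModular 2 M) (t u : G)
    (ht : t⁻¹ = t) (hu : ∃ k : ℕ, orderOf u = 2 ^ k)
    (hreal : ¬ IsConj u u⁻¹) (hfin : (principalBlock M G).Finite) :
    ∑ χ ∈ hfin.toFinset, (χ : G → ℂ) u * ((χ : G → ℂ) t ^ 2 / (χ : G → ℂ) 1) = 0 := by
  classical
  have hfin' : Finite (IrrCharacter G) := finite_irr
  letI : Fintype (IrrCharacter G) := Fintype.ofFinite _
  letI : Fintype G := Fintype.ofFinite G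
  have : Fact (Nat.Prime 2) := ⟨Nat.prime_two⟩
  set c : IrrCharacter G → ℂ := fun χ => (χ : G → ℂ) t ^ 2 / (χ : G → ℂ) 1 with hc
  set ϑ : G → ℂ := ∑ χ : IrrCharacter G, c χ • (χ : G → ℂ) with hϑ
  have hcf : IsClassFunction G ϑ := by
    intro g x
    simp only [hϑ, Finset.sum_apply, Pi.smul_apply]
    exact Finset.sum_congr rfl fun χ _ => by rw [isIrr_isClassFunction χ.2 g x]
  have hB : IsPBlock M (principalBlock M G) := ⟨⟨fun _ => 1, isIrr_one⟩, rfl⟩
  have hvan : ∀ g z : G, IsPPart 2 g z → IsConj u z → ϑ g = 0 := by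
    intro g z hgz huz
    -- no pairs
    have hno : IsEmpty {q : G × G // IsConj t q.1 ∧ IsConj t q.2 ∧ q.1 * q.2 = g} := by
      constructor
      rintro ⟨⟨x, y⟩, hx, hy, hxy⟩
      simp only at hx hy hxy
      have hinv : ∀ w : G, IsConj t w → w⁻¹ = w := by
        intro w hw
        obtain ⟨d, hd⟩ := isConj_iff.mp hw
        rw [← hd]
        simp only [mul_inv_rev, inv_inv, ht, mul_assoc]
      have hx' := hinv x hx
      have hy' := hinv y hy
      -- x g x⁻¹ = g⁻¹
      have h1 : x * g * x⁻¹ = g⁻¹ := by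
        rw [← hxy, mul_inv_rev, hx', hy']
        have : x * x = 1 := by
          nth_rewrite 2 [← hx']
          exact mul_inv_cancel x
        rw [← mul_assoc, this, one_mul]
      -- the 2-part
      have h2 : IsPPart 2 (x * g * x⁻¹) (x * z * x⁻¹) :=
        Cfsg.Agent.Blocks.PPart.isPPart_conj hgz x
      have h3 : IsPPart 2 g⁻¹ z⁻¹ := by
        obtain ⟨y', hy1, hy2, ⟨k, hk⟩, hy3⟩ := hgz
        refine ⟨y'⁻¹, ?_, hy2.inv_inv, ⟨k, by rw [orderOf_inv, hk]⟩, by rwa [orderOf_inv]⟩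
        rw [← hy1, mul_inv_rev]
        exact (hy2.inv_inv).eq
      rw [h1] at h2
      have h4 := Cfsg.Agent.Blocks.PPart.isPPart_unique h2 h3
      apply hreal
      obtain ⟨d, hd⟩ := isConj_iff.mp huz
      refine isConj_iff.mpr ⟨d⁻¹ * x * d, ?_⟩
      have h5 : u = d⁻¹ * z * d := by rw [← hd]; group
      calc d⁻¹ * x * d * u * (d⁻¹ * x * d)⁻¹ = d⁻¹ * (x * (d * u * d⁻¹) * x⁻¹) * d := by group
        _ = d⁻¹ * (x * z * x⁻¹) * d := by rw [hd]
        _ = d⁻¹ * z⁻¹ * d := by rw [h4]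
        _ = u⁻¹ := by rw [h5]; group
    have h1 := Cfsg.Agent.Characters.ClassMul.card_class_mul t t g
    rw [Nat.card_of_isEmpty, Nat.cast_zero] at h1
    have h2 : ∑ χ : IrrCharacter G,
        (χ : G → ℂ) t * (χ : G → ℂ) t * conj ((χ : G → ℂ) g) / (χ : G → ℂ) 1 = 0 := by
      rcases mul_eq_zero.mp h1.symm with h | h
      · exfalso
        rw [div_eq_zero_iff, mul_self_eq_zero] at h
        rcases h with h | h
        · exact Subgroup.index_ne_zero_of_finite (H := Subgroup.centralizer ({t} : Set G))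
            (by exact_mod_cast h)
        · exact card_ne_zero_complex h
      · exact h
    have h3 : ϑ g = conj (∑ χ : IrrCharacter G,
        (χ : G → ℂ) t * (χ : G → ℂ) t * conj ((χ : G → ℂ) g) / (χ : G → ℂ) 1) := by
      simp only [hϑ, Finset.sum_apply, Pi.smul_apply, smul_eq_mul, map_sum]
      refine Finset.sum_congr rfl fun χ _ => ?_
      have h4 : conj ((χ : G → ℂ) t) = (χ : G → ℂ) t := by
        rw [← isCharacter_apply_inv (isIrr_isCharacter χ.2), ht]
      have h5 : conj ((χ : G → ℂ) 1) = (χ : G → ℂ) 1 := by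
        rw [← isCharacter_apply_inv (isIrr_isCharacter χ.2), inv_one]
      simp only [hc, map_div₀, map_mul, h4, h5, Complex.conj_conj]
      ring
    rw [h3, h2, map_zero]
  have hu1 : ¬ 2 ∣ orderOf (1 : G) := by
    rw [orderOf_one]; norm_num
  have h6 := (Cfsg.Agent.S0925.result 2 M hM).1 ϑ hcf u hu hvan _ hB u u
    ⟨1, mul_one _, Commute.one_right _, hu, hu1⟩ (IsConj.refl u)
  have h7 : blockPart (principalBlock M G) ϑ u =
      ∑ᶠ χ ∈ principalBlock M G, classInner ϑ (χ : G → ℂ) * (χ : G → ℂ) u := rfl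
  rw [h7, finsum_mem_eq_finite_toFinset_sum _ hfin] at h6
  rw [← h6]
  refine Finset.sum_congr rfl fun χ _ => ?_
  rw [hϑ, classInner_sum_smul_irr]
  simp only [hc]
  ring

/-- restricting characters to `P`: composing with a fusion automorphism does not change `coef`. -/
theorem coef_comp (P : Subgroup G) [Fintype P] (s : MulAut P)
    (hs : ∀ u : P, IsConj (u : G) (s u : P)) {χ : G → ℂ} (hχ : IsClassFunction G χ) (l : P →* ℂˣ) :
    coef P χ (l.comp s.toMonoidHom) = coef P χ l := by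
  rw [coef_eq, coef_eq]
  congr 1
  refine Fintype.sum_equiv s.toEquiv _ _ fun u => ?_
  obtain ⟨c, hc⟩ := isConj_iff.mp (hs u)
  have h1 : χ (s u : P) = χ u := by rw [← hc]; exact hχ _ _
  change χ u * (1 - conj (toFun l (s u))) = χ (s u : P) * (1 - conj (toFun l (s u)))
  rw [h1]

open scoped Classical in
/-- The core of Brauer's theorem. -/
theorem exists_linear_core [Finite G] (P : Subgroup G) (hab : ∀ x y : P, x * y = y * x)
    (hP2 : IsPGroup 2 P) (E : Subgroup (MulAut P)) (hEcard : Nat.card E = 3)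
    (hfus : ∀ u v : P, IsConj (u : G) (v : G) ↔ ∃ s ∈ E, s u = v)
    (hsr' : ∀ s ∈ E, ∀ u : P, u ≠ 1 → s u = u → s = 1)
    (M : Ideal AlgInt) (hM : IsPModular 2 M) (hfin : (principalBlock M G).Finite)
    (horth : ∀ u v : P, u ≠ 1 → ∑ χ ∈ hfin.toFinset, (χ : G → ℂ) u * conj ((χ : G → ℂ) v) =
      if IsConj (u : G) (v : G) then (Nat.card P : ℂ) else 0)
    (hcard : 16 ∣ Nat.card P) (u₀ : P) (hu₀ : u₀ ^ 2 ≠ 1) (t : P) (ht : t ≠ 1) (ht2 : t ^ 2 = 1) :
    ∃ f : G →* ℂˣ, f ≠ 1 ∧ ∀ u : P, f u = 1 := by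
  have : Fact (Nat.Prime 2) := ⟨Nat.prime_two⟩
  have hfin' : Finite (IrrCharacter G) := finite_irr
  letI : Fintype (IrrCharacter G) := Fintype.ofFinite _
  letI : Fintype P := Fintype.ofFinite P
  have := finite_hom P
  letI : Fintype (P →* ℂˣ) := Fintype.ofFinite _
  letI : Fintype E := Fintype.ofFinite E
  set B := hfin.toFinset with hBdef
  have hgram := gram (P : Subgroup G) hab E hfus hsr' B horth
  -- the trivial character
  let o : IrrCharacter G := ⟨1, isIrr_one⟩
  have hoB : o ∈ B := by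
    rw [hBdef, Set.Finite.mem_toFinset]
    intro g
    have hM' : M.IsPrime := hM.2.1.isPrime
    refine ⟨0, 1, M.zero_mem, ?_, ?_⟩
    · exact fun h => hM'.ne_top ((Ideal.eq_top_iff_one M).mpr h)
    · simp only [ZeroMemClass.coe_zero, zero_div]
      exact (sub_self _).symm
  -- integer coefficients
  choose n hn using fun (χ : IrrCharacter G) (l : P →* ℂˣ) =>
    coef_int (P : Subgroup G) (isIrr_isCharacter χ.2) l
  let a : (P →* ℂˣ) → IrrCharacter G → ℤ := fun l χ => if χ ∈ B then n χ l else 0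
  have ha : ∀ l χ, χ ∈ B → (a l χ : ℂ) = coef (P : Subgroup G) (χ : G → ℂ) l := by
    intro l χ hχ
    simp only [a, hχ, if_true]
    exact (hn χ l).symm
  have ha0 : ∀ l χ, χ ∉ B → a l χ = 0 := by
    intro l χ hχ
    simp only [a, hχ, if_false]
  have hgramZ : ∀ l m : P →* ℂˣ, l ≠ 1 → m ≠ 1 →
      ∑ χ, a l χ * a m χ = 3 + if ∃ s ∈ E, m.comp s.toMonoidHom = l then 1 else 0 := by
    intro l m hl hm
    have h1 := hgram l m hl hm
    have h2 : ((∑ χ, a l χ * a m χ : ℤ) : ℂ) =
        ∑ χ ∈ B, coef (P : Subgroup G) (χ : G → ℂ) l * conj (coef (P : Subgroup G) (χ : G → ℂ) m) := by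
      rw [← Finset.sum_subset (Finset.subset_univ B) (fun χ _ hχ => by rw [ha0 l χ hχ, zero_mul])]
      push_cast
      refine Finset.sum_congr rfl fun χ hχ => ?_
      rw [← ha l χ hχ, ← ha m χ hχ]
      simp
    rw [h1, hEcard] at h2
    have h3 : ((∑ χ, a l χ * a m χ : ℤ) : ℂ) =
        ((3 + if ∃ s ∈ E, m.comp s.toMonoidHom = l then 1 else 0 : ℤ) : ℂ) := by
      rw [h2]
      push_cast
      rfl
    exact_mod_cast h3
  have hcomp : ∀ l : P →* ℂˣ, ∀ s ∈ E, a (l.comp s.toMonoidHom) = a l := by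
    intro l s hs
    funext χ
    by_cases hχ : χ ∈ B
    · have h1 : ((a (l.comp s.toMonoidHom) χ : ℤ) : ℂ) = (a l χ : ℤ) := by
        rw [ha _ χ hχ, ha _ χ hχ]
        exact coef_comp _ s (fun u => (hfus u (s u)).mpr ⟨s, hs, rfl⟩) (isIrr_isClassFunction χ.2) l
      exact_mod_cast h1
    · rw [ha0 _ χ hχ, ha0 _ χ hχ]
  have hself : ∀ l : P →* ℂˣ, ∃ s ∈ E, l.comp s.toMonoidHom = l :=
    fun l => ⟨1, E.one_mem, by ext; rfl⟩
  have heq_iff : ∀ l m : P →* ℂˣ, l ≠ 1 → m ≠ 1 →
      (a l = a m ↔ ∃ s ∈ E, m.comp s.toMonoidHom = l) := by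
    intro l m hl hm
    constructor
    · intro h
      by_contra hcon
      have h1 := hgramZ l m hl hm
      rw [if_neg hcon, h] at h1
      have h2 := hgramZ m m hm hm
      rw [if_pos (hself m)] at h2
      omega
    · rintro ⟨s, hs, rfl⟩
      exact hcomp m s hs
  -- the vectors
  set L : Finset (P →* ℂˣ) := Finset.univ.erase 1 with hL
  have hLmem : ∀ l, l ∈ L ↔ l ≠ 1 := by intro l; simp [hL]
  set A : Finset (IrrCharacter G → ℤ) := L.image a with hA
  have hLcard : 15 ≤ L.card := by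
    rw [hL, Finset.card_erase_of_mem (Finset.mem_univ _), Finset.card_univ]
    have h1 := card_hom (P := P) hab
    have h2 : Fintype.card (P →* ℂˣ) = Nat.card P := by exact_mod_cast h1
    rw [h2]
    have h3 : 0 < Nat.card P := Nat.card_pos
    obtain ⟨k, hk⟩ := hcard
    omega
  have hA5 : 5 ≤ A.card := by
    have h1 : L.card ≤ 3 * (L.image a).card := by
      refine Finset.card_le_mul_card_image L 3 ?_
      intro v hv
      obtain ⟨m, hm, rfl⟩ := Finset.mem_image.mp hv
      have h2 : (L.filter fun l => a l = a m) ⊆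
          Finset.univ.image (fun s : E => m.comp (s : MulAut P).toMonoidHom) := by
        intro l hl
        rw [Finset.mem_filter] at hl
        obtain ⟨s, hs, hsl⟩ := (heq_iff l m ((hLmem l).mp hl.1) ((hLmem m).mp hm)).mp hl.2
        exact Finset.mem_image.mpr ⟨⟨s, hs⟩, Finset.mem_univ _, hsl⟩
      refine (Finset.card_le_card h2).trans (Finset.card_image_le.trans ?_)
      rw [Finset.card_univ, ← Nat.card_eq_fintype_card, hEcard]
    rw [hA]
    omega
  have hao : ∀ l : P →* ℂˣ, l ≠ 1 → a l o = 1 := by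
    intro l hl
    have h1 : ((a l o : ℤ) : ℂ) = 1 := by
      rw [ha l o hoB, coef, classInner_sub_right]
      have h2 : (fun u : P => (o : G → ℂ) u) = toFun (1 : P →* ℂˣ) := by
        rw [toFun_one]; rfl
      rw [h2, ← toFun_one, classInner_toFun, classInner_toFun, if_pos rfl, if_neg (Ne.symm hl),
        sub_zero]
    exact_mod_cast h1
  obtain ⟨x, y, hxo, hyo, hxy, d₁, d₂, hd₁, hd₂, hval, hz, hdisj⟩ :=
    Cfsg.Agent.Blocks.Sunflower.exists_common o A hA5
    (by
      intro v hv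
      obtain ⟨l, hl, rfl⟩ := Finset.mem_image.mp hv
      exact hao l ((hLmem l).mp hl))
    (by
      intro v hv
      obtain ⟨l, hl, rfl⟩ := Finset.mem_image.mp hv
      rw [hgramZ l l ((hLmem l).mp hl) ((hLmem l).mp hl), if_pos (hself l)]
      norm_num)
    (by
      intro v hv w hw hvw
      obtain ⟨l, hl, rfl⟩ := Finset.mem_image.mp hv
      obtain ⟨m, hm, rfl⟩ := Finset.mem_image.mp hw
      rw [hgramZ l m ((hLmem l).mp hl) ((hLmem m).mp hm), if_neg, add_zero]
      intro h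
      exact hvw ((heq_iff l m ((hLmem l).mp hl) ((hLmem m).mp hm)).mpr h))
  -- the special character of `P`
  obtain ⟨l₀, hl₀, hl₀2⟩ := exists_l0 hab u₀ hu₀
  have hAl : ∀ l : P →* ℂˣ, l ≠ 1 → a l ∈ A := fun l hl => Finset.mem_image_of_mem a ((hLmem l).mpr hl)
  obtain ⟨z, hzo, hzx, hzy, hz1, hz0⟩ := hz (a l₀) (hAl l₀ hl₀)
  have hd₁0 : d₁ ≠ 0 := by rcases hd₁ with h | h <;> rw [h] <;> norm_num
  have hd₂0 : d₂ ≠ 0 := by rcases hd₂ with h | h <;> rw [h] <;> norm_num
  have hz10 : a l₀ z ≠ 0 := by rcases hz1 with h | h <;> rw [h] <;> norm_num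
  have hxB : x ∈ B := by
    by_contra h
    exact hd₁0 (by rw [← (hval _ (hAl l₀ hl₀)).1, ha0 _ _ h])
  have hyB : y ∈ B := by
    by_contra h
    exact hd₂0 (by rw [← (hval _ (hAl l₀ hl₀)).2, ha0 _ _ h])
  have hzB : z ∈ B := by
    by_contra h
    exact hz10 (ha0 _ _ h)
  -- values of a "constant" character
  have hconst : ∀ (w : IrrCharacter G) (d : ℤ), w ∈ B → (∀ l : P →* ℂˣ, l ≠ 1 → a l w = d) →
      (∀ u : P, u ≠ 1 → (w : G → ℂ) u = d) := by
    intro w d hw hwd u hu
    rw [apply_eq_neg_sum (P : Subgroup G) hab (w : G → ℂ) u hu]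
    have h1 : ∀ l : P →* ℂˣ, coef (P : Subgroup G) (w : G → ℂ) l * toFun l u =
        d * toFun l u - if l = 1 then (d : ℂ) else 0 := by
      intro l
      by_cases hl : l = 1
      · subst hl
        simp [coef_one, toFun_one]
      · rw [← ha l w hw, hwd l hl]
        simp [hl]
    simp only [h1]
    rw [Finset.sum_sub_distrib, ← Finset.mul_sum, sum_toFun_apply hab u hu]
    simp
  have hconst1 : ∀ (w : IrrCharacter G) (d : ℤ), w ∈ B → (∀ l : P →* ℂˣ, l ≠ 1 → a l w = d) →
      ∃ k : ℤ, (w : G → ℂ) 1 = (Nat.card P : ℂ) * k + d := by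
    intro w d hw hwd
    have h0 := apply_one_eq (P : Subgroup G) hab (w : G → ℂ)
    obtain ⟨j, hj⟩ := classInner_isNat (isCharacter_comp (P : Subgroup G).subtype
      (isIrr_isCharacter w.2)) (isCharacter_one (G := P))
    have hj' : classInner (fun v : P => (w : G → ℂ) v) 1 = j := hj
    have h1 : ∑ l : P →* ℂˣ, coef (P : Subgroup G) (w : G → ℂ) l = (Nat.card P : ℂ) * d - d := by
      have h2 : ∀ l : P →* ℂˣ, coef (P : Subgroup G) (w : G → ℂ) l =
          d - if l = 1 then (d : ℂ) else 0 := by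
        intro l
        by_cases hl : l = 1
        · subst hl
          simp [coef_one]
        · rw [← ha l w hw, hwd l hl]
          simp [hl]
      simp only [h2]
      rw [Finset.sum_sub_distrib, Finset.sum_const, Finset.card_univ, nsmul_eq_mul, card_hom hab]
      simp
    refine ⟨j - d, ?_⟩
    rw [h0, hj', h1]
    push_cast
    ring
  have hxval := hconst x d₁ hxB (fun l hl => (hval _ (hAl l hl)).1)
  have hyval := hconst y d₂ hyB (fun l hl => (hval _ (hAl l hl)).2)
  -- value of `z` at `t`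
  have hzt : (z : G → ℂ) t = -3 * (a l₀ z : ℂ) := by
    rw [apply_eq_neg_sum (P : Subgroup G) hab (z : G → ℂ) t ht]
    have hO : (Finset.univ.image (fun s : E => l₀.comp (s : MulAut P).toMonoidHom)).card = 3 := by
      rw [Finset.card_image_of_injective, Finset.card_univ, ← Nat.card_eq_fintype_card, hEcard]
      intro s s' hss
      have h9 : l₀.comp ((s : MulAut P) * (s' : MulAut P)⁻¹).toMonoidHom = l₀ := by
        ext v
        have h10 : l₀ ((s : MulAut P) ((s' : MulAut P)⁻¹ v)) =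
            l₀ ((s' : MulAut P) ((s' : MulAut P)⁻¹ v)) :=
          DFunLike.congr_fun hss ((s' : MulAut P)⁻¹ v)
        rw [MulAut.apply_inv_self] at h10
        simp only [MonoidHom.comp_apply, MulEquiv.toMonoidHom_eq_coe, MonoidHom.coe_coe,
          MulAut.mul_apply, h10]
      have h12 := comp_eq_self hab _ (hsr' _ (E.mul_mem s.2 (E.inv_mem s'.2))) l₀ hl₀ h9
      rw [mul_inv_eq_one] at h12
      exact Subtype.ext h12
    have h1 : ∀ l : P →* ℂˣ, coef (P : Subgroup G) (z : G → ℂ) l * toFun l t =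
        if l ∈ Finset.univ.image (fun s : E => l₀.comp (s : MulAut P).toMonoidHom) then
          (a l₀ z : ℂ) else 0 := by
      intro l
      split_ifs with hl
      · obtain ⟨s, -, rfl⟩ := Finset.mem_image.mp hl
        rw [← ha _ z hzB, hcomp l₀ s s.2]
        have h2 : toFun (l₀.comp (s : MulAut P).toMonoidHom) t = 1 := by
          have h3 : l₀ ((s : MulAut P) t) = 1 := by
            apply hl₀2
            rw [← map_pow, ht2, map_one]
          change ((l₀ ((s : MulAut P) t) : ℂˣ) : ℂ) = 1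
          rw [h3, Units.val_one]
        rw [h2, mul_one]
      · by_cases hl1 : l = 1
        · rw [hl1, coef_one, zero_mul]
        · have h4 : a l₀ ≠ a l := by
            intro h
            obtain ⟨s, hs, hsl⟩ := (heq_iff l l₀ hl1 hl₀).mp h.symm
            exact hl (Finset.mem_image.mpr ⟨⟨s, hs⟩, Finset.mem_univ _, hsl⟩)
          have h5 := (hdisj (a l₀) (hAl l₀ hl₀) (a l) (hAl l hl1) h4 z hzo hzx hzy).resolve_left hz10
          rw [← ha l z hzB, h5]
          simp
    simp only [h1]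
    rw [Finset.sum_ite_mem, Finset.univ_inter, Finset.sum_const, hO]
    simp
  -- a sum over `B` weighted by `a l₀` has four terms
  have hfour : ∀ F : IrrCharacter G → ℂ, ∑ χ ∈ B, coef (P : Subgroup G) (χ : G → ℂ) l₀ * F χ =
      F o + d₁ * F x + d₂ * F y + (a l₀ z : ℂ) * F z := by
    intro F
    have h1 : ∑ χ ∈ B, coef (P : Subgroup G) (χ : G → ℂ) l₀ * F χ =
        ∑ χ ∈ ({o, x, y, z} : Finset (IrrCharacter G)), (a l₀ χ : ℂ) * F χ := by
      have h2 : ∑ χ ∈ B, coef (P : Subgroup G) (χ : G → ℂ) l₀ * F χ =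
          ∑ χ ∈ B, (a l₀ χ : ℂ) * F χ :=
        Finset.sum_congr rfl fun χ hχ => by rw [ha l₀ χ hχ]
      rw [h2]
      symm
      apply Finset.sum_subset
      · intro w hw
        simp only [Finset.mem_insert, Finset.mem_singleton] at hw
        rcases hw with h | h | h | h <;> rw [h] <;> assumption
      · intro w _ hw
        simp only [Finset.mem_insert, Finset.mem_singleton, not_or] at hw
        rw [hz0 w hw.1 hw.2.1 hw.2.2.1 hw.2.2.2]
        simp
    rw [h1, Finset.sum_insert (by simp [hxo.symm, hyo.symm, hzo.symm]),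
      Finset.sum_insert (by simp [hxy, hzx.symm]), Finset.sum_insert (by simpa using hzy.symm),
      Finset.sum_singleton, hao l₀ hl₀, (hval _ (hAl l₀ hl₀)).1, (hval _ (hAl l₀ hl₀)).2]
    push_cast
    ring
  -- expand `coef`
  have hexp : ∀ F : IrrCharacter G → ℂ,
      (∀ u : P, l₀ u ≠ 1 → ∑ χ ∈ B, (χ : G → ℂ) u * F χ = 0) →
      ∑ χ ∈ B, coef (P : Subgroup G) (χ : G → ℂ) l₀ * F χ = 0 := by
    intro F hF
    have h1 : ∑ χ ∈ B, coef (P : Subgroup G) (χ : G → ℂ) l₀ * F χ =
        (Nat.card P : ℂ)⁻¹ * ∑ u : P, (1 - conj (toFun l₀ u)) *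
          ∑ χ ∈ B, (χ : G → ℂ) u * F χ := by
      have h2 : ∀ χ : IrrCharacter G, coef (P : Subgroup G) (χ : G → ℂ) l₀ * F χ =
          (Nat.card P : ℂ)⁻¹ * ∑ u : P, (1 - conj (toFun l₀ u)) * ((χ : G → ℂ) u * F χ) := by
        intro χ
        rw [coef_eq, mul_assoc, Finset.sum_mul]
        congr 1
        refine Finset.sum_congr rfl fun u _ => ?_
        ring
      simp only [h2]
      rw [← Finset.mul_sum, Finset.sum_comm]
      congr 1
      refine Finset.sum_congr rfl fun u _ => ?_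
      rw [Finset.mul_sum]
    rw [h1]
    apply mul_eq_zero_of_right
    refine Finset.sum_eq_zero fun u _ => ?_
    by_cases hu : l₀ u = 1
    · rw [toFun_apply, hu]; simp
    · rw [hF u hu, mul_zero]
  -- degree relation
  have hR1 := hexp (fun χ => (χ : G → ℂ) 1) (by
    intro u hu
    have hu1 : u ≠ 1 := by rintro rfl; exact hu (map_one _)
    have h1 := horth u 1 hu1
    rw [if_neg] at h1
    · rw [← h1]
      refine Finset.sum_congr rfl fun χ _ => ?_
      have h5 : conj ((χ : G → ℂ) 1) = (χ : G → ℂ) 1 := by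
        rw [← isCharacter_apply_inv (isIrr_isCharacter χ.2), inv_one]
      rw [show (((1 : P) : G)) = 1 from rfl, h5]
    · intro h
      obtain ⟨c, hc⟩ := isConj_iff.mp h
      apply hu1
      apply Subtype.ext
      have : (u : G) = c⁻¹ * (((1 : P) : G)) * c := by rw [← hc]; group
      rw [this, show (((1 : P) : G)) = 1 from rfl]
      group)
  rw [hfour] at hR1
  -- involution relation
  have htinv : ((t : G))⁻¹ = t := by
    have h1 : (t : G) ^ 2 = 1 := by
      have := congrArg Subtype.val ht2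
      simpa using this
    rw [inv_eq_iff_mul_eq_one, ← pow_two, h1]
  have hR2 := hexp (fun χ => (χ : G → ℂ) t ^ 2 / (χ : G → ℂ) 1) (by
    intro u hu
    have hu2 : u ^ 2 ≠ 1 := fun h => hu (hl₀2 u h)
    have hu1 : u ≠ 1 := by rintro rfl; exact hu (map_one _)
    refine sum_block_eq_zero M hM (t : G) (u : G) htinv ?_ ?_ hfin
    · rw [orderOf_submonoid]
      exact (IsPGroup.iff_orderOf.mp hP2) u
    · intro h
      obtain ⟨s, hs, hsu⟩ := (hfus u u⁻¹).mp h
      -- s ^ 2 u = u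
      have h1 : (s * s) u = u := by
        rw [MulAut.mul_apply, hsu, map_inv, hsu, inv_inv]
      have h2 : s * s = 1 := hsr' _ (E.mul_mem hs hs) u hu1 h1
      have h3 : s ^ 3 = 1 := by
        have h4 : (⟨s, hs⟩ : E) ^ Nat.card E = 1 := pow_card_eq_one'
        rw [hEcard] at h4
        exact congrArg Subtype.val h4
      have h5 : s = 1 := by
        rw [pow_succ, pow_two, h2, one_mul] at h3
        exact h3
      rw [h5, MulAut.one_apply] at hsu
      apply hu2
      rw [pow_two]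
      nth_rewrite 2 [hsu]
      exact mul_inv_cancel u)
  rw [hfour] at hR2
  -- evaluate
  obtain ⟨nx, hnx0, hnx⟩ := isIrr_apply_one x.2
  obtain ⟨ny, hny0, hny⟩ := isIrr_apply_one y.2
  obtain ⟨nz, hnz0, hnz⟩ := isIrr_apply_one z.2
  have ho1 : (o : G → ℂ) 1 = 1 := rfl
  have hot : (o : G → ℂ) t = 1 := rfl
  simp only [ho1, hot, hxval t ht, hyval t ht, hzt, hnx, hny, hnz] at hR1 hR2
  have hd₁s : (d₁ : ℂ) ^ 2 = 1 := by rcases hd₁ with h | h <;> rw [h] <;> norm_num
  have hd₂s : (d₂ : ℂ) ^ 2 = 1 := by rcases hd₂ with h | h <;> rw [h] <;> norm_num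
  have hd₃s : (a l₀ z : ℂ) ^ 2 = 1 := by rcases hz1 with h | h <;> rw [h] <;> norm_num
  have hnx' : (nx : ℂ) ≠ 0 := by exact_mod_cast hnx0.ne'
  have hny' : (ny : ℂ) ≠ 0 := by exact_mod_cast hny0.ne'
  have hnz' : (nz : ℂ) ≠ 0 := by exact_mod_cast hnz0.ne'
  set d₃ := a l₀ z with hd₃def
  have hkey1 : 1 + d₁ * (nx : ℤ) + d₂ * (ny : ℤ) + d₃ * (nz : ℤ) = 0 := by exact_mod_cast hR1
  have hkey2 : (1 : ℚ) + 1 / ((d₁ * (nx : ℤ) : ℤ) : ℚ) + 1 / ((d₂ * (ny : ℤ) : ℤ) : ℚ) +
      9 / ((d₃ * (nz : ℤ) : ℤ) : ℚ) = 0 := by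
    have h1 : (1 : ℂ) + 1 / ((d₁ * (nx : ℤ) : ℤ) : ℂ) + 1 / ((d₂ * (ny : ℤ) : ℤ) : ℂ) +
      9 / ((d₃ * (nz : ℤ) : ℤ) : ℂ) = 0 := by
      rw [← hR2]
      have e1 : (1 : ℂ) / ((d₁ * (nx : ℤ) : ℤ) : ℂ) = d₁ * ((d₁ : ℂ) ^ 2 / nx) := by
        rw [hd₁s]
        have : (d₁ : ℂ) ≠ 0 := by exact_mod_cast hd₁0
        push_cast
        field_simp
        exact hd₁s.symm
      have e2 : (1 : ℂ) / ((d₂ * (ny : ℤ) : ℤ) : ℂ) = d₂ * ((d₂ : ℂ) ^ 2 / ny) := by
        rw [hd₂s]
        have : (d₂ : ℂ) ≠ 0 := by exact_mod_cast hd₂0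
        push_cast
        field_simp
        exact hd₂s.symm
      have e3 : (9 : ℂ) / ((d₃ * (nz : ℤ) : ℤ) : ℂ) = d₃ * ((-3 * (d₃ : ℂ)) ^ 2 / nz) := by
        rw [mul_pow, hd₃s]
        have : (d₃ : ℂ) ≠ 0 := by exact_mod_cast hz10
        push_cast
        field_simp
        rw [hd₃s]
        norm_num
      rw [e1, e2, e3]
      norm_num
    exact_mod_cast h1
  have h16 : ∀ (w : IrrCharacter G) (nw : ℕ) (d : ℤ), (w : G → ℂ) 1 = nw → (d = 1 ∨ d = -1) →
      (∃ k : ℤ, (w : G → ℂ) 1 = (Nat.card P : ℂ) * k + d) → (16 : ℤ) ∣ d * (nw : ℤ) - 1 := by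
    rintro w nw d hw hd ⟨k, hk⟩
    rw [hw] at hk
    have hk' : (nw : ℤ) = (Nat.card P : ℤ) * k + d := by exact_mod_cast hk
    obtain ⟨j, hj⟩ := hcard
    rw [hk', hj]
    have hdd : d * d = 1 := by rcases hd with h | h <;> rw [h] <;> norm_num
    refine ⟨d * (j * k), ?_⟩
    push_cast
    linear_combination hdd
  have hax := h16 x nx d₁ hnx hd₁ (hconst1 x d₁ hxB (fun l hl => (hval _ (hAl l hl)).1))
  have hay := h16 y ny d₂ hny hd₂ (hconst1 y d₂ hyB (fun l hl => (hval _ (hAl l hl)).2))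
  have hfinal := arith (d₁ * (nx : ℤ)) (d₂ * (ny : ℤ)) (d₃ * (nz : ℤ))
    (mul_ne_zero hd₁0 (by exact_mod_cast hnx0.ne')) (mul_ne_zero hd₂0 (by exact_mod_cast hny0.ne'))
    (mul_ne_zero hz10 (by exact_mod_cast hnz0.ne')) hax hay hkey1 hkey2
  have hd₁1 : d₁ = 1 := by
    rcases hd₁ with h | h
    · exact h
    · rw [h] at hfinal
      have : (0 : ℤ) < nx := by exact_mod_cast hnx0
      omega
  have hnx1 : nx = 1 := by
    rw [hd₁1, one_mul] at hfinal
    exact_mod_cast hfinal
  rw [hnx1, Nat.cast_one] at hnx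
  obtain ⟨f, hf⟩ := exists_hom_of_isIrrCharacter x.2 hnx
  refine ⟨f, ?_, ?_⟩
  · rintro rfl
    apply hxo
    apply Subtype.ext
    rw [hf]
    funext g
    simp [o]
  · intro u
    by_cases hu : u = 1
    · rw [hu]; exact map_one f
    · have h1 := hxval u hu
      rw [hf, hd₁1] at h1
      simp only [Int.cast_one] at h1
      exact Units.ext h1

theorem exists_linear [Finite G] (P : Sylow 2 G) (hab : ∀ x y : P, x * y = y * x)
    (hsr : ∀ z ∈ (P : Subgroup G), z ≠ 1 →
      Subgroup.centralizer ({z} : Set G) ⊓ Subgroup.normalizer ((P : Subgroup G) : Set G) =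
      Subgroup.centralizer ((P : Subgroup G) : Set G))
    (hE : (Subgroup.centralizer ((P : Subgroup G) : Set G)).relIndex
      (Subgroup.normalizer ((P : Subgroup G) : Set G)) = 3)
    (hcard : 16 ∣ Nat.card P) (u₀ : P) (hu₀ : u₀ ^ 2 ≠ 1) (t : P) (ht : t ≠ 1) (ht2 : t ^ 2 = 1) :
    ∃ f : G →* ℂˣ, f ≠ 1 ∧ ∀ u : P, f u = 1 := by
  have : Fact (Nat.Prime 2) := ⟨Nat.prime_two⟩
  obtain ⟨M, hM⟩ := Cfsg.Agent.Blocks.ExistsModular.exists_isPModular Nat.prime_two
  have hfin' : Finite (IrrCharacter G) := finite_irr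
  have hfin : (principalBlock M G).Finite := Set.toFinite _
  exact exists_linear_core (P : Subgroup G) hab P.isPGroup'
    ((P : Subgroup G).normalizerMonoidHom.range)
    (by rw [Cfsg.Agent.Blocks.SylowColumns.card_range, hE])
    (fun u v => Cfsg.Agent.Blocks.SylowColumns.fus P hab u v)
    (Cfsg.Agent.Blocks.SylowColumns.sr (P : Subgroup G) hsr) M hM hfin
    (fun u v hu => Cfsg.Agent.Blocks.SylowColumns.columns M hM P hab hsr hfin u v hu)
    hcard u₀ hu₀ t ht ht2

end Cfsg.Agent.Blocks.BrauerHomocyclic
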