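import Mathlib
import Cfsg.Prelude.Def_Blocks
import Cfsg.Agent.Characters.Central
import Cfsg.Agent.Characters.Values
import Cfsg.Agent.Blocks.Local
import Cfsg.Agent.Blocks.Induced

/-!
# Elementary central character theory

* `om χ f` : the central character of `χ` extended to functions, `(∑ f g * χ g) / χ 1`.
* `om_mul` : multiplicativity on class functions (with convolution `conv`).
* `om_eq_sum_conjClasses` : `om` as a sum over classes of `f * centralChar`.
* `isIntegral_centralChar` : central characters are algebraic integers.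
* `ncard_modEq_ncard_inter` : fixed point counting for conjugation by a `p`-subgroup.
* `exists_minimal_class` : min-max statement for a class of minimal defect with nonzero central
  character (no idempotents needed).
-/

set_option autoImplicit false
set_option linter.unusedSectionVars false

open Cfsg
open Cfsg.Agent.Blocks.Local

namespace Cfsg.Agent.Blocks.Elementary

section Om

variable {G : Type*} [Group G] [Fintype G]

/-- The central character of `χ` on a function `f` (an element of the group algebra). -/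
noncomputable def om (χ f : G → ℂ) : ℂ := (∑ g, f g * χ g) / χ 1

theorem om_def (χ f : G → ℂ) : om χ f = (∑ g, f g * χ g) / χ 1 := rfl

/-- Convolution. -/
noncomputable def conv (f f' : G → ℂ) (g : G) : ℂ := ∑ x, f x * f' (x⁻¹ * g)

theorem conv_def (f f' : G → ℂ) (g : G) : conv f f' g = ∑ x, f x * f' (x⁻¹ * g) := rfl

theorem isClassFunction_conv {f f' : G → ℂ} (hf : IsClassFunction G f)
    (hf' : IsClassFunction G f') : IsClassFunction G (conv f f') := by
  intro g h
  rw [conv_def, conv_def]
  refine Fintype.sum_equiv (MulAut.conj h⁻¹).toEquiv _ _ fun x => ?_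
  simp only [MulEquiv.toEquiv_eq_coe, EquivLike.coe_coe, MulAut.conj_apply, inv_inv]
  have h1 : f (h⁻¹ * x * h) = f x := by
    have := hf x h⁻¹
    rwa [inv_inv] at this
  have h2 : f' ((h⁻¹ * x * h)⁻¹ * g) = f' (x⁻¹ * (h * g * h⁻¹)) := by
    rw [← hf' _ h]
    congr 1
    group
  rw [h1, h2]

theorem sum_smul_mul_sum_smul {V : Type*} [AddCommGroup V] [Module ℂ V]
    (ρ : Representation ℂ G V) (f f' : G → ℂ) :
    (∑ g, f g • ρ g) * (∑ g, f' g • ρ g) = ∑ g, conv f f' g • ρ g := by
  rw [Finset.sum_mul_sum]
  simp only [conv_def, Finset.sum_smul]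
  rw [Finset.sum_comm (s := Finset.univ) (t := Finset.univ) (f := fun g x => (f x * f' (x⁻¹ * g)) • ρ g)]
  refine Finset.sum_congr rfl fun x _ => ?_
  refine Fintype.sum_equiv (Equiv.mulLeft x) _ _ fun y => ?_
  simp only [Equiv.coe_mulLeft, inv_mul_cancel_left]
  rw [smul_mul_smul_comm, ← map_mul]

/-- Multiplicativity of the central character. -/
theorem om_mul {χ : G → ℂ} (hχ : IsIrrCharacter G χ) {f f' : G → ℂ} (hf : IsClassFunction G f)
    (hf' : IsClassFunction G f') : om χ f * om χ f' = om χ (conv f f') := by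
  obtain ⟨n, ρ, hρ, rfl⟩ := hχ
  have h1 := Characters.Central.sum_classFun_smul ρ hρ hf
  have h2 := Characters.Central.sum_classFun_smul ρ hρ hf'
  have h3 := Characters.Central.sum_classFun_smul ρ hρ (isClassFunction_conv hf hf')
  have h4 := sum_smul_mul_sum_smul ρ f f'
  rw [h1, h2, h3, smul_mul_smul_comm, one_mul] at h4
  have hne := Characters.Central.char_one_ne_zero ρ hρ
  have h5 := congrArg (LinearMap.trace ℂ (Fin n → ℂ)) h4
  rw [map_smul, map_smul, smul_eq_mul, smul_eq_mul] at h5
  have h6 : LinearMap.trace ℂ (Fin n → ℂ) 1 = ρ.character 1 := by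
    rw [LinearMap.trace_one, Representation.char_one]
  rw [h6] at h5
  exact mul_right_cancel₀ hne h5

theorem isClassFunction_irr {χ : G → ℂ} (hχ : IsIrrCharacter G χ) : IsClassFunction G χ :=
  Induced.isClassFunction_of_isIrrCharacter hχ

theorem eq_of_isConj {f : G → ℂ} (hf : IsClassFunction G f) {g h : G} (hgh : IsConj g h) :
    f g = f h := by
  obtain ⟨x, rfl⟩ := isConj_iff.1 hgh
  exact (hf g x).symm

/-- Sum over the group as a sum over conjugacy classes. -/
theorem sum_eq_sum_conjClasses [Fintype (ConjClasses G)] {F : G → ℂ} (hF : IsClassFunction G F) :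
    ∑ g, F g = ∑ c : ConjClasses G,
      ((Subgroup.centralizer ({Quotient.out c} : Set G)).index : ℂ) * F (Quotient.out c) := by
  classical
  rw [← Finset.sum_fiberwise (Finset.univ) (fun x : G => ConjClasses.mk x) F]
  refine Finset.sum_congr rfl fun c _ => ?_
  have hr : ConjClasses.mk (Quotient.out c) = c := Quotient.out_eq c
  rw [Finset.sum_congr rfl (g := fun _ => F (Quotient.out c)) (fun x hx => by
    have h1 := (Finset.mem_filter.1 hx).2
    rw [← hr, ConjClasses.mk_eq_mk_iff_isConj] at h1
    exact eq_of_isConj hF h1)]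
  rw [Finset.sum_const, nsmul_eq_mul]
  congr 2
  rw [← Induced.ncard_conj_eq_index, Set.ncard_eq_toFinset_card _ (Set.toFinite _)]
  congr 1
  ext y
  simp only [Finset.mem_filter, Finset.mem_univ, true_and, Set.Finite.mem_toFinset,
    Set.mem_ofPred_eq]
  rw [← ConjClasses.mk_eq_mk_iff_isConj, hr, eq_comm]

theorem om_eq_sum_conjClasses [Fintype (ConjClasses G)] {χ f : G → ℂ} (hχ : IsIrrCharacter G χ)
    (hf : IsClassFunction G f) :
    om χ f = ∑ c : ConjClasses G, f (Quotient.out c) * centralChar χ (Quotient.out c) := by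
  have h1 : IsClassFunction G (fun g => f g * χ g) := by
    intro g h
    show f (h * g * h⁻¹) * χ (h * g * h⁻¹) = f g * χ g
    rw [hf g h, isClassFunction_irr hχ g h]
  rw [om_def, sum_eq_sum_conjClasses h1, Finset.sum_div]
  refine Finset.sum_congr rfl fun c _ => ?_
  unfold centralChar
  ring

open Classical in
/-- The indicator function of the class of `g`. -/
noncomputable def cls (g : G) : G → ℂ := fun x => if IsConj g x then 1 else 0

open Classical in
theorem cls_def (g x : G) : cls g x = if IsConj g x then 1 else 0 := rfl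

theorem isClassFunction_cls (g : G) : IsClassFunction G (cls g) := by
  intro x h
  rw [cls_def, cls_def]
  have : IsConj g (h * x * h⁻¹) ↔ IsConj g x := by
    constructor
    · intro h1
      exact h1.trans (isConj_iff.2 ⟨h⁻¹, by group⟩)
    · intro h1
      exact h1.trans (isConj_iff.2 ⟨h, rfl⟩)
  by_cases h1 : IsConj g x
  · rw [if_pos h1, if_pos (this.2 h1)]
  · rw [if_neg h1, if_neg (mt this.1 h1)]

theorem om_cls {χ : G → ℂ} (hχ : IsIrrCharacter G χ) (g : G) : om χ (cls g) = centralChar χ g := by
  classical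
  rw [om_def]
  have h1 : ∑ x, cls g x * χ x = ∑ x ∈ (Set.toFinite {y : G | IsConj g y}).toFinset, χ g := by
    rw [← Finset.sum_subset (Finset.subset_univ (Set.toFinite {y : G | IsConj g y}).toFinset)]
    · refine Finset.sum_congr rfl fun x hx => ?_
      have hx : IsConj g x := by simpa using hx
      rw [cls_def, if_pos hx, one_mul, eq_of_isConj (isClassFunction_irr hχ) hx]
    · intro x _ hx
      have hx : ¬ IsConj g x := by simpa using hx
      rw [cls_def, if_neg hx, zero_mul]
  rw [h1, Finset.sum_const, nsmul_eq_mul, ← Set.ncard_eq_toFinset_card _ (Set.toFinite _),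
    Induced.ncard_conj_eq_index]
  rfl

theorem conv_cls (g h m : G) :
    conv (cls g) (cls h) m = ({x : G | IsConj g x ∧ IsConj h (x⁻¹ * m)} : Set G).ncard := by
  classical
  rw [conv_def, Set.ncard_eq_toFinset_card _ (Set.toFinite _), Finset.card_eq_sum_ones,
    Nat.cast_sum]
  rw [← Finset.sum_subset (Finset.subset_univ
    (Set.toFinite {x : G | IsConj g x ∧ IsConj h (x⁻¹ * m)}).toFinset)]
  · refine Finset.sum_congr rfl fun x hx => ?_
    have hx : IsConj g x ∧ IsConj h (x⁻¹ * m) := by simpa using hx
    rw [cls_def, cls_def, if_pos hx.1, if_pos hx.2, one_mul, Nat.cast_one]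
  · intro x _ hx
    have hx : ¬ (IsConj g x ∧ IsConj h (x⁻¹ * m)) := by simpa using hx
    rw [cls_def, cls_def]
    by_cases h1 : IsConj g x
    · have h2 : ¬ IsConj h (x⁻¹ * m) := fun h2 => hx ⟨h1, h2⟩
      rw [if_neg h2, mul_zero]
    · rw [if_neg h1, zero_mul]

/-- The class multiplication formula. -/
theorem centralChar_mul [Fintype (ConjClasses G)] {χ : G → ℂ} (hχ : IsIrrCharacter G χ) (g h : G) :
    centralChar χ g * centralChar χ h = ∑ c : ConjClasses G,
      (({x : G | IsConj g x ∧ IsConj h (x⁻¹ * Quotient.out c)} : Set G).ncard : ℂ) *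
        centralChar χ (Quotient.out c) := by
  rw [← om_cls hχ, ← om_cls hχ, om_mul hχ (isClassFunction_cls g) (isClassFunction_cls h),
    om_eq_sum_conjClasses hχ (isClassFunction_conv (isClassFunction_cls g) (isClassFunction_cls h))]
  refine Finset.sum_congr rfl fun c _ => ?_
  rw [conv_cls]

end Om

section Integral

variable {G : Type*} [Group G] [Finite G]

/-- Central characters are algebraic integers. -/
theorem isIntegral_centralChar {χ : G → ℂ} (hχ : IsIrrCharacter G χ) (g : G) :
    IsIntegral ℤ (centralChar χ g) := by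
  classical
  have := Fintype.ofFinite G
  rw [← om_cls hχ g]
  obtain ⟨n, ρ, hρ, rfl⟩ := hχ
  let φ : MonoidAlgebra ℤ G →ₐ[ℤ] Module.End ℂ (Fin n → ℂ) := MonoidAlgebra.lift ℤ _ G ρ
  let z : MonoidAlgebra ℤ G := ∑ x : G, MonoidAlgebra.single x (if IsConj g x then 1 else 0)
  have hz : φ z = om ρ.character (cls g) • (1 : Module.End ℂ (Fin n → ℂ)) := by
    rw [om_def, ← Characters.Central.sum_classFun_smul ρ hρ (isClassFunction_cls g)]
    simp only [z, map_sum]
    refine Finset.sum_congr rfl fun x _ => ?_
    rw [cls_def]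
    simp only [φ, MonoidAlgebra.lift_single]
    split_ifs <;> simp
  have h1 : IsIntegral ℤ z := Algebra.IsIntegral.isIntegral z
  have h2 : IsIntegral ℤ (φ z) := h1.map φ
  rw [hz, ← Algebra.algebraMap_eq_smul_one] at h2
  have hpos := Characters.Central.finrank_pos_of_irr ρ hρ
  have hnt : Nontrivial (Fin n → ℂ) := Module.finrank_pos_iff.1 hpos
  have hnt2 : Nontrivial (Module.End ℂ (Fin n → ℂ)) := inferInstance
  exact (isIntegral_algHom_iff ((Algebra.ofId ℂ (Module.End ℂ (Fin n → ℂ))).restrictScalars ℤ)
    (algebraMap ℂ (Module.End ℂ (Fin n → ℂ))).injective).1 h2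

variable {M : Ideal AlgInt} [hP : M.IsPrime]

theorem memLocalRing_centralChar {χ : G → ℂ} (hχ : IsIrrCharacter G χ) (g : G) :
    MemLocalRing M (centralChar χ g) :=
  memLocalRing_of_isIntegral (isIntegral_centralChar hχ g)

theorem isIntegral_char {χ : G → ℂ} (hχ : IsIrrCharacter G χ) (g : G) : IsIntegral ℤ (χ g) := by
  obtain ⟨n, ρ, hρ, rfl⟩ := hχ
  exact Characters.Values.character_isIntegral ρ g

theorem memLocalRing_char {χ : G → ℂ} (hχ : IsIrrCharacter G χ) (g : G) :
    MemLocalRing M (χ g) :=
  memLocalRing_of_isIntegral (isIntegral_char hχ g)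

end Integral

end Cfsg.Agent.Blocks.Elementary
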