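import Mathlib
import Cfsg.Prelude.Def_Blocks
import Cfsg.Agent.Blocks.Elementary
import Cfsg.Agent.Blocks.SylowIn

/-!
# Min-max without idempotents

* `ncard_modEq_ncard_inter` : fixed point counting for conjugation by a `p`-subgroup.
* `dvd_ncard_of_mul_right` : free action by right multiplication with an element of order `p`.
* `exists_class_of_mul` : if the central character is nonzero mod `M` at `g` and `h`, then it is
  at some `m = x * y` with `x ~ g`, `y ~ h`, a Sylow `p`-subgroup of `C(m)` centralizing `x`, `y`.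
* `exists_minimal_class` : a class of minimal defect with nonzero central character.
-/

set_option autoImplicit false
set_option linter.unusedSectionVars false

open Cfsg
open Cfsg.Agent.Blocks.Local Cfsg.Agent.Blocks.Elementary Cfsg.Agent.Blocks.SylowIn

namespace Cfsg.Agent.Blocks.MinClass

section Fixed

variable {G : Type*} [Group G] [Finite G]

/-- Fixed point counting for conjugation by a `p`-subgroup. -/
theorem ncard_modEq_ncard_inter {p : ℕ} [Fact p.Prime] {Q : Subgroup G} (hQ : IsPGroup p Q)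
    {S : Set G} (hS : ∀ q ∈ Q, ∀ x ∈ S, q * x * q⁻¹ ∈ S) :
    S.ncard ≡ (S ∩ (Subgroup.centralizer (Q : Set G) : Set G)).ncard [MOD p] := by
  let act : MulAction Q S :=
    { smul := fun q x => ⟨q * x * (q : G)⁻¹, hS q q.2 x x.2⟩
      one_smul := fun x => Subtype.ext (by
        show ((1 : Q) : G) * x * ((1 : Q) : G)⁻¹ = x
        simp)
      mul_smul := fun a b x => Subtype.ext (by
        show ((a * b : Q) : G) * x * ((a * b : Q) : G)⁻¹ = a * (b * x * (b : G)⁻¹) * (a : G)⁻¹
        push_cast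
        group) }
  have hsmul : ∀ (q : Q) (x : S), ((q • x : S) : G) = q * x * (q : G)⁻¹ := fun q x => rfl
  have h := hQ.card_modEq_card_fixedPoints S
  rw [Nat.card_coe_set_eq] at h
  have h2 : Nat.card (MulAction.fixedPoints Q S) =
      (S ∩ (Subgroup.centralizer (Q : Set G) : Set G)).ncard := by
    rw [← Nat.card_coe_set_eq]
    refine Nat.card_congr ⟨fun x => ⟨(x : S), (x : S).2, ?_⟩, fun x => ⟨⟨x, x.2.1⟩, ?_⟩, ?_, ?_⟩
    · rw [SetLike.mem_coe, Subgroup.mem_centralizer_iff]
      intro q hq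
      have h3 := (MulAction.mem_fixedPoints.1 x.2) ⟨q, hq⟩
      have h4 := congrArg (fun y : S => (y : G)) h3
      simp only [hsmul] at h4
      rw [mul_inv_eq_iff_eq_mul] at h4
      exact h4
    · rw [MulAction.mem_fixedPoints]
      intro q
      apply Subtype.ext
      rw [hsmul, mul_inv_eq_iff_eq_mul]
      exact Subgroup.mem_centralizer_iff.1 x.2.2 q q.2
    · intro x; rfl
    · intro x; rfl
  rw [h2] at h
  exact h

/-- A set stable under right multiplication by an element of order `p` has size divisible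
by `p`. -/
theorem dvd_ncard_of_mul_right {p : ℕ} [Fact p.Prime] {z : G} (hz : orderOf z = p) {S : Set G}
    (hS : ∀ x ∈ S, x * z ∈ S) : p ∣ S.ncard := by
  have hS' : ∀ n : ℕ, ∀ x ∈ S, x * z ^ n ∈ S := by
    intro n
    induction n with
    | zero => intro x hx; simpa using hx
    | succ n ih =>
      intro x hx
      rw [pow_succ, ← mul_assoc]
      exact hS _ (ih x hx)
  have hS'' : ∀ q ∈ Subgroup.zpowers z, ∀ x ∈ S, x * q ∈ S := by
    intro q hq x hx
    obtain ⟨n, rfl⟩ := (mem_powers_iff_mem_zpowers.2 hq)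
    exact hS' n x hx
  let Q := Subgroup.zpowers z
  let act : MulAction Q S :=
    { smul := fun q x => ⟨x * (q : G)⁻¹, hS'' _ (Q.inv_mem q.2) x x.2⟩
      one_smul := fun x => Subtype.ext (by
        show (x : G) * ((1 : Q) : G)⁻¹ = x
        simp)
      mul_smul := fun a b x => Subtype.ext (by
        show (x : G) * ((a * b : Q) : G)⁻¹ = x * (b : G)⁻¹ * (a : G)⁻¹
        push_cast
        group) }
  have hsmul : ∀ (q : Q) (x : S), ((q • x : S) : G) = x * (q : G)⁻¹ := fun q x => rfl
  have hQ : IsPGroup p Q := IsPGroup.of_card (n := 1) (by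
    rw [Nat.card_zpowers, hz, pow_one])
  have h := hQ.card_modEq_card_fixedPoints S
  rw [Nat.card_coe_set_eq] at h
  have h2 : IsEmpty (MulAction.fixedPoints Q S) := by
    constructor
    rintro ⟨x, hx⟩
    have h3 := (MulAction.mem_fixedPoints.1 hx) ⟨z, Subgroup.mem_zpowers z⟩
    have h4 := congrArg (fun y : S => (y : G)) h3
    simp only [hsmul] at h4
    rw [mul_eq_left, inv_eq_one] at h4
    rw [h4, orderOf_one] at hz
    exact (Fact.out : p.Prime).one_lt.ne hz
  rw [Nat.card_of_isEmpty] at h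
  exact (Nat.modEq_zero_iff_dvd).1 h

end Fixed

section Main

variable {G : Type*} [Group G] [Finite G] {M : Ideal AlgInt}

/-- If the central character is nonzero mod `M` at `g` and `h`, then it is nonzero at some
`m = x * y` with `x ~ g`, `y ~ h` and a Sylow `p`-subgroup of `C(m)` centralizing `x` and `y`. -/
theorem exists_class_of_mul {p : ℕ} [Fact p.Prime] (hM : IsPModular p M) {χ : G → ℂ}
    (hχ : IsIrrCharacter G χ) {g h : G} (hg : ¬ MemLocalIdeal M (centralChar χ g))
    (hh : ¬ MemLocalIdeal M (centralChar χ h)) :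
    ∃ m x y : G, ∃ Q : Subgroup G, ¬ MemLocalIdeal M (centralChar χ m) ∧ IsConj g x ∧
      IsConj h y ∧ x * y = m ∧
      (∃ S : Sylow p (Subgroup.centralizer ({m} : Set G)),
        (S : Subgroup (Subgroup.centralizer ({m} : Set G))).map
          (Subgroup.centralizer ({m} : Set G)).subtype = Q) ∧
      x ∈ Subgroup.centralizer (Q : Set G) ∧ y ∈ Subgroup.centralizer (Q : Set G) := by
  classical
  have := Fintype.ofFinite G
  have : Fintype (ConjClasses G) := Fintype.ofFinite _
  have hP : M.IsPrime := isPrime_of_isPModular hM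
  have h1 : ¬ MemLocalIdeal M (centralChar χ g * centralChar χ h) := by
    intro h2
    rcases memLocalIdeal_or_of_mul (memLocalRing_centralChar hχ g)
      (memLocalRing_centralChar hχ h) h2 with h3 | h3
    · exact hg h3
    · exact hh h3
  rw [centralChar_mul hχ] at h1
  obtain ⟨c, _, hc⟩ := exists_not_memLocalIdeal_of_sum h1
  set m := Quotient.out c with hm
  have h2 : ¬ MemLocalIdeal M (centralChar χ m) := fun h3 =>
    hc (memLocalIdeal_mul_left (memLocalRing_natCast _) h3)
  have h3 : ¬ p ∣ ({x : G | IsConj g x ∧ IsConj h (x⁻¹ * m)} : Set G).ncard := fun h3 =>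
    hc (memLocalIdeal_mul_right ((memLocalIdeal_natCast_iff hM _).2 h3)
      (memLocalRing_centralChar hχ _))
  obtain ⟨S⟩ : Nonempty (Sylow p (Subgroup.centralizer ({m} : Set G))) := inferInstance
  set Q : Subgroup G := (S : Subgroup (Subgroup.centralizer ({m} : Set G))).map
    (Subgroup.centralizer ({m} : Set G)).subtype with hQ
  have hQp : IsPGroup p Q := S.isPGroup'.map _
  have hQm : Q ≤ Subgroup.centralizer ({m} : Set G) := Subgroup.map_subtype_le _
  have hinv : ∀ q ∈ Q, ∀ x ∈ ({x : G | IsConj g x ∧ IsConj h (x⁻¹ * m)} : Set G),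
      q * x * q⁻¹ ∈ ({x : G | IsConj g x ∧ IsConj h (x⁻¹ * m)} : Set G) := by
    rintro q hq x ⟨hx1, hx2⟩
    refine ⟨hx1.trans (isConj_iff.2 ⟨q, rfl⟩), hx2.trans (isConj_iff.2 ⟨q, ?_⟩)⟩
    have hqm := Subgroup.mem_centralizer_singleton_iff.1 (hQm hq)
    calc q * (x⁻¹ * m) * q⁻¹ = (q * x * q⁻¹)⁻¹ * (q * m) * q⁻¹ := by group
      _ = (q * x * q⁻¹)⁻¹ * (m * q) * q⁻¹ := by rw [hqm]
      _ = (q * x * q⁻¹)⁻¹ * m := by group
  have h4 := ncard_modEq_ncard_inter hQp hinv
  have h5 : (({x : G | IsConj g x ∧ IsConj h (x⁻¹ * m)} : Set G) ∩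
      (Subgroup.centralizer (Q : Set G) : Set G)).Nonempty := by
    rw [← Set.ncard_pos (Set.toFinite _)]
    by_contra h6
    have h6 := Nat.eq_zero_of_not_pos h6
    rw [h6] at h4
    exact h3 ((Nat.modEq_zero_iff_dvd).1 h4)
  obtain ⟨x, ⟨hx1, hx2⟩, hx3⟩ := h5
  have hmC : m ∈ Subgroup.centralizer (Q : Set G) := by
    rw [Subgroup.mem_centralizer_iff]
    intro q hq
    exact Subgroup.mem_centralizer_singleton_iff.1 (hQm hq)
  exact ⟨m, x, x⁻¹ * m, Q, h2, hx1, hx2, by group, ⟨S, hQ.symm⟩, hx3,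
    Subgroup.mul_mem _ (Subgroup.inv_mem _ hx3) hmC⟩

theorem centralChar_one {χ : G → ℂ} (hχ : IsIrrCharacter G χ) : centralChar χ 1 = 1 := by
  have h1 : χ 1 ≠ 0 := Characters.Central.irr_one_ne_zero hχ
  have h2 : Subgroup.centralizer ({(1 : G)} : Set G) = ⊤ := by
    rw [eq_top_iff]
    intro x _
    rw [Subgroup.mem_centralizer_singleton_iff]
    simp
  unfold centralChar
  rw [h2, Subgroup.index_top, Nat.cast_one, one_mul, div_self h1]

/-- A class of minimal defect among those with nonzero central character modulo `M`: every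
other such class meets the centralizer of its defect group `P`. -/
theorem exists_minimal_class {p : ℕ} [Fact p.Prime] (hM : IsPModular p M) {χ : G → ℂ}
    (hχ : IsIrrCharacter G χ) :
    ∃ (g : G) (P : Subgroup G), ¬ MemLocalIdeal M (centralChar χ g) ∧
      (∃ S : Sylow p (Subgroup.centralizer ({g} : Set G)),
        (S : Subgroup (Subgroup.centralizer ({g} : Set G))).map
          (Subgroup.centralizer ({g} : Set G)).subtype = P) ∧
      (∀ h : G, ¬ MemLocalIdeal M (centralChar χ h) →
        (Nat.card (Subgroup.centralizer ({g} : Set G))).factorization p ≤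
          (Nat.card (Subgroup.centralizer ({h} : Set G))).factorization p) ∧
      ∀ h : G, ¬ MemLocalIdeal M (centralChar χ h) →
        ∃ x : G, IsConj h x ∧ x ∈ Subgroup.centralizer (P : Set G) := by
  classical
  have hP : M.IsPrime := isPrime_of_isPModular hM
  have hne : ({g : G | ¬ MemLocalIdeal M (centralChar χ g)} : Set G).Nonempty := by
    refine ⟨1, ?_⟩
    show ¬ MemLocalIdeal M (centralChar χ 1)
    rw [centralChar_one hχ]
    exact not_memLocalIdeal_one
  obtain ⟨g, hg, hmin⟩ := Set.exists_min_image _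
    (fun g : G => (Nat.card (Subgroup.centralizer ({g} : Set G))).factorization p)
    (Set.toFinite _) hne
  obtain ⟨S⟩ : Nonempty (Sylow p (Subgroup.centralizer ({g} : Set G))) := inferInstance
  refine ⟨g, _, hg, ⟨S, rfl⟩, fun h hh => hmin h hh, ?_⟩
  intro h hh
  obtain ⟨m, x, y, Q, hm, hgx, hhy, hxy, hQ, hxQ, hyQ⟩ := exists_class_of_mul hM hχ hg hh
  obtain ⟨a, ha⟩ := isConj_iff.1 hgx.symm
  -- move `x` to `g`
  have hQcard := card_of_sylow_map_eq hQ
  have hQ'C : Q.map (MulAut.conj a).toMonoidHom ≤ Subgroup.centralizer ({g} : Set G) := by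
    rintro _ ⟨q, hq, rfl⟩
    rw [Subgroup.mem_centralizer_singleton_iff]
    have h1 := (Subgroup.mem_centralizer_iff.1 hxQ) q hq
    simp only [MulEquiv.toMonoidHom_eq_coe, MonoidHom.coe_coe, MulAut.conj_apply]
    rw [← ha]
    calc a * q * a⁻¹ * (a * x * a⁻¹) = a * (q * x) * a⁻¹ := by group
      _ = a * (x * q) * a⁻¹ := by rw [h1]
      _ = a * x * a⁻¹ * (a * q * a⁻¹) := by group
  have hQ'card : Nat.card (Q.map (MulAut.conj a).toMonoidHom) = Nat.card Q :=
    (Nat.card_congr (Q.equivMapOfInjective _ (MulAut.conj a).injective).toEquiv).symm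
  have hQ'p : IsPGroup p (Q.map (MulAut.conj a).toMonoidHom) := by
    obtain ⟨T, rfl⟩ := hQ
    exact (T.isPGroup'.map _).map _
  have hle : Nat.card (Q.map (MulAut.conj a).toMonoidHom) ≤
      p ^ (Nat.card (Subgroup.centralizer ({g} : Set G))).factorization p := by
    obtain ⟨n, hn⟩ := hQ'p.exists_card_eq
    rw [hn]
    apply Nat.pow_le_pow_right (Fact.out : p.Prime).pos
    rw [← (Fact.out : p.Prime).pow_dvd_iff_le_factorization Nat.card_pos.ne', ← hn]
    exact Subgroup.card_dvd_of_le hQ'C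
  have hge : p ^ (Nat.card (Subgroup.centralizer ({g} : Set G))).factorization p ≤
      Nat.card (Q.map (MulAut.conj a).toMonoidHom) := by
    rw [hQ'card, hQcard]
    exact Nat.pow_le_pow_right (Fact.out : p.Prime).pos (hmin m hm)
  have hQ'S := exists_sylow_map_eq_of_card hQ'C (le_antisymm hle hge)
  obtain ⟨k, hk, hkP⟩ := exists_conj_of_sylow_map_eq ⟨S, rfl⟩ hQ'S
  refine ⟨k⁻¹ * (a * y * a⁻¹) * k, ?_, ?_⟩
  · exact hhy.trans (isConj_iff.2 ⟨k⁻¹ * a, by group⟩)
  · rw [Subgroup.mem_centralizer_iff]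
    intro r hr
    have h1 : k * r * k⁻¹ ∈ Q.map (MulAut.conj a).toMonoidHom := by
      rw [← hkP]
      exact ⟨r, hr, rfl⟩
    obtain ⟨q, hq, hq2⟩ := h1
    simp only [MulEquiv.toMonoidHom_eq_coe, MonoidHom.coe_coe, MulAut.conj_apply] at hq2
    have h2 := (Subgroup.mem_centralizer_iff.1 hyQ) q hq
    have h3 : r = k⁻¹ * (a * q * a⁻¹) * k := by rw [hq2]; group
    rw [h3]
    calc k⁻¹ * (a * q * a⁻¹) * k * (k⁻¹ * (a * y * a⁻¹) * k) = k⁻¹ * (a * (q * y) * a⁻¹) * k := by
          group
      _ = k⁻¹ * (a * (y * q) * a⁻¹) * k := by rw [h2]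
      _ = k⁻¹ * (a * y * a⁻¹) * k * (k⁻¹ * (a * q * a⁻¹) * k) := by group

end Main

end Cfsg.Agent.Blocks.MinClass
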