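import Mathlib
import Cfsg.Prelude.Def_Blocks
import Cfsg.Agent.Blocks.Elementary
import Cfsg.Agent.Blocks.MinClass
import Cfsg.Agent.Blocks.BrauerMap
import Cfsg.Agent.Blocks.ClassTwist
import Cfsg.Agent.Blocks.PPart
import Cfsg.Agent.Characters.Core

/-!
# Lifting a central character through the Brauer map

* `exists_lift` : if every class with nonzero central character of `χ` modulo `M` meets the
  centralizer of the `p`-subgroup `P`, then some irreducible character `ψ` of `C_G(P)` satisfies
  `ω_ψ (f restricted to C_G(P)) ≡ ω_χ f` modulo `M` for all integral class functions `f`.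
* `exists_isConj_centralizer` : the class statement.
* `pPart_mem_of_centralChar` : if moreover `P` is a Sylow `p`-subgroup of the centralizer of an
  element with nonzero central character, then the class contains an element of `C_G(P)` with
  `p`-part in `P`.
-/

set_option autoImplicit false
set_option linter.unusedSectionVars false

open Cfsg
open Cfsg.Agent.Blocks.Local Cfsg.Agent.Blocks.Elementary Cfsg.Agent.Blocks.MinClass

namespace Cfsg.Agent.Blocks.BrauerLift

section Aux

variable {G : Type*} [Group G] [Fintype G]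

theorem isIntegral_om {χ : G → ℂ} (hχ : IsIrrCharacter G χ) {f : G → ℂ}
    (hf : IsClassFunction G f) (hfi : ∀ g, IsIntegral ℤ (f g)) : IsIntegral ℤ (om χ f) := by
  classical
  have : Fintype (ConjClasses G) := Fintype.ofFinite _
  rw [om_eq_sum_conjClasses hχ hf]
  exact IsIntegral.sum _ fun c _ => (hfi _).mul (isIntegral_centralChar hχ _)

theorem memLocalIdeal_om {M : Ideal AlgInt} [M.IsPrime] {χ : G → ℂ} (hχ : IsIrrCharacter G χ)
    {f : G → ℂ} (hf : IsClassFunction G f)
    (h : ∀ g, MemLocalIdeal M (f g * centralChar χ g)) : MemLocalIdeal M (om χ f) := by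
  classical
  have : Fintype (ConjClasses G) := Fintype.ofFinite _
  rw [om_eq_sum_conjClasses hχ hf]
  exact memLocalIdeal_sum fun c _ => h _

theorem om_sub_smul (χ f f' : G → ℂ) (a : ℂ) :
    om χ (fun g => f g - a * f' g) = om χ f - a * om χ f' := by
  rw [om_def, om_def, om_def, mul_div_assoc', Finset.mul_sum, ← sub_div, ← Finset.sum_sub_distrib]
  congr 1
  refine Finset.sum_congr rfl fun g _ => ?_
  ring

theorem eq_zero_of_om {f : G → ℂ} (hf : IsClassFunction G f)
    (h : ∀ χ : G → ℂ, IsIrrCharacter G χ → om χ f = 0) : f = 0 := by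
  refine Cfsg.Agent.Characters.Core.classFunction_eq_zero hf fun χ hχ => ?_
  have h1 := h _ (Cfsg.Agent.Characters.Core.isIrr_conj hχ)
  rw [om_def, div_eq_zero_iff] at h1
  have h2 := h1.resolve_right
    (Characters.Central.irr_one_ne_zero (Cfsg.Agent.Characters.Core.isIrr_conj hχ))
  change (Nat.card G : ℂ)⁻¹ * ∑ g : G, f g * (starRingEnd ℂ) (χ g) = 0
  rw [h2, mul_zero]

theorem cls_one_eq (x : G) [Decidable (x = 1)] : cls (1 : G) x = if x = 1 then 1 else 0 := by
  rw [cls_def]
  by_cases h : x = 1
  · subst h
    rw [if_pos (IsConj.refl _), if_pos rfl]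
  · rw [if_neg h, if_neg]
    intro h1
    exact h (isConj_one_right.1 h1)

end Aux

section Lift

variable {G : Type*} [Group G] [Fintype G] {M : Ideal AlgInt} {p : ℕ} [Fact p.Prime]

theorem exists_lift (hM : IsPModular p M) {χ : G → ℂ} (hχ : IsIrrCharacter G χ) {P : Subgroup G}
    (hP : IsPGroup p P) [Fintype (Subgroup.centralizer (P : Set G))]
    (hall : ∀ h : G, ¬ MemLocalIdeal M (centralChar χ h) →
      ∃ x : G, IsConj h x ∧ x ∈ Subgroup.centralizer (P : Set G)) :
    ∃ ψ : Subgroup.centralizer (P : Set G) → ℂ,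
      IsIrrCharacter (Subgroup.centralizer (P : Set G)) ψ ∧
      ∀ f : G → ℂ, IsClassFunction G f → (∀ g, IsIntegral ℤ (f g)) →
        MemLocalIdeal M (om χ f - om ψ (fun c => f c)) := by
  classical
  have hprime : M.IsPrime := isPrime_of_isPModular hM
  by_contra hcon
  push Not at hcon
  have hres : ∀ f : G → ℂ, IsClassFunction G f →
      IsClassFunction (Subgroup.centralizer (P : Set G)) (fun c => f c) := by
    intro f hf c d
    exact hf _ _
  have hfin : Finite (IrrCharacter (Subgroup.centralizer (P : Set G))) :=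
    Cfsg.Agent.Characters.Core.finite_irr
  have : Fintype (IrrCharacter (Subgroup.centralizer (P : Set G))) := Fintype.ofFinite _
  have hone : ∀ c : Subgroup.centralizer (P : Set G),
      cls (1 : G) (c : G) = cls (1 : Subgroup.centralizer (P : Set G)) c := by
    intro c
    rw [cls_one_eq, cls_one_eq]
    by_cases hc : c = 1
    · subst hc
      simp
    · have : (c : G) ≠ 1 := by simpa using hc
      rw [if_neg this, if_neg hc]
  have hint1 : ∀ x : G, IsIntegral ℤ (cls (1 : G) x) := by
    intro x
    rw [cls_one_eq]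
    split_ifs
    · exact isIntegral_one
    · exact isIntegral_zero
  have hclsone : ∀ ψ : Subgroup.centralizer (P : Set G) → ℂ,
      IsIrrCharacter (Subgroup.centralizer (P : Set G)) ψ →
      om ψ (fun c : Subgroup.centralizer (P : Set G) => cls (1 : G) (c : G)) = 1 := by
    intro ψ hψ
    have h1 : (fun c : Subgroup.centralizer (P : Set G) => cls (1 : G) (c : G)) =
        cls (1 : Subgroup.centralizer (P : Set G)) := funext hone
    rw [h1, om_cls hψ, centralChar_one hψ]
  have key : ∀ s : Finset (IrrCharacter (Subgroup.centralizer (P : Set G))),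
      ∃ (W : G → ℂ) (V : Subgroup.centralizer (P : Set G) → ℂ), IsClassFunction G W ∧
        (∀ g, IsIntegral ℤ (W g)) ∧ ¬ MemLocalIdeal M (om χ W) ∧
        IsClassFunction (Subgroup.centralizer (P : Set G)) V ∧
        (∀ c : Subgroup.centralizer (P : Set G), MemLocalIdeal M (W c - V c)) ∧
        ∀ ψ ∈ s, om (ψ : Subgroup.centralizer (P : Set G) → ℂ) V = 0 := by
    intro s
    induction s using Finset.induction_on with
    | empty =>
      refine ⟨cls 1, fun c => cls (1 : G) (c : G), isClassFunction_cls 1, hint1, ?_,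
        hres _ (isClassFunction_cls 1), ?_, ?_⟩
      · rw [om_cls hχ, centralChar_one hχ]
        exact not_memLocalIdeal_one
      · intro c
        rw [sub_self]
        exact memLocalIdeal_zero
      · intro ψ hψ
        exact absurd hψ (Finset.notMem_empty _)
    | insert ψ s hψs ih =>
      obtain ⟨W, V, hW, hWi, hWχ, hV, hWV, hVs⟩ := ih
      obtain ⟨f, hf, hfi, hfψ⟩ := hcon (ψ : Subgroup.centralizer (P : Set G) → ℂ) ψ.2
      set a := om (ψ : Subgroup.centralizer (P : Set G) → ℂ) (fun c => f c) with ha
      have hai : IsIntegral ℤ a := isIntegral_om ψ.2 (hres f hf) (fun c => hfi c)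
      set w : G → ℂ := fun g => f g - a * cls 1 g with hw
      have hwc : IsClassFunction G w := by
        intro x h
        simp only [hw]
        rw [hf x h, isClassFunction_cls 1 x h]
      have hwi : ∀ g, IsIntegral ℤ (w g) := fun g => (hfi g).sub (hai.mul (hint1 g))
      have hwχ : om χ w = om χ f - a := by
        rw [hw, om_sub_smul, om_cls hχ, centralChar_one hχ, mul_one]
      have hwψ : om (ψ : Subgroup.centralizer (P : Set G) → ℂ) (fun c => w c) = 0 := by
        have h1 : om (ψ : Subgroup.centralizer (P : Set G) → ℂ) (fun c => w c) =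
            om (ψ : Subgroup.centralizer (P : Set G) → ℂ) (fun c => f c) -
              a * om (ψ : Subgroup.centralizer (P : Set G) → ℂ) (fun c => cls (1 : G) (c : G)) :=
          om_sub_smul _ _ _ _
        rw [h1, hclsone _ ψ.2, mul_one, sub_self]
      refine ⟨conv W w, conv V (fun c => w c), isClassFunction_conv hW hwc, ?_, ?_,
        isClassFunction_conv hV (hres w hwc), ?_, ?_⟩
      · intro g
        rw [conv_def]
        exact IsIntegral.sum _ fun x _ => (hWi x).mul (hwi _)
      · rw [← om_mul hχ hW hwc]
        intro h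
        rcases memLocalIdeal_or_of_mul
          (memLocalRing_of_isIntegral (isIntegral_om hχ hW hWi))
          (memLocalRing_of_isIntegral (isIntegral_om hχ hwc hwi)) h with h1 | h1
        · exact hWχ h1
        · rw [hwχ] at h1
          exact hfψ h1
      · intro c
        obtain ⟨b, hb⟩ := BrauerMap.exists_br_conv (p := p) (P := P)
          (H := Subgroup.centralizer (P : Set G)) hP le_rfl hW hwc hWi hwi c
        have hbr : ∀ (F : G → ℂ), BrauerMap.br P (Subgroup.centralizer (P : Set G)) F =
            fun c : Subgroup.centralizer (P : Set G) => F c := by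
          intro F
          funext c
          exact BrauerMap.br_of_mem P _ F c.2
        rw [hbr, hbr, hbr] at hb
        have h1 : conv W w (c : G) - conv V (fun c => w c) c =
            ((conv W w (c : G)) - conv (fun c : Subgroup.centralizer (P : Set G) => W c)
              (fun c => w c) c) +
            (conv (fun c : Subgroup.centralizer (P : Set G) => W c) (fun c => w c) c -
              conv V (fun c => w c) c) := by ring
        rw [h1]
        refine memLocalIdeal_add ?_ ?_
        · have h2 : (conv W w (c : G)) - conv (fun c : Subgroup.centralizer (P : Set G) => W c)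
              (fun c => w c) c = p * (b : ℂ) := hb
          rw [h2]
          exact memLocalIdeal_mul_right (memLocalIdeal_p hM) (memLocalRing_algInt b)
        · rw [conv_def, conv_def, ← Finset.sum_sub_distrib]
          refine memLocalIdeal_sum fun x _ => ?_
          rw [← sub_mul]
          exact memLocalIdeal_mul_right (hWV x) (memLocalRing_of_isIntegral (hwi _))
      · intro φ hφ
        rw [← om_mul φ.2 hV (hres w hwc)]
        rcases Finset.mem_insert.1 hφ with rfl | hφ
        · rw [hwψ, mul_zero]
        · rw [hVs φ hφ, zero_mul]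
  obtain ⟨W, V, hW, hWi, hWχ, hV, hWV, hVs⟩ := key Finset.univ
  have hV0 : V = 0 := eq_zero_of_om hV fun ψ hψ => hVs ⟨ψ, hψ⟩ (Finset.mem_univ _)
  apply hWχ
  refine memLocalIdeal_om hχ hW fun g => ?_
  by_cases hg : MemLocalIdeal M (centralChar χ g)
  · exact memLocalIdeal_mul_left (memLocalRing_of_isIntegral (hWi g)) hg
  · obtain ⟨x, hx, hxC⟩ := hall g hg
    rw [eq_of_isConj hW hx]
    have h1 := hWV ⟨x, hxC⟩
    rw [hV0] at h1
    simp only [Pi.zero_apply, sub_zero] at h1
    exact memLocalIdeal_mul_right h1 (memLocalRing_centralChar hχ g)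

/-- If `ω_ψ ∘ Br_P ≡ ω_χ`, every class with nonzero central character at `χ` contains an element
of `C_G(P)` with nonzero central character at `ψ`. -/
theorem exists_isConj_of_lift {M : Ideal AlgInt} [M.IsPrime] {χ : G → ℂ}
    (hχ : IsIrrCharacter G χ) {C : Subgroup G} [Fintype C] {ψ : C → ℂ} (hψ : IsIrrCharacter C ψ)
    (h : ∀ f : G → ℂ, IsClassFunction G f → (∀ g, IsIntegral ℤ (f g)) →
        MemLocalIdeal M (om χ f - om ψ (fun c => f c))) {g : G}
    (hg : ¬ MemLocalIdeal M (centralChar χ g)) :
    ∃ c : C, IsConj g (c : G) ∧ ¬ MemLocalIdeal M (centralChar ψ c) := by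
  classical
  by_contra hcon
  push Not at hcon
  apply hg
  have h1 := h (cls g) (isClassFunction_cls g) (by
    intro x
    rw [cls_def]
    split_ifs
    · exact isIntegral_one
    · exact isIntegral_zero)
  rw [om_cls hχ] at h1
  rw [memLocalIdeal_iff_of_sub h1]
  refine memLocalIdeal_om hψ ?_ ?_
  · intro c d
    exact isClassFunction_cls g _ _
  · intro c
    rw [cls_def]
    by_cases hc : IsConj g (c : G)
    · rw [if_pos hc, one_mul]
      exact hcon c hc
    · rw [if_neg hc, zero_mul]
      exact memLocalIdeal_zero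

end Lift

section Main

variable {G : Type*} [Group G] [Finite G] {M : Ideal AlgInt} {p : ℕ} [Fact p.Prime]

/-- The `p`-part statement. -/
theorem exists_isConj_pPart_mem (hM : IsPModular p M) {χ : G → ℂ} (hχ : IsIrrCharacter G χ)
    {P : Subgroup G} {y : G}
    (hy : ¬ MemLocalIdeal M (centralChar χ y))
    (hPy : ∃ S : Sylow p (Subgroup.centralizer ({y} : Set G)),
        (S : Subgroup (Subgroup.centralizer ({y} : Set G))).map
          (Subgroup.centralizer ({y} : Set G)).subtype = P)
    (hall : ∀ h : G, ¬ MemLocalIdeal M (centralChar χ h) →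
      ∃ x : G, IsConj h x ∧ x ∈ Subgroup.centralizer (P : Set G)) {g : G}
    (hg : ¬ MemLocalIdeal M (centralChar χ g)) :
    ∃ x : G, IsConj g x ∧ x ∈ Subgroup.centralizer (P : Set G) ∧
      ∀ z : G, IsPPart p x z → z ∈ P ∧ ∀ w ∈ P, z * w = w * z := by
  classical
  have := Fintype.ofFinite G
  have hprime : M.IsPrime := isPrime_of_isPModular hM
  have hPp : IsPGroup p P := by
    obtain ⟨S, rfl⟩ := hPy
    exact S.isPGroup'.map _
  obtain ⟨ψ, hψ, hlift⟩ := exists_lift hM hχ hPp hall
  obtain ⟨c, hgc, hc⟩ := exists_isConj_of_lift hχ hψ hlift hg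
  obtain ⟨k, hyk, hk⟩ := exists_isConj_of_lift hχ hψ hlift hy
  refine ⟨c, hgc, c.2, ?_⟩
  intro z hz
  -- `z` is a power of `c`
  obtain ⟨n, hn⟩ := PPart.exists_pow_eq (G := G) p
  have hzn : z = (c : G) ^ n := (hn _ _ hz).symm
  have hzC : z ∈ Subgroup.centralizer (P : Set G) := by
    rw [hzn]
    exact Subgroup.pow_mem _ c.2 n
  have hzcomm : ∀ w ∈ P, z * w = w * z := fun w hw =>
    (Subgroup.mem_centralizer_iff.1 hzC w hw).symm
  refine ⟨?_, hzcomm⟩
  by_contra hzP
  apply hc
  have hz' : IsPPart p c (⟨z, hzC⟩ : Subgroup.centralizer (P : Set G)) := by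
    obtain ⟨v, hv, hcom, ⟨m, hm⟩, hvo⟩ := hz
    have hvC : v ∈ Subgroup.centralizer (P : Set G) := by
      have hv' : v = z⁻¹ * c := by rw [← hv]; group
      rw [hv']
      exact Subgroup.mul_mem _ (Subgroup.inv_mem _ hzC) c.2
    refine ⟨⟨v, hvC⟩, Subtype.ext hv, ?_, ⟨m, ?_⟩, ?_⟩
    · exact Subtype.ext hcom.eq
    · rw [Subgroup.orderOf_mk]
      exact hm
    · rw [Subgroup.orderOf_mk]
      exact hvo
  have hzero : ψ c = 0 := by
    refine ClassTwist.irr_apply_eq_zero_of_centralChar hM hψ hk hz' ?_
    intro s hs hcomm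
    apply hzP
    -- the subgroup generated by `P` and `z`
    have hcomm' : Commute z (s : G) := by
      have := congrArg Subtype.val hcomm.eq
      exact this
    have hsy : IsConj y (s : G) := by
      refine hyk.trans ?_
      obtain ⟨d, hd⟩ := isConj_iff.1 hs
      exact isConj_iff.2 ⟨(d : G), by rw [← hd]; rfl⟩
    have hcard := SylowIn.card_centralizer_of_isConj hsy
    have hPs : P ≤ Subgroup.centralizer ({(s : G)} : Set G) := by
      intro w hw
      rw [Subgroup.mem_centralizer_singleton_iff]
      exact Subgroup.mem_centralizer_iff.1 s.2 w hw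
    have hPcard := SylowIn.card_of_sylow_map_eq hPy
    rw [← hcard] at hPcard
    have hPsyl := SylowIn.exists_sylow_map_eq_of_card hPs hPcard
    obtain ⟨-, -, hmax⟩ := SylowIn.exists_sylow_map_eq_iff.1 hPsyl
    have hzpg : IsPGroup p (Subgroup.zpowers z) := by
      obtain ⟨-, -, -, ⟨m, hm⟩, -⟩ := hz
      exact IsPGroup.of_card (n := m) (by rw [Nat.card_zpowers, hm])
    have hle : Subgroup.zpowers z ≤ Subgroup.normalizer (P : Set G) := by
      rw [Subgroup.zpowers_le]
      exact Subgroup.centralizer_le_normalizer _ hzC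
    have hQp : IsPGroup p (Subgroup.zpowers z ⊔ P : Subgroup G) :=
      IsPGroup.to_sup_of_normal_right' hzpg hPp hle
    have hQle : Subgroup.zpowers z ⊔ P ≤ Subgroup.centralizer ({(s : G)} : Set G) := by
      refine sup_le ?_ hPs
      rw [Subgroup.zpowers_le, Subgroup.mem_centralizer_singleton_iff]
      exact hcomm'.eq
    have hQ := hmax _ hQle hQp le_sup_right
    rw [← hQ]
    exact Subgroup.mem_sup_left (Subgroup.mem_zpowers z)
  have h0 : centralChar ψ c = 0 := by
    unfold centralChar
    rw [hzero, mul_zero, zero_div]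
  rw [h0]
  exact memLocalIdeal_zero

end Main

end Cfsg.Agent.Blocks.BrauerLift
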