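import Mathlib
import Cfsg.Prelude.Def_Blocks
import Cfsg.Agent.Blocks.Orthogonality

/-!
# Counting the characters of a block by their sign at a central involution

Let `z` be a central involution, `x₀` a `2`-element conjugate to `z * x₀`, such that every
`2`-element is conjugate to `1`, `z` or `x₀`.  If `B` is a block containing the trivial character
all of whose members are constant on the `2`-section of `x₀`, then `B` has exactly one more member
with `z` in its kernel than members with `χ z = - χ 1`.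
-/

set_option autoImplicit false

open Cfsg
open scoped ComplexConjugate

namespace Cfsg.Agent.Blocks.CentralInvolutionCount

open Cfsg.Agent.Blocks.Orthogonality

variable {G : Type*} [Group G]

/-- A central element acts as a scalar: `χ (z g) χ 1 = χ z χ g`. -/
theorem apply_central_mul [Finite G] {χ : G → ℂ} (hχ : IsIrrCharacter G χ) {z : G}
    (hz : ∀ g, g * z = z * g) (g : G) : χ (z * g) * χ 1 = χ z * χ g := by
  have := Fintype.ofFinite G
  have h := Characters.Central.sum_char_conj_mul hχ z g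
  have h1 : ∀ a : G, χ (a * z * a⁻¹ * g) = χ (z * g) := by
    intro a
    rw [hz a]; congr 1; group
  have hne : (Nat.card G : ℂ) ≠ 0 := by exact_mod_cast Nat.card_pos.ne'
  have hχ1 : χ 1 ≠ 0 := Blocks.Basic.irr_one_ne_zero hχ
  rw [Finset.sum_congr rfl fun a _ => h1 a, Finset.sum_const, Finset.card_univ,
    Fintype.card_eq_nat_card, nsmul_eq_mul] at h
  field_simp at h
  rw [h]

theorem apply_eq_or_neg [Finite G] {χ : G → ℂ} (hχ : IsIrrCharacter G χ) {z : G}
    (hz : ∀ g, g * z = z * g) (hz2 : z * z = 1) : χ z = χ 1 ∨ χ z = -χ 1 := by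
  have h := apply_central_mul hχ hz z
  rw [hz2] at h
  have : (χ z - χ 1) * (χ z + χ 1) = 0 := by linear_combination -h
  rcases mul_eq_zero.mp this with h | h
  · left; linear_combination h
  · right; linear_combination h

/-- The `2`-part of `z * g` for a central involution `z`. -/
theorem isPPart_mul_central {z : G} (hz : ∀ g, g * z = z * g) (hz2 : z * z = 1) {g x : G}
    (h : IsPPart 2 g x) : IsPPart 2 (z * g) (z * x) := by
  obtain ⟨y, h1, h2, ⟨k, hk⟩, h4⟩ := h
  refine ⟨y, by rw [mul_assoc, h1], ?_, ?_, h4⟩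
  · have : Commute z y := (hz y).symm
    exact this.mul_left h2
  · have hzx : Commute z x := (hz x).symm
    have hz2' : z ^ 2 = 1 := by rw [pow_two, hz2]
    have hpow : (z * x) ^ (2 ^ (k + 1)) = 1 := by
      rw [hzx.mul_pow]
      have e1 : z ^ (2 ^ (k + 1)) = 1 := by
        rw [pow_succ', pow_mul, hz2', one_pow]
      have e2 : x ^ (2 ^ (k + 1)) = 1 := by
        rw [pow_succ, pow_mul, ← hk, pow_orderOf_eq_one, one_pow]
      rw [e1, e2, one_mul]
    obtain ⟨j, _, hj⟩ := (Nat.dvd_prime_pow Nat.prime_two).mp (orderOf_dvd_of_pow_eq_one hpow)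
    exact ⟨j, hj⟩

/-- The sum of the signs at a central involution over the block is `1`. -/
theorem finsum_sign [Finite G] {M : Ideal AlgInt} (hM : IsPModular 2 M) (B : Set (IrrCharacter G))
    (hR : ∀ g, MemLocalRing M (blockCoeff B g)) (χ₁ : IrrCharacter G) (hχ₁ : χ₁ ∈ B)
    (hχ₁1 : ∀ g, (χ₁ : G → ℂ) g = 1)
    {z : G} (hz : ∀ g, g * z = z * g) (hz2 : z * z = 1) (hz1 : z ≠ 1)
    {x₀ : G} (hx₀ : ∃ k : ℕ, orderOf x₀ = 2 ^ k)
    (hsec : ∀ x : G, (∃ k : ℕ, orderOf x = 2 ^ k) → x = 1 ∨ x = z ∨ IsConj x₀ x)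
    (hconj : IsConj x₀ (z * x₀))
    (hconst : ∀ χ ∈ B, ∀ g x : G, IsPPart 2 g x → IsConj x₀ x →
      (χ : G → ℂ) g = (χ : G → ℂ) x₀) :
    ∑ᶠ χ ∈ B, (χ : G → ℂ) z / (χ : G → ℂ) 1 = 1 := by
  classical
  have : Finite (IrrCharacter G) := S0909.finite_irr
  have := Fintype.ofFinite (IrrCharacter G)
  let _ := Fintype.ofFinite G
  have hne : (Nat.card G : ℂ) ≠ 0 := by exact_mod_cast Nat.card_pos.ne'
  set A : G → G → ℂ := fun y w => ∑ᶠ φ ∈ B, (φ : G → ℂ) y * conj ((φ : G → ℂ) w) with hA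
  -- `x₀` is its own `2`-part
  have hx₀p : IsPPart 2 x₀ x₀ := by
    refine ⟨1, mul_one _, Commute.one_right _, hx₀, ?_⟩
    rw [orderOf_one]; norm_num
  -- the section of `x₀`
  let S : G → Prop := fun g => ∃ x, IsPPart 2 g x ∧ IsConj x₀ x
  have hAS : ∀ g, S g → A x₀ g = A x₀ x₀ := by
    rintro g ⟨x, hx, hxx⟩
    simp only [hA]
    refine finsum_mem_congr rfl fun φ hφ => ?_
    rw [hconst φ hφ g x hx hxx]
  have hAS0 : ∀ g, ¬ S g → A x₀ g = 0 := by
    intro g hg
    obtain ⟨x, hx⟩ := exists_isPPart (p := 2) Nat.prime_two g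
    exact block_orthogonality hM B hR hx₀p hx fun hc => hg ⟨x, hx, hc⟩
  have hzAS : ∀ g, S g → A (z * g) g = A x₀ x₀ := by
    rintro g ⟨x, hx, hxx⟩
    simp only [hA]
    refine finsum_mem_congr rfl fun φ hφ => ?_
    rw [hconst φ hφ g x hx hxx, hconst φ hφ (z * g) (z * x) (isPPart_mul_central hz hz2 hx)]
    refine hconj.trans ?_
    obtain ⟨c, hc⟩ := isConj_iff.mp hxx
    refine isConj_iff.mpr ⟨c, ?_⟩
    rw [← hc, ← mul_assoc c z x₀, hz c]
    group
  have hzAS0 : ∀ g, ¬ S g → A (z * g) g = 0 := by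
    intro g hg
    obtain ⟨x, hx⟩ := exists_isPPart (p := 2) Nat.prime_two g
    refine block_orthogonality hM B hR (isPPart_mul_central hz hz2 hx) hx fun hc => ?_
    have hxo : ∃ k : ℕ, orderOf x = 2 ^ k := by
      obtain ⟨y, -, -, h, -⟩ := hx
      exact h
    rcases hsec x hxo with h | h | h
    · rw [h, mul_one] at hc
      exact hz1 (isConj_one_left.mp hc)
    · rw [h, hz2] at hc
      exact hz1 (isConj_one_right.mp hc)
    · exact hg ⟨x, hx, h⟩
  have hsum1 : ∑ w, A x₀ w = (Nat.card G : ℂ) := by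
    have h := sum_kernel_mul B χ₁ x₀
    rw [if_pos hχ₁, hχ₁1, mul_one] at h
    rw [← h]
    refine Finset.sum_congr rfl fun w _ => ?_
    rw [hχ₁1, mul_one]
  have hsum2 : ∑ g, A (z * g) g = (Nat.card G : ℂ) := by
    rw [← hsum1]
    refine Finset.sum_congr rfl fun g _ => ?_
    by_cases hg : S g
    · rw [hAS g hg, hzAS g hg]
    · rw [hAS0 g hg, hzAS0 g hg]
  have hsum3 : ∑ g, A (z * g) g =
      (Nat.card G : ℂ) * ∑ᶠ χ ∈ B, (χ : G → ℂ) z / (χ : G → ℂ) 1 := by
    simp only [hA, Orthogonality.finsum_mem_eq_sum_filter]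
    rw [Finset.sum_comm, Finset.mul_sum]
    refine Finset.sum_congr rfl fun χ _ => ?_
    have hχ1 : (χ : G → ℂ) 1 ≠ 0 := Blocks.Basic.irr_one_ne_zero χ.2
    have h1 : ∀ g : G, (χ : G → ℂ) (z * g) * conj ((χ : G → ℂ) g) =
        (χ : G → ℂ) z / (χ : G → ℂ) 1 * ((χ : G → ℂ) g * conj ((χ : G → ℂ) g)) := by
      intro g
      have h2 := apply_central_mul χ.2 hz g
      field_simp
      linear_combination conj ((χ : G → ℂ) g) * h2
    rw [Finset.sum_congr rfl fun g _ => h1 g, ← Finset.mul_sum]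
    have h3 := S0909.orthog χ χ
    rw [if_pos rfl, inv_mul_eq_iff_eq_mul₀ hne, mul_one] at h3
    rw [h3, mul_comm]
  rw [hsum2] at hsum3
  have := mul_left_cancel₀ hne (hsum3.symm.trans (mul_one _).symm)
  exact this

/-- Counting version. -/
theorem card_eq_card_add_one [Finite G] {M : Ideal AlgInt} (hM : IsPModular 2 M)
    (B : Set (IrrCharacter G))
    (hR : ∀ g, MemLocalRing M (blockCoeff B g)) (χ₁ : IrrCharacter G) (hχ₁ : χ₁ ∈ B)
    (hχ₁1 : ∀ g, (χ₁ : G → ℂ) g = 1)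
    {z : G} (hz : ∀ g, g * z = z * g) (hz2 : z * z = 1) (hz1 : z ≠ 1)
    {x₀ : G} (hx₀ : ∃ k : ℕ, orderOf x₀ = 2 ^ k)
    (hsec : ∀ x : G, (∃ k : ℕ, orderOf x = 2 ^ k) → x = 1 ∨ x = z ∨ IsConj x₀ x)
    (hconj : IsConj x₀ (z * x₀))
    (hconst : ∀ χ ∈ B, ∀ g x : G, IsPPart 2 g x → IsConj x₀ x →
      (χ : G → ℂ) g = (χ : G → ℂ) x₀) :
    {χ : IrrCharacter G | χ ∈ B ∧ (χ : G → ℂ) z = (χ : G → ℂ) 1}.ncard =
      {χ : IrrCharacter G | χ ∈ B ∧ (χ : G → ℂ) z ≠ (χ : G → ℂ) 1}.ncard + 1 := by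
  classical
  have : Finite (IrrCharacter G) := S0909.finite_irr
  have := Fintype.ofFinite (IrrCharacter G)
  have h := finsum_sign hM B hR χ₁ hχ₁ hχ₁1 hz hz2 hz1 hx₀ hsec hconj hconst
  rw [Orthogonality.finsum_mem_eq_sum_filter,
    ← Finset.sum_filter_add_sum_filter_not _ (fun χ : IrrCharacter G =>
      (χ : G → ℂ) z = (χ : G → ℂ) 1)] at h
  rw [Finset.sum_congr rfl (g := fun _ => (1 : ℂ)) (fun χ hχ => by
      rw [Finset.mem_filter] at hχ
      rw [hχ.2, div_self (Blocks.Basic.irr_one_ne_zero χ.2)]),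
    Finset.sum_congr (s₁ := Finset.filter (fun χ : IrrCharacter G =>
      ¬ (χ : G → ℂ) z = (χ : G → ℂ) 1) _) rfl (g := fun _ => (-1 : ℂ)) (fun χ hχ => by
      rw [Finset.mem_filter] at hχ
      rcases apply_eq_or_neg χ.2 hz hz2 with h | h
      · exact absurd h hχ.2
      · rw [h, neg_div, div_self (Blocks.Basic.irr_one_ne_zero χ.2)]),
    Finset.sum_const, Finset.sum_const, Finset.filter_filter, Finset.filter_filter] at h
  have e1 : {χ : IrrCharacter G | χ ∈ B ∧ (χ : G → ℂ) z = (χ : G → ℂ) 1} =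
      ((Finset.univ.filter fun χ : IrrCharacter G =>
        χ ∈ B ∧ (χ : G → ℂ) z = (χ : G → ℂ) 1 : Finset (IrrCharacter G)) :
          Set (IrrCharacter G)) := by
    ext χ; simp
  have e2 : {χ : IrrCharacter G | χ ∈ B ∧ (χ : G → ℂ) z ≠ (χ : G → ℂ) 1} =
      ((Finset.univ.filter fun χ : IrrCharacter G =>
        χ ∈ B ∧ ¬ (χ : G → ℂ) z = (χ : G → ℂ) 1 : Finset (IrrCharacter G)) :
          Set (IrrCharacter G)) := by
    ext χ; simp
  rw [e1, e2, Set.ncard_coe_finset, Set.ncard_coe_finset]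
  simp only [nsmul_eq_mul, mul_one, mul_neg] at h
  have h' : ((Finset.univ.filter fun χ : IrrCharacter G =>
        χ ∈ B ∧ (χ : G → ℂ) z = (χ : G → ℂ) 1).card : ℂ) =
      (((Finset.univ.filter fun χ : IrrCharacter G =>
        χ ∈ B ∧ ¬ (χ : G → ℂ) z = (χ : G → ℂ) 1).card + 1 : ℕ) : ℂ) := by
    push_cast
    linear_combination h
  exact_mod_cast h'

end Cfsg.Agent.Blocks.CentralInvolutionCount
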