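import Mathlib
import Cfsg.Prelude.Def_Blocks
import Cfsg.Agent.Blocks.LocalRing
import Cfsg.Agent.Blocks.Induced
import Cfsg.Agent.Characters.Core
import Cfsg.Agent.Characters.AverageRoots
import Cfsg.Agent.S0141
import Cfsg.Agent.S0188
import Cfsg.Agent.S0961

/-!
# Groups `G = P * C_G(P)` with `P` a `p`-subgroup: irreducible characters

The characters of `G` whose `C_G(P)`-part has `p`-defect as small as possible vanish off
`P * G_reg` (Laradji), and inner products of such characters are computed over the `p`-regular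
elements.
-/

set_option autoImplicit false

namespace Cfsg.Agent.Blocks.CentralProduct

open Cfsg Cfsg.Agent.Characters.Core Cfsg.Agent.Blocks.LocalRing
open scoped ComplexConjugate

universe u

/-! ### Sums of class functions -/

section ClassSum

variable {G : Type u} [Group G]

/-- The number of elements conjugate to `g` is the index of the centralizer. -/
theorem card_conj_eq_index [Fintype G] [DecidableEq (ConjClasses G)] (g : G) :
    (Finset.univ.filter fun x : G => ConjClasses.mk x = ConjClasses.mk g).card =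
      (Subgroup.centralizer ({g} : Set G)).index := by
  classical
  rw [← Cfsg.Agent.Blocks.Induced.ncard_conj_eq_index g,
    Set.ncard_eq_toFinset_card _ (Set.toFinite _)]
  congr 1
  ext x
  simp only [Finset.mem_filter, Finset.mem_univ, true_and, Set.Finite.mem_toFinset,
    Set.mem_ofPred_eq, ConjClasses.mk_eq_mk_iff_isConj]
  exact isConj_comm

/-- If `f` is a class function and `|G : C(g)| * f g` lies in an additive subgroup `A` of `ℂ` for
all `g`, then the sum of all values of `f` lies in `A`. -/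
theorem sum_classFun_mem [Fintype G] (A : AddSubgroup ℂ) (f : G → ℂ)
    (hf : IsClassFunction G f)
    (h : ∀ g, ((Subgroup.centralizer ({g} : Set G)).index : ℂ) * f g ∈ A) :
    ∑ g, f g ∈ A := by
  classical
  have hfin : Fintype (ConjClasses G) := Fintype.ofFinite _
  rw [← Finset.sum_fiberwise_of_maps_to (s := (Finset.univ : Finset G))
    (t := (Finset.univ : Finset (ConjClasses G))) (g := ConjClasses.mk)
    (fun _ _ => Finset.mem_univ _) f]
  refine A.sum_mem fun c _ => ?_
  obtain ⟨g, rfl⟩ := ConjClasses.exists_rep c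
  have hval : ∀ x ∈ (Finset.univ.filter fun x : G => ConjClasses.mk x = ConjClasses.mk g),
      f x = f g := by
    intro x hx
    have hx' := (Finset.mem_filter.1 hx).2
    obtain ⟨y, hy⟩ := isConj_iff.1 (ConjClasses.mk_eq_mk_iff_isConj.1 hx')
    rw [← hy, hf]
  rw [Finset.sum_congr rfl hval, Finset.sum_const, nsmul_eq_mul, card_conj_eq_index]
  exact h g

end ClassSum

/-! ### The multiplication map `P × C_G(P) → G` -/

section Regular

variable {G : Type u} [Group G] {p : ℕ} {P : Subgroup G}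

theorem commute_subtype (P : Subgroup G) (u : P) (c : Subgroup.centralizer (P : Set G)) :
    Commute (P.subtype u) ((Subgroup.centralizer (P : Set G)).subtype c) :=
  Subgroup.mem_centralizer_iff.1 c.2 u u.2

/-- The multiplication map `P × C_G(P) → G`. -/
def mulHom (P : Subgroup G) : P × Subgroup.centralizer (P : Set G) →* G :=
  MonoidHom.noncommCoprod P.subtype (Subgroup.centralizer (P : Set G)).subtype
    (commute_subtype P)

theorem mulHom_apply (P : Subgroup G) (x : P × Subgroup.centralizer (P : Set G)) :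
    mulHom P x = (x.1 : G) * (x.2 : G) := rfl

theorem mulHom_surjective (hG : P ⊔ Subgroup.centralizer (P : Set G) = ⊤) :
    Function.Surjective (mulHom P) := by
  rw [← MonoidHom.range_eq_top, mulHom, MonoidHom.noncommCoprod_range, Subgroup.range_subtype,
    Subgroup.range_subtype, hG]

/-- If `G = P * C_G(P)` with `P` a `p`-subgroup, the `p`-regular elements centralize `P`. -/
theorem mem_centralizer_of_regular [Finite G] [Fact p.Prime] (hP : IsPGroup p P)
    (hG : P ⊔ Subgroup.centralizer (P : Set G) = ⊤) {y : G} (hy : ¬ p ∣ orderOf y) :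
    y ∈ Subgroup.centralizer (P : Set G) := by
  obtain ⟨⟨u, c⟩, huc⟩ := mulHom_surjective hG y
  rw [mulHom_apply] at huc
  obtain ⟨n, hn⟩ := (IsPGroup.iff_card).1 hP
  have hpp : p.Prime := Fact.out
  have hcop : (Nat.card P).Coprime (orderOf y) := by
    rw [hn]
    exact Nat.Coprime.pow_left _ ((Nat.Prime.coprime_iff_not_dvd hpp).2 hy)
  obtain ⟨m, hm⟩ := exists_pow_eq_self_of_coprime hcop
  have hcomm : Commute (u : G) (c : G) := Subgroup.mem_centralizer_iff.1 c.2 u u.2
  have h1 : y ^ Nat.card P = (c : G) ^ Nat.card P := by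
    rw [← huc, hcomm.mul_pow]
    have : (u : G) ^ Nat.card P = 1 := by
      have := pow_card_eq_one' (x := u)
      exact_mod_cast congrArg Subtype.val this
    rw [this, one_mul]
  rw [← hm, h1]
  exact pow_mem (pow_mem c.2 _) _

/-- uniqueness of the factorisation -/
theorem mul_eq_mul_of_regular [Finite G] [Fact p.Prime] (hP : IsPGroup p P)
    (hG : P ⊔ Subgroup.centralizer (P : Set G) = ⊤) {u u' y y' : G} (hu : u ∈ P) (hu' : u' ∈ P)
    (hy : ¬ p ∣ orderOf y) (hy' : ¬ p ∣ orderOf y') (h : u * y = u' * y') : u = u' ∧ y = y' := by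
  have hpp : p.Prime := Fact.out
  have hyC := mem_centralizer_of_regular hP hG hy
  set z := u'⁻¹ * u with hz
  have hzP : z ∈ P := P.mul_mem (P.inv_mem hu') hu
  have hzy : Commute z y := Subgroup.mem_centralizer_iff.1 hyC z hzP
  have hy'eq : y' = z * y := by rw [hz, mul_assoc, h]; group
  have hz2 : z = y' * y⁻¹ := by rw [hy'eq]; group
  have hcomm : Commute y' y⁻¹ := by
    rw [hy'eq]
    exact (hzy.mul_left (Commute.refl y)).inv_right
  have hz1 : z ^ (orderOf y' * orderOf y) = 1 := by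
    rw [hz2, hcomm.mul_pow, pow_mul, pow_orderOf_eq_one, one_pow, one_mul, inv_pow, mul_comm,
      pow_mul, pow_orderOf_eq_one, one_pow, inv_one]
  have hdvd := orderOf_dvd_of_pow_eq_one hz1
  obtain ⟨j, hj⟩ := (IsPGroup.iff_orderOf.1 hP) ⟨z, hzP⟩
  rw [← Subgroup.orderOf_coe] at hj
  change orderOf z = p ^ j at hj
  have hz3 : z = 1 := by
    rcases Nat.eq_zero_or_pos j with h0 | h0
    · rw [h0, pow_zero] at hj
      exact orderOf_eq_one_iff.1 hj
    · exfalso
      have : p ∣ orderOf y' * orderOf y := (dvd_pow_self p h0.ne').trans (hj ▸ hdvd)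
      rcases hpp.dvd_mul.1 this with h1 | h1
      · exact hy' h1
      · exact hy h1
  have huu : u = u' := by
    have : u'⁻¹ * u = 1 := hz3
    exact (inv_mul_eq_one.1 this).symm
  refine ⟨huu, ?_⟩
  rw [hy'eq, hz3, one_mul]

/-- The subset of the products `u * y` with `u ∈ P` and `y` `p`-regular. -/
def prodSet (p : ℕ) (P : Subgroup G) : Set G := {g | ∃ u ∈ P, ∃ y : G, ¬ p ∣ orderOf y ∧ g = u * y}

theorem mem_prodSet {g : G} : g ∈ prodSet p P ↔ ∃ u ∈ P, ∃ y : G, ¬ p ∣ orderOf y ∧ g = u * y :=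
  Iff.rfl

open scoped Classical in
/-- Summation over `P * G_reg`. -/
theorem sum_prodSet [Fintype G] [Fintype P] [Fact p.Prime] (hP : IsPGroup p P)
    (hG : P ⊔ Subgroup.centralizer (P : Set G) = ⊤) (F : G → ℂ) :
    ∑ g ∈ Finset.univ.filter (fun g => g ∈ prodSet p P), F g =
      ∑ u : P, ∑ y ∈ Finset.univ.filter (fun y : G => ¬ p ∣ orderOf y), F (u * y) := by
  rw [← Finset.sum_product']
  symm
  refine Finset.sum_nbij (fun x => (x.1 : G) * x.2) ?_ ?_ ?_ ?_
  · rintro ⟨u, y⟩ h
    simp only [Finset.mem_product, Finset.mem_filter, Finset.mem_univ, true_and] at h ⊢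
    exact ⟨u, u.2, y, h, rfl⟩
  · rintro ⟨u, y⟩ h ⟨u', y'⟩ h' heq
    simp only [Finset.coe_product, Set.mem_prod, Finset.coe_filter, Finset.mem_univ, true_and,
      Set.mem_ofPred_eq] at h h'
    obtain ⟨h1, h2⟩ := mul_eq_mul_of_regular hP hG u.2 u'.2 h.2 h'.2 heq
    exact Prod.ext (Subtype.ext h1) h2
  · rintro g hg
    simp only [Finset.coe_filter, Finset.mem_univ, true_and, Set.mem_ofPred_eq] at hg
    obtain ⟨u, hu, y, hy, rfl⟩ := hg
    exact ⟨(⟨u, hu⟩, y), by simp [hy], rfl⟩
  · intro x _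
    rfl

end Regular


/-! ### Arithmetic -/

section Arith

/-- A rational number that is an algebraic integer is an integer. -/
theorem exists_int_of_isIntegral {q : ℚ} (h : IsIntegral ℤ (q : ℂ)) : ∃ n : ℤ, (n : ℚ) = q := by
  have h1 : IsIntegral ℤ (algebraMap ℚ ℂ q) := h
  rw [isIntegral_algebraMap_iff (algebraMap ℚ ℂ).injective] at h1
  obtain ⟨n, hn⟩ := IsIntegrallyClosed.isIntegral_iff.1 h1
  exact ⟨n, by simpa using hn⟩

/-- A complex number `N` with `p ^ m * N` an integer and `r * N` an algebraic integer, `r` prime to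
`p`, is an integer. -/
theorem exists_int_of_coprime {a r : ℕ} (hcop : Nat.Coprime a r) (ha : a ≠ 0) {N : ℂ} {k : ℤ}
    (h1 : (a : ℂ) * N = k) (h2 : IsIntegral ℤ ((r : ℂ) * N)) : ∃ n : ℤ, (n : ℂ) = N := by
  have ha' : (a : ℂ) ≠ 0 := by exact_mod_cast ha
  have hN : N = (((k : ℚ) / (a : ℚ) : ℚ) : ℂ) := by
    push_cast
    rw [eq_div_iff ha', mul_comm, h1]
  obtain ⟨s, t, hst⟩ : ∃ s t : ℤ, s * a + t * r = 1 := by
    have := (Nat.isCoprime_iff_coprime.2 hcop)
    obtain ⟨s, t, h⟩ := this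
    exact ⟨s, t, h⟩
  have hint : IsIntegral ℤ N := by
    have : N = (s : ℂ) * k + (t : ℂ) * ((r : ℂ) * N) := by
      have hst' : (s : ℂ) * a + (t : ℂ) * r = 1 := by exact_mod_cast hst
      rw [← h1]
      linear_combination (-N) * hst'
    rw [this]
    exact ((isIntegral_algebraMap (R := ℤ) (A := ℂ) (x := s)).mul
      (isIntegral_algebraMap (R := ℤ) (A := ℂ) (x := k))).add
      ((isIntegral_algebraMap (R := ℤ) (A := ℂ) (x := t)).mul h2)
  rw [hN] at hint
  obtain ⟨n, hn⟩ := exists_int_of_isIntegral hint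
  exact ⟨n, by rw [hN, ← hn]; simp⟩

end Arith

/-! ### Characters -/

section Characters

variable {G : Type u} [Group G]

theorem isIntegral_irr [Finite G] {χ : G → ℂ} (hχ : IsIrrCharacter G χ) (g : G) :
    IsIntegral ℤ (χ g) := by
  obtain ⟨n, ρ, -, rfl⟩ := hχ
  exact Cfsg.Agent.Characters.AverageRoots.isIntegral_character ρ g

theorem isIntegral_centralChar [Finite G] {χ : G → ℂ} (hχ : IsIrrCharacter G χ) (g : G) :
    IsIntegral ℤ (centralChar χ g) := by
  obtain ⟨n, ρ, hρ, rfl⟩ := hχ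
  have := Cfsg.Agent.S0141.result ρ g
  unfold centralChar
  rwa [Representation.char_one]

theorem isIntegral_conj {z : ℂ} (h : IsIntegral ℤ z) : IsIntegral ℤ (conj z) := by
  have := h.map (Complex.conjAe.toAlgHom.restrictScalars ℤ)
  exact this

theorem charDegree_eq {χ : G → ℂ} {n : ℕ} (h : χ 1 = n) : charDegree χ = n := by
  unfold charDegree
  rw [h]
  simp

/-- the degree of an irreducible character divides the group order -/
theorem degree_dvd_card [Finite G] {χ : G → ℂ} (hχ : IsIrrCharacter G χ) {n : ℕ}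
    (hn : χ 1 = n) : n ∣ Nat.card G := by
  classical
  have := Fintype.ofFinite G
  have hn0 : (n : ℂ) ≠ 0 := by
    obtain ⟨m, hm, h⟩ := isIrr_apply_one hχ
    rw [← hn, h]
    exact_mod_cast hm.ne'
  have h1 := classInner_irr_self hχ
  unfold classInner at h1
  have hG : (Nat.card G : ℂ) ≠ 0 := by
    have : Nat.card G ≠ 0 := Nat.card_pos.ne'
    exact_mod_cast this
  have h2 : ∑ g : G, χ g * conj (χ g) / n = (Nat.card G : ℂ) / n := by
    rw [← Finset.sum_div]
    congr 1
    field_simp at h1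
    exact h1
  have h3 : ∑ g : G, χ g * conj (χ g) / n ∈ AlgInt.toSubring.toAddSubgroup := by
    refine sum_classFun_mem _ _ ?_ ?_
    · intro g h
      have := isIrr_isClassFunction hχ g h
      simp only [this]
    · intro g
      have h4 : ((Subgroup.centralizer ({g} : Set G)).index : ℂ) * (χ g * conj (χ g) / n) =
          centralChar χ g * conj (χ g) := by
        unfold centralChar
        rw [hn]
        ring
      rw [h4]
      exact (isIntegral_centralChar hχ g).mul (isIntegral_conj (isIntegral_irr hχ g))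
  rw [h2] at h3
  have h5 : IsIntegral ℤ ((((Nat.card G : ℚ) / (n : ℚ) : ℚ)) : ℂ) := by
    push_cast
    exact h3
  obtain ⟨k, hk⟩ := exists_int_of_isIntegral h5
  have hn0' : (n : ℚ) ≠ 0 := by exact_mod_cast hn0
  rw [eq_div_iff hn0'] at hk
  have hk' : k * (n : ℤ) = (Nat.card G : ℤ) := by exact_mod_cast hk
  have : (n : ℤ) ∣ (Nat.card G : ℤ) := ⟨k, by rw [← hk', mul_comm]⟩
  exact_mod_cast this

end Characters

/-! ### Factorisation of characters of `P * C_G(P)` -/

section Factor

variable {G : Type u} [Group G] {p : ℕ} {P : Subgroup G}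

/-- The function `χ` on `G = P * C_G(P)` is the product of `ξ` on `P` and `ψ` on `C_G(P)`. -/
def IsFactor (P : Subgroup G) (χ : G → ℂ) (ξ : P → ℂ)
    (ψ : Subgroup.centralizer (P : Set G) → ℂ) : Prop :=
  ∀ (u : P) (c : Subgroup.centralizer (P : Set G)), χ (u * c) = ξ u * ψ c

theorem exists_factor [Finite G] (hG : P ⊔ Subgroup.centralizer (P : Set G) = ⊤)
    {χ : G → ℂ} (hχ : IsIrrCharacter G χ) :
    ∃ (ξ : P → ℂ) (ψ : Subgroup.centralizer (P : Set G) → ℂ), IsIrrCharacter P ξ ∧
      IsIrrCharacter (Subgroup.centralizer (P : Set G)) ψ ∧ IsFactor P χ ξ ψ := by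
  have h := isIrr_comp (mulHom P) (mulHom_surjective hG) hχ
  obtain ⟨ξ, ψ, hξ, hψ, h2⟩ := (Cfsg.Agent.S0188.result _).1 h
  exact ⟨ξ, ψ, hξ, hψ, fun u c => congrFun h2 (u, c)⟩

theorem IsFactor.apply_one {χ : G → ℂ} {ξ : P → ℂ} {ψ : Subgroup.centralizer (P : Set G) → ℂ}
    (h : IsFactor P χ ξ ψ) : χ 1 = ξ 1 * ψ 1 := by
  have := h 1 1
  simpa using this

theorem IsFactor.apply_coe {χ : G → ℂ} {ξ : P → ℂ} {ψ : Subgroup.centralizer (P : Set G) → ℂ}
    (h : IsFactor P χ ξ ψ) (c : Subgroup.centralizer (P : Set G)) : χ c = ξ 1 * ψ c := by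
  have := h 1 c
  simpa using this

theorem IsFactor.apply_left {χ : G → ℂ} {ξ : P → ℂ} {ψ : Subgroup.centralizer (P : Set G) → ℂ}
    (h : IsFactor P χ ξ ψ) (u : P) : χ u = ξ u * ψ 1 := by
  have := h u 1
  simpa using this

theorem conj_apply_one {H : Type*} [Group H] {χ : H → ℂ} (hχ : IsCharacter H χ) :
    conj (χ 1) = χ 1 := by
  obtain ⟨n, hn⟩ := isCharacter_apply_one hχ
  rw [hn, Complex.conj_natCast]

theorem irr_apply_one_ne_zero {H : Type*} [Group H] {χ : H → ℂ} (hχ : IsIrrCharacter H χ) :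
    χ 1 ≠ 0 := by
  obtain ⟨n, hn0, hn⟩ := isIrr_apply_one hχ
  rw [hn]
  exact_mod_cast hn0.ne'

open scoped Classical in
/-- the sum of `χ y * conj (χ' y)` over the `p`-regular elements -/
noncomputable def regSum [Fintype G] (p : ℕ) (χ χ' : G → ℂ) : ℂ :=
  ∑ y ∈ Finset.univ.filter (fun y : G => ¬ p ∣ orderOf y), χ y * conj (χ' y)

/-- For `χ`, `χ'` irreducible over `ξ`, `ξ'`, the weighted sum of the products of `χ` with the `C_G(P)`-part
of `χ'` over the `p`-regular elements is in any subgroup containing all the products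
`ω_χ(y) * conj (ψ' y)`. -/
theorem regSum_mem [Fintype G] [Fact p.Prime] (hP : IsPGroup p P)
    (hG : P ⊔ Subgroup.centralizer (P : Set G) = ⊤) (A : AddSubgroup ℂ)
    {χ χ' : G → ℂ} (hχ : IsClassFunction G χ) (hχ' : IsIrrCharacter G χ')
    {ξ : P → ℂ} (hξ : IsIrrCharacter P ξ) {ψ' : Subgroup.centralizer (P : Set G) → ℂ}
    (hf' : IsFactor P χ' ξ ψ')
    (hA : ∀ c : Subgroup.centralizer (P : Set G), ¬ p ∣ orderOf (c : G) →
      ((Subgroup.centralizer ({(c : G)} : Set G)).index : ℂ) * χ (c : G) * conj (ψ' c) ∈ A) :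
    regSum p χ χ' / ξ 1 ∈ A := by
  classical
  unfold regSum
  rw [Finset.sum_filter, Finset.sum_div]
  refine sum_classFun_mem A _ ?_ ?_
  · intro g h
    have h1 : orderOf (h * g * h⁻¹) = orderOf g := by
      have := (MulAut.conj h).orderOf_eq g
      simpa using this
    simp only [h1, hχ g h, isIrr_isClassFunction hχ' g h]
  · intro g
    by_cases hg : p ∣ orderOf g
    · simp only [hg, not_true_eq_false, if_false, zero_div, mul_zero]
      exact A.zero_mem
    · simp only [hg, not_false_eq_true, if_true]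
      have hgC := mem_centralizer_of_regular hP hG hg
      have h1 := hA ⟨g, hgC⟩ hg
      have h2 : conj (χ' g) = ξ 1 * conj (ψ' ⟨g, hgC⟩) := by
        have := hf'.apply_coe ⟨g, hgC⟩
        change χ' g = _ at this
        rw [this, map_mul, conj_apply_one (isIrr_isCharacter hξ)]
      rw [h2]
      have h3 := irr_apply_one_ne_zero hξ
      convert h1 using 1
      field_simp

/-- Inner products of two characters over the same `ξ ∈ Irr(P)`, summed over `P * G_reg`. -/
theorem sum_prodSet_mul_conj [Fintype G] [Fact p.Prime] (hP : IsPGroup p P)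
    (hG : P ⊔ Subgroup.centralizer (P : Set G) = ⊤)
    {χ χ' : G → ℂ} {ξ : P → ℂ} (hξ : IsIrrCharacter P ξ)
    {ψ ψ' : Subgroup.centralizer (P : Set G) → ℂ} (hf : IsFactor P χ ξ ψ)
    (hf' : IsFactor P χ' ξ ψ') [DecidablePred fun g => g ∈ prodSet p P] :
    ∑ g ∈ Finset.univ.filter (fun g => g ∈ prodSet p P), χ g * conj (χ' g) =
      Nat.card P * regSum p χ χ' / (ξ 1) ^ 2 := by
  classical
  have := Fintype.ofFinite P
  have h0 := sum_prodSet hP hG (fun g => χ g * conj (χ' g))
  have h0' : ∑ g ∈ Finset.univ.filter (fun g => g ∈ prodSet p P), χ g * conj (χ' g) =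
      ∑ u : P, ∑ y ∈ Finset.univ.filter (fun y : G => ¬ p ∣ orderOf y),
        χ (u * y) * conj (χ' (u * y)) := by
    convert h0 using 2
    ext g
    simp
  rw [h0']
  have hξ1 := irr_apply_one_ne_zero hξ
  have hξc := conj_apply_one (isIrr_isCharacter hξ)
  have h1 : ∀ u : P, ∀ y ∈ Finset.univ.filter (fun y : G => ¬ p ∣ orderOf y),
      χ (u * y) * conj (χ' (u * y)) = (ξ u * conj (ξ u)) * ((χ y * conj (χ' y)) / (ξ 1) ^ 2) := by
    intro u y hy
    have hy' : ¬ p ∣ orderOf y := (Finset.mem_filter.1 hy).2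
    have hyC := mem_centralizer_of_regular hP hG hy'
    have e1 := hf u ⟨y, hyC⟩
    have e2 := hf' u ⟨y, hyC⟩
    have e3 := hf.apply_coe ⟨y, hyC⟩
    have e4 := hf'.apply_coe ⟨y, hyC⟩
    simp only at e1 e2 e3 e4
    rw [e1, e2, e3, e4]
    simp only [map_mul, hξc]
    field_simp
  rw [Finset.sum_congr rfl fun u _ => Finset.sum_congr rfl (h1 u)]
  simp_rw [← Finset.mul_sum]
  rw [← Finset.sum_mul, ← Finset.sum_div]
  have h2 := classInner_irr_self hξ
  unfold classInner at h2
  have hP0 : (Nat.card P : ℂ) ≠ 0 := by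
    have : Nat.card P ≠ 0 := Nat.card_pos.ne'
    exact_mod_cast this
  have h3 : ∑ u : P, ξ u * conj (ξ u) = Nat.card P := by
    field_simp at h2
    exact h2
  rw [h3]
  unfold regSum
  ring

theorem exists_int_classInner [Fintype G] {θ χ : G → ℂ} (hθ : IsGeneralizedCharacter G θ)
    (hχ : IsCharacter G χ) : ∃ k : ℤ, classInner θ χ = k := by
  obtain ⟨α, β, hα, hβ, rfl⟩ := hθ
  obtain ⟨m, hm⟩ := classInner_isNat hα hχ
  obtain ⟨n, hn⟩ := classInner_isNat hβ hχ
  refine ⟨(m : ℤ) - n, ?_⟩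
  rw [classInner_sub_left, hm, hn]
  push_cast
  rfl

/-- `S0961`: `p ^ a` times the sum over the `p`-regular elements is an integer multiple of `|G|`. -/
theorem exists_int_regSum [Fintype G] [Fact p.Prime] {χ χ' : G → ℂ} (hχ : IsIrrCharacter G χ)
    (hχ' : IsIrrCharacter G χ') :
    ∃ k : ℤ, ((p ^ (Nat.card G).factorization p : ℕ) : ℂ) * regSum p χ χ' = Nat.card G * k := by
  classical
  have h1 := Cfsg.Agent.S0961.result p (⟨χ, hχ⟩ : IrrCharacter G)
  obtain ⟨k, hk⟩ := exists_int_classInner h1 (isIrr_isCharacter hχ')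
  refine ⟨k, ?_⟩
  have hG : (Nat.card G : ℂ) ≠ 0 := by
    have : Nat.card G ≠ 0 := Nat.card_pos.ne'
    exact_mod_cast this
  rw [← hk]
  unfold classInner regSum
  rw [← mul_assoc, mul_inv_cancel₀ hG, one_mul, Finset.mul_sum, Finset.sum_filter]
  refine Finset.sum_congr rfl fun g _ => ?_
  by_cases hg : p ∣ orderOf g
  · simp [hg]
  · simp [hg, mul_assoc]

/-- The main integrality statement. -/
theorem exists_int_sum_prodSet [Fintype G] [Fact p.Prime] (hP : IsPGroup p P)
    (hG : P ⊔ Subgroup.centralizer (P : Set G) = ⊤)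
    {χ : G → ℂ} {ξ : P → ℂ} {ψ : Subgroup.centralizer (P : Set G) → ℂ}
    (hχ : IsIrrCharacter G χ) (hξ : IsIrrCharacter P ξ)
    (hψ : IsIrrCharacter (Subgroup.centralizer (P : Set G)) ψ) (hf : IsFactor P χ ξ ψ)
    (hdeg : P.index.factorization p ≤ (charDegree ψ).factorization p)
    [DecidablePred fun g => g ∈ prodSet p P] :
    ∃ k : ℤ, (Nat.card G : ℂ)⁻¹ *
      ∑ g ∈ Finset.univ.filter (fun g => g ∈ prodSet p P), χ g * conj (χ g) = k := by
  classical
  have hpp : p.Prime := Fact.out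
  rw [sum_prodSet_mul_conj hP hG hξ hf hf]
  obtain ⟨d, hd0, hd⟩ := isIrr_apply_one hξ
  obtain ⟨n, hn0, hn⟩ := isIrr_apply_one hψ
  rw [charDegree_eq hn] at hdeg
  have hχ1 : χ 1 = (d : ℂ) * n := by rw [hf.apply_one, hd, hn]
  have hG0 : (Nat.card G : ℂ) ≠ 0 := by
    have : Nat.card G ≠ 0 := Nat.card_pos.ne'
    exact_mod_cast this
  have hd0' : (d : ℂ) ≠ 0 := by exact_mod_cast hd0.ne'
  have hn0' : (n : ℂ) ≠ 0 := by exact_mod_cast hn0.ne'
  -- the algebraic integer `T`
  have hT : regSum p (fun g => χ g / χ 1) χ / ξ 1 ∈ AlgInt.toSubring.toAddSubgroup := by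
    refine regSum_mem hP hG _ ?_ hχ hξ hf ?_
    · intro g h
      simp only [isIrr_isClassFunction hχ g h]
    · intro c _
      have h1 : ((Subgroup.centralizer ({(c : G)} : Set G)).index : ℂ) * (χ (c : G) / χ 1) *
          conj (ψ c) = centralChar χ c * conj (ψ c) := by
        unfold centralChar
        ring
      rw [h1]
      exact (isIntegral_centralChar hχ _).mul (isIntegral_conj (isIntegral_irr hψ c))
  have hTeq : regSum p (fun g => χ g / χ 1) χ / ξ 1 = regSum p χ χ / (d * n * d) := by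
    rw [hd, ← hχ1]
    unfold regSum
    rw [Finset.sum_div, Finset.sum_div]
    refine Finset.sum_congr rfl fun y _ => ?_
    have : χ 1 ≠ 0 := irr_apply_one_ne_zero hχ
    field_simp
  rw [hTeq] at hT
  set S := regSum p χ χ with hS
  -- numbers
  have hidx0 : P.index ≠ 0 := Subgroup.index_ne_zero_of_finite
  set c := P.index.factorization p with hc
  obtain ⟨r, hr⟩ : p ^ c ∣ P.index := Nat.ordProj_dvd P.index p
  obtain ⟨n', hn'⟩ : p ^ c ∣ n := (Nat.pow_dvd_pow p hdeg).trans (Nat.ordProj_dvd n p)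
  have hpr : ¬ p ∣ r := by
    rintro ⟨s, rfl⟩
    have : p ^ (c + 1) ∣ P.index := ⟨s, by rw [hr]; ring⟩
    have := (Nat.Prime.pow_dvd_iff_le_factorization hpp hidx0).1 this
    omega
  obtain ⟨j, hj⟩ := (IsPGroup.iff_card).1 hP
  have hdP : d ∣ Nat.card P := degree_dvd_card hξ hd
  set a := (Nat.card G).factorization p with ha
  have hcop : Nat.Coprime (p ^ a * d ^ 2) r := by
    refine Nat.Coprime.mul_left (Nat.Coprime.pow_left _ ((Nat.Prime.coprime_iff_not_dvd hpp).2 hpr))
      (Nat.Coprime.pow_left _ ?_)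
    refine Nat.Coprime.coprime_dvd_left hdP ?_
    rw [hj]
    exact Nat.Coprime.pow_left _ ((Nat.Prime.coprime_iff_not_dvd hpp).2 hpr)
  obtain ⟨k, hk⟩ := exists_int_regSum (p := p) hχ hχ
  have hcard : (Nat.card G : ℂ) = Nat.card P * (p ^ c * r : ℕ) := by
    rw [← hr]
    exact_mod_cast (Subgroup.card_mul_index P).symm
  have hP0 : (Nat.card P : ℂ) ≠ 0 := by
    have : Nat.card P ≠ 0 := Nat.card_pos.ne'
    exact_mod_cast this
  have hr0 : (r : ℂ) ≠ 0 := by
    intro h
    have : r = 0 := by exact_mod_cast h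
    rw [this] at hpr
    exact hpr (dvd_zero p)
  have hp0 : (p : ℂ) ≠ 0 := by exact_mod_cast hpp.ne_zero
  have ha0 : p ^ a * d ^ 2 ≠ 0 := by
    have := hpp.ne_zero
    positivity
  obtain ⟨m, hm⟩ := exists_int_of_coprime (N := (Nat.card G : ℂ)⁻¹ * (Nat.card P * S / ξ 1 ^ 2))
    (k := (Nat.card P : ℤ) * k) hcop ha0 (by
      push_cast at hk ⊢
      rw [hd]
      field_simp
      rw [← hS] at hk
      linear_combination hk) (by
      have h1 : (r : ℂ) * ((Nat.card G : ℂ)⁻¹ * (Nat.card P * S / ξ 1 ^ 2)) =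
          (n' : ℂ) * (S / (d * n * d)) := by
        rw [hd, hcard]
        have hn'' : (n : ℂ) = (p : ℂ) ^ c * n' := by rw [hn']; push_cast; ring
        have hn'0 : (n' : ℂ) ≠ 0 := by
          intro h
          rw [h, mul_zero] at hn''
          exact hn0' hn''
        rw [hn'']
        push_cast
        field_simp
      rw [h1]
      refine IsIntegral.mul ?_ hT
      exact isIntegral_algebraMap (R := ℤ) (A := ℂ) (x := (n' : ℤ)))
  exact ⟨m, hm.symm⟩

theorem one_mem_prodSet [Fact p.Prime] : (1 : G) ∈ prodSet p P :=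
  ⟨1, P.one_mem, 1, by rw [orderOf_one]; exact (Fact.out : p.Prime).one_lt.ne' ∘ Nat.dvd_one.1,
    by simp⟩

/-- Laradji's vanishing theorem for `G = P * C_G(P)`, and the value one of the norm computed over
`P * G_reg`. -/
theorem vanish [Fintype G] [Fact p.Prime] (hP : IsPGroup p P)
    (hG : P ⊔ Subgroup.centralizer (P : Set G) = ⊤)
    {χ : G → ℂ} {ξ : P → ℂ} {ψ : Subgroup.centralizer (P : Set G) → ℂ}
    (hχ : IsIrrCharacter G χ) (hξ : IsIrrCharacter P ξ)
    (hψ : IsIrrCharacter (Subgroup.centralizer (P : Set G)) ψ) (hf : IsFactor P χ ξ ψ)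
    (hdeg : P.index.factorization p ≤ (charDegree ψ).factorization p) {g : G}
    (hg : g ∉ prodSet p P) : χ g = 0 := by
  classical
  obtain ⟨k, hk⟩ := exists_int_sum_prodSet hP hG hχ hξ hψ hf hdeg
  have h1 := classInner_irr_self hχ
  unfold classInner at h1
  have hG0 : (Nat.card G : ℝ) ≠ 0 := by
    have : Nat.card G ≠ 0 := Nat.card_pos.ne'
    exact_mod_cast this
  have hGpos : 0 < (Nat.card G : ℝ) := by
    have : 0 < Nat.card G := Nat.card_pos
    exact_mod_cast this
  have e1 : (Nat.card G : ℝ)⁻¹ * ∑ g : G, Complex.normSq (χ g) = 1 := by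
    have : (((Nat.card G : ℝ)⁻¹ * ∑ g : G, Complex.normSq (χ g) : ℝ) : ℂ) = 1 := by
      push_cast
      simp_rw [← Complex.mul_conj]
      exact h1
    exact_mod_cast this
  have e2 : (Nat.card G : ℝ)⁻¹ * ∑ g ∈ Finset.univ.filter (fun g => g ∈ prodSet p P),
      Complex.normSq (χ g) = k := by
    have : (((Nat.card G : ℝ)⁻¹ * ∑ g ∈ Finset.univ.filter (fun g => g ∈ prodSet p P),
        Complex.normSq (χ g) : ℝ) : ℂ) = k := by
      push_cast
      simp_rw [← Complex.mul_conj]
      exact hk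
    exact_mod_cast this
  have e3 : ∑ g : G, Complex.normSq (χ g) =
      ∑ g ∈ Finset.univ.filter (fun g => g ∈ prodSet p P), Complex.normSq (χ g) +
      ∑ g ∈ Finset.univ.filter (fun g => ¬ g ∈ prodSet p P), Complex.normSq (χ g) :=
    (Finset.sum_filter_add_sum_filter_not _ _ _).symm
  have e4 : 0 < ∑ g ∈ Finset.univ.filter (fun g => g ∈ prodSet p P), Complex.normSq (χ g) := by
    refine Finset.sum_pos' (fun g _ => Complex.normSq_nonneg _) ⟨1, ?_, ?_⟩
    · simp [one_mem_prodSet]
    · exact Complex.normSq_pos.2 (irr_apply_one_ne_zero hχ)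
  have e5 : 0 ≤ ∑ g ∈ Finset.univ.filter (fun g => ¬ g ∈ prodSet p P), Complex.normSq (χ g) :=
    Finset.sum_nonneg fun g _ => Complex.normSq_nonneg _
  have e6 : (0 : ℝ) < k := by
    rw [← e2]
    exact mul_pos (inv_pos.2 hGpos) e4
  have e7 : (1 : ℤ) ≤ k := by
    have : 0 < k := by exact_mod_cast e6
    omega
  have e8 : (1 : ℝ) ≤ k := by exact_mod_cast e7
  have e9 : ∑ g ∈ Finset.univ.filter (fun g => ¬ g ∈ prodSet p P), Complex.normSq (χ g) = 0 := by
    have a1 : ∑ g : G, Complex.normSq (χ g) = Nat.card G := by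
      field_simp at e1
      exact e1
    have a2 : ∑ g ∈ Finset.univ.filter (fun g => g ∈ prodSet p P), Complex.normSq (χ g) =
        Nat.card G * k := by
      rw [← e2]
      field_simp
    rw [a1, a2] at e3
    nlinarith
  have e10 := (Finset.sum_eq_zero_iff_of_nonneg fun g _ => Complex.normSq_nonneg _).1 e9 g
    (by simp [hg])
  exact Complex.normSq_eq_zero.1 e10

/-- The inner product of two characters vanishing off `P * G_reg`. -/
theorem classInner_eq [Fintype G] [Fact p.Prime] (hP : IsPGroup p P)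
    (hG : P ⊔ Subgroup.centralizer (P : Set G) = ⊤)
    {χ χ' : G → ℂ} {ξ : P → ℂ} (hξ : IsIrrCharacter P ξ)
    {ψ ψ' : Subgroup.centralizer (P : Set G) → ℂ} (hf : IsFactor P χ ξ ψ)
    (hf' : IsFactor P χ' ξ ψ') (hv : ∀ g, g ∉ prodSet p P → χ g = 0) :
    classInner χ χ' = (Nat.card G : ℂ)⁻¹ * (Nat.card P * regSum p χ χ' / (ξ 1) ^ 2) := by
  classical
  rw [← sum_prodSet_mul_conj hP hG hξ hf hf']
  unfold classInner
  congr 1
  symm
  refine Finset.sum_subset (Finset.subset_univ _) ?_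
  intro g _ hg
  have : g ∉ prodSet p P := by
    intro h
    exact hg (by simp [h])
  rw [hv g this, zero_mul]

end Factor


/-! ### Congruences -/

section Local

variable {p : ℕ} {M : Ideal AlgInt}

theorem memLocalRing_natDiv (hM : IsPModular p M) {m n : ℕ} (hm : m ≠ 0)
    (h : m.factorization p ≤ n.factorization p) : MemLocalRing M ((n : ℂ) / m) := by
  have hpp : p.Prime := hM.1
  obtain ⟨r, hr⟩ : p ^ (m.factorization p) ∣ m := Nat.ordProj_dvd m p
  obtain ⟨s, hs⟩ : p ^ (m.factorization p) ∣ n := (Nat.pow_dvd_pow p h).trans (Nat.ordProj_dvd n p)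
  have hpr : ¬ p ∣ r := by
    rintro ⟨t, rfl⟩
    have : p ^ (m.factorization p + 1) ∣ m := ⟨t, by rw [pow_succ, mul_assoc]; exact hr⟩
    have := (Nat.Prime.pow_dvd_iff_le_factorization hpp hm).1 this
    omega
  have hr0 : (r : AlgInt) ∉ M := by rwa [natCast_mem_iff hM]
  refine ⟨s, r, hr0, ?_⟩
  have hp0 : (p : ℂ) ≠ 0 := by exact_mod_cast hpp.ne_zero
  have hr1 : (r : ℂ) ≠ 0 := by
    intro h
    have : r = 0 := by exact_mod_cast h
    rw [this] at hpr
    exact hpr (dvd_zero p)
  have h1 : (m : ℂ) = (p : ℂ) ^ (m.factorization p) * r := by exact_mod_cast hr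
  have h2 : (n : ℂ) = (p : ℂ) ^ (m.factorization p) * s := by exact_mod_cast hs
  rw [h2, h1]
  push_cast
  field_simp

theorem memLocalIdeal_natDiv (hM : IsPModular p M) {m n : ℕ} (hm : m ≠ 0)
    (h : m.factorization p < n.factorization p) : MemLocalIdeal M ((n : ℂ) / m) := by
  have hpp : p.Prime := hM.1
  have hn0 : n ≠ 0 := by
    rintro rfl
    simp at h
  obtain ⟨s, hs⟩ : p ∣ n := Nat.dvd_of_factorization_pos (by omega)
  have h1 : ((n : ℂ) / m) = p * ((s : ℂ) / m) := by
    rw [hs]; push_cast; ring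
  rw [h1]
  refine memLocalIdeal_mul_right hM (memLocalIdeal_prime hM) (memLocalRing_natDiv hM hm ?_)
  have hs0 : s ≠ 0 := by rintro rfl; simp at hs; exact hn0 hs
  rw [hs, Nat.factorization_mul hpp.ne_zero hs0, Finsupp.add_apply,
    Nat.Prime.factorization_self hpp] at h
  omega

end Local

section More

variable {G : Type u} [Group G] {p : ℕ} {P : Subgroup G}

/-- the normalised sum over the regular elements -/
noncomputable def regT [Fintype G] (p : ℕ) (χ χ' : G → ℂ) (ξ : P → ℂ) : ℂ :=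
  regSum p (fun g => χ g / χ 1) χ' / ξ 1

theorem regT_mem [Fintype G] [Fact p.Prime] (hP : IsPGroup p P)
    (hG : P ⊔ Subgroup.centralizer (P : Set G) = ⊤) (A : AddSubgroup ℂ)
    {χ χ' : G → ℂ} (hχ : IsIrrCharacter G χ) (hχ' : IsIrrCharacter G χ')
    {ξ : P → ℂ} (hξ : IsIrrCharacter P ξ) {ψ' : Subgroup.centralizer (P : Set G) → ℂ}
    (hf' : IsFactor P χ' ξ ψ')
    (hA : ∀ c : Subgroup.centralizer (P : Set G), ¬ p ∣ orderOf (c : G) →
      centralChar χ (c : G) * conj (ψ' c) ∈ A) :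
    regT p χ χ' ξ ∈ A := by
  unfold regT
  refine regSum_mem hP hG _ ?_ hχ' hξ hf' ?_
  · intro g h
    simp only [isIrr_isClassFunction hχ g h]
  · intro c hc
    have h1 : ((Subgroup.centralizer ({(c : G)} : Set G)).index : ℂ) * (χ (c : G) / χ 1) *
        conj (ψ' c) = centralChar χ c * conj (ψ' c) := by
      unfold centralChar
      ring
    rw [h1]
    exact hA c hc

theorem isIntegral_regT [Fintype G] [Fact p.Prime] (hP : IsPGroup p P)
    (hG : P ⊔ Subgroup.centralizer (P : Set G) = ⊤)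
    {χ χ' : G → ℂ} (hχ : IsIrrCharacter G χ) (hχ' : IsIrrCharacter G χ')
    {ξ : P → ℂ} (hξ : IsIrrCharacter P ξ) {ψ' : Subgroup.centralizer (P : Set G) → ℂ}
    (hψ' : IsIrrCharacter (Subgroup.centralizer (P : Set G)) ψ')
    (hf' : IsFactor P χ' ξ ψ') : IsIntegral ℤ (regT p χ χ' ξ) := by
  have : regT p χ χ' ξ ∈ AlgInt.toSubring.toAddSubgroup := by
    refine regT_mem hP hG _ hχ hχ' hξ hf' ?_
    intro c _
    exact (isIntegral_centralChar hχ _).mul (isIntegral_conj (isIntegral_irr hψ' c))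
  exact this

/-- The local ideal as an additive subgroup of `ℂ`. -/
def idealSub {M : Ideal AlgInt} (hM : IsPModular p M) : AddSubgroup ℂ where
  carrier := {z | MemLocalIdeal M z}
  add_mem' := memLocalIdeal_add hM
  zero_mem' := memLocalIdeal_zero hM
  neg_mem' := memLocalIdeal_neg

theorem mem_idealSub {M : Ideal AlgInt} (hM : IsPModular p M) {z : ℂ} :
    z ∈ idealSub hM ↔ MemLocalIdeal M z := Iff.rfl

/-- Congruence of the normalised sums for characters in the same block. -/
theorem regT_congr [Fintype G] [Fact p.Prime] (hP : IsPGroup p P)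
    (hG : P ⊔ Subgroup.centralizer (P : Set G) = ⊤) {M : Ideal AlgInt} (hM : IsPModular p M)
    {χ₁ χ₂ χ' : G → ℂ} (hχ₁ : IsIrrCharacter G χ₁) (hχ₂ : IsIrrCharacter G χ₂)
    (hχ' : IsIrrCharacter G χ')
    {ξ : P → ℂ} (hξ : IsIrrCharacter P ξ) {ψ' : Subgroup.centralizer (P : Set G) → ℂ}
    (hψ' : IsIrrCharacter (Subgroup.centralizer (P : Set G)) ψ')
    (hf' : IsFactor P χ' ξ ψ') (hsb : SameBlock M χ₁ χ₂) :
    MemLocalIdeal M (regT p χ₁ χ' ξ - regT p χ₂ χ' ξ) := by
  have h1 : regT p χ₁ χ' ξ - regT p χ₂ χ' ξ =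
      regSum p (fun g => χ₁ g / χ₁ 1 - χ₂ g / χ₂ 1) χ' / ξ 1 := by
    unfold regT regSum
    rw [← sub_div, ← Finset.sum_sub_distrib]
    congr 1
    refine Finset.sum_congr rfl fun y _ => ?_
    ring
  rw [h1, ← mem_idealSub hM]
  refine regSum_mem hP hG _ ?_ hχ' hξ hf' ?_
  · intro g h
    simp only [isIrr_isClassFunction hχ₁ g h, isIrr_isClassFunction hχ₂ g h]
  · intro c _
    have h2 : ((Subgroup.centralizer ({(c : G)} : Set G)).index : ℂ) *
        (χ₁ (c : G) / χ₁ 1 - χ₂ (c : G) / χ₂ 1) * conj (ψ' c) =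
        (centralChar χ₁ c - centralChar χ₂ c) * conj (ψ' c) := by
      unfold centralChar
      ring
    rw [h2, mem_idealSub]
    exact memLocalIdeal_mul_right hM (hsb c)
      (memLocalRing_of_isIntegral hM (isIntegral_conj (isIntegral_irr hψ' c)))

/-- The inner product through the normalised sum. -/
theorem classInner_eq_regT [Fintype G] [Fact p.Prime] (hP : IsPGroup p P)
    (hG : P ⊔ Subgroup.centralizer (P : Set G) = ⊤)
    {χ χ' : G → ℂ} (hχ : IsIrrCharacter G χ) {ξ : P → ℂ} (hξ : IsIrrCharacter P ξ)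
    {ψ ψ' : Subgroup.centralizer (P : Set G) → ℂ}
    (hψ : IsIrrCharacter (Subgroup.centralizer (P : Set G)) ψ) (hf : IsFactor P χ ξ ψ)
    (hf' : IsFactor P χ' ξ ψ')
    (hdeg : P.index.factorization p ≤ (charDegree ψ).factorization p) :
    classInner χ χ' = ((charDegree ψ : ℂ) / P.index) * regT p χ χ' ξ := by
  rw [classInner_eq hP hG hξ hf hf' (fun g hg => vanish hP hG hχ hξ hψ hf hdeg hg)]
  obtain ⟨d, hd0, hd⟩ := isIrr_apply_one hξ
  obtain ⟨n, hn0, hn⟩ := isIrr_apply_one hψ
  rw [charDegree_eq hn]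
  have hχ1 : χ 1 = (d : ℂ) * n := by rw [hf.apply_one, hd, hn]
  have hd0' : (d : ℂ) ≠ 0 := by exact_mod_cast hd0.ne'
  have hn0' : (n : ℂ) ≠ 0 := by exact_mod_cast hn0.ne'
  have hcard : (Nat.card G : ℂ) = Nat.card P * P.index := by
    exact_mod_cast (Subgroup.card_mul_index P).symm
  have hP0 : (Nat.card P : ℂ) ≠ 0 := by
    have : Nat.card P ≠ 0 := Nat.card_pos.ne'
    exact_mod_cast this
  have hidx0 : (P.index : ℂ) ≠ 0 := by
    have : P.index ≠ 0 := Subgroup.index_ne_zero_of_finite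
    exact_mod_cast this
  have hTeq : regT p χ χ' ξ = regSum p χ χ' / (d * n * d) := by
    unfold regT
    rw [hd, ← hχ1]
    unfold regSum
    rw [Finset.sum_div, Finset.sum_div]
    refine Finset.sum_congr rfl fun y _ => ?_
    have : χ 1 ≠ 0 := irr_apply_one_ne_zero hχ
    field_simp
  rw [hTeq, hcard, hd]
  field_simp

end More

end Cfsg.Agent.Blocks.CentralProduct
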