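import Mathlib

/-!
# Groups with a central Sylow subgroup

A finite group with a central Sylow `p`-subgroup `P` has a normal subgroup `K` of order prime to `p` and
index `|P|`, consisting of the elements of order prime to `p`.
-/

set_option autoImplicit false

namespace Cfsg.Agent.Blocks.CentralSylow

/-- In a group with a normal subgroup `K` of order prime to `p` and index a power of `p`, the
elements of `K` are those of order prime to `p`. -/
theorem mem_iff_of_index {E : Type*} [Group E] [Finite E] {p : ℕ} (hp : p.Prime) (K : Subgroup E)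
    [K.Normal] {j : ℕ} (hj : K.index = p ^ j) (hK : (Nat.card K).Coprime p) (e : E) :
    e ∈ K ↔ ¬ p ∣ orderOf e := by
  constructor
  · intro he hd
    have h1 : orderOf e ∣ Nat.card K := by
      have := orderOf_dvd_natCard (⟨e, he⟩ : K)
      rwa [← Subgroup.orderOf_coe] at this
    exact (Nat.Prime.coprime_iff_not_dvd hp).mp hK.symm (hd.trans h1)
  · intro hd
    rw [← QuotientGroup.eq_one_iff, ← orderOf_eq_one_iff]
    have h1 : orderOf ((e : E ⧸ K)) ∣ p ^ j := by
      rw [← hj, Subgroup.index]
      exact orderOf_dvd_natCard _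
    have h2 : orderOf ((e : E ⧸ K)) ∣ orderOf e := orderOf_map_dvd (QuotientGroup.mk' K) e
    obtain ⟨i, -, hi⟩ := (Nat.dvd_prime_pow hp).mp h1
    rcases Nat.eq_zero_or_pos i with h0 | h0
    · rw [hi, h0, pow_zero]
    · exfalso
      apply hd
      refine dvd_trans ?_ h2
      rw [hi]
      exact dvd_pow_self p h0.ne'

/-- A central Sylow subgroup has a normal complement, made of the elements of order prime to
`p`. -/
theorem exists_complement {E : Type*} [Group E] [Finite E] {p : ℕ} [Fact p.Prime] (P : Sylow p E)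
    (hP : (P : Subgroup E) ≤ Subgroup.center E) :
    ∃ (K : Subgroup E), K.Normal ∧ K.index = Nat.card P ∧ (Nat.card K).Coprime p ∧
      ∀ e : E, e ∈ K ↔ ¬ p ∣ orderOf e := by
  have hp : p.Prime := Fact.out
  have hPn : (P : Subgroup E).Normal := by
    refine ⟨fun n hn g => ?_⟩
    have := Subgroup.mem_center_iff.mp (hP hn) g
    rw [this]
    simpa using hn
  have hPc : Nat.Coprime (Nat.card (P : Subgroup E)) (P : Subgroup E).index :=
    P.card_coprime_index
  obtain ⟨K, hK⟩ := Subgroup.exists_right_complement'_of_coprime hPc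
  obtain ⟨i, hi⟩ := IsPGroup.iff_card.mp P.2
  have hKcard : Nat.card K = (P : Subgroup E).index := hK.card_right
  have hKn : K.Normal := by
    refine ⟨fun n hn g => ?_⟩
    have hg : g ∈ (P : Subgroup E) ⊔ K := by
      rw [hK.sup_eq_top]; trivial
    obtain ⟨a, ha, b, hb, rfl⟩ := (Subgroup.mem_sup_of_normal_left).mp hg
    have h1 : a * b * n * (a * b)⁻¹ = b * n * b⁻¹ := by
      have hc := Subgroup.mem_center_iff.mp (hP ha) (b * n * b⁻¹)
      calc a * b * n * (a * b)⁻¹ = a * (b * n * b⁻¹) * a⁻¹ := by group
        _ = (b * n * b⁻¹) * a * a⁻¹ := by rw [hc]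
        _ = b * n * b⁻¹ := by group
    rw [h1]
    exact K.mul_mem (K.mul_mem hb hn) (K.inv_mem hb)
  have hKi : K.index = Nat.card P := hK.index_eq_card
  have hKc : (Nat.card K).Coprime p := by
    rw [hKcard]
    have h4 := (Nat.Prime.coprime_iff_not_dvd hp).mpr P.not_dvd_index
    exact h4.symm
  exact ⟨K, hKn, hKi, hKc, mem_iff_of_index hp K (hKi.trans hi) hKc⟩

end Cfsg.Agent.Blocks.CentralSylow
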