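import Mathlib
import Cfsg.Prelude.Def_Blocks

/-!
# Central characters and restriction to normal subgroups

Basic facts used for statements S0963, S0964, S0965: values of characters at inverses, the inner
product as dimension of the space of intertwining maps, class functions acting as scalars.
-/

set_option autoImplicit false

namespace Cfsg.Agent.Blocks.CliffordCentral

open scoped ComplexConjugate ComplexOrder
open Representation

/-- The matrices of a complex representation of a finite group preserve a positive definite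
Hermitian form, so the value of the character at the inverse is the complex conjugate. -/
theorem character_inv {G : Type*} [Group G] [Finite G] {n : ℕ}
    (ρ : Representation ℂ G (Fin n → ℂ)) (g : G) :
    ρ.character g⁻¹ = conj (ρ.character g) := by
  classical
  have := Fintype.ofFinite G
  let R : G → Matrix (Fin n) (Fin n) ℂ := fun x => LinearMap.toMatrix' (ρ x)
  have hR1 : R 1 = 1 := by simp [R]
  have hRmul : ∀ x y, R (x * y) = R x * R y := by
    intro x y
    simp only [R, map_mul]
    exact LinearMap.toMatrix'_mul _ _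
  let H : Matrix (Fin n) (Fin n) ℂ := ∑ x : G, (R x).conjTranspose * R x
  have hpos : H.PosDef := by
    have h1 : H = (R 1).conjTranspose * R 1 + ∑ x ∈ Finset.univ.erase (1 : G),
        (R x).conjTranspose * R x := by
      exact (Finset.add_sum_erase Finset.univ (fun x => (R x).conjTranspose * R x)
        (Finset.mem_univ (1 : G))).symm
    rw [h1, hR1]
    simp only [Matrix.conjTranspose_one, Matrix.mul_one]
    refine Matrix.PosDef.add_posSemidef Matrix.PosDef.one ?_
    refine Matrix.posSemidef_sum _ fun x _ => Matrix.posSemidef_conjTranspose_mul_self _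
  have hinv : (R g).conjTranspose * H * R g = H := by
    simp only [H, Finset.mul_sum, Finset.sum_mul]
    have : ∀ x, (R g).conjTranspose * ((R x).conjTranspose * R x) * R g
        = (R (x * g)).conjTranspose * R (x * g) := by
      intro x
      rw [hRmul, Matrix.conjTranspose_mul]
      simp only [Matrix.mul_assoc]
    simp_rw [this]
    exact Fintype.sum_equiv (Equiv.mulRight g) _ _ (fun x => rfl)
  have hgg : R g * R g⁻¹ = 1 := by rw [← hRmul, mul_inv_cancel, hR1]
  have hHu : IsUnit H := hpos.isUnit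
  obtain ⟨u, hu⟩ := hHu
  have h2 : (R g).conjTranspose = H * R g⁻¹ * (↑u⁻¹ : Matrix (Fin n) (Fin n) ℂ) := by
    have h3 : (R g).conjTranspose * H = H * R g⁻¹ := by
      calc (R g).conjTranspose * H = (R g).conjTranspose * H * (R g * R g⁻¹) := by
            rw [hgg, Matrix.mul_one]
        _ = ((R g).conjTranspose * H * R g) * R g⁻¹ := by simp only [Matrix.mul_assoc]
        _ = H * R g⁻¹ := by rw [hinv]
    rw [← h3, ← hu, Matrix.mul_assoc, Units.mul_inv, Matrix.mul_one]
  have htr : ∀ x, ρ.character x = (R x).trace := by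
    intro x
    simp only [Representation.character, R]
    rw [LinearMap.trace_eq_matrix_trace ℂ (Pi.basisFun ℂ (Fin n)),
      LinearMap.toMatrix_eq_toMatrix']
  rw [htr, htr, starRingEnd_apply, ← Matrix.trace_conjTranspose, h2,
    Matrix.trace_mul_comm, ← Matrix.mul_assoc, ← hu, Units.inv_mul, Matrix.one_mul]

/-- The inner product of two characters is the dimension of the space of intertwining maps. -/
theorem classInner_eq_finrank {G : Type*} [Group G] [Fintype G] {m n : ℕ}
    (ρ : Representation ℂ G (Fin m → ℂ)) (σ : Representation ℂ G (Fin n → ℂ)) :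
    Cfsg.classInner ρ.character σ.character
      = (Module.finrank ℂ (IntertwiningMap σ ρ) : ℂ) := by
  have hne : (Nat.card G : ℂ) ≠ 0 := by
    exact_mod_cast (Nat.card_pos (α := G)).ne'
  let _ : Invertible (Nat.card G : ℂ) := invertibleOfNonzero hne
  rw [← card_inv_mul_sum_char_mul_char_eq_finrank σ ρ]
  unfold Cfsg.classInner
  congr 1
  refine Finset.sum_congr rfl fun g _ => ?_
  rw [character_inv]

/-- The degree of an irreducible representation is positive. -/
theorem pos_of_irreducible {G : Type*} [Group G] {n : ℕ}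
    (ρ : Representation ℂ G (Fin n → ℂ)) [IsIrreducible ρ] : 0 < n := by
  rcases Nat.eq_zero_or_pos n with h | h
  · subst h
    have h1 : (⊥ : Subrepresentation ρ) ≠ ⊤ := bot_ne_top
    refine absurd ?_ h1
    ext v
    have : v = 0 := Subsingleton.elim _ _
    rw [this]
    exact ⟨fun _ => Submodule.zero_mem _, fun _ => Submodule.zero_mem _⟩
  · exact h

theorem character_one_ne_zero {G : Type*} [Group G] {n : ℕ}
    (ρ : Representation ℂ G (Fin n → ℂ)) [IsIrreducible ρ] : ρ.character 1 ≠ 0 := by
  have := pos_of_irreducible ρ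
  rw [Representation.char_one, Module.finrank_fin_fun]
  exact_mod_cast this.ne'

/-- A linear map commuting with an irreducible complex representation is the scalar given by
its trace divided by the degree. -/
theorem eq_scalar_of_commute {G : Type*} [Group G] {n : ℕ}
    (ρ : Representation ℂ G (Fin n → ℂ)) [IsIrreducible ρ]
    (T : (Fin n → ℂ) →ₗ[ℂ] (Fin n → ℂ)) (hT : ∀ g, T ∘ₗ ρ g = ρ g ∘ₗ T) :
    T = (LinearMap.trace ℂ _ T / ρ.character 1) • LinearMap.id := by
  obtain ⟨c, hc⟩ := (IsIrreducible.algebraMap_intertwiningMap_bijective_of_isAlgClosed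
    (ρ := ρ)).2 ⟨T, hT⟩
  have hT' : T = c • LinearMap.id := by
    have := congrArg IntertwiningMap.toLinearMap hc
    refine this.symm.trans ?_
    rw [Algebra.algebraMap_eq_smul_one]
    rfl
  have htr : LinearMap.trace ℂ _ T = c * ρ.character 1 := by
    rw [hT', map_smul, Representation.char_one]
    simp
  rw [htr, mul_div_assoc, div_self (character_one_ne_zero ρ), mul_one]
  exact hT'

/-- If `θ` is a constituent of the restriction of `χ` to the normal subgroup `N`, then the
central characters of `χ` and of `θ` agree on every `G`-invariant function on `N`. -/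
theorem sum_div_eq_of_constituent {G : Type*} [Group G] [Fintype G] (N : Subgroup G)
    [hN : N.Normal] [Fintype N] (χ : Cfsg.IrrCharacter G) (θ : Cfsg.IrrCharacter N)
    (h : Cfsg.classInner (fun n : N => (χ : G → ℂ) n) (θ : N → ℂ) ≠ 0) (F : N → ℂ)
    (hF : ∀ (g : G) (n : N), F ⟨g * n * g⁻¹, hN.conj_mem n n.2 g⟩ = F n) :
    (∑ n : N, F n * (χ : G → ℂ) n) / (χ : G → ℂ) 1
      = (∑ n : N, F n * (θ : N → ℂ) n) / (θ : N → ℂ) 1 := by
  obtain ⟨χ, a, ρ, hρ, rfl⟩ := χ
  obtain ⟨θ, b, σ, hσ, rfl⟩ := θ
  simp only at h ⊢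
  let ρN : Representation ℂ N (Fin a → ℂ) := ρ.comp N.subtype
  have hcomp : (fun n : N => ρ.character (n : G)) = ρN.character := rfl
  rw [hcomp, classInner_eq_finrank] at h
  have h' : Module.finrank ℂ (IntertwiningMap σ ρN) ≠ 0 := by exact_mod_cast h
  obtain ⟨T, hT⟩ : ∃ T : IntertwiningMap σ ρN, T ≠ 0 := by
    by_contra hcon
    push Not at hcon
    have : Subsingleton (IntertwiningMap σ ρN) :=
      ⟨fun x y => by rw [hcon x, hcon y]⟩
    exact h' Module.finrank_zero_of_subsingleton
  -- the operators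
  let S : (Fin a → ℂ) →ₗ[ℂ] (Fin a → ℂ) := ∑ n : N, F n • ρ (n : G)
  let S' : (Fin b → ℂ) →ₗ[ℂ] (Fin b → ℂ) := ∑ n : N, F n • σ n
  have hSc : ∀ g, S ∘ₗ ρ g = ρ g ∘ₗ S := by
    intro g
    have e : ∀ n : N, ρ (n : G) * ρ g = ρ g * ρ (g⁻¹ * n * g) := by
      intro n
      rw [← map_mul, ← map_mul]
      congr 1
      group
    rw [← Module.End.mul_eq_comp, ← Module.End.mul_eq_comp]
    simp only [S, Finset.sum_mul, Finset.mul_sum, smul_mul_assoc, mul_smul_comm, e]
    let φ : N ≃ N := (MulAut.conjNormal g⁻¹).toEquiv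
    have hφ : ∀ n : N, ((φ n : N) : G) = g⁻¹ * n * g := by
      intro n
      simp [φ]
    refine Fintype.sum_equiv φ _ _ fun n => ?_
    rw [hφ]
    congr 1
    have := hF g (φ n)
    rw [← this]
    congr 1
    apply Subtype.ext
    simp only [hφ]
    group
  have hSc' : ∀ g, S' ∘ₗ σ g = σ g ∘ₗ S' := by
    intro g
    have e : ∀ n : N, σ n * σ g = σ g * σ (g⁻¹ * n * g) := by
      intro n
      rw [← map_mul, ← map_mul]
      congr 1
      group
    rw [← Module.End.mul_eq_comp, ← Module.End.mul_eq_comp]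
    simp only [S', Finset.sum_mul, Finset.mul_sum, smul_mul_assoc, mul_smul_comm, e]
    let φ : N ≃ N := (MulAut.conj g⁻¹).toEquiv
    have hφ : ∀ n : N, (φ n : N) = g⁻¹ * n * g := by
      intro n
      simp [φ]
    refine Fintype.sum_equiv φ _ _ fun n => ?_
    rw [← hφ n]
    congr 1
    have := hF g (φ n)
    rw [← this]
    congr 1
    apply Subtype.ext
    simp only [hφ]
    push_cast
    group
  have hS := eq_scalar_of_commute ρ S hSc
  have hS' := eq_scalar_of_commute σ S' hSc'
  have htr : LinearMap.trace ℂ _ S = ∑ n : N, F n * ρ.character n := by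
    simp only [S, map_sum, map_smul, smul_eq_mul, Representation.character]
  have htr' : LinearMap.trace ℂ _ S' = ∑ n : N, F n * σ.character n := by
    simp only [S', map_sum, map_smul, smul_eq_mul, Representation.character]
  rw [← htr, ← htr']
  -- T intertwines
  obtain ⟨w, hw⟩ : ∃ w, T w ≠ 0 := by
    by_contra hcon
    push Not at hcon
    apply hT
    apply IntertwiningMap.ext
    exact LinearMap.ext hcon
  have hTS : T (S' w) = S (T w) := by
    simp only [S, S', LinearMap.sum_apply, map_sum, LinearMap.smul_apply, map_smul]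
    refine Finset.sum_congr rfl fun n _ => ?_
    rw [IntertwiningMap.isIntertwining]
    rfl
  rw [hS, hS'] at hTS
  simp only [LinearMap.smul_apply, LinearMap.id_apply, map_smul] at hTS
  have h3 := sub_eq_zero.2 hTS
  rw [← sub_smul] at h3
  rcases smul_eq_zero.1 h3 with h4 | h4
  · exact (sub_eq_zero.1 h4).symm
  · exact absurd h4 hw

open Classical in
/-- Summing a function over all conjugates of `x` by group elements counts each element of the
class of `x` as often as the order of the centralizer of `x`. -/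
theorem sum_conj_eq {G : Type*} [Group G] [Fintype G] (x : G) (F : G → ℂ) :
    ∑ g : G, F (g * x * g⁻¹) = (Nat.card (Subgroup.centralizer ({x} : Set G)) : ℂ) *
      ∑ h ∈ Finset.univ.filter (fun h : G => IsConj x h), F h := by
  have h1 : ∑ g : G, F (g * x * g⁻¹)
      = ∑ h : G, ∑ g ∈ Finset.univ.filter (fun g : G => g * x * g⁻¹ = h), F (g * x * g⁻¹) :=
    (Finset.sum_fiberwise Finset.univ (fun g : G => g * x * g⁻¹)
      (fun g => F (g * x * g⁻¹))).symm
  rw [h1, Finset.mul_sum, ← Finset.sum_filter_add_sum_filter_not Finset.univ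
    (fun h : G => IsConj x h)]
  have h2 : ∑ h ∈ Finset.univ.filter (fun h : G => ¬ IsConj x h),
      ∑ g ∈ Finset.univ.filter (fun g : G => g * x * g⁻¹ = h), F (g * x * g⁻¹) = 0 := by
    refine Finset.sum_eq_zero fun h hh => ?_
    rw [Finset.mem_filter] at hh
    have : Finset.univ.filter (fun g : G => g * x * g⁻¹ = h) = ∅ := by
      rw [Finset.filter_eq_empty_iff]
      intro g _ hg
      exact hh.2 (isConj_iff.2 ⟨g, hg⟩)
    rw [this, Finset.sum_empty]
  rw [h2, add_zero]
  refine Finset.sum_congr rfl fun h hh => ?_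
  rw [Finset.mem_filter] at hh
  obtain ⟨c, hc⟩ := isConj_iff.1 hh.2
  have h3 : ∑ g ∈ Finset.univ.filter (fun g : G => g * x * g⁻¹ = h), F (g * x * g⁻¹)
      = ((Finset.univ.filter (fun g : G => g * x * g⁻¹ = h)).card : ℂ) * F h := by
    rw [← nsmul_eq_mul, ← Finset.sum_const]
    refine Finset.sum_congr rfl fun g hg => ?_
    rw [(Finset.mem_filter.1 hg).2]
  rw [h3]
  congr 2
  rw [Nat.card_eq_fintype_card, ← Fintype.card_coe]
  refine Fintype.card_congr
    { toFun := fun g => ⟨c⁻¹ * g, ?_⟩
      invFun := fun g => ⟨c * g, ?_⟩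
      left_inv := fun g => by simp
      right_inv := fun g => by simp }
  · have hg := (Finset.mem_filter.1 g.2).2.trans hc.symm
    rw [Subgroup.mem_centralizer_singleton_iff]
    have : (c⁻¹ * (g : G)) * x * (c⁻¹ * (g : G))⁻¹ = x := by
      calc (c⁻¹ * (g : G)) * x * (c⁻¹ * (g : G))⁻¹ = c⁻¹ * ((g : G) * x * (g : G)⁻¹) * c := by group
        _ = x := by rw [hg]; group
    exact mul_inv_eq_iff_eq_mul.1 this
  · have hg := Subgroup.mem_centralizer_singleton_iff.1 g.2
    rw [Finset.mem_filter]
    refine ⟨Finset.mem_univ _, ?_⟩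
    calc c * (g : G) * x * (c * (g : G))⁻¹ = c * ((g : G) * x * (g : G)⁻¹) * c⁻¹ := by group
      _ = h := by rw [hg, mul_inv_cancel_right, hc]

open Classical in
/-- The size of a conjugacy class is the index of the centralizer. -/
theorem card_class_eq_index {G : Type*} [Group G] [Fintype G] (x : G) :
    ((Finset.univ.filter (fun h : G => IsConj x h)).card : ℂ)
      = ((Subgroup.centralizer ({x} : Set G)).index : ℂ) := by
  have h := sum_conj_eq x (fun _ => (1 : ℂ))
  simp only [Finset.sum_const, Finset.card_univ, nsmul_eq_mul, mul_one] at h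
  have h2 : (Nat.card (Subgroup.centralizer ({x} : Set G)) : ℂ)
      * ((Subgroup.centralizer ({x} : Set G)).index : ℂ) = (Fintype.card G : ℂ) := by
    rw [← Nat.card_eq_fintype_card]
    exact_mod_cast Subgroup.card_mul_index (Subgroup.centralizer ({x} : Set G))
  have h3 : (Nat.card (Subgroup.centralizer ({x} : Set G)) : ℂ) ≠ 0 := by
    exact_mod_cast (Nat.card_pos (α := Subgroup.centralizer ({x} : Set G))).ne'
  rw [← h2] at h
  exact (mul_left_cancel₀ h3 h).symm

open Classical in
/-- The indicator function of the conjugacy class of `x`. -/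
noncomputable def classInd {G : Type*} [Group G] (x y : G) : ℂ := if IsConj x y then 1 else 0

theorem classInd_pos {G : Type*} [Group G] {x y : G} (h : IsConj x y) : classInd x y = 1 := by
  classical
  unfold classInd
  exact if_pos h

theorem classInd_neg {G : Type*} [Group G] {x y : G} (h : ¬ IsConj x y) :
    classInd x y = 0 := by
  classical
  unfold classInd
  exact if_neg h

theorem classInd_conj {G : Type*} [Group G] (x y g : G) :
    classInd x (g * y * g⁻¹) = classInd x y := by
  have h1 : IsConj y (g * y * g⁻¹) := isConj_iff.2 ⟨g, rfl⟩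
  by_cases h : IsConj x y
  · rw [classInd_pos h, classInd_pos (h.trans h1)]
  · rw [classInd_neg h, classInd_neg (fun h' => h (h'.trans h1.symm))]

/-- The induced central character written as an ordinary finite sum over the subgroup. -/
theorem inducedCentralChar_eq_sum {G : Type*} [Group G] (H : Subgroup G) [Fintype H]
    (ξ : H → ℂ) (g : G) :
    Cfsg.inducedCentralChar H ξ g = (∑ h : H, classInd g (h : G) * ξ h) / ξ 1 := by
  classical
  unfold Cfsg.inducedCentralChar
  rw [finsum_mem_def, finsum_eq_sum_of_fintype, Finset.sum_div]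
  refine Finset.sum_congr rfl fun h _ => ?_
  by_cases hc : IsConj g (h : G)
  · rw [Set.indicator_of_mem (by exact hc), classInd_pos hc, one_mul]
  · rw [Set.indicator_of_notMem (by exact hc), classInd_neg hc, zero_mul, zero_div]

/-- A character is constant on conjugacy classes. -/
theorem irr_conj {G : Type*} [Group G] (χ : Cfsg.IrrCharacter G) (g h : G) :
    (χ : G → ℂ) (h * g * h⁻¹) = (χ : G → ℂ) g := by
  obtain ⟨χ, a, ρ, hρ, rfl⟩ := χ
  exact ρ.char_conj g h

theorem irr_one_ne_zero {G : Type*} [Group G] (χ : Cfsg.IrrCharacter G) :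
    (χ : G → ℂ) 1 ≠ 0 := by
  obtain ⟨χ, a, ρ, hρ, rfl⟩ := χ
  exact character_one_ne_zero ρ

/-- The sum of the class indicator over a normal subgroup containing the class. -/
theorem sum_classInd {G : Type*} [Group G] [Fintype G] (N : Subgroup G)
    [hN : N.Normal] [Fintype N] (n : N) :
    ∑ m : N, classInd (n : G) (m : G)
      = ((Subgroup.centralizer ({(n : G)} : Set G)).index : ℂ) := by
  classical
  have h2 : ∑ m : N, classInd (n : G) (m : G)
      = ∑ m ∈ (Finset.univ : Finset N).map ⟨Subtype.val, Subtype.val_injective⟩,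
        classInd (n : G) m := by
    rw [Finset.sum_map]
    rfl
  rw [h2, ← card_class_eq_index, Finset.card_eq_sum_ones, Finset.sum_filter]
  push_cast
  have h3 : ∀ m : G, (if IsConj (n : G) m then (1 : ℂ) else 0) = classInd (n : G) m := by
    intro m
    by_cases hc : IsConj (n : G) m
    · rw [if_pos hc, classInd_pos hc]
    · rw [if_neg hc, classInd_neg hc]
  simp_rw [h3]
  refine Finset.sum_subset (Finset.subset_univ _) fun x _ hx => ?_
  apply classInd_neg
  intro hc
  apply hx
  obtain ⟨c, hc⟩ := isConj_iff.1 hc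
  rw [Finset.mem_map]
  exact ⟨⟨x, hc ▸ hN.conj_mem n n.2 c⟩, Finset.mem_univ _, rfl⟩

/-- The central character at an element of a normal subgroup, as a finite sum. -/
theorem centralChar_eq_sum {G : Type*} [Group G] [Fintype G] (N : Subgroup G)
    [hN : N.Normal] [Fintype N] (χ : Cfsg.IrrCharacter G) (n : N) :
    Cfsg.centralChar (χ : G → ℂ) (n : G)
      = (∑ m : N, classInd (n : G) (m : G) * (χ : G → ℂ) m) / (χ : G → ℂ) 1 := by
  unfold Cfsg.centralChar
  congr 1
  have h1 : ∀ m : N, classInd (n : G) (m : G) * (χ : G → ℂ) m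
      = classInd (n : G) (m : G) * (χ : G → ℂ) n := by
    intro m
    by_cases hc : IsConj (n : G) (m : G)
    · obtain ⟨c, hc'⟩ := isConj_iff.1 hc
      rw [← hc', irr_conj]
    · rw [classInd_neg hc, zero_mul, zero_mul]
  simp_rw [h1]
  rw [← Finset.sum_mul, sum_classInd]

/-- First half of S0963. -/
theorem centralChar_eq_inducedCentralChar {G : Type*} [Group G] [Fintype G] (N : Subgroup G)
    [hN : N.Normal] [Fintype N] (χ : Cfsg.IrrCharacter G) (θ : Cfsg.IrrCharacter N)
    (h : Cfsg.classInner (fun n : N => (χ : G → ℂ) n) (θ : N → ℂ) ≠ 0) (n : N) :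
    Cfsg.centralChar (χ : G → ℂ) (n : G) = Cfsg.inducedCentralChar N (θ : N → ℂ) (n : G) := by
  rw [centralChar_eq_sum, inducedCentralChar_eq_sum]
  exact sum_div_eq_of_constituent N χ θ h (fun m : N => classInd (n : G) (m : G))
    fun g m => classInd_conj _ _ _

/-- An irreducible representation pulled back along a surjective homomorphism stays
irreducible. -/
theorem isIrreducible_comp {G H : Type*} [Group G] [Group H] {n : ℕ}
    (σ : Representation ℂ H (Fin n → ℂ)) (hσ : IsIrreducible σ) (φ : G →* H)
    (hφ : Function.Surjective φ) : IsIrreducible (k := ℂ) (V := Fin n → ℂ) (σ.comp φ) := by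
  let e : Subrepresentation (A := ℂ) (W := Fin n → ℂ) (σ.comp φ) ≃o Subrepresentation σ :=
    { toFun := fun W => ⟨W.toSubmodule, fun h v hv => by
        obtain ⟨g, rfl⟩ := hφ h
        exact W.apply_mem_toSubmodule g hv⟩
      invFun := fun W => ⟨W.toSubmodule, fun g v hv => W.apply_mem_toSubmodule (φ g) hv⟩
      left_inv := fun W => rfl
      right_inv := fun W => rfl
      map_rel_iff' := Iff.rfl }
  exact OrderIso.isSimpleOrder e

/-- Irreducible characters pulled back along a surjective homomorphism stay irreducible. -/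
theorem isIrrCharacter_comp {G H : Type*} [Group G] [Group H] {θ : H → ℂ}
    (hθ : Cfsg.IsIrrCharacter H θ) (φ : G →* H) (hφ : Function.Surjective φ) :
    Cfsg.IsIrrCharacter G (fun g => θ (φ g)) := by
  obtain ⟨n, σ, hσ, rfl⟩ := hθ
  exact ⟨n, σ.comp φ, isIrreducible_comp σ hσ φ hφ, rfl⟩

/-- The conjugate of an irreducible character of a normal subgroup. -/
noncomputable def conjIrr {G : Type*} [Group G] (N : Subgroup G) [hN : N.Normal] (g : G)
    (θ : Cfsg.IrrCharacter N) : Cfsg.IrrCharacter N :=
  ⟨fun n => (θ : N → ℂ) ⟨g * n * g⁻¹, hN.conj_mem n n.2 g⟩,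
    isIrrCharacter_comp θ.2 (MulAut.conjNormal g : N ≃* N).toMonoidHom
      (MulAut.conjNormal g : N ≃* N).surjective⟩

theorem conjIrr_apply {G : Type*} [Group G] (N : Subgroup G) [hN : N.Normal] (g : G)
    (θ : Cfsg.IrrCharacter N) (n : N) :
    (conjIrr N g θ : N → ℂ) n = (θ : N → ℂ) ⟨g * n * g⁻¹, hN.conj_mem n n.2 g⟩ := rfl

/-- Orbit counting for functions on a normal subgroup. -/
theorem sum_conjNormal_eq {G : Type*} [Group G] [Fintype G] (N : Subgroup G)
    [hN : N.Normal] [Fintype N] (n : N) (F : N → ℂ) :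
    ∑ g : G, F ⟨g * n * g⁻¹, hN.conj_mem n n.2 g⟩
      = (Nat.card (Subgroup.centralizer ({(n : G)} : Set G)) : ℂ) *
        ∑ m : N, classInd (n : G) (m : G) * F m := by
  classical
  let F' : G → ℂ := fun x => if hx : x ∈ N then F ⟨x, hx⟩ else 0
  have h1 : ∀ g : G, F ⟨g * n * g⁻¹, hN.conj_mem n n.2 g⟩ = F' (g * n * g⁻¹) := by
    intro g
    simp only [F']
    rw [dif_pos (hN.conj_mem n n.2 g)]
  simp_rw [h1]
  rw [sum_conj_eq]
  congr 1
  rw [Finset.sum_filter]
  have h2 : ∑ m : N, classInd (n : G) (m : G) * F m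
      = ∑ m ∈ (Finset.univ : Finset N).map ⟨Subtype.val, Subtype.val_injective⟩,
        classInd (n : G) m * F' m := by
    rw [Finset.sum_map]
    refine Finset.sum_congr rfl fun m _ => ?_
    simp only [Function.Embedding.coeFn_mk, F']
    rw [dif_pos m.2]
  rw [h2]
  have h3 : ∀ m : G, (if IsConj (n : G) m then F' m else 0) = classInd (n : G) m * F' m := by
    intro m
    by_cases hc : IsConj (n : G) m
    · rw [if_pos hc, classInd_pos hc, one_mul]
    · rw [if_neg hc, classInd_neg hc, zero_mul]
  simp_rw [h3]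
  symm
  refine Finset.sum_subset (Finset.subset_univ _) fun x _ hx => ?_
  rw [classInd_neg, zero_mul]
  intro hc
  apply hx
  obtain ⟨c, hc⟩ := isConj_iff.1 hc
  rw [Finset.mem_map]
  exact ⟨⟨x, hc ▸ hN.conj_mem n n.2 c⟩, Finset.mem_univ _, rfl⟩

/-- The inner product of two irreducible characters is a natural number. -/
theorem exists_nat_classInner {G : Type*} [Group G] [Fintype G] (χ ψ : Cfsg.IrrCharacter G) :
    ∃ k : ℕ, Cfsg.classInner (χ : G → ℂ) (ψ : G → ℂ) = (k : ℂ) := by
  obtain ⟨χ, a, ρ, hρ, rfl⟩ := χ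
  obtain ⟨ψ, b, σ, hσ, rfl⟩ := ψ
  exact ⟨_, classInner_eq_finrank ρ σ⟩

theorem classInner_self {G : Type*} [Group G] [Fintype G] (χ : Cfsg.IrrCharacter G) :
    Cfsg.classInner (χ : G → ℂ) (χ : G → ℂ) = 1 := by
  obtain ⟨χ, a, ρ, hρ, rfl⟩ := χ
  have h := classInner_eq_finrank ρ ρ
  rw [IsIrreducible.finrank_intertwiningMap_self] at h
  simpa using h

theorem conjIrr_one {G : Type*} [Group G] (N : Subgroup G) [hN : N.Normal]
    (θ : Cfsg.IrrCharacter N) : conjIrr N 1 θ = θ := by
  apply Subtype.ext
  funext n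
  rw [conjIrr_apply]
  exact congrArg (θ : N → ℂ) (Subtype.ext (by simp))

/-- Second half of S0963. -/
theorem classInner_ne_zero_of_centralChar_eq {G : Type*} [Group G] [Fintype G]
    (N : Subgroup G) [hN : N.Normal] [Fintype N] (χ : Cfsg.IrrCharacter G)
    (θ : Cfsg.IrrCharacter N)
    (h : ∀ n : N, Cfsg.centralChar (χ : G → ℂ) (n : G)
      = Cfsg.inducedCentralChar N (θ : N → ℂ) (n : G)) :
    Cfsg.classInner (fun n : N => (χ : G → ℂ) n) (θ : N → ℂ) ≠ 0 := by
  have hχ1 := irr_one_ne_zero χ
  have hθ1 := irr_one_ne_zero θ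
  have hG : (Nat.card G : ℂ) ≠ 0 := by exact_mod_cast (Nat.card_pos (α := G)).ne'
  have hNc : (Nat.card N : ℂ) ≠ 0 := by exact_mod_cast (Nat.card_pos (α := N)).ne'
  have key : ∀ n : N, (χ : G → ℂ) n = ((χ : G → ℂ) 1 / ((θ : N → ℂ) 1 * (Nat.card G : ℂ))) *
      ∑ g : G, (conjIrr N g θ : N → ℂ) n := by
    intro n
    have h1 := h n
    rw [inducedCentralChar_eq_sum] at h1
    have h2 := sum_conjNormal_eq N n (θ : N → ℂ)
    simp only [conjIrr_apply]
    rw [h2]
    have h3 : (Nat.card (Subgroup.centralizer ({(n : G)} : Set G)) : ℂ)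
        * ((Subgroup.centralizer ({(n : G)} : Set G)).index : ℂ) = (Nat.card G : ℂ) := by
      exact_mod_cast Subgroup.card_mul_index (Subgroup.centralizer ({(n : G)} : Set G))
    unfold Cfsg.centralChar at h1
    rw [← h3]
    rw [← h3] at hG
    have h4 := left_ne_zero_of_mul hG
    have h5 := right_ne_zero_of_mul hG
    rw [div_eq_div_iff hχ1 hθ1] at h1
    field_simp
    linear_combination h1
  choose k hk using fun g : G => exists_nat_classInner (conjIrr N g θ) θ
  have hk1 : k 1 = 1 := by
    have := hk 1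
    rw [conjIrr_one, classInner_self] at this
    exact_mod_cast this.symm
  have hsum : Cfsg.classInner (fun n : N => (χ : G → ℂ) n) (θ : N → ℂ)
      = ((χ : G → ℂ) 1 / ((θ : N → ℂ) 1 * (Nat.card G : ℂ))) * ((∑ g : G, k g : ℕ) : ℂ) := by
    push_cast
    simp_rw [← hk]
    unfold Cfsg.classInner
    simp_rw [key]
    set c := (χ : G → ℂ) 1 / ((θ : N → ℂ) 1 * (Nat.card G : ℂ)) with hc
    have hL : ∀ n : N, c * (∑ g : G, (conjIrr N g θ : N → ℂ) n) * conj ((θ : N → ℂ) n)
        = ∑ g : G, c * ((conjIrr N g θ : N → ℂ) n * conj ((θ : N → ℂ) n)) := by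
      intro n
      rw [Finset.mul_sum, Finset.sum_mul]
      exact Finset.sum_congr rfl fun g _ => mul_assoc _ _ _
    simp_rw [hL]
    rw [Finset.sum_comm, Finset.mul_sum, Finset.mul_sum]
    refine Finset.sum_congr rfl fun g _ => ?_
    rw [← Finset.mul_sum]
    ring
  rw [hsum]
  refine mul_ne_zero (div_ne_zero hχ1 (mul_ne_zero hθ1 hG)) ?_
  have : 0 < ∑ g : G, k g :=
    Finset.sum_pos' (fun _ _ => Nat.zero_le _) ⟨1, Finset.mem_univ _, by rw [hk1]; exact one_pos⟩
  exact_mod_cast this.ne'

end Cfsg.Agent.Blocks.CliffordCentral
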