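import Cfsg.Agent.Blocks.Covering
import Cfsg.Agent.S0913

/-!
# Osima's theorem for a union of blocks
-/

set_option autoImplicit false
open Cfsg

namespace Cfsg.Agent.Blocks.OsimaUnion

open scoped ComplexConjugate
open Cfsg.Agent.Blocks.Induced Cfsg.Agent.Characters.Core Cfsg.Agent.Blocks.Covering

variable {G : Type*} [Group G]

/-- Osima's theorem for a union of blocks. -/
theorem memLocalRing_blockCoeff_union [Finite G] (p : ℕ) [Fact p.Prime] {M : Ideal AlgInt}
    (hM : IsPModular p M) (S : Set (IrrCharacter G))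
    (hS : ∀ χ ∈ S, ∀ ψ : IrrCharacter G, SameBlock M (χ : G → ℂ) (ψ : G → ℂ) → ψ ∈ S) (g : G) :
    MemLocalRing M (blockCoeff S g) := by
  classical
  have hMp : M.IsPrime := hM.2.1.isPrime
  have := finite_irr (G := G)
  have : Fintype (IrrCharacter G) := Fintype.ofFinite _
  have key : blockCoeff S g = ∑ B ∈ S.toFinset.image (fun χ : IrrCharacter G => blockOf M (χ : G → ℂ)),
      blockCoeff B g := by
    unfold blockCoeff
    rw [← Finset.mul_sum, finsum_mem_eq_toFinset_sum]
    congr 1
    rw [← Finset.sum_fiberwise_of_maps_to (s := S.toFinset)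
      (t := S.toFinset.image (fun χ : IrrCharacter G => blockOf M (χ : G → ℂ)))
      (g := fun χ : IrrCharacter G => blockOf M (χ : G → ℂ))
      (fun x hx => Finset.mem_image_of_mem _ hx)]
    refine Finset.sum_congr rfl fun B hB => ?_
    obtain ⟨χ, hχ, rfl⟩ := Finset.mem_image.1 hB
    rw [Set.mem_toFinset] at hχ
    rw [finsum_mem_eq_toFinset_sum]
    refine Finset.sum_congr ?_ fun _ _ => rfl
    ext ψ
    simp only [Finset.mem_filter, Set.mem_toFinset]
    constructor
    · rintro ⟨_, h2⟩
      rw [← h2]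
      exact sameBlock_refl hMp _
    · intro h
      refine ⟨hS χ hχ ψ h, ?_⟩
      ext φ
      exact ⟨fun h' => sameBlock_trans hMp h h', fun h' => sameBlock_trans hMp (sameBlock_symm h) h'⟩
  rw [key]
  refine memLocalRing_sum hMp _ _ fun B hB => ?_
  obtain ⟨χ, hχ, rfl⟩ := Finset.mem_image.1 hB
  exact Cfsg.Agent.S0913.result p M hM _ ⟨χ, rfl⟩ g

end Cfsg.Agent.Blocks.OsimaUnion
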