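import Cfsg.Agent.Blocks.Covering
import Cfsg.Agent.Blocks.OsimaUnion

/-!
# Blocks of a normal subgroup whose central characters agree on invariant class sums

If the central characters of `θ` and `ψ` (irreducible characters of the normal subgroup `N`) agree
modulo `M` on all sums of `G`-classes contained in `N`, then some `G`-conjugate of `ψ` lies in the
block of `θ`.
-/

set_option autoImplicit false
open Cfsg

namespace Cfsg.Agent.Blocks.CoverConj

open scoped ComplexConjugate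
open Cfsg.Agent.Blocks.Induced Cfsg.Agent.Characters.Core Cfsg.Agent.Blocks.Covering
  Cfsg.Agent.Blocks.OsimaUnion

theorem exists_conjIrr_mem {G : Type*} [Group G] [Fintype G] (p : ℕ) [Fact p.Prime]
    {M : Ideal Cfsg.AlgInt} (hM : Cfsg.IsPModular p M) (N : Subgroup G) [N.Normal] [Fintype N]
    (b : Set (Cfsg.IrrCharacter N)) (hb : Cfsg.IsPBlock M b) (θ : Cfsg.IrrCharacter N)
    (hθ : θ ∈ b) (ψ : Cfsg.IrrCharacter N)
    (H : ∀ n : N, MemLocalIdeal M (inducedCentralChar N (ψ : N → ℂ) (n : G) -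
      inducedCentralChar N (θ : N → ℂ) (n : G))) :
    ∃ g : G, conjIrr N g ψ ∈ b := by
  classical
  have hMp : M.IsPrime := hM.2.1.isPrime
  have := finite_irr (G := N)
  have : Fintype (IrrCharacter N) := Fintype.ofFinite _
  let S : Set (IrrCharacter N) := {θ' | ∃ g : G, conjIrr N g θ' ∈ b}
  have hθS : θ ∈ S := ⟨1, by rw [conjIrr_one]; exact hθ⟩
  have hSconj : ∀ (g : G) (θ' : IrrCharacter N), θ' ∈ S → conjIrr N g θ' ∈ S := by
    rintro g θ' ⟨x, hx⟩
    refine ⟨g⁻¹ * x, ?_⟩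
    rw [conjIrr_conjIrr, mul_inv_cancel_left]
    exact hx
  have hSblock : ∀ χ ∈ S, ∀ ψ : IrrCharacter N, SameBlock M (χ : N → ℂ) (ψ : N → ℂ) → ψ ∈ S := by
    rintro χ ⟨x, hx⟩ ψ hψ
    exact ⟨x, mem_of_sameBlock hMp hb hx (sameBlock_conjIrr N x hψ)⟩
  have hcoeff : ∀ n : N, blockCoeff S n =
      (Nat.card N : ℂ)⁻¹ * ∑ ψ ∈ S.toFinset, (ψ : N → ℂ) 1 * conj ((ψ : N → ℂ) n) := by
    intro n
    unfold blockCoeff
    rw [finsum_mem_eq_toFinset_sum]
  have hFinv : ∀ (g : G) (n : N), blockCoeff S (MulAut.conjNormal g n) = blockCoeff S n := by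
    intro g n
    rw [hcoeff, hcoeff]
    congr 1
    refine Finset.sum_bij' (fun ψ _ => conjIrr N g ψ) (fun ψ _ => conjIrr N g⁻¹ ψ) ?_ ?_ ?_ ?_ ?_
    · intro ψ hψ
      rw [Set.mem_toFinset] at hψ ⊢
      exact hSconj _ _ hψ
    · intro ψ hψ
      rw [Set.mem_toFinset] at hψ ⊢
      exact hSconj _ _ hψ
    · intro ψ _
      rw [conjIrr_conjIrr, mul_inv_cancel, conjIrr_one]
    · intro ψ _
      rw [conjIrr_conjIrr, inv_mul_cancel, conjIrr_one]
    · intro ψ _
      rw [conjIrr_at_one, conjIrr_apply]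
  obtain ⟨s, hs⟩ := sum_invariant N (fun n => blockCoeff S n) hFinv
  -- the value of the central characters
  have hω : ∀ t : N → ℂ, ∀ d : ℂ, ∑ n : N, blockCoeff S n * (t n / d) =
      ∑ ψ ∈ S.toFinset, (ψ : N → ℂ) 1 / d * classInner t (ψ : N → ℂ) := by
    intro t d
    simp only [hcoeff, classInner, Finset.mul_sum, Finset.sum_mul]
    rw [Finset.sum_comm]
    refine Finset.sum_congr rfl fun ψ _ => Finset.sum_congr rfl fun n _ => ?_
    ring
  have hθ1 : (θ : N → ℂ) 1 ≠ 0 := by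
    obtain ⟨m, hm, h⟩ := isIrr_apply_one θ.2
    rw [h]
    exact_mod_cast hm.ne'
  have h1 : ∑ n : N, blockCoeff S n * ((θ : N → ℂ) n / (θ : N → ℂ) 1) = 1 := by
    rw [hω, Finset.sum_eq_single θ]
    · rw [classInner_irr_self θ.2, div_self hθ1, mul_one]
    · intro ψ _ hne
      rw [classInner_irr_ne θ.2 ψ.2 (fun h => hne (Subtype.ext h.symm)), mul_zero]
    · intro h
      rw [Set.mem_toFinset] at h
      exact absurd hθS h
  by_contra hψS
  have h2 : ∑ n : N, blockCoeff S n * ((ψ : N → ℂ) n / (ψ : N → ℂ) 1) = 0 := by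
    rw [hω]
    refine Finset.sum_eq_zero fun φ hφ => ?_
    rw [classInner_irr_ne ψ.2 φ.2, mul_zero]
    intro h
    rw [Set.mem_toFinset] at hφ
    apply hψS
    have : ψ = φ := Subtype.ext h
    rw [this]
    exact hφ
  have h3 : MemLocalIdeal M (∑ r ∈ s, blockCoeff S r *
      (inducedCentralChar N (ψ : N → ℂ) (r : G) - inducedCentralChar N (θ : N → ℂ) (r : G))) :=
    memLocalIdeal_sum hMp _ _ fun r _ =>
      memLocalIdeal_mul_left hMp (memLocalRing_blockCoeff_union p hM S hSblock r) (H r)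
  have h4 : ∑ r ∈ s, blockCoeff S r *
      (inducedCentralChar N (ψ : N → ℂ) (r : G) - inducedCentralChar N (θ : N → ℂ) (r : G))
      = -1 := by
    rw [← h1, hs (fun n => (θ : N → ℂ) n / (θ : N → ℂ) 1)]
    rw [hs (fun n => (ψ : N → ℂ) n / (ψ : N → ℂ) 1)] at h2
    rw [← zero_sub, ← h2, ← Finset.sum_sub_distrib]
    refine Finset.sum_congr rfl fun r _ => ?_
    rw [mul_sub]
    rfl
  rw [h4] at h3
  have := memLocalIdeal_neg h3
  rw [neg_neg] at this
  exact not_memLocalIdeal_one this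

end Cfsg.Agent.Blocks.CoverConj
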