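import Cfsg.Agent.Characters.Core
import Cfsg.Agent.Blocks.Induced

/-!
# Blocks and normal subgroups: basic facts

`sameBlock_symm`, `sameBlock_trans`, `sameBlock_of_mem`, `mem_of_sameBlock`; sums over a normal
subgroup of a `G`-invariant function (`sum_invariant`); conjugation `conjIrr N g θ` of irreducible
characters of a normal subgroup, compatible with blocks (`sameBlock_conjIrr`).
-/

set_option autoImplicit false
open Cfsg

namespace Cfsg.Agent.Blocks.Covering

open scoped ComplexConjugate
open Cfsg.Agent.Blocks.Induced Cfsg.Agent.Characters.Core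

theorem memLocalRing_add {M : Ideal AlgInt} (hM : M.IsPrime) {z w : ℂ} (hz : MemLocalRing M z)
    (hw : MemLocalRing M w) : MemLocalRing M (z + w) := by
  obtain ⟨a, b, hb, rfl⟩ := hz
  obtain ⟨c, d, hd, rfl⟩ := hw
  have hb0 : (b : ℂ) ≠ 0 := fun h => hb (by
    have : b = 0 := Subtype.ext h
    rw [this]; exact M.zero_mem)
  have hd0 : (d : ℂ) ≠ 0 := fun h => hd (by
    have : d = 0 := Subtype.ext h
    rw [this]; exact M.zero_mem)
  refine ⟨a * d + c * b, b * d, ?_, ?_⟩
  · intro h
    rcases hM.mem_or_mem h with h | h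
    · exact hb h
    · exact hd h
  · push_cast
    field_simp

theorem memLocalRing_zero {M : Ideal AlgInt} (hM : M.IsPrime) : MemLocalRing M 0 :=
  ⟨0, 1, fun h => hM.ne_top ((Ideal.eq_top_iff_one M).2 h), by simp⟩

theorem memLocalRing_sum {M : Ideal AlgInt} (hM : M.IsPrime) {ι : Type*} (s : Finset ι) (f : ι → ℂ)
    (h : ∀ i ∈ s, MemLocalRing M (f i)) : MemLocalRing M (∑ i ∈ s, f i) := by
  classical
  induction s using Finset.induction_on with
  | empty => simpa using memLocalRing_zero hM
  | insert a s ha ih =>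
    rw [Finset.sum_insert ha]
    exact memLocalRing_add hM (h a (Finset.mem_insert_self _ _))
      (ih fun i hi => h i (Finset.mem_insert_of_mem hi))

theorem memLocalIdeal_mul_left {M : Ideal AlgInt} (hM : M.IsPrime) {z w : ℂ}
    (hz : MemLocalRing M z) (hw : MemLocalIdeal M w) : MemLocalIdeal M (z * w) := by
  obtain ⟨a, b, hb, rfl⟩ := hz
  obtain ⟨c, d, hc, hd, rfl⟩ := hw
  refine ⟨a * c, b * d, M.mul_mem_left _ hc, ?_, ?_⟩
  · intro h
    rcases hM.mem_or_mem h with h | h
    · exact hb h
    · exact hd h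
  · push_cast
    rw [div_mul_div_comm]

theorem not_memLocalIdeal_one {M : Ideal AlgInt} : ¬ MemLocalIdeal M 1 := by
  rintro ⟨a, b, ha, hb, h⟩
  have hb0 : (b : ℂ) ≠ 0 := fun h => hb (by
    have : b = 0 := Subtype.ext h
    rw [this]; exact M.zero_mem)
  rw [div_eq_one_iff_eq hb0] at h
  have : a = b := Subtype.ext h
  exact hb (this ▸ ha)

section General

variable {G : Type*} [Group G]

theorem sameBlock_symm {M : Ideal AlgInt} {χ ψ : G → ℂ} (h : SameBlock M χ ψ) :
    SameBlock M ψ χ := by
  intro g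
  have := memLocalIdeal_neg (h g)
  rwa [neg_sub] at this

theorem sameBlock_trans {M : Ideal AlgInt} (hM : M.IsPrime) {χ ψ φ : G → ℂ}
    (h : SameBlock M χ ψ) (h' : SameBlock M ψ φ) : SameBlock M χ φ := by
  intro g
  have := memLocalIdeal_add hM (h g) (h' g)
  rwa [sub_add_sub_cancel] at this

theorem sameBlock_of_mem {M : Ideal AlgInt} (hM : M.IsPrime) {B : Set (IrrCharacter G)}
    (hB : IsPBlock M B) {χ ψ : IrrCharacter G} (hχ : χ ∈ B) (hψ : ψ ∈ B) :
    SameBlock M (χ : G → ℂ) (ψ : G → ℂ) := by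
  obtain ⟨φ, rfl⟩ := hB
  exact sameBlock_trans hM (sameBlock_symm hχ) hψ

theorem mem_of_sameBlock {M : Ideal AlgInt} (hM : M.IsPrime) {B : Set (IrrCharacter G)}
    (hB : IsPBlock M B) {χ ψ : IrrCharacter G} (hχ : χ ∈ B)
    (h : SameBlock M (χ : G → ℂ) (ψ : G → ℂ)) : ψ ∈ B := by
  obtain ⟨φ, rfl⟩ := hB
  exact sameBlock_trans hM hχ h

theorem centralChar_comp_equiv {H : Type*} [Group H] (e : H ≃* G) (χ : G → ℂ) (h : H) :
    centralChar (fun x => χ (e x)) h = centralChar χ (e h) := by
  unfold centralChar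
  have : (Subgroup.centralizer ({h} : Set H)).index = (Subgroup.centralizer ({e h} : Set G)).index := by
    rw [← Subgroup.index_comap_of_surjective (Subgroup.centralizer ({e h} : Set G))
      (f := e.toMonoidHom) e.surjective]
    congr 1
    ext x
    rw [Subgroup.mem_comap, Subgroup.mem_centralizer_singleton_iff,
      Subgroup.mem_centralizer_singleton_iff]
    simp only [MulEquiv.toMonoidHom_eq_coe, MonoidHom.coe_coe, ← map_mul]
    exact (e.injective.eq_iff).symm
  rw [this]
  simp only [map_one]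

end General

section Normal

variable {G : Type*} [Group G] (N : Subgroup G) [N.Normal]

/-- Sums over `N` of a `G`-invariant function times an arbitrary one. -/
theorem sum_invariant [Finite G] [Fintype N] (F : N → ℂ)
    (hF : ∀ (g : G) (n : N), F (MulAut.conjNormal g n) = F n) :
    ∃ s : Finset N, ∀ t : N → ℂ, ∑ n : N, F n * t n =
      ∑ r ∈ s, F r * ∑ᶠ h ∈ {h : N | IsConj (r : G) (h : G)}, t h := by
  classical
  have : Fintype (ConjClasses G) := Fintype.ofFinite _
  let c : N → ConjClasses G := fun n => ConjClasses.mk (n : G)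
  let T : Finset (ConjClasses G) := Finset.univ.image c
  have hex : ∀ C ∈ T, ∃ n : N, c n = C := fun C hC => by
    obtain ⟨n, _, hn⟩ := Finset.mem_image.1 hC
    exact ⟨n, hn⟩
  choose! r hr using hex
  refine ⟨T.image r, fun t => ?_⟩
  rw [Finset.sum_image (by
    intro C hC D hD h
    rw [← hr C hC, ← hr D hD, h])]
  rw [← Finset.sum_fiberwise_of_maps_to (s := Finset.univ) (t := T) (g := c)
    (fun x hx => Finset.mem_image_of_mem _ hx)]
  refine Finset.sum_congr rfl fun C hC => ?_
  rw [finsum_mem_eq_finite_toFinset_sum _ (Set.toFinite _), Finset.mul_sum]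
  have hmem : ∀ n : N, n ∈ (Set.toFinite {h : N | IsConj ((r C : N) : G) (h : G)}).toFinset ↔
      c n = C := by
    intro n
    simp only [Set.Finite.mem_toFinset, Set.mem_ofPred_eq]
    rw [← ConjClasses.mk_eq_mk_iff_isConj]
    change c (r C) = c n ↔ c n = C
    rw [hr C hC]
    exact eq_comm
  refine Finset.sum_congr ?_ ?_
  · ext n
    rw [hmem, Finset.mem_filter]
    simp
  · intro n hn
    have h1 : c n = C := (hmem n).1 hn
    have h2 : IsConj ((r C : N) : G) (n : G) := by
      rw [← ConjClasses.mk_eq_mk_iff_isConj]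
      change c (r C) = c n
      rw [hr C hC, h1]
    obtain ⟨g, hg⟩ := isConj_iff.1 h2
    have h3 : MulAut.conjNormal g (r C) = n := by
      ext
      rw [MulAut.conjNormal_apply, hg]
    rw [← h3, hF]

/-- The conjugate of an irreducible character of a normal subgroup. -/
noncomputable def conjIrr (g : G) (θ : IrrCharacter N) : IrrCharacter N :=
  ⟨fun n => (θ : N → ℂ) (MulAut.conjNormal g n),
    isIrr_comp ((MulAut.conjNormal (H := N) g).toMonoidHom)
      (MulAut.conjNormal (H := N) g).surjective θ.2⟩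

theorem conjIrr_apply (g : G) (θ : IrrCharacter N) (n : N) :
    (conjIrr N g θ : N → ℂ) n = (θ : N → ℂ) (MulAut.conjNormal g n) := rfl

theorem conjIrr_conjIrr (g h : G) (θ : IrrCharacter N) :
    conjIrr N g (conjIrr N h θ) = conjIrr N (h * g) θ := by
  apply Subtype.ext
  funext n
  rw [conjIrr_apply, conjIrr_apply, conjIrr_apply, map_mul]
  rfl

theorem conjIrr_one (θ : IrrCharacter N) : conjIrr N 1 θ = θ := by
  apply Subtype.ext
  funext n
  rw [conjIrr_apply, map_one]
  rfl

theorem conjIrr_at_one (g : G) (θ : IrrCharacter N) :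
    (conjIrr N g θ : N → ℂ) 1 = (θ : N → ℂ) 1 := by
  rw [conjIrr_apply, map_one]

theorem sameBlock_conjIrr {M : Ideal AlgInt} (g : G) {θ ψ : IrrCharacter N}
    (h : SameBlock M (θ : N → ℂ) (ψ : N → ℂ)) :
    SameBlock M (conjIrr N g θ : N → ℂ) (conjIrr N g ψ : N → ℂ) := by
  intro n
  have h1 := centralChar_comp_equiv (MulAut.conjNormal (H := N) g) (θ : N → ℂ) n
  have h2 := centralChar_comp_equiv (MulAut.conjNormal (H := N) g) (ψ : N → ℂ) n
  change MemLocalIdeal M (centralChar (fun x => (θ : N → ℂ) (MulAut.conjNormal (H := N) g x)) n -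
    centralChar (fun x => (ψ : N → ℂ) (MulAut.conjNormal (H := N) g x)) n)
  rw [h1, h2]
  exact h _

end Normal

end Cfsg.Agent.Blocks.Covering
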