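import Mathlib
import Cfsg.Prelude.Def_Blocks
import Cfsg.Prelude.Def_Local
import Cfsg.Agent.Characters.Core
import Cfsg.Agent.Lib.Cores
import Cfsg.Agent.Blocks.PPart
import Cfsg.Agent.Blocks.Central
import Cfsg.Agent.Blocks.CentralSylow
import Cfsg.Agent.Blocks.Orthogonality
import Cfsg.Agent.S0913
import Cfsg.Agent.S0942

/-!
# The principal block of a group with a Sylow subgroup of order `p`

`gram`: orthogonality relations on the nontrivial elements of `P`.
-/

set_option autoImplicit false

namespace Cfsg.Agent.Blocks.CyclicOrtho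

open Cfsg
open scoped ComplexConjugate
open Cfsg.Agent.Blocks.PPart Cfsg.Agent.Characters.Core

universe u

variable {G : Type u} [Group G] [Finite G] {p : ℕ}

/-- The size of a `p`-section. -/
theorem card_section [Fact p.Prime] {x : G} (hx : ∃ k : ℕ, orderOf x = p ^ k) :
    Nat.card {g : G // ∃ z, IsPPart p g z ∧ IsConj x z} =
      (Subgroup.centralizer ({x} : Set G)).index *
        Nat.card {y : G // Commute x y ∧ ¬ p ∣ orderOf y} := by
  classical
  have := Fintype.ofFinite G
  have hz : ∀ z : G, IsConj x z → ∃ k : ℕ, orderOf z = p ^ k := by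
    intro z h
    obtain ⟨c, rfl⟩ := isConj_iff.mp h
    obtain ⟨k, hk⟩ := hx
    refine ⟨k, ?_⟩
    rw [← hk]
    have := orderOf_injective (MulAut.conj c).toMonoidHom (MulAut.conj c).injective x
    simpa using this
  let e : {g : G // ∃ z, IsPPart p g z ∧ IsConj x z} ≃
      (Σ z : {z : G // IsConj x z}, {y : G // Commute (z : G) y ∧ ¬ p ∣ orderOf y}) :=
    { toFun := fun g =>
        ⟨⟨Classical.choose g.2, (Classical.choose_spec g.2).2⟩,
          ⟨(Classical.choose g.2)⁻¹ * g, by
            obtain ⟨y, hy1, hy2, -, hy4⟩ := (Classical.choose_spec g.2).1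
            have : (Classical.choose g.2)⁻¹ * (g : G) = y := inv_mul_eq_iff_eq_mul.2 hy1.symm
            rw [this]
            exact ⟨hy2, hy4⟩⟩⟩
      invFun := fun s => ⟨s.1 * s.2, s.1, ⟨s.2, rfl, s.2.2.1, hz _ s.1.2, s.2.2.2⟩, s.1.2⟩
      left_inv := fun g => by
        apply Subtype.ext
        simp
      right_inv := fun s => by
        obtain ⟨⟨z, hzc⟩, ⟨y, hy⟩⟩ := s
        have h1 : IsPPart p (z * y) z := ⟨y, rfl, hy.1, hz _ hzc, hy.2⟩
        have hex : ∃ w, IsPPart p (z * y) w ∧ IsConj x w := ⟨z, h1, hzc⟩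
        have h2 : Classical.choose hex = z := isPPart_unique (Classical.choose_spec hex).1 h1
        have h3 : ∀ (w : G) (hw : w = z) (a : IsConj x w) (b : Commute w (w⁻¹ * (z * y)) ∧
            ¬ p ∣ orderOf (w⁻¹ * (z * y))),
            (⟨⟨w, a⟩, ⟨w⁻¹ * (z * y), b⟩⟩ : (Σ z : {z : G // IsConj x z},
              {y : G // Commute (z : G) y ∧ ¬ p ∣ orderOf y})) = ⟨⟨z, hzc⟩, ⟨y, hy⟩⟩ := by
          intro w hw a b
          subst hw
          congr 1
          apply Subtype.ext
          simp
        exact h3 _ h2 _ _ }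
  rw [Nat.card_congr e, Nat.card_sigma]
  have h1 : ∀ z : {z : G // IsConj x z},
      Nat.card {y : G // Commute (z : G) y ∧ ¬ p ∣ orderOf y} =
        Nat.card {y : G // Commute x y ∧ ¬ p ∣ orderOf y} := by
    intro z
    obtain ⟨c, hc⟩ := isConj_iff.mp z.2
    have ho : ∀ y : G, orderOf (c * y * c⁻¹) = orderOf y := by
      intro y
      have := orderOf_injective (MulAut.conj c).toMonoidHom (MulAut.conj c).injective y
      simpa using this
    symm
    refine Nat.card_congr ((MulAut.conj c).toEquiv.subtypeEquiv fun y => ?_)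
    show _ ↔ Commute (z : G) (c * y * c⁻¹) ∧ ¬ p ∣ orderOf (c * y * c⁻¹)
    rw [ho, ← hc]
    have h2 : Commute (c * x * c⁻¹) (c * y * c⁻¹) ↔ Commute x y := by
      constructor
      · intro h
        have h3 := h.map (MulAut.conj c⁻¹).toMonoidHom
        have e1 : ∀ w : G, (MulAut.conj c⁻¹).toMonoidHom (c * w * c⁻¹) = w := by
          intro w
          simp [mul_assoc]
        rwa [e1, e1] at h3
      · intro h
        exact h.map (MulAut.conj c).toMonoidHom
    rw [h2]
  rw [Finset.sum_congr rfl fun z _ => h1 z, Finset.sum_const, smul_eq_mul, Finset.card_univ,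
    ← Nat.card_eq_fintype_card]
  congr 1
  exact Central.card_isConj x

section cyclic

variable [Fact p.Prime] (P : Sylow p G) (hP : Nat.card P = p)

include hP

omit [Finite G] in
/-- A nontrivial element of `P` has order `p`. -/
theorem orderOf_eq {x : G} (hx : x ∈ P) (hx1 : x ≠ 1) : orderOf x = p := by
  have h1 : orderOf (⟨x, hx⟩ : P) ∣ p := by
    have := orderOf_dvd_natCard (⟨x, hx⟩ : P)
    exact this.trans (dvd_of_eq hP)
  have h2 : orderOf (⟨x, hx⟩ : P) = orderOf x := (Subgroup.orderOf_coe (⟨x, hx⟩ : P)).symm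
  rw [h2] at h1
  rcases (Nat.dvd_prime Fact.out).mp h1 with h | h
  · exact absurd (orderOf_eq_one_iff.mp h) hx1
  · exact h

/-- A nontrivial element generates `P`. -/
theorem zpowers_eq {x : G} (hx : x ∈ P) (hx1 : x ≠ 1) : Subgroup.zpowers x = (P : Subgroup G) := by
  apply Subgroup.eq_of_le_of_card_ge
  · rw [Subgroup.zpowers_le]; exact hx
  · rw [Nat.card_zpowers, orderOf_eq P hP hx hx1]
    exact hP.le

/-- The centralizer of a nontrivial element of `P` is the centralizer of `P`. -/
theorem centralizer_eq {x : G} (hx : x ∈ P) (hx1 : x ≠ 1) :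
    Subgroup.centralizer ({x} : Set G) = Subgroup.centralizer ((P : Subgroup G) : Set G) := by
  rw [← zpowers_eq P hP hx hx1, ← Subgroup.centralizer_closure, Subgroup.zpowers_eq_closure]

/-- The centralizer of a nontrivial element of `P` has a normal complement to `P`. -/
theorem exists_complement {x : G} (hx : x ∈ P) (hx1 : x ≠ 1) :
    ∃ K : Subgroup (Subgroup.centralizer ({x} : Set G)), K.Normal ∧ K.index = p ∧
      (Nat.card K).Coprime p ∧ ∀ e, e ∈ K ↔ ¬ p ∣ orderOf e := by
  have hle : (P : Subgroup G) ≤ Subgroup.centralizer ({x} : Set G) := by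
    rw [centralizer_eq P hP hx hx1]
    intro y hy
    rw [Subgroup.mem_centralizer_iff]
    intro z hz
    rw [← zpowers_eq P hP hx hx1] at hy
    have hz' : z ∈ Subgroup.zpowers x := by
      rw [zpowers_eq P hP hx hx1]; exact hz
    obtain ⟨i, rfl⟩ := Subgroup.mem_zpowers_iff.mp hy
    obtain ⟨j, rfl⟩ := Subgroup.mem_zpowers_iff.mp hz'
    rw [← zpow_add, ← zpow_add, add_comm]
  let Q : Sylow p (Subgroup.centralizer ({x} : Set G)) := P.subtype hle
  have hQ : (Q : Subgroup (Subgroup.centralizer ({x} : Set G))) ≤ Subgroup.center _ := by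
    intro y hy
    have hy' : (y : G) ∈ (P : Subgroup G) := hy
    rw [Subgroup.mem_center_iff]
    intro g
    apply Subtype.ext
    have hg : (g : G) ∈ Subgroup.centralizer ((P : Subgroup G) : Set G) := by
      rw [← centralizer_eq P hP hx hx1]; exact g.2
    exact ((Subgroup.mem_centralizer_iff.mp hg) _ hy').symm
  obtain ⟨K, hK1, hK2, hK3, hK4⟩ := CentralSylow.exists_complement Q hQ
  refine ⟨K, hK1, ?_, hK3, hK4⟩
  rw [hK2]
  exact (Nat.card_congr (Subgroup.subgroupOfEquivOfLe hle).toEquiv).trans hP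

/-- Characters in the principal block are constant on `x·V`. -/
theorem mul_eq {M : Ideal AlgInt} (hM : IsPModular p M) {x : G} (hx : x ∈ P) (hx1 : x ≠ 1)
    {y : G} (hxy : Commute x y) (hy : ¬ p ∣ orderOf y) {χ : IrrCharacter G}
    (hχ : χ ∈ principalBlock M G) : (χ : G → ℂ) (x * y) = (χ : G → ℂ) x := by
  obtain ⟨K, hK1, hK2, hK3, hK4⟩ := exists_complement P hP hx hx1
  apply S0942.result p M hM x ⟨1, by rw [orderOf_eq P hP hx hx1, pow_one]⟩ y _ χ hχ
  have hyc : y ∈ Subgroup.centralizer ({x} : Set G) := by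
    rw [Subgroup.mem_centralizer_singleton_iff]
    exact hxy.symm
  refine ⟨⟨y, hyc⟩, ?_, rfl⟩
  apply Cfsg.Agent.Lib.Cores.le_pPrimeCore hK1 hK3
  rw [hK4]
  rw [← Subgroup.orderOf_coe]
  exact hy

/-- The `p`-section of a nontrivial element of `P` has `|G| / p` elements. -/
theorem card_section_mul {x : G} (hx : x ∈ P) (hx1 : x ≠ 1) :
    Nat.card {g : G // ∃ z, IsPPart p g z ∧ IsConj x z} * p = Nat.card G := by
  obtain ⟨K, hK1, hK2, hK3, hK4⟩ := exists_complement P hP hx hx1
  rw [card_section ⟨1, by rw [orderOf_eq P hP hx hx1, pow_one]⟩]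
  have h1 : Nat.card {y : G // Commute x y ∧ ¬ p ∣ orderOf y} = Nat.card K := by
    refine Nat.card_congr
      { toFun := fun y => ⟨⟨y, Subgroup.mem_centralizer_singleton_iff.2 y.2.1.symm⟩, by
          rw [hK4, ← Subgroup.orderOf_coe]
          exact y.2.2⟩
        invFun := fun k => ⟨k, (Subgroup.mem_centralizer_singleton_iff.1 (k : _).1.2).symm, by
          have := (hK4 k).1 k.2
          rwa [← Subgroup.orderOf_coe] at this⟩
        left_inv := fun _ => rfl
        right_inv := fun _ => rfl }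
  rw [h1, mul_assoc, ← hK2, K.card_mul_index, mul_comm]
  exact (Subgroup.centralizer ({x} : Set G)).card_mul_index

open scoped Classical in
/-- The kernel of the principal block at a nontrivial element of `P`. -/
theorem kernel_eq {M : Ideal AlgInt} (hM : IsPModular p M) {x : G} (hx : x ∈ P) (hx1 : x ≠ 1)
    (g : G) :
    ∑ᶠ χ ∈ principalBlock M G, (χ : G → ℂ) g * conj ((χ : G → ℂ) x) =
      if ∃ z, IsPPart p g z ∧ IsConj x z then (p : ℂ) else 0 := by
  have := Fintype.ofFinite G
  have : Finite (IrrCharacter G) := finite_irr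
  have := Fintype.ofFinite (IrrCharacter G)
  have hone : IsIrrCharacter G (fun _ : G => (1 : ℂ)) := isIrr_one
  have hB : IsPBlock M (principalBlock M G) := ⟨⟨_, hone⟩, rfl⟩
  have hR := S0913.result p M hM _ hB
  have hxp : IsPPart p x x := isPPart_of_isPGroup ⟨1, by rw [orderOf_eq P hP hx hx1, pow_one]⟩
  set K : G → ℂ := fun g => ∑ᶠ χ ∈ principalBlock M G, (χ : G → ℂ) g * conj ((χ : G → ℂ) x) with hK
  have hKs : ∀ g, K g = ∑ χ : IrrCharacter G with χ ∈ principalBlock M G,
      (χ : G → ℂ) g * conj ((χ : G → ℂ) x) := by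
    intro g
    rw [hK]
    exact Orthogonality.finsum_mem_eq_sum_filter _ _
  have hoff : ∀ g, (¬ ∃ z, IsPPart p g z ∧ IsConj x z) → K g = 0 := by
    intro g hg
    obtain ⟨w, hw⟩ := exists_isPPart p g
    exact Orthogonality.block_orthogonality hM _ hR hw hxp fun h => hg ⟨w, hw, h.symm⟩
  have hon : ∀ g, (∃ z, IsPPart p g z ∧ IsConj x z) → K g = K x := by
    rintro g ⟨z, ⟨y, rfl, hzy, -, hy⟩, hxz⟩
    obtain ⟨c, rfl⟩ := isConj_iff.mp hxz
    rw [hKs, hKs]
    refine Finset.sum_congr rfl fun χ hχ => ?_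
    have hχ' : χ ∈ principalBlock M G := (Finset.mem_filter.1 hχ).2
    congr 1
    have h1 : c * x * c⁻¹ * y = c * (x * (c⁻¹ * y * c)) * c⁻¹ := by group
    rw [h1, isIrr_isClassFunction χ.2 _ c]
    have ho : orderOf (c⁻¹ * y * c) = orderOf y := by
      have := orderOf_injective (MulAut.conj c⁻¹).toMonoidHom (MulAut.conj c⁻¹).injective y
      simpa using this
    apply mul_eq P hP hM hx hx1 _ (by rw [ho]; exact hy) hχ'
    have h3 := hzy.map (MulAut.conj c⁻¹).toMonoidHom
    have e1 : (MulAut.conj c⁻¹).toMonoidHom (c * x * c⁻¹) = x := by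
      simp [mul_assoc]
    have e2 : (MulAut.conj c⁻¹).toMonoidHom y = c⁻¹ * y * c := by
      simp
    rwa [e1, e2] at h3
  -- the sum of the kernel
  have hsum : ∑ g, K g = (Nat.card G : ℂ) := by
    have h1 : ∀ χ : IrrCharacter G, ∑ g, (χ : G → ℂ) g * conj ((χ : G → ℂ) x) =
        if χ = ⟨_, hone⟩ then (Nat.card G : ℂ) else 0 := by
      intro χ
      have h2 := classInner_irr χ.2 hone
      rw [classInner_def] at h2
      simp only [map_one, mul_one] at h2
      have hne : (Nat.card G : ℂ) ≠ 0 := card_ne_zero_complex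
      rw [← Finset.sum_mul]
      split_ifs with h
      · subst h
        simp [Nat.card_eq_fintype_card]
      · have h3 : (χ : G → ℂ) ≠ (fun _ => 1) := fun h4 => h (Subtype.ext h4)
        rw [if_neg h3] at h2
        have h5 := (mul_eq_zero.mp h2).resolve_left (inv_ne_zero hne)
        rw [h5, zero_mul]
    rw [Finset.sum_congr rfl fun g _ => hKs g, Finset.sum_comm,
      Finset.sum_congr rfl fun χ _ => h1 χ, Finset.sum_ite_eq', if_pos]
    rw [Finset.mem_filter]
    refine ⟨Finset.mem_univ _, ?_⟩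
    show SameBlock M _ _
    exact Osima.sameBlock_refl hM _
  have hcard := card_section_mul P hP hx hx1
  have hsum2 : ∑ g, K g = K x * (Nat.card {g : G // ∃ z, IsPPart p g z ∧ IsConj x z} : ℂ) := by
    have h1 : ∀ g, K g = if ∃ z, IsPPart p g z ∧ IsConj x z then K x else 0 := by
      intro g
      split_ifs with h
      · exact hon g h
      · exact hoff g h
    rw [Finset.sum_congr rfl fun g _ => h1 g, ← Finset.sum_filter, Finset.sum_const, nsmul_eq_mul,
      Nat.card_eq_fintype_card, Fintype.card_subtype, mul_comm]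
  have hKx : K x = p := by
    have h2 : K x * (Nat.card {g : G // ∃ z, IsPPart p g z ∧ IsConj x z} : ℂ) =
        (Nat.card {g : G // ∃ z, IsPPart p g z ∧ IsConj x z} : ℂ) * p := by
      rw [← hsum2, hsum, ← hcard]
      push_cast
      ring
    have hne : (Nat.card {g : G // ∃ z, IsPPart p g z ∧ IsConj x z} : ℂ) ≠ 0 := by
      intro h0
      have h3 : Nat.card {g : G // ∃ z, IsPPart p g z ∧ IsConj x z} = 0 := by exact_mod_cast h0
      rw [h3, zero_mul] at hcard
      exact Nat.card_pos.ne hcard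
    rw [mul_comm] at h2
    exact mul_left_cancel₀ hne h2
  show K g = _
  split_ifs with h
  · rw [hon g h, hKx]
  · exact hoff g h

open scoped Classical in
/-- Orthogonality relations of the principal block on the nontrivial elements of `P`. -/
theorem gram {M : Ideal AlgInt} (hM : IsPModular p M) {u v : G} (hu : u ∈ P) (hu1 : u ≠ 1)
    (hv : v ∈ P) (hv1 : v ≠ 1) :
    ∑ᶠ χ ∈ principalBlock M G, (χ : G → ℂ) u * conj ((χ : G → ℂ) v) =
      if IsConj u v then (p : ℂ) else 0 := by
  rw [kernel_eq P hP hM hv hv1 u]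
  have hup : IsPPart p u u := isPPart_of_isPGroup ⟨1, by rw [orderOf_eq P hP hu hu1, pow_one]⟩
  have h : (∃ z, IsPPart p u z ∧ IsConj v z) ↔ IsConj u v := by
    constructor
    · rintro ⟨z, hz, hvz⟩
      rw [isPPart_unique hz hup] at hvz
      exact hvz.symm
    · intro h
      exact ⟨u, hup, h.symm⟩
  simp only [h]

/-- Weak orthogonality: the kernel vanishes at `p`-regular elements. -/
theorem kernel_regular {M : Ideal AlgInt} (hM : IsPModular p M) {x : G} (hx : x ∈ P) (hx1 : x ≠ 1)
    {g : G} (hg : ¬ p ∣ orderOf g) :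
    ∑ᶠ χ ∈ principalBlock M G, (χ : G → ℂ) g * conj ((χ : G → ℂ) x) = 0 := by
  rw [kernel_eq P hP hM hx hx1 g, if_neg]
  rintro ⟨z, hz, hxz⟩
  have h1 := isPPart_unique hz (isPPart_of_not_dvd hg)
  subst h1
  exact hx1 (isConj_one_left.mp hxz)

end cyclic

end Cfsg.Agent.Blocks.CyclicOrtho
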