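import Mathlib
import Cfsg.Agent.Blocks.CyclicOrtho

/-!
# Classes of elements of order `p` when a Sylow subgroup has order `p`
-/

set_option autoImplicit false

namespace Cfsg.Agent.Blocks.CyclicClasses

open Cfsg
open Cfsg.Agent.Blocks.CyclicOrtho

universe u

variable {G : Type u} [Group G] [Finite G] {p : ℕ}

section

variable [Fact p.Prime] (P : Sylow p G) (hP : Nat.card P = p)

include hP

/-- Conjugation between nontrivial elements of `P` normalizes `P`. -/
theorem mem_normalizer_of_conj {x g : G} (hx : x ∈ P) (hx1 : x ≠ 1) (hg : g * x * g⁻¹ ∈ P) :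
    g ∈ Subgroup.normalizer ((P : Subgroup G) : Set G) := by
  have h1 : g * x * g⁻¹ ≠ 1 := by
    intro h
    apply hx1
    have := congrArg (fun y => g⁻¹ * y * g) h
    simpa [mul_assoc] using this
  rw [Subgroup.mem_normalizer_iff_map_conj_eq, ← zpowers_eq P hP hx hx1, MonoidHom.map_zpowers]
  have h2 : (MulAut.conj g).toMonoidHom x = g * x * g⁻¹ := rfl
  show Subgroup.zpowers ((MulAut.conj g).toMonoidHom x) = _
  rw [h2, zpowers_eq P hP hg h1, zpowers_eq P hP hx hx1]

/-- The number of conjugates of `x` in `P`. -/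
theorem card_conj_mem {x : G} (hx : x ∈ P) (hx1 : x ≠ 1) :
    Nat.card {y : G // y ∈ P ∧ IsConj x y} =
      (Subgroup.centralizer ((P : Subgroup G) : Set G)).relIndex
        (Subgroup.normalizer ((P : Subgroup G) : Set G)) := by
  classical
  set N := Subgroup.normalizer ((P : Subgroup G) : Set G) with hN
  set C := Subgroup.centralizer ((P : Subgroup G) : Set G) with hC
  have hmem : ∀ n : N, (n : G) * x * (n : G)⁻¹ ∈ P := by
    intro n
    exact (Subgroup.mem_normalizer_iff.mp n.2 x).mp hx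
  have hrel : ∀ a b : N, (QuotientGroup.leftRel (C.subgroupOf N)) a b ↔
      (a : G) * x * (a : G)⁻¹ = (b : G) * x * (b : G)⁻¹ := by
    intro a b
    rw [QuotientGroup.leftRel_apply, Subgroup.mem_subgroupOf, hC, ← centralizer_eq P hP hx hx1,
      Subgroup.mem_centralizer_singleton_iff]
    push_cast
    constructor
    · intro h
      calc (a : G) * x * (a : G)⁻¹ = a * (x * ((a : G)⁻¹ * b)) * (b : G)⁻¹ := by group
        _ = a * (((a : G)⁻¹ * b) * x) * (b : G)⁻¹ := by rw [← h]
        _ = (b : G) * x * (b : G)⁻¹ := by group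
    · intro h
      calc (a : G)⁻¹ * b * x = (a : G)⁻¹ * ((b : G) * x * (b : G)⁻¹) * b := by group
        _ = (a : G)⁻¹ * ((a : G) * x * (a : G)⁻¹) * b := by rw [h]
        _ = x * ((a : G)⁻¹ * b) := by group
  let f : N ⧸ (C.subgroupOf N) → {y : G // y ∈ P ∧ IsConj x y} :=
    Quotient.lift (fun n : N => (⟨(n : G) * x * (n : G)⁻¹, hmem n, isConj_iff.mpr ⟨n, rfl⟩⟩ :
      {y : G // y ∈ P ∧ IsConj x y})) (fun a b hab => Subtype.ext ((hrel a b).mp hab))
  have hf : Function.Bijective f := by
    constructor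
    · intro a b
      refine Quotient.inductionOn₂ a b fun a b h => ?_
      apply Quotient.sound
      apply (hrel a b).mpr
      exact congrArg Subtype.val h
    · rintro ⟨y, hy, hxy⟩
      obtain ⟨g, rfl⟩ := isConj_iff.mp hxy
      have hg := mem_normalizer_of_conj P hP hx hx1 hy
      exact ⟨Quotient.mk _ ⟨g, hg⟩, rfl⟩
  exact (Nat.card_congr (Equiv.ofBijective f hf)).symm

/-- The classes of nontrivial elements of `P`. -/
def Cls (P : Sylow p G) : Type u := {c : ConjClasses G // ∃ x ∈ P, x ≠ 1 ∧ ConjClasses.mk x = c}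

omit [Fact p.Prime] hP in
theorem finite_cls (P : Sylow p G) : Finite (Cls P) := by
  unfold Cls
  infer_instance

/-- The number of classes of nontrivial elements of `P`. -/
theorem card_cls : Nat.card (Cls P) * (Subgroup.centralizer ((P : Subgroup G) : Set G)).relIndex
        (Subgroup.normalizer ((P : Subgroup G) : Set G)) = p - 1 := by
  classical
  have := finite_cls P
  have := Fintype.ofFinite (Cls P)
  have hp1 : Nat.card {x : G // x ∈ P ∧ x ≠ 1} = p - 1 := by
    have h1 : Nat.card {x : P // x ≠ 1} = p - 1 := by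
      have := Fintype.ofFinite P
      rw [Nat.card_eq_fintype_card, Fintype.card_subtype_compl, Fintype.card_subtype_eq,
        ← Nat.card_eq_fintype_card]
      congr 1
    rw [← h1]
    refine Nat.card_congr
      { toFun := fun x => ⟨⟨x, x.2.1⟩, fun h => x.2.2 (congrArg Subtype.val h)⟩
        invFun := fun x => ⟨x, x.1.2, fun h => x.2 (Subtype.ext h)⟩
        left_inv := fun _ => rfl
        right_inv := fun _ => rfl }
  let e : {x : G // x ∈ P ∧ x ≠ 1} ≃
      (Σ c : Cls P, {x : G // x ∈ P ∧ x ≠ 1 ∧ ConjClasses.mk x = c.1}) :=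
    { toFun := fun x => ⟨⟨ConjClasses.mk x, x, x.2.1, x.2.2, rfl⟩, ⟨x, x.2.1, x.2.2, rfl⟩⟩
      invFun := fun s => ⟨s.2, s.2.2.1, s.2.2.2.1⟩
      left_inv := fun _ => rfl
      right_inv := by
        rintro ⟨⟨c, hc⟩, ⟨x, hx1, hx2, hx3⟩⟩
        have hx3' : ConjClasses.mk x = c := hx3
        subst hx3'
        rfl }
  rw [← hp1, Nat.card_congr e, Nat.card_sigma]
  have h2 : ∀ c : Cls P, Nat.card {x : G // x ∈ P ∧ x ≠ 1 ∧ ConjClasses.mk x = c.1} =
      (Subgroup.centralizer ((P : Subgroup G) : Set G)).relIndex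
        (Subgroup.normalizer ((P : Subgroup G) : Set G)) := by
    rintro ⟨c, x, hx, hx1, rfl⟩
    rw [← card_conj_mem P hP hx hx1]
    refine Nat.card_congr (Equiv.subtypeEquivRight fun y => ?_)
    rw [ConjClasses.mk_eq_mk_iff_isConj]
    constructor
    · rintro ⟨h1, -, h3⟩
      exact ⟨h1, h3.symm⟩
    · rintro ⟨h1, h3⟩
      refine ⟨h1, ?_, h3.symm⟩
      rintro rfl
      exact hx1 (isConj_one_left.mp h3)
  rw [Finset.sum_congr rfl fun c _ => h2 c, Finset.sum_const, smul_eq_mul, Finset.card_univ,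
    Nat.card_eq_fintype_card]

end

end Cfsg.Agent.Blocks.CyclicClasses
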