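import Mathlib

/-!
# Simple modules attached to linear characters of the normalizer of a subgroup of order `p`

`F` is a field of characteristic `p`, `P` a subgroup of `G` of order `p` with normalizer `N`,
and `lam` is a linear character of `N` trivial on `P`.  A vector `v` of a module is *good* for
`lam` when `N` acts on it through `lam` and it does not lie in the image of the sum of the
elements of `P`.
-/

set_option autoImplicit false

namespace Cfsg.Agent.Blocks.CyclicLower

open MonoidAlgebra

section Basic

variable {F : Type*} [Field F] {G : Type*} [Group G]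

/-- group element as an element of the group algebra -/
noncomputable abbrev el (F : Type*) [Field F] {G : Type*} [Group G] (g : G) :
    MonoidAlgebra F G := MonoidAlgebra.of F G g

theorem el_mul (g h : G) : el F g * el F h = el F (g * h) := (map_mul (MonoidAlgebra.of F G) g h).symm

theorem el_one : el F (1 : G) = 1 := map_one (MonoidAlgebra.of F G)

variable {P : Subgroup G}

theorem out_smul (g : G) (q : G ⧸ P) : ∃ y ∈ P, (g • q).out = g * q.out * y := by
  have h1 : (QuotientGroup.mk (g * q.out) : G ⧸ P) = g • q := by
    conv_rhs => rw [← QuotientGroup.out_eq' q]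
    rfl
  have h2 : (QuotientGroup.mk ((g • q).out) : G ⧸ P) = g • q := QuotientGroup.out_eq' _
  have h3 : (QuotientGroup.mk (g * q.out) : G ⧸ P) = QuotientGroup.mk ((g • q).out) := by
    rw [h1, h2]
  rw [QuotientGroup.eq] at h3
  exact ⟨_, h3, by group⟩

variable (P) in
/-- the sum of the elements of `P` -/
noncomputable def tr (F : Type*) [Field F] [Finite G] : MonoidAlgebra F G := by
  classical
  have : Fintype P := Fintype.ofFinite P
  exact ∑ y : P, el F (y : G)

theorem tr_def [Finite G] [Fintype P] : tr P F = ∑ y : P, el F (y : G) := by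
  unfold tr
  convert rfl

theorem el_mul_tr [Finite G] {y : G} (hy : y ∈ P) : el F y * tr P F = tr P F := by
  classical
  have : Fintype P := Fintype.ofFinite P
  rw [tr_def, Finset.mul_sum]
  refine Fintype.sum_equiv (Equiv.mulLeft (⟨y, hy⟩ : P)) _ _ fun z => ?_
  rw [el_mul]
  rfl

theorem el_comm_tr [Finite G] {n : G} (hn : n ∈ Subgroup.normalizer (P : Set G)) :
    el F n * tr P F = tr P F * el F n := by
  classical
  have : Fintype P := Fintype.ofFinite P
  rw [tr_def, Finset.mul_sum, Finset.sum_mul]
  have hn' := Subgroup.mem_normalizer_iff.1 hn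
  let e : P ≃ P :=
    { toFun := fun y => ⟨n * y * n⁻¹, (hn' y).1 y.2⟩
      invFun := fun y => ⟨n⁻¹ * y * n, (hn' _).2 (by
        have : n * (n⁻¹ * (y : G) * n) * n⁻¹ = y := by group
        rw [this]; exact y.2)⟩
      left_inv := fun y => by ext; simp only; group
      right_inv := fun y => by ext; simp only; group }
  rw [← Equiv.sum_comp e (fun y : P => el F (y : G) * el F n)]
  refine Finset.sum_congr rfl fun y _ => ?_
  rw [el_mul, el_mul]
  congr 1
  simp only [e, Equiv.coe_fn_mk]
  group

end Basic

/-- `N` acts on `v` through `lam`. -/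
def Eig {F : Type*} [Field F] {G : Type*} [Group G] (P : Subgroup G) (lam : G → F)
    {V : Type*} [AddCommGroup V] [Module F V] [Module (MonoidAlgebra F G) V] (v : V) : Prop :=
  ∀ n ∈ Subgroup.normalizer (P : Set G), el F n • v = lam n • v

/-- `N` acts on `v` through `lam` and `v` is not a trace from the trivial subgroup of `P`. -/
def Good {F : Type*} [Field F] {G : Type*} [Group G] [Finite G] (P : Subgroup G) (lam : G → F)
    {V : Type*} [AddCommGroup V] [Module F V] [Module (MonoidAlgebra F G) V] (v : V) : Prop :=
  Eig P lam v ∧ ∀ a : V, tr P F • a ≠ v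

/-- `lam` is a linear character of the normalizer, trivial on `P`. -/
structure IsLin {F : Type*} [Field F] {G : Type*} [Group G] (P : Subgroup G) (lam : G → F) :
    Prop where
  mul : ∀ m ∈ Subgroup.normalizer (P : Set G), ∀ n ∈ Subgroup.normalizer (P : Set G),
    lam (m * n) = lam m * lam n
  triv : ∀ y ∈ P, lam y = 1

section Avg

variable {F : Type*} [Field F] {G : Type*} [Group G] {P : Subgroup G} {lam : G → F}

theorem IsLin.ne_zero (h : IsLin P lam) {n : G} (hn : n ∈ Subgroup.normalizer (P : Set G)) :
    lam n ≠ 0 := by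
  intro h0
  have h1 := h.mul n hn n⁻¹ (inv_mem hn)
  rw [mul_inv_cancel, h.triv 1 P.one_mem, h0, zero_mul] at h1
  exact one_ne_zero h1

variable [Finite G]

open scoped Classical in
variable (P) in
/-- the cosets of `P` in its normalizer -/
noncomputable def reps : Finset (G ⧸ P) :=
  (Set.toFinite {q : G ⧸ P | q.out ∈ Subgroup.normalizer (P : Set G)}).toFinset

theorem mem_reps {q : G ⧸ P} : q ∈ reps P ↔ q.out ∈ Subgroup.normalizer (P : Set G) := by
  unfold reps
  simp

variable {V : Type*} [AddCommGroup V] [Module F V] [Module (MonoidAlgebra F G) V]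
  [IsScalarTower F (MonoidAlgebra F G) V]

omit [Finite G] in
theorem smul_comm' (c : F) (a : MonoidAlgebra F G) (v : V) : a • c • v = c • a • v := by
  rw [← smul_one_smul (MonoidAlgebra F G) c v, ← smul_one_smul (MonoidAlgebra F G) c (a • v),
    smul_smul, smul_smul]
  congr 1
  rw [mul_smul_comm, mul_one, smul_mul_assoc, one_mul]

variable (lam) in
/-- the averaging element -/
noncomputable def avg (P : Subgroup G) : MonoidAlgebra F G :=
  ∑ q ∈ reps P, (lam q.out)⁻¹ • el F q.out

theorem avg_smul (v : V) :
    avg lam P • v = ∑ q ∈ reps P, (lam q.out)⁻¹ • (el F q.out • v) := by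
  unfold avg
  rw [Finset.sum_smul]
  exact Finset.sum_congr rfl fun q _ => smul_assoc _ _ _

theorem avg_smul_eig (h : IsLin P lam) {v : V} (hv : Eig P lam v) :
    avg lam P • v = ((reps P).card : F) • v := by
  rw [avg_smul, Finset.sum_congr rfl (g := fun _ => v), Finset.sum_const, Nat.cast_smul_eq_nsmul]
  intro q hq
  have hq' := mem_reps.1 hq
  rw [hv _ hq', smul_smul, inv_mul_cancel₀ (h.ne_zero hq'), one_smul]

theorem avg_mul_tr (h : IsLin P lam) : avg lam P * tr P F = tr P F * avg lam P := by
  unfold avg
  rw [Finset.sum_mul, Finset.mul_sum]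
  refine Finset.sum_congr rfl fun q hq => ?_
  rw [smul_mul_assoc, mul_smul_comm, el_comm_tr (mem_reps.1 hq)]

theorem smul_mem_reps {n : G} (hn : n ∈ Subgroup.normalizer (P : Set G)) {q : G ⧸ P} :
    n • q ∈ reps P ↔ q ∈ reps P := by
  obtain ⟨y, hy, hyq⟩ := out_smul n q
  rw [mem_reps, mem_reps, hyq]
  have hyN : y ∈ Subgroup.normalizer (P : Set G) := Subgroup.le_normalizer hy
  rw [Subgroup.mul_mem_cancel_right _ hyN, Subgroup.mul_mem_cancel_left _ hn]

/-- averaging a `P`-fixed vector gives an eigenvector -/
theorem eig_avg (h : IsLin P lam) {l : V} (hl : ∀ y ∈ P, el F y • l = l) :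
    Eig P lam (avg lam P • l) := by
  intro n hn
  rw [avg_smul, Finset.smul_sum, Finset.smul_sum]
  have e : ∀ q ∈ reps P, (lam (n • q).out)⁻¹ • (el F (n • q).out • l) =
      (lam n)⁻¹ • ((lam q.out)⁻¹ • (el F n • (el F q.out • l))) := by
    intro q hq
    obtain ⟨y, hy, hyq⟩ := out_smul n q
    have hq' := mem_reps.1 hq
    have hyN : y ∈ Subgroup.normalizer (P : Set G) := Subgroup.le_normalizer hy
    rw [hyq, h.mul _ (mul_mem hn hq') _ hyN, h.triv y hy, mul_one, h.mul _ hn _ hq',
      ← el_mul, ← el_mul, mul_smul, hl y hy, mul_smul, mul_inv, mul_smul]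
  calc ∑ q ∈ reps P, el F n • ((lam q.out)⁻¹ • (el F q.out • l))
      = ∑ q ∈ reps P, lam n • ((lam (n • q).out)⁻¹ • (el F (n • q).out • l)) := by
        refine Finset.sum_congr rfl fun q hq => ?_
        rw [e q hq, smul_smul, mul_inv_cancel₀ (h.ne_zero hn), one_smul, smul_comm']
    _ = ∑ q ∈ reps P, lam n • ((lam q.out)⁻¹ • (el F q.out • l)) := by
        refine Finset.sum_bij (fun q _ => n • q) ?_ ?_ ?_ ?_
        · intro q hq; exact (smul_mem_reps hn).2 hq
        · intro a _ b _ hab; exact smul_left_cancel n hab
        · intro b hb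
          refine ⟨n⁻¹ • b, (smul_mem_reps (inv_mem hn)).2 hb, ?_⟩
          rw [smul_inv_smul]
        · intro q hq; rfl

end Avg

section Exists

variable {F : Type*} [Field F] {G : Type*} [Group G] [Finite G] {P : Subgroup G} {lam : G → F}

/-- transport of good vectors along a linear equivalence -/
theorem Good.map {V W : Type*} [AddCommGroup V] [Module F V] [Module (MonoidAlgebra F G) V]
    [IsScalarTower F (MonoidAlgebra F G) V]
    [AddCommGroup W] [Module F W] [Module (MonoidAlgebra F G) W]
    [IsScalarTower F (MonoidAlgebra F G) W] (e : V ≃ₗ[MonoidAlgebra F G] W) {v : V}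
    (h : Good P lam v) : Good P lam (e v) := by
  have hF : ∀ (c : F) (x : V), e (c • x) = c • e x := by
    intro c x
    rw [← smul_one_smul (MonoidAlgebra F G) c x, ← smul_one_smul (MonoidAlgebra F G) c (e x),
      map_smul]
  refine ⟨fun n hn => ?_, fun a ha => ?_⟩
  · rw [← map_smul, h.1 n hn, hF]
  · apply h.2 (e.symm a)
    apply e.injective
    rw [map_smul, e.apply_symm_apply, ha]

theorem Good.ne_zero {V : Type*} [AddCommGroup V] [Module F V] [Module (MonoidAlgebra F G) V]
    {v : V} (h : Good P lam v) : v ≠ 0 := by
  rintro rfl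
  exact h.2 0 (smul_zero _)

/-- Any module with a good vector has a simple subquotient with a good vector. -/
theorem exists_simple_of_good (h : IsLin P lam) (hN : ((reps P).card : F) ≠ 0) (n : ℕ) :
    ∀ (V : Type*) [AddCommGroup V] [Module F V] [Module (MonoidAlgebra F G) V]
      [IsScalarTower F (MonoidAlgebra F G) V] [FiniteDimensional F V],
      Module.finrank F V = n → ∀ v : V, Good P lam v →
      ∃ L : Submodule (MonoidAlgebra F G) (MonoidAlgebra F G),
        IsSimpleModule (MonoidAlgebra F G) (MonoidAlgebra F G ⧸ L) ∧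
        ∃ w : MonoidAlgebra F G ⧸ L, Good P lam w := by
  induction n using Nat.strong_induction_on with
  | _ n ih =>
  intro V _ _ _ _ _ hn v hv
  by_cases hs : IsSimpleModule (MonoidAlgebra F G) V
  · -- simple: transport
    refine ⟨LinearMap.ker (LinearMap.toSpanSingleton (MonoidAlgebra F G) V v), ?_, ?_⟩
    · exact IsSimpleModule.congr ((LinearMap.toSpanSingleton (MonoidAlgebra F G) V
        v).quotKerEquivOfSurjective (IsSimpleModule.toSpanSingleton_surjective _ hv.ne_zero))
    · exact ⟨_, hv.map ((LinearMap.toSpanSingleton (MonoidAlgebra F G) V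
        v).quotKerEquivOfSurjective
          (IsSimpleModule.toSpanSingleton_surjective _ hv.ne_zero)).symm⟩
  · have hnt : Nontrivial V := ⟨v, 0, hv.ne_zero⟩
    have hex : ∃ L : Submodule (MonoidAlgebra F G) V, L ≠ ⊥ ∧ L ≠ ⊤ := by
      by_contra hcon
      push Not at hcon
      apply hs
      rw [isSimpleModule_iff]
      exact { eq_bot_or_eq_top := fun L => by
                by_cases hL : L = ⊥
                · exact Or.inl hL
                · exact Or.inr (hcon L hL) }
    obtain ⟨L, hL0, hL1⟩ := hex
    have : FiniteDimensional F L :=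
      inferInstanceAs (FiniteDimensional F (L.restrictScalars F))
    have hfin : Module.finrank F L + Module.finrank F (V ⧸ L) = Module.finrank F V := by
      have := Submodule.finrank_quotient_add_finrank (L.restrictScalars F)
      rw [add_comm]
      exact this
    have hLpos : 0 < Module.finrank F L := by
      have : Nontrivial L := Submodule.nontrivial_iff_ne_bot.2 hL0
      exact Module.finrank_pos
    have hQpos : 0 < Module.finrank F (V ⧸ L) := by
      have : Nontrivial (V ⧸ L) := Submodule.Quotient.nontrivial_iff.2 hL1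
      exact Module.finrank_pos
    by_cases hq : Good P lam (L.mkQ v)
    · exact ih (Module.finrank F (V ⧸ L)) (by omega) (V ⧸ L) rfl _ hq
    · have heig : Eig P lam (L.mkQ v) := by
        intro m hm
        rw [← map_smul, hv.1 m hm]
        rfl
      have hex2 : ∃ a : V ⧸ L, tr P F • a = L.mkQ v := by
        by_contra hcon
        push Not at hcon
        exact hq ⟨heig, hcon⟩
      obtain ⟨a', ha'⟩ := hex2
      obtain ⟨a, rfl⟩ := L.mkQ_surjective a'
      have hl : v - tr P F • a ∈ L := by
        rw [← map_smul, eq_comm] at ha'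
        exact (Submodule.Quotient.eq L).1 ha'
      set l := v - tr P F • a with hldef
      have hlP : ∀ y ∈ P, el F y • l = l := by
        intro y hy
        rw [hldef, smul_sub, hv.1 y (Subgroup.le_normalizer hy), h.triv y hy, one_smul,
          smul_smul, el_mul_tr hy]
      have hl' : avg lam P • l ∈ L := L.smul_mem _ hl
      have hE := eig_avg h hlP
      by_cases hgl : Good P lam (⟨avg lam P • l, hl'⟩ : L)
      · exact ih (Module.finrank F L) (by omega) L rfl _ hgl
      · exfalso
        have hex3 : ∃ b : L, tr P F • b = ⟨avg lam P • l, hl'⟩ := by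
          by_contra hcon
          push Not at hcon
          refine hgl ⟨fun m hm => ?_, hcon⟩
          apply Subtype.ext
          exact hE m hm
        obtain ⟨b, hb⟩ := hex3
        have hb' : tr P F • (b : V) = avg lam P • l := congrArg Subtype.val hb
        have h1 : ((reps P).card : F) • v = tr P F • (avg lam P • a + (b : V)) := by
          rw [← avg_smul_eig h hv.1, smul_add, hb', smul_smul, ← avg_mul_tr h, ← smul_smul,
            ← smul_add, hldef, add_sub_cancel]
        apply hv.2 (((reps P).card : F)⁻¹ • (avg lam P • a + (b : V)))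
        rw [smul_comm', ← h1, smul_smul, inv_mul_cancel₀ hN, one_smul]

end Exists

end Cfsg.Agent.Blocks.CyclicLower
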