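import Mathlib
import Cfsg.Agent.Blocks.CyclicLower

/-!
# Good vectors for different linear characters live in non-isomorphic simple modules
-/

set_option autoImplicit false

namespace Cfsg.Agent.Blocks.CyclicLower2

open MonoidAlgebra
open Cfsg.Agent.Blocks.CyclicLower

/-- Representatives for a free action on a finite set. -/
theorem exists_reps_of_free {P : Type*} [Group P] [Fintype P] {D : Type*} [MulAction P D]
    (s : Finset D) (hs : ∀ (y : P) (d : D), d ∈ s → y • d ∈ s)
    (hfree : ∀ (y : P) (d : D), d ∈ s → y • d = d → y = 1) :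
    ∃ t : Finset D, t ⊆ s ∧ ∀ {M : Type*} [AddCommMonoid M] (φ : D → M),
      ∑ d ∈ s, φ d = ∑ d ∈ t, ∑ y : P, φ (y • d) := by
  classical
  induction s using Finset.strongInduction with
  | H s ih =>
  rcases s.eq_empty_or_nonempty with rfl | ⟨d, hd⟩
  · exact ⟨∅, subset_rfl, fun φ => by simp⟩
  · -- remove the orbit of d
    let o : Finset D := Finset.univ.image (fun y : P => y • d)
    have hos : o ⊆ s := by
      intro x hx
      obtain ⟨y, _, rfl⟩ := Finset.mem_image.1 hx
      exact hs y d hd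
    have hdo : d ∈ o := Finset.mem_image.2 ⟨1, Finset.mem_univ _, one_smul _ _⟩
    have hss : s \ o ⊂ s := by
      refine Finset.ssubset_iff_subset_ne.2 ⟨Finset.sdiff_subset, fun h => ?_⟩
      have : d ∈ s \ o := by rw [h]; exact hd
      exact (Finset.mem_sdiff.1 this).2 hdo
    have hs' : ∀ (y : P) (e : D), e ∈ s \ o → y • e ∈ s \ o := by
      intro y e he
      rw [Finset.mem_sdiff] at he ⊢
      refine ⟨hs y e he.1, fun h => he.2 ?_⟩
      obtain ⟨z, _, hz⟩ := Finset.mem_image.1 h
      refine Finset.mem_image.2 ⟨y⁻¹ * z, Finset.mem_univ _, ?_⟩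
      have hz' : z • d = y • e := hz
      rw [mul_smul, hz', inv_smul_smul]
    obtain ⟨t, hts, ht⟩ := ih (s \ o) hss hs'
      (fun y e he => hfree y e (Finset.mem_sdiff.1 he).1)
    refine ⟨insert d t, ?_, fun φ => ?_⟩
    · intro x hx
      rcases Finset.mem_insert.1 hx with rfl | hx
      · exact hd
      · exact (Finset.mem_sdiff.1 (hts hx)).1
    · have hdt : d ∉ t := fun h => (Finset.mem_sdiff.1 (hts h)).2 hdo
      rw [Finset.sum_insert hdt, ← ht φ, ← Finset.sum_sdiff hos, add_comm]
      congr 1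
      rw [Finset.sum_image]
      intro y _ z _ hyz
      have hyz' : y • d = z • d := hyz
      have : (z⁻¹ * y) • d = d := by rw [mul_smul, hyz', inv_smul_smul]
      have := hfree _ _ hd this
      rw [inv_mul_eq_one] at this
      exact this.symm

section FreeSum

variable {F : Type*} [Field F] {G : Type*} [Group G] [Finite G] {P : Subgroup G}
  {V : Type*} [AddCommGroup V] [Module (MonoidAlgebra F G) V]

/-- A sum of an equivariant function over a free `P`-set is a trace. -/
theorem exists_tr_of_free {D : Type*} [MulAction P D] (s : Finset D)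
    (hs : ∀ (y : P) (d : D), d ∈ s → y • d ∈ s)
    (hfree : ∀ (y : P) (d : D), d ∈ s → y • d = d → y = 1)
    (φ : D → V) (hφ : ∀ (y : P) (d : D), d ∈ s → φ (y • d) = el F (y : G) • φ d) :
    ∃ a : V, tr P F • a = ∑ d ∈ s, φ d := by
  classical
  have : Fintype P := Fintype.ofFinite P
  obtain ⟨t, hts, ht⟩ := exists_reps_of_free s hs hfree
  refine ⟨∑ d ∈ t, φ d, ?_⟩
  rw [ht φ, Finset.smul_sum]
  refine Finset.sum_congr rfl fun d hd => ?_
  rw [tr_def, Finset.sum_smul]
  exact Finset.sum_congr rfl fun y _ => (hφ y d (hts hd)).symm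

/-- A sum of an invariant function over a free `P`-set is zero in characteristic `p = |P|`. -/
theorem sum_eq_zero_of_free {D : Type*} [MulAction P D] (s : Finset D)
    (hs : ∀ (y : P) (d : D), d ∈ s → y • d ∈ s)
    (hfree : ∀ (y : P) (d : D), d ∈ s → y • d = d → y = 1)
    (hP : (Nat.card P : F) = 0) (φ : D → F) (hφ : ∀ (y : P) (d : D), d ∈ s → φ (y • d) = φ d) :
    ∑ d ∈ s, φ d = 0 := by
  classical
  have : Fintype P := Fintype.ofFinite P
  obtain ⟨t, hts, ht⟩ := exists_reps_of_free s hs hfree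
  rw [ht φ]
  refine Finset.sum_eq_zero fun d hd => ?_
  rw [Finset.sum_congr rfl (g := fun _ => φ d) (fun y _ => hφ y d (hts hd)), Finset.sum_const,
    Finset.card_univ, ← Nat.card_eq_fintype_card, ← Nat.cast_smul_eq_nsmul F, hP, zero_smul]

end FreeSum

section Pow

variable {F : Type*} [Field F] {p : ℕ} [hp : Fact p.Prime] [CharP F p]
  {G : Type*} [Group G] {P : Subgroup G}

theorem charP_alg (F : Type*) [Field F] (p : ℕ) [CharP F p] (G : Type*) [Group G] :
    CharP (MonoidAlgebra F G) p :=
  charP_of_injective_algebraMap (FaithfulSMul.algebraMap_injective F (MonoidAlgebra F G)) p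

/-- In characteristic `p`, the sum over a group of order `p` generated by `x` is
`(x - 1) ^ (p - 1)`. -/
theorem tr_eq_pow [Finite G] (x : G) (hx : orderOf x = p) (hP : P = Subgroup.zpowers x) :
    tr P F = (el F x - 1) ^ (p - 1) := by
  classical
  subst hP
  have : Fintype (Subgroup.zpowers x) := Fintype.ofFinite _
  have h1 : tr (Subgroup.zpowers x) F = ∑ i ∈ Finset.range p, (el F x) ^ i := by
    rw [tr_def]
    have hfo : IsOfFinOrder x := isOfFinOrder_of_finite x
    rw [← Equiv.sum_comp (finEquivZPowers hfo), Finset.sum_range]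
    subst hx
    refine Finset.sum_congr rfl fun i _ => ?_
    rw [finEquivZPowers_apply]
    exact map_pow (MonoidAlgebra.of F G) x i
  rw [h1]
  -- compare in the commutative polynomial ring
  have key : (∑ i ∈ Finset.range p, (Polynomial.X : Polynomial F) ^ i) =
      (Polynomial.X - 1) ^ (p - 1) := by
    have h2 : (∑ i ∈ Finset.range p, (Polynomial.X : Polynomial F) ^ i) * (Polynomial.X - 1) =
        (Polynomial.X - 1) ^ (p - 1) * (Polynomial.X - 1) := by
      rw [geom_sum_mul, ← pow_succ, Nat.sub_add_cancel hp.out.one_le, sub_pow_char, one_pow]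
    exact mul_right_cancel₀ (Polynomial.X_sub_C_ne_zero (1 : F) ) (by simpa using h2)
  have := congrArg (Polynomial.aeval (el F x)) key
  simpa using this

theorem el_pow (x : G) (n : ℕ) : el F x ^ n = el F (x ^ n) :=
  (map_pow (MonoidAlgebra.of F G) x n).symm

/-- moving a normalizing element past a power of `x - 1` -/
theorem exists_el_mul_pow [Finite G] (x : G) (hP : P = Subgroup.zpowers x) {n : G}
    (hn : n ∈ Subgroup.normalizer (P : Set G)) (k : ℕ) :
    ∃ b : MonoidAlgebra F G, el F n * (el F x - 1) ^ k = (el F x - 1) ^ k * b := by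
  have hxP : x ∈ P := hP ▸ Subgroup.mem_zpowers x
  have h1 : n * x * n⁻¹ ∈ P := (Subgroup.mem_normalizer_iff.1 hn x).1 hxP
  rw [hP] at h1
  obtain ⟨r, hr⟩ := (mem_powers_iff_mem_zpowers.2 h1 : n * x * n⁻¹ ∈ Submonoid.powers x)
  have hr' : x ^ r = n * x * n⁻¹ := hr
  have h2 : el F n * (el F x - 1) = (el F (x ^ r) - 1) * el F n := by
    rw [mul_sub, sub_mul, mul_one, one_mul, el_mul, el_mul, hr']
    congr 2
    group
  have h3 : el F n * (el F x - 1) ^ k = (el F (x ^ r) - 1) ^ k * el F n := by
    have : SemiconjBy (el F n) (el F x - 1) (el F (x ^ r) - 1) := h2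
    exact (this.pow_right k)
  have h4 : el F (x ^ r) - 1 = (el F x - 1) * (∑ i ∈ Finset.range r, el F x ^ i) := by
    rw [mul_geom_sum, el_pow]
  have h5 : Commute (el F x - 1) (∑ i ∈ Finset.range r, el F x ^ i) := by
    refine Commute.sum_right _ _ _ fun i _ => ?_
    exact ((Commute.refl (el F x)).pow_right i).sub_left (Commute.one_left _)
  refine ⟨(∑ i ∈ Finset.range r, el F x ^ i) ^ k * el F n, ?_⟩
  rw [h3, h4, h5.mul_pow, mul_assoc]

end Pow

section Conj

variable {F : Type*} [Field F] {G : Type*} [Group G] {P : Subgroup G}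
  {V : Type*} [AddCommGroup V] [Module F V] [Module (MonoidAlgebra F G) V]

/-- conjugate of a map by a group element -/
noncomputable def cj (π : V →ₗ[F] V) (g : G) (s : V) : V := el F g • π (el F g⁻¹ • s)

theorem cj_def (π : V →ₗ[F] V) (g : G) (s : V) : cj π g s = el F g • π (el F g⁻¹ • s) := rfl

theorem cj_mul_of_comm {π : V →ₗ[F] V}
    (hπ : ∀ y ∈ P, ∀ s : V, π (el F y • s) = el F y • π s) (g : G) {y : G} (hy : y ∈ P) (s : V) :
    cj π (g * y) s = cj π g s := by
  rw [cj_def, cj_def, mul_inv_rev, ← el_mul, ← el_mul, mul_smul, mul_smul,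
    hπ _ (inv_mem hy), smul_smul (el F y), el_mul, mul_inv_cancel, el_one, one_smul]

theorem cj_mul_left (π : V →ₗ[F] V) (g h : G) (s : V) :
    cj π (h * g) (el F h • s) = el F h • cj π g s := by
  rw [cj_def, cj_def, mul_inv_rev, ← el_mul, ← el_mul, mul_smul, mul_smul,
    smul_smul (el F h⁻¹) (el F h), el_mul, inv_mul_cancel, el_one, one_smul]

end Conj

section Trace

variable {F : Type*} [Field F] {G : Type*} [Group G] [Finite G] {P : Subgroup G}
  {V : Type*} [AddCommGroup V] [Module F V] [Module (MonoidAlgebra F G) V]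
  [IsScalarTower F (MonoidAlgebra F G) V]

/-- The trace of a `P`-endomorphism is `G`-linear. -/
theorem exists_trace {π : V →ₗ[F] V}
    (hπ : ∀ y ∈ P, ∀ s : V, π (el F y • s) = el F y • π s) :
    ∃ θ : V →ₗ[MonoidAlgebra F G] V, ∀ s,
      θ s = ∑ᶠ q : G ⧸ P, cj π q.out s := by
  classical
  have : Fintype (G ⧸ P) := Fintype.ofFinite _
  let θ₀ : V →ₗ[F] V :=
    { toFun := fun s => ∑ q : G ⧸ P, cj π q.out s
      map_add' := fun a b => by
        rw [← Finset.sum_add_distrib]
        refine Finset.sum_congr rfl fun q _ => ?_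
        rw [cj_def, cj_def, cj_def, smul_add, map_add, smul_add]
      map_smul' := fun c a => by
        rw [RingHom.id_apply, Finset.smul_sum]
        refine Finset.sum_congr rfl fun q _ => ?_
        rw [cj_def, cj_def, smul_comm', map_smul, smul_comm'] }
  have hθ₀ : ∀ s, θ₀ s = ∑ q : G ⧸ P, cj π q.out s := fun s => rfl
  refine ⟨MonoidAlgebra.equivariantOfLinearOfComm θ₀ fun g v => ?_, fun s => ?_⟩
  · change θ₀ (el F g • v) = el F g • θ₀ v
    rw [hθ₀, hθ₀, Finset.smul_sum, ← Equiv.sum_comp (MulAction.toPerm g)]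
    refine Finset.sum_congr rfl fun q _ => ?_
    rw [MulAction.toPerm_apply]
    obtain ⟨y, hy, hyq⟩ := out_smul g q
    rw [hyq, cj_mul_of_comm hπ _ hy, cj_mul_left]
  · rw [finsum_eq_sum_of_fintype]
    exact hθ₀ s

end Trace

section Main

variable {F : Type*} [Field F] {p : ℕ} [hp : Fact p.Prime] [CharP F p]
  {G : Type*} [Group G] [Finite G] {P : Subgroup G}

omit [Finite G] hp [Field F] [CharP F p] in
/-- A subgroup of prime order is a TI-subgroup. -/
theorem mem_normalizer_of_conj_mem (hp' : p.Prime) (hP : Nat.card P = p) {y : G} (hyP : y ∈ P)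
    (hy : y ≠ 1) (g : G) (h : g⁻¹ * y * g ∈ P) : g ∈ Subgroup.normalizer (P : Set G) := by
  have hfin : Finite P := Nat.finite_of_card_ne_zero (by rw [hP]; exact hp'.ne_zero)
  have hgen : Subgroup.zpowers y = P := by
    apply Subgroup.eq_of_le_of_card_ge
    · rw [Subgroup.zpowers_le]; exact hyP
    · rw [Nat.card_zpowers, hP]
      have h3 : orderOf y = orderOf (⟨y, hyP⟩ : P) := (Subgroup.orderOf_coe (⟨y, hyP⟩ : P))
      have h4 : orderOf (⟨y, hyP⟩ : P) ∣ p := hP ▸ orderOf_dvd_natCard _
      rcases (Nat.dvd_prime hp').1 h4 with h5 | h5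
      · exact absurd (congrArg Subtype.val (orderOf_eq_one_iff.1 h5)) hy
      · rw [h3, h5]
  have hinv : g⁻¹ ∈ Subgroup.normalizer (P : Set G) := by
    have hmap : P.map (MulAut.conj g⁻¹).toMonoidHom ≤ P := by
      conv_lhs => rw [← hgen]
      rw [MonoidHom.map_zpowers, Subgroup.zpowers_le]
      change g⁻¹ * y * g⁻¹⁻¹ ∈ P
      rw [inv_inv]
      exact h
    have hmap' : P.map (MulAut.conj g⁻¹).toMonoidHom = P := by
      apply Subgroup.eq_of_le_of_card_ge hmap
      rw [Subgroup.card_map_of_injective (MulEquiv.injective _)]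
    exact Subgroup.mem_normalizer_iff_map_conj_eq.2 hmap'
  simpa using inv_mem hinv

omit [Finite G] hp [Field F] [CharP F p] in
/-- A subgroup of prime order acts freely on the cosets outside its normalizer. -/
theorem free_cosets (hp' : p.Prime) (hP : Nat.card P = p) (y : P) (q : G ⧸ P)
    (hq : q.out ∉ Subgroup.normalizer (P : Set G)) (h : y • q = q) : y = 1 := by
  by_contra hy
  apply hq
  have h1 : (y : G) • q = q := h
  rw [← QuotientGroup.out_eq' q] at h1
  have h2 : (QuotientGroup.mk ((y : G) * q.out) : G ⧸ P) = QuotientGroup.mk q.out := h1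
  rw [eq_comm, QuotientGroup.eq, ← mul_assoc] at h2
  exact mem_normalizer_of_conj_mem hp' hP y.2 (fun h0 => hy (Subtype.ext h0)) _ h2

-- The trace of a P-endomorphism on a P-fixed vector, modulo traces.
omit [CharP F p] in
theorem trace_apply {V : Type*} [AddCommGroup V] [Module F V] [Module (MonoidAlgebra F G) V]
    (hP : Nat.card P = p) {π : V →ₗ[F] V}
    (hπ : ∀ y ∈ P, ∀ s : V, π (el F y • s) = el F y • π s) {u : V}
    (hu : ∀ y ∈ P, el F y • u = u) :
    ∃ a : V, ∑ᶠ q : G ⧸ P, cj π q.out u = ∑ q ∈ reps P, cj π q.out u + tr P F • a := by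
  classical
  have : Fintype (G ⧸ P) := Fintype.ofFinite _
  have hcompl : ∀ q : G ⧸ P, q ∈ Finset.univ \ reps P ↔
      q.out ∉ Subgroup.normalizer (P : Set G) := by
    intro q
    rw [Finset.mem_sdiff, mem_reps]
    simp
  obtain ⟨a, ha⟩ := exists_tr_of_free (F := F) (P := P) (V := V)
    (Finset.univ \ reps P)
    (fun y q hq => by
      rw [Finset.mem_sdiff] at hq ⊢
      refine ⟨Finset.mem_univ _, fun h => hq.2 ?_⟩
      exact (smul_mem_reps (Subgroup.le_normalizer y.2)).1 h)
    (fun y q hq h => free_cosets hp.out hP y q ((hcompl q).1 hq) h)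
    (fun q => cj π q.out u)
    (fun y q hq => by
      obtain ⟨z, hz, hzq⟩ := out_smul (y : G) q
      have h1 : (y • q).out = (y : G) * q.out * z := hzq
      rw [h1, cj_mul_of_comm hπ _ hz]
      conv_lhs => rw [← hu y y.2]
      rw [cj_mul_left])
  refine ⟨a, ?_⟩
  rw [ha, finsum_eq_sum_of_fintype, add_comm, Finset.sum_sdiff (Finset.subset_univ _)]

end Main

end Cfsg.Agent.Blocks.CyclicLower2
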