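import Mathlib
import Cfsg.Agent.Blocks.CyclicLower
import Cfsg.Agent.Blocks.CyclicLower2

/-!
# Good vectors: uniqueness of the linear character, central characters
-/

set_option autoImplicit false

namespace Cfsg.Agent.Blocks.CyclicLower3

open MonoidAlgebra
open Cfsg.Agent.Blocks.CyclicLower Cfsg.Agent.Blocks.CyclicLower2

variable {F : Type*} [Field F] {p : ℕ} [hp : Fact p.Prime] [CharP F p]
  {G : Type*} [Group G] [Finite G] {P : Subgroup G}
  {V : Type*} [AddCommGroup V] [Module F V] [Module (MonoidAlgebra F G) V]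
  [IsScalarTower F (MonoidAlgebra F G) V]

omit [Module F V] [IsScalarTower F (MonoidAlgebra F G) V] in
/-- The height of a vector which is not a trace. -/
theorem exists_height (x : G) (hx : orderOf x = p) {v : V}
    (hv : ∀ a : V, tr P F • a ≠ v) :
    ∃ (h : ℕ) (v' : V), (el F x - 1) ^ h • v' = v ∧ ∀ a : V, (el F x - 1) ^ (h + 1) • a ≠ v := by
  classical
  have hex : ∃ k : ℕ, ∀ a : V, (el F x - 1) ^ (k + 1) • a ≠ v := by
    refine ⟨p - 1, fun a ha => hv 0 ?_⟩
    rw [Nat.sub_add_cancel hp.out.one_le] at ha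
    rw [smul_zero]
    have h0 : (el F x - 1) ^ p = 0 := by
      have hchar := charP_alg F p G
      rw [sub_pow_char_of_commute (p := p) (Commute.one_right (el F x)), one_pow, el_pow, ← hx,
        pow_orderOf_eq_one, el_one, sub_self]
    rw [h0, zero_smul] at ha
    exact ha
  refine ⟨Nat.find hex, ?_⟩
  by_cases h0 : Nat.find hex = 0
  · refine ⟨v, ?_, Nat.find_spec hex⟩
    rw [h0, pow_zero, one_smul]
  · have h1 := Nat.find_min hex (Nat.pred_lt h0)
    push Not at h1
    obtain ⟨a, ha⟩ := h1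
    refine ⟨a, ?_, Nat.find_spec hex⟩
    have : (Nat.find hex).pred + 1 = Nat.find hex := Nat.succ_pred_eq_of_ne_zero h0
    rw [this] at ha
    exact ha

/-- The `P`-endomorphism built from a functional. -/
noncomputable def pi0 (X : MonoidAlgebra F G) (h : ℕ) (f : V →ₗ[F] F) (v' : V) : V →ₗ[F] V where
  toFun := fun s => ∑ r ∈ Finset.range (h + 1), f (X ^ r • s) • (X ^ (h - r) • v')
  map_add' := fun a b => by
    rw [← Finset.sum_add_distrib]
    refine Finset.sum_congr rfl fun r _ => ?_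
    rw [smul_add, map_add, add_smul]
  map_smul' := fun c a => by
    rw [RingHom.id_apply, Finset.smul_sum]
    refine Finset.sum_congr rfl fun r _ => ?_
    rw [smul_comm', map_smul, smul_assoc]

omit [Finite G] hp [CharP F p] in
theorem pi0_apply (X : MonoidAlgebra F G) (h : ℕ) (f : V →ₗ[F] F) (v' s : V) :
    pi0 X h f v' s = ∑ r ∈ Finset.range (h + 1), f (X ^ r • s) • (X ^ (h - r) • v') := rfl

omit [Finite G] hp [CharP F p] in
theorem pi0_comm (X : MonoidAlgebra F G) (h : ℕ) (f : V →ₗ[F] F) (v' s : V)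
    (hf : ∀ a : V, f (X ^ (h + 1) • a) = 0) (hv' : X ^ (h + 1) • v' = 0) :
    pi0 X h f v' (X • s) = X • pi0 X h f v' s := by
  rw [pi0_apply, pi0_apply, Finset.smul_sum, Finset.sum_range_succ, Finset.sum_range_succ']
  have h1 : f (X ^ h • X • s) = 0 := by
    rw [smul_smul, ← pow_succ]; exact hf s
  have h2 : X • (f (X ^ 0 • s) • (X ^ (h - 0) • v')) = 0 := by
    rw [smul_comm', smul_smul, Nat.sub_zero, ← pow_succ', hv', smul_zero]
  rw [h1, zero_smul, add_zero, h2, add_zero]
  refine Finset.sum_congr rfl fun r hr => ?_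
  have hr' := Finset.mem_range.1 hr
  rw [smul_smul (X ^ r) X, ← pow_succ, smul_comm', smul_smul X, ← pow_succ']
  congr 3
  omega

/-- **Uniqueness.**  Two good vectors of a simple module have the same weight. -/
theorem eq_of_good [IsAlgClosed F] [FiniteDimensional F V]
    [IsSimpleModule (MonoidAlgebra F G) V] (hP : Nat.card P = p)
    (hN : ((reps P).card : F) ≠ 0) {lam mu : G → F} (hlam : IsLin P lam) (hmu : IsLin P mu)
    {v w : V} (hv : Good P lam v) (hw : Good P mu w) :
    ∀ n ∈ Subgroup.normalizer (P : Set G), lam n = mu n := by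
  classical
  by_contra hcon
  push Not at hcon
  obtain ⟨n₀, hn₀, hne⟩ := hcon
  -- a generator
  have hcyc : IsCyclic P := isCyclic_of_prime_card hP
  obtain ⟨⟨x, hxP⟩, hgen⟩ := hcyc.exists_generator
  have hPx : P = Subgroup.zpowers x := by
    ext y
    constructor
    · intro hy
      obtain ⟨k, hk⟩ := Subgroup.mem_zpowers_iff.1 (hgen ⟨y, hy⟩)
      exact Subgroup.mem_zpowers_iff.2 ⟨k, by simpa using congrArg Subtype.val hk⟩
    · intro hy
      obtain ⟨k, hk⟩ := Subgroup.mem_zpowers_iff.1 hy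
      rw [← hk]; exact zpow_mem hxP k
  have hx : orderOf x = p := by
    rw [← Nat.card_zpowers, ← hPx, hP]
  set X := el F x - 1 with hXdef
  obtain ⟨h, v', hv'v, hmax⟩ := exists_height x hx hv.2
  rw [← hXdef] at hv'v hmax
  have hXv : X • v = 0 := by
    rw [hXdef, sub_smul, one_smul, hv.1 x (Subgroup.le_normalizer hxP), hlam.triv x hxP, one_smul,
      sub_self]
  have hXw : X • w = 0 := by
    rw [hXdef, sub_smul, one_smul, hw.1 x (Subgroup.le_normalizer hxP), hmu.triv x hxP, one_smul,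
      sub_self]
  -- the subspace to be killed
  let L : V →ₗ[F] V :=
    { toFun := fun a => X ^ (h + 1) • a
      map_add' := fun a b => smul_add _ _ _
      map_smul' := fun c a => smul_comm' _ _ _ }
  let W : Submodule F V := LinearMap.range L ⊔ Submodule.span F {w}
  have hvW : v ∉ W := by
    intro hmem
    obtain ⟨a', ⟨a, rfl⟩, b', hb', hab⟩ := Submodule.mem_sup.1 hmem
    obtain ⟨c, rfl⟩ := Submodule.mem_span_singleton.1 hb'
    have hab' : X ^ (h + 1) • a + c • w = v := hab
    obtain ⟨b, hb⟩ := exists_el_mul_pow (F := F) x hPx hn₀ (h + 1)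
    rw [← hXdef] at hb
    have h1 : el F n₀ • v = lam n₀ • v := hv.1 n₀ hn₀
    have h2 : el F n₀ • v = X ^ (h + 1) • (b • a) + c • (mu n₀ • w) := by
      rw [← hab', smul_add, smul_smul, hb, mul_smul, smul_comm', hw.1 n₀ hn₀]
    have h3 : (lam n₀ - mu n₀) • v = X ^ (h + 1) • (b • a - mu n₀ • a) := by
      have h4 : c • (mu n₀ • w) = mu n₀ • (v - X ^ (h + 1) • a) := by
        rw [← hab', add_sub_cancel_left, smul_smul, smul_smul, mul_comm]
      rw [sub_smul, ← h1, h2, h4, smul_sub, smul_sub, smul_comm' (mu n₀)]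
      abel
    have hne' : lam n₀ - mu n₀ ≠ 0 := sub_ne_zero.2 hne
    apply hmax ((lam n₀ - mu n₀)⁻¹ • (b • a - mu n₀ • a))
    rw [smul_comm', ← h3, smul_smul, inv_mul_cancel₀ hne', one_smul]
  obtain ⟨f, hfv, hfW⟩ := Submodule.exists_dual_map_eq_bot_of_notMem hvW inferInstance
  have hfW' : ∀ a ∈ W, f a = 0 := by
    intro a ha
    have h9 : f a ∈ W.map f := Submodule.mem_map_of_mem ha
    exact (Submodule.mem_bot F).1 (hfW ▸ h9)
  have hfX : ∀ a : V, f (X ^ (h + 1) • a) = 0 := fun a =>
    hfW' _ (Submodule.mem_sup_left ⟨a, rfl⟩)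
  have hfw : f w = 0 := hfW' _ (Submodule.mem_sup_right (Submodule.mem_span_singleton_self w))
  have hXv' : X ^ (h + 1) • v' = 0 := by
    rw [pow_succ', mul_smul, hv'v, hXv]
  let π := pi0 X h f v'
  -- values on fixed vectors
  have hπfix : ∀ u : V, X • u = 0 → π u = f u • v := by
    intro u hu
    change pi0 X h f v' u = _
    rw [pi0_apply, Finset.sum_range_succ', Finset.sum_eq_zero, zero_add, pow_zero, one_smul,
      Nat.sub_zero, hv'v]
    intro r _
    rw [pow_succ, mul_smul, hu, smul_zero, map_zero, zero_smul]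
  -- π commutes with P
  have hπX : ∀ s, π (X • s) = X • π s := fun s => pi0_comm X h f v' s hfX hXv'
  have hπx : ∀ s, π (el F x • s) = el F x • π s := by
    intro s
    have h1 : el F x = X + 1 := by rw [hXdef, sub_add_cancel]
    rw [h1, add_smul, add_smul, map_add, hπX, one_smul, one_smul]
  have hπpow : ∀ (k : ℕ) (s : V), π (el F (x ^ k) • s) = el F (x ^ k) • π s := by
    intro k
    induction k with
    | zero => intro s; rw [pow_zero, el_one, one_smul, one_smul]
    | succ k ih =>
      intro s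
      rw [pow_succ, ← el_mul, mul_smul, mul_smul, ih, hπx]
  have hπ : ∀ y ∈ P, ∀ s : V, π (el F y • s) = el F y • π s := by
    intro y hy s
    rw [hPx] at hy
    obtain ⟨k, hk⟩ := (mem_powers_iff_mem_zpowers.2 hy : y ∈ Submonoid.powers x)
    have hk' : x ^ k = y := hk
    rw [← hk']
    exact hπpow k s
  obtain ⟨θ, hθ⟩ := exists_trace hπ
  -- Schur
  obtain ⟨c, hc⟩ := (IsSimpleModule.algebraMap_end_bijective_of_isAlgClosed
    (A := MonoidAlgebra F G) (V := V) F).2 θ
  have hc' : ∀ s : V, θ s = c • s := by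
    intro s
    rw [← hc]
    rfl
  -- evaluate at an eigenvector
  have hev : ∀ {nu : G → F} (hnu : IsLin P nu) {u : V} (hu : Eig P nu u), X • u = 0 →
      ∃ a : V, θ u = ∑ q ∈ reps P, f u • ((nu q.out)⁻¹ • (el F q.out • v)) + tr P F • a := by
    intro nu hnu u hu hXu
    have huP : ∀ y ∈ P, el F y • u = u := by
      intro y hy
      rw [hu y (Subgroup.le_normalizer hy), hnu.triv y hy, one_smul]
    obtain ⟨a, ha⟩ := trace_apply (F := F) hP hπ huP
    refine ⟨a, ?_⟩
    rw [hθ, ha]
    congr 1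
    refine Finset.sum_congr rfl fun q hq => ?_
    have hq' := mem_reps.1 hq
    have h1 : el F (q.out)⁻¹ • u = (nu q.out)⁻¹ • u := by
      rw [hu _ (inv_mem hq')]
      congr 1
      have := hnu.mul _ hq' _ (inv_mem hq')
      rw [mul_inv_cancel, hnu.triv 1 P.one_mem] at this
      exact (eq_inv_of_mul_eq_one_right this.symm)
    rw [cj_def, h1, map_smul, hπfix u hXu, smul_comm', smul_comm', smul_smul, smul_smul, mul_comm]
  obtain ⟨a, ha⟩ := hev hlam hv.1 hXv
  obtain ⟨b, hb⟩ := hev hmu hw.1 hXw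
  rw [hc', hfw] at hb
  simp only [zero_smul, Finset.sum_const_zero, zero_add] at hb
  -- c = 0
  have hc0 : c = 0 := by
    by_contra hc0
    apply hw.2 (c⁻¹ • b)
    rw [smul_comm', ← hb, smul_smul, inv_mul_cancel₀ hc0, one_smul]
  have hsum : ∑ q ∈ reps P, f v • ((lam q.out)⁻¹ • (el F q.out • v)) =
      (f v * ((reps P).card : F)) • v := by
    rw [Finset.sum_congr rfl (g := fun _ => f v • v), Finset.sum_const, mul_comm, mul_smul,
      Nat.cast_smul_eq_nsmul]
    intro q hq
    have hq' := mem_reps.1 hq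
    rw [hv.1 _ hq', smul_smul (lam q.out)⁻¹, inv_mul_cancel₀ (hlam.ne_zero hq'), one_smul]
  rw [hc', hc0, zero_smul, hsum] at ha
  have hk : f v * ((reps P).card : F) ≠ 0 := mul_ne_zero hfv hN
  apply hv.2 (-((f v * ((reps P).card : F))⁻¹ • a))
  have h5 : tr P F • a = -((f v * ((reps P).card : F)) • v) := by
    rw [eq_neg_iff_add_eq_zero, add_comm]; exact ha.symm
  rw [smul_neg, smul_comm', h5, smul_neg, neg_neg, smul_smul, inv_mul_cancel₀ hk, one_smul]

end Cfsg.Agent.Blocks.CyclicLower3
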