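import Mathlib
import Cfsg.Agent.Blocks.CyclicLower
import Cfsg.Agent.Blocks.CyclicLower2
import Cfsg.Agent.Blocks.CyclicLower3

/-!
# Good vectors: existence, and the central character of the simple module
-/

set_option autoImplicit false

namespace Cfsg.Agent.Blocks.CyclicLower4

open MonoidAlgebra
open Cfsg.Agent.Blocks.CyclicLower Cfsg.Agent.Blocks.CyclicLower2 Cfsg.Agent.Blocks.CyclicLower3

section Start

variable {F : Type*} [Field F] {G : Type*} [Group G] [Finite G] {P : Subgroup G} {lam : G → F}

omit [Finite G] in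
theorem coeff_one_comm (g : G) (a : MonoidAlgebra F G) :
    (el F g * a).coeff 1 = (a * el F g).coeff 1 := by
  change (single g (1 : F) * a).coeff 1 = (a * single g (1 : F)).coeff 1
  rw [coeff_single_mul_apply, coeff_mul_single_apply, one_mul, mul_one, mul_one, one_mul]

/-- the generator of the induced module -/
noncomputable def gen (P : Subgroup G) (lam : G → F) : MonoidAlgebra F G := by
  classical
  exact ∑ n ∈ (Set.toFinite {n : G | n ∈ Subgroup.normalizer (P : Set G)}).toFinset,
    (lam n)⁻¹ • el F n

theorem gen_def (P : Subgroup G) (lam : G → F) : gen P lam =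
    ∑ n ∈ (Set.toFinite {n : G | n ∈ Subgroup.normalizer (P : Set G)}).toFinset,
      (lam n)⁻¹ • el F n := rfl

theorem el_mul_gen (h : IsLin P lam) {m : G} (hm : m ∈ Subgroup.normalizer (P : Set G)) :
    el F m * gen P lam = lam m • gen P lam := by
  rw [gen_def, Finset.mul_sum, Finset.smul_sum]
  refine Finset.sum_bij (fun n _ => m * n) ?_ ?_ ?_ ?_
  · intro n hn
    have hn' : n ∈ Subgroup.normalizer (P : Set G) := by simpa using hn
    have := mul_mem hm hn'
    simpa using this
  · intro a _ b _ hab; exact mul_left_cancel hab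
  · intro b hb
    have hb' : b ∈ Subgroup.normalizer (P : Set G) := by simpa using hb
    have := mul_mem (inv_mem hm) hb'
    exact ⟨m⁻¹ * b, by simpa using this, by group⟩
  · intro n hn
    have hn' : n ∈ Subgroup.normalizer (P : Set G) := by simpa using hn
    rw [mul_smul_comm, el_mul, h.mul _ hm _ hn', smul_smul, mul_inv, ← mul_assoc,
      mul_inv_cancel₀ (h.ne_zero hm), one_mul]

theorem gen_mul_el (h : IsLin P lam) {y : G} (hy : y ∈ P) :
    gen P lam * el F y = gen P lam := by
  have hyN : y ∈ Subgroup.normalizer (P : Set G) := Subgroup.le_normalizer hy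
  rw [gen_def, Finset.sum_mul]
  refine Finset.sum_bij (fun n _ => n * y) ?_ ?_ ?_ ?_
  · intro n hn
    have hn' : n ∈ Subgroup.normalizer (P : Set G) := by simpa using hn
    have := mul_mem hn' hyN
    simpa using this
  · intro a _ b _ hab; exact mul_right_cancel hab
  · intro b hb
    have hb' : b ∈ Subgroup.normalizer (P : Set G) := by simpa using hb
    have := mul_mem hb' (inv_mem hyN)
    exact ⟨b * y⁻¹, by simpa using this, by group⟩
  · intro n hn
    have hn' : n ∈ Subgroup.normalizer (P : Set G) := by simpa using hn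
    rw [smul_mul_assoc, el_mul, h.mul _ hn' _ hyN, h.triv y hy, mul_one]

theorem gen_coeff_one (h : IsLin P lam) : (gen P lam).coeff 1 = 1 := by
  classical
  rw [gen_def, coeff_sum, Finsupp.finsetSum_apply, Finset.sum_eq_single 1]
  · rw [h.triv 1 P.one_mem, inv_one, one_smul]
    change (single (1 : G) (1 : F)).coeff 1 = 1
    rw [coeff_single, Finsupp.single_eq_same]
  · intro b _ hb
    rw [coeff_smul_apply]
    change (lam b)⁻¹ • (single b (1 : F)).coeff 1 = 0
    rw [coeff_single, Finsupp.single_eq_of_ne hb.symm, smul_zero]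
  · intro h1
    exact absurd (by simp) h1

/-- The induced module has a good vector. -/
theorem exists_good (h : IsLin P lam) (hP : (Nat.card P : F) = 0) :
    ∃ v : Submodule.span (MonoidAlgebra F G) {gen P lam}, Good P lam v := by
  classical
  have : Fintype P := Fintype.ofFinite P
  refine ⟨⟨gen P lam, Submodule.mem_span_singleton_self _⟩, fun n hn => ?_, ?_⟩
  · apply Subtype.ext
    exact el_mul_gen h hn
  · rintro ⟨a, ha⟩ hEq
    obtain ⟨b, rfl⟩ := Submodule.mem_span_singleton.1 ha
    have h1 : tr P F * (b * gen P lam) = gen P lam := congrArg Subtype.val hEq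
    have h2 : (tr P F * (b * gen P lam)).coeff 1 = 0 := by
      rw [tr_def, Finset.sum_mul, coeff_sum, Finsupp.finsetSum_apply]
      rw [Finset.sum_congr rfl (g := fun _ => (b * gen P lam).coeff 1)]
      · rw [Finset.sum_const, Finset.card_univ, ← Nat.card_eq_fintype_card,
          ← Nat.cast_smul_eq_nsmul F, hP, zero_smul]
      · intro y _
        rw [coeff_one_comm, mul_assoc, gen_mul_el h y.2]
    rw [h1, gen_coeff_one h] at h2
    exact one_ne_zero h2

/-- For every linear character there is a simple module with a good vector. -/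
theorem exists_simple (h : IsLin P lam) (hP : (Nat.card P : F) = 0)
    (hN : ((reps P).card : F) ≠ 0) :
    ∃ L : Submodule (MonoidAlgebra F G) (MonoidAlgebra F G),
        IsSimpleModule (MonoidAlgebra F G) (MonoidAlgebra F G ⧸ L) ∧
        ∃ w : MonoidAlgebra F G ⧸ L, Good P lam w := by
  obtain ⟨v, hv⟩ := exists_good h hP
  have : FiniteDimensional F (Submodule.span (MonoidAlgebra F G) {gen P lam}) :=
    inferInstanceAs (FiniteDimensional F
      ((Submodule.span (MonoidAlgebra F G) {gen P lam}).restrictScalars F))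
  exact exists_simple_of_good h hN _ _ rfl v hv

end Start

section Central

variable {F : Type*} [Field F] {p : ℕ} [hp : Fact p.Prime]
  {G : Type*} [Group G] [Finite G] {P : Subgroup G}

theorem exists_tr_of_free' {V : Type*} [AddCommGroup V] [Module (MonoidAlgebra F G) V]
    {D : Type*} (act : P → D → D) (h1 : ∀ d, act 1 d = d)
    (h2 : ∀ y z d, act (y * z) d = act y (act z d)) (s : Finset D)
    (hs : ∀ (y : P) (d : D), d ∈ s → act y d ∈ s)
    (hfree : ∀ (y : P) (d : D), d ∈ s → act y d = d → y = 1)
    (φ : D → V) (hφ : ∀ (y : P) (d : D), d ∈ s → φ (act y d) = el F (y : G) • φ d) :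
    ∃ a : V, tr P F • a = ∑ d ∈ s, φ d := by
  let _ : MulAction P D := { smul := act, one_smul := h1, mul_smul := h2 }
  exact exists_tr_of_free s hs hfree φ hφ

theorem sum_eq_zero_of_free' {D : Type*} (act : P → D → D) (h1 : ∀ d, act 1 d = d)
    (h2 : ∀ y z d, act (y * z) d = act y (act z d)) (s : Finset D)
    (hs : ∀ (y : P) (d : D), d ∈ s → act y d ∈ s)
    (hfree : ∀ (y : P) (d : D), d ∈ s → act y d = d → y = 1)
    (hP : (Nat.card P : F) = 0) (φ : D → F) (hφ : ∀ (y : P) (d : D), d ∈ s → φ (act y d) = φ d) :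
    ∑ d ∈ s, φ d = 0 := by
  let _ : MulAction P D := { smul := act, one_smul := h1, mul_smul := h2 }
  exact sum_eq_zero_of_free s hs hfree hP φ hφ

variable {V : Type*} [AddCommGroup V] [Module F V] [Module (MonoidAlgebra F G) V]
  [IsScalarTower F (MonoidAlgebra F G) V]

/-- A class function, as an element of the group algebra, acts on a simple module with a good
vector as the sum of its values. -/
theorem fun_smul [IsAlgClosed F] [CharP F p] [Fintype G] [FiniteDimensional F V]
    [IsSimpleModule (MonoidAlgebra F G) V] (hP : Nat.card P = p) {lam : G → F}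
    (hC : ∀ g ∈ Subgroup.centralizer (P : Set G), lam g = 1) {v : V} (hv : Good P lam v)
    (f : G → F) (hf : ∀ g h : G, f (h * g * h⁻¹) = f g) (s : V) :
    ∑ g : G, f g • (el F g • s) = (∑ g : G, f g) • s := by
  classical
  have : Fintype P := Fintype.ofFinite P
  have hPF : (Nat.card P : F) = 0 := by rw [hP]; exact CharP.cast_eq_zero F p
  -- the operator
  let θ₀ : V →ₗ[F] V :=
    { toFun := fun s => ∑ g : G, f g • (el F g • s)
      map_add' := fun a b => by
        rw [← Finset.sum_add_distrib]
        exact Finset.sum_congr rfl fun g _ => by rw [smul_add, smul_add]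
      map_smul' := fun c a => by
        rw [RingHom.id_apply, Finset.smul_sum]
        exact Finset.sum_congr rfl fun g _ => by
          rw [smul_comm', smul_smul, smul_smul, mul_comm] }
  have hθ₀ : ∀ s, θ₀ s = ∑ g : G, f g • (el F g • s) := fun s => rfl
  let θ : V →ₗ[MonoidAlgebra F G] V :=
    MonoidAlgebra.equivariantOfLinearOfComm θ₀ fun h v => by
      change θ₀ (el F h • v) = el F h • θ₀ v
      rw [hθ₀, hθ₀, Finset.smul_sum]
      rw [← Equiv.sum_comp (MulAut.conj h).toEquiv]
      refine Finset.sum_congr rfl fun g _ => ?_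
      simp only [MulEquiv.toEquiv_eq_coe, EquivLike.coe_coe, MulAut.conj_apply]
      rw [hf, smul_comm', smul_smul, smul_smul, el_mul, el_mul]
      congr 3
      group
  have hθ : ∀ s, θ s = θ₀ s := fun s => rfl
  obtain ⟨c, hc⟩ := (IsSimpleModule.algebraMap_end_bijective_of_isAlgClosed
    (A := MonoidAlgebra F G) (V := V) F).2 θ
  have hc' : ∀ s : V, θ₀ s = c • s := by
    intro s
    rw [← hθ, ← hc]
    rfl
  -- elements outside the centralizer
  let act : P → G → G := fun y g => (y : G) * g * (y : G)⁻¹
  have hact : ∀ (y : P) (g : G), act y g = (y : G) * g * (y : G)⁻¹ := fun _ _ => rfl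
  have act1 : ∀ g, act 1 g = g := by intro g; rw [hact]; simp
  have act2 : ∀ y z g, act (y * z) g = act y (act z g) := by
    intro y z g
    rw [hact, hact, hact, Subgroup.coe_mul]
    group
  let D : Finset G := Finset.univ.filter (fun g : G => g ∉ Subgroup.centralizer (P : Set G))
  have hD : ∀ g : G, g ∈ D ↔ g ∉ Subgroup.centralizer (P : Set G) := by
    intro g
    exact Finset.mem_filter.trans ⟨fun h => h.2, fun h => ⟨Finset.mem_univ _, h⟩⟩
  have hDs : ∀ (y : P) (d : G), d ∈ D → act y d ∈ D := by
    intro y d hd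
    rw [hact]
    refine (hD _).2 fun hcen => (hD d).1 hd ?_
    -- conjugation by y preserves the centralizer
    have hyC : (y : G)⁻¹ * ((y : G) * d * (y : G)⁻¹) * (y : G) ∈
        Subgroup.centralizer (P : Set G) := by
      rw [Subgroup.mem_centralizer_iff] at hcen ⊢
      intro z hz
      have h1 := hcen ((y : G) * z * (y : G)⁻¹)
        (P.mul_mem (P.mul_mem y.2 hz) (P.inv_mem y.2))
      have h2 : (y : G)⁻¹ * ((y : G) * z * (y : G)⁻¹ * ((y : G) * d * (y : G)⁻¹)) * (y : G) =
          (y : G)⁻¹ * ((y : G) * d * (y : G)⁻¹ * ((y : G) * z * (y : G)⁻¹)) * (y : G) :=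
        congrArg (fun t => (y : G)⁻¹ * t * (y : G)) h1
      calc z * ((y : G)⁻¹ * ((y : G) * d * (y : G)⁻¹) * (y : G))
          = (y : G)⁻¹ * ((y : G) * z * (y : G)⁻¹ * ((y : G) * d * (y : G)⁻¹)) *
            (y : G) := by group
        _ = (y : G)⁻¹ * ((y : G) * d * (y : G)⁻¹ * ((y : G) * z * (y : G)⁻¹)) *
            (y : G) := h2
        _ = _ := by group
    have h3 : (y : G)⁻¹ * ((y : G) * d * (y : G)⁻¹) * (y : G) = d := by group
    rw [h3] at hyC
    exact hyC
  have hDf : ∀ (y : P) (d : G), d ∈ D → act y d = d → y = 1 := by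
    intro y d hd h
    by_contra hy
    apply (hD d).1 hd
    rw [hact] at h
    have hcomm : (y : G) * d = d * y := by
      conv_rhs => rw [← h]
      group
    have hgen : Subgroup.zpowers (y : G) = P := by
      apply Subgroup.eq_of_le_of_card_ge
      · rw [Subgroup.zpowers_le]; exact y.2
      · rw [Nat.card_zpowers, hP]
        have h3 : orderOf (y : G) = orderOf y := Subgroup.orderOf_coe y
        have h4 : orderOf y ∣ p := hP ▸ orderOf_dvd_natCard y
        rcases (Nat.dvd_prime hp.out).1 h4 with h5 | h5
        · exact absurd (orderOf_eq_one_iff.1 h5) hy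
        · rw [h3, h5]
    rw [Subgroup.mem_centralizer_iff]
    intro z hz
    have hz' : z ∈ Subgroup.zpowers (y : G) := by rw [hgen]; exact hz
    obtain ⟨k, rfl⟩ := Subgroup.mem_zpowers_iff.1 hz'
    exact (Commute.zpow_left (show Commute (y : G) d from hcomm) k)
  have hfix : ∀ y ∈ P, el F y • v = v := by
    intro y hy
    rw [hv.1 y (Subgroup.le_normalizer hy), hC y, one_smul]
    -- P is cyclic so it centralizes itself
    have hcyc : IsCyclic P := isCyclic_of_prime_card hP
    rw [Subgroup.mem_centralizer_iff]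
    intro z hz
    have := hcyc.isMulCommutative.is_comm.comm (⟨z, hz⟩ : P) ⟨y, hy⟩
    exact congrArg Subtype.val this
  obtain ⟨a, ha⟩ := exists_tr_of_free' (F := F) (P := P) (V := V) act act1 act2 D hDs hDf
    (fun g => f g • (el F g • v))
    (fun y g hg => by
      change f ((y : G) * g * (y : G)⁻¹) • (el F ((y : G) * g * (y : G)⁻¹) • v) = _
      rw [hf, ← el_mul, ← el_mul, mul_smul, hfix _ (inv_mem y.2), mul_smul, smul_comm'])
  have hsum0 : ∑ g ∈ D, f g = 0 :=
    sum_eq_zero_of_free' (F := F) (P := P) act act1 act2 D hDs hDf hPF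
      (fun g => f g) (fun y g hg => hf _ _)
  -- evaluate on v
  have hcompl : ∀ g ∈ Finset.univ \ D, f g • (el F g • v) = f g • v := by
    intro g hg
    rw [Finset.mem_sdiff] at hg
    have hg' : g ∈ Subgroup.centralizer (P : Set G) := by
      by_contra hcon
      exact hg.2 ((hD _).2 hcon)
    have hgN : g ∈ Subgroup.normalizer (P : Set G) := by
      rw [Subgroup.mem_normalizer_iff]
      intro z
      constructor
      · intro hz
        have := Subgroup.mem_centralizer_iff.1 hg' z hz
        rw [← this, mul_assoc, mul_inv_cancel, mul_one]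
        exact hz
      · intro hz
        have := Subgroup.mem_centralizer_iff.1 hg' _ hz
        have h2 : g * z * g⁻¹ * g = g * z := by group
        rw [h2] at this
        have h3 := mul_left_cancel this
        rw [h3]
        exact hz
    rw [hv.1 _ hgN, hC _ hg', one_smul]
  have hev : c • v = (∑ g : G, f g) • v + tr P F • a := by
    rw [← hc', hθ₀, ha]
    have h1 : ∑ g : G, f g • (el F g • v) =
        ∑ g ∈ Finset.univ \ D, f g • (el F g • v) + ∑ g ∈ D, f g • (el F g • v) :=
      (Finset.sum_sdiff (Finset.subset_univ D)).symm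
    have h2 : ∑ g : G, f g = ∑ g ∈ Finset.univ \ D, f g := by
      have h3 : ∑ g : G, f g = ∑ g ∈ Finset.univ \ D, f g + ∑ g ∈ D, f g :=
        (Finset.sum_sdiff (Finset.subset_univ D)).symm
      rw [h3, hsum0, add_zero]
    rw [h1, h2, Finset.sum_smul, Finset.sum_congr rfl hcompl]
  have hceq : c = ∑ g : G, f g := by
    by_contra hne
    have hne' : c - ∑ g : G, f g ≠ 0 := sub_ne_zero.2 hne
    apply hv.2 ((c - ∑ g : G, f g)⁻¹ • a)
    have h1 : (c - ∑ g : G, f g) • v = tr P F • a := by
      rw [sub_smul, hev, add_sub_cancel_left]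
    rw [smul_comm', ← h1, smul_smul, inv_mul_cancel₀ hne', one_smul]
  rw [← hθ₀, hc', hceq]

end Central

end Cfsg.Agent.Blocks.CyclicLower4
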