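import Mathlib
import Cfsg.Agent.Blocks.CyclicLower
import Cfsg.Agent.Blocks.CyclicLower2
import Cfsg.Agent.Blocks.CyclicLower3
import Cfsg.Agent.Blocks.CyclicLower4
import Cfsg.Agent.Blocks.Induced

/-!
# Simple modules of the principal block, Sylow subgroup of prime order

If the Sylow `p`-subgroup `P` has order `p` and `e = |N(P) : C(P)|`, there are `e` pairwise
inequivalent irreducible representations over any algebraically closed field of characteristic
`p` on which every class sum acts as the size of the class.
-/

set_option autoImplicit false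

namespace Cfsg.Agent.Blocks.CyclicSimple

open MonoidAlgebra
open Cfsg.Agent.Blocks.CyclicLower Cfsg.Agent.Blocks.CyclicLower2 Cfsg.Agent.Blocks.CyclicLower3
open Cfsg.Agent.Blocks.CyclicLower4

section Transport

variable {F : Type*} [Field F] {G : Type*} [Group G]

/-- A linear equivalence commuting with the group elements is linear over the group algebra. -/
theorem exists_linearEquiv {S T : Type*} [AddCommGroup S] [Module F S]
    [Module (MonoidAlgebra F G) S] [IsScalarTower F (MonoidAlgebra F G) S]
    [AddCommGroup T] [Module F T]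
    [Module (MonoidAlgebra F G) T] [IsScalarTower F (MonoidAlgebra F G) T]
    (f : S ≃ₗ[F] T) (h : ∀ (g : G) (s : S), f (el F g • s) = el F g • f s) :
    Nonempty (S ≃ₗ[MonoidAlgebra F G] T) := by
  let φ : S →ₗ[MonoidAlgebra F G] T := MonoidAlgebra.equivariantOfLinearOfComm f.toLinearMap
    (fun g v => h g v)
  exact ⟨LinearEquiv.ofBijective φ f.bijective⟩

/-- A simple module as an irreducible matrix representation. -/
theorem exists_rep (S : Type*) [AddCommGroup S] [Module F S]
    [Module (MonoidAlgebra F G) S] [IsScalarTower F (MonoidAlgebra F G) S]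
    [FiniteDimensional F S] [hs : IsSimpleModule (MonoidAlgebra F G) S] :
    ∃ (n : ℕ) (ρ : Representation F G (Fin n → F)) (b : S ≃ₗ[F] (Fin n → F)),
      ρ.IsIrreducible ∧ ∀ (g : G) (s : S), b (el F g • s) = ρ g (b s) := by
  let b : S ≃ₗ[F] (Fin (Module.finrank F S) → F) :=
    LinearEquiv.ofFinrankEq _ _ (by rw [Module.finrank_fin_fun])
  let a : G → S →ₗ[F] S := fun g =>
    { toFun := fun s => el F g • s
      map_add' := fun x y => smul_add _ _ _
      map_smul' := fun c x => smul_comm' _ _ _ }
  have ha : ∀ g s, a g s = el F g • s := fun _ _ => rfl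
  let ρ : Representation F G (Fin (Module.finrank F S) → F) :=
    { toFun := fun g => b.toLinearMap ∘ₗ a g ∘ₗ b.symm.toLinearMap
      map_one' := by
        refine LinearMap.ext fun v => ?_
        simp only [LinearMap.comp_apply, LinearEquiv.coe_coe, ha, el_one, one_smul,
          LinearEquiv.apply_symm_apply, Module.End.one_apply]
      map_mul' := fun g h => by
        refine LinearMap.ext fun v => ?_
        simp only [LinearMap.comp_apply, LinearEquiv.coe_coe, ha, Module.End.mul_apply,
          LinearEquiv.symm_apply_apply, smul_smul, el_mul] }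
  have hρ : ∀ g v, ρ g v = b (el F g • b.symm v) := fun _ _ => rfl
  refine ⟨_, ρ, b, ?_, fun g s => ?_⟩
  · rw [Representation.irreducible_iff_isSimpleModule_asModule]
    obtain ⟨e⟩ := exists_linearEquiv (F := F) (G := G) (S := S) (T := ρ.asModule)
      (b.trans ρ.asModuleEquiv.symm) (fun g s => by
        have h1 : b (el F g • s) = ρ g (b s) := by
          rw [hρ, LinearEquiv.symm_apply_apply]
        rw [LinearEquiv.trans_apply, LinearEquiv.trans_apply, h1,
          Representation.asModuleEquiv_symm_map_rho])
    exact IsSimpleModule.congr e.symm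
  · rw [hρ, LinearEquiv.symm_apply_apply]

end Transport

section Count

variable {F : Type*} [Field F] {p : ℕ} [hp : Fact p.Prime] [CharP F p]
  {G : Type*} [Group G] [Finite G]

theorem card_reps_ne_zero (P : Sylow p G) (hP : Nat.card P = p) :
    ((reps (P : Subgroup G)).card : F) ≠ 0 := by
  classical
  have : Fintype (G ⧸ (P : Subgroup G)) := Fintype.ofFinite _
  have hPF : (Nat.card (P : Subgroup G) : F) = 0 := by
    rw [show Nat.card (P : Subgroup G) = p from hP]; exact CharP.cast_eq_zero F p
  have hcompl : ∀ q : G ⧸ (P : Subgroup G), q ∈ Finset.univ \ reps (P : Subgroup G) ↔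
      q.out ∉ Subgroup.normalizer ((P : Subgroup G) : Set G) := by
    intro q
    rw [Finset.mem_sdiff, mem_reps]
    simp
  have h0 : ∑ q ∈ Finset.univ \ reps (P : Subgroup G), (1 : F) = 0 :=
    sum_eq_zero_of_free (F := F) (P := (P : Subgroup G)) (Finset.univ \ reps (P : Subgroup G))
      (fun y q hq => by
        rw [Finset.mem_sdiff] at hq ⊢
        refine ⟨Finset.mem_univ _, fun h => hq.2 ?_⟩
        exact (smul_mem_reps (Subgroup.le_normalizer y.2)).1 h)
      (fun y q hq h => free_cosets hp.out hP y q ((hcompl q).1 hq) h)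
      hPF (fun _ => (1 : F)) (fun _ _ _ => rfl)
  have h1 : ((Finset.univ : Finset (G ⧸ (P : Subgroup G))).card : F) =
      ((reps (P : Subgroup G)).card : F) := by
    rw [Finset.sum_const, nsmul_eq_mul, mul_one] at h0
    rw [← Finset.card_sdiff_add_card_eq_card (Finset.subset_univ (reps (P : Subgroup G))),
      Nat.cast_add, h0, zero_add]
  rw [← h1, Finset.card_univ, ← Nat.card_eq_fintype_card]
  intro h2
  rw [CharP.cast_eq_zero_iff F p] at h2
  exact P.not_dvd_index h2

end Count

section Lin

variable {p : ℕ} [hp : Fact p.Prime] {G : Type*} [Group G] [Finite G]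

/-- The linear characters of `N(P)/C(P)`. -/
theorem exists_lins (P : Subgroup G) (hP : Nat.card P = p) (e : ℕ)
    (he : (Subgroup.centralizer (P : Set G)).relIndex (Subgroup.normalizer (P : Set G)) = e)
    (F : Type*) [Field F] [CharP F p] :
    ∃ lam : Fin e → G → F, (∀ i, IsLin P (lam i)) ∧
      (∀ i, ∀ g ∈ Subgroup.centralizer (P : Set G), lam i g = 1) ∧
      ∀ i j, (∀ n ∈ Subgroup.normalizer (P : Set G), lam i n = lam j n) → i = j := by
  classical
  subst hP
  have hcyc : IsCyclic P := isCyclic_of_prime_card rfl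
  let chi : Subgroup.normalizer (P : Set G) →* Fˣ :=
    (Units.map (ZMod.castHom (dvd_refl (Nat.card P)) F).toMonoidHom).comp
      ((IsCyclic.mulAutMulEquiv P).toMonoidHom.comp P.normalizerMonoidHom)
  have hinj : Function.Injective ((Units.map (ZMod.castHom (dvd_refl (Nat.card P))
      F).toMonoidHom).comp (IsCyclic.mulAutMulEquiv P).toMonoidHom) := by
    intro a b hab
    exact (IsCyclic.mulAutMulEquiv P).injective (Units.map_injective
      (RingHom.injective (ZMod.castHom (dvd_refl (Nat.card P)) F)) hab)
  have hker : chi.ker = (Subgroup.centralizer (P : Set G)).subgroupOf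
      (Subgroup.normalizer (P : Set G)) := by
    rw [← Subgroup.normalizerMonoidHom_ker]
    ext n
    rw [MonoidHom.mem_ker, MonoidHom.mem_ker]
    constructor
    · intro h
      apply hinj
      rw [map_one]
      exact h
    · intro h
      change ((Units.map (ZMod.castHom (dvd_refl (Nat.card P))
        F).toMonoidHom).comp (IsCyclic.mulAutMulEquiv P).toMonoidHom) (P.normalizerMonoidHom n) = 1
      rw [h, map_one]
  have hcard : Nat.card chi.range = e := by
    rw [← Subgroup.index_ker, hker]
    exact he
  have hfin : Finite chi.range := Set.finite_range chi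
  have hcycR : IsCyclic chi.range := inferInstance
  obtain ⟨⟨u, hu⟩, hgen⟩ := IsCyclic.exists_ofOrder_eq_natCard (α := chi.range)
  obtain ⟨n₀, rfl⟩ := hu
  have hord : orderOf (chi n₀) = e := by
    rw [← hcard, ← hgen]
    exact Subgroup.orderOf_coe (⟨chi n₀, ⟨n₀, rfl⟩⟩ : chi.range)
  let lam : Fin e → G → F := fun i g =>
    if h : g ∈ Subgroup.normalizer (P : Set G) then ((chi ⟨g, h⟩ ^ (i : ℕ) : Fˣ) : F) else 0
  have hlam : ∀ i (g : G) (h : g ∈ Subgroup.normalizer (P : Set G)),
      lam i g = ((chi ⟨g, h⟩ ^ (i : ℕ) : Fˣ) : F) := fun i g h => dif_pos h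
  have hC : ∀ i, ∀ g ∈ Subgroup.centralizer (P : Set G), lam i g = 1 := by
    intro i g hg
    have hgN : g ∈ Subgroup.normalizer (P : Set G) := by
      rw [Subgroup.mem_normalizer_iff]
      intro z
      constructor
      · intro hz
        have := Subgroup.mem_centralizer_iff.1 hg z hz
        rw [← this, mul_assoc, mul_inv_cancel, mul_one]
        exact hz
      · intro hz
        have := Subgroup.mem_centralizer_iff.1 hg _ hz
        have h2 : g * z * g⁻¹ * g = g * z := by group
        rw [h2] at this
        have h3 := mul_left_cancel this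
        rw [h3]
        exact hz
    rw [hlam i g hgN]
    have h1 : (⟨g, hgN⟩ : Subgroup.normalizer (P : Set G)) ∈ chi.ker := by
      rw [hker, Subgroup.mem_subgroupOf]
      exact hg
    rw [MonoidHom.mem_ker.1 h1, one_pow, Units.val_one]
  refine ⟨lam, fun i => ⟨?_, ?_⟩, hC, ?_⟩
  · intro m hm n hn
    rw [hlam i m hm, hlam i n hn, hlam i _ (mul_mem hm hn), ← Units.val_mul, ← mul_pow, ← map_mul]
    rfl
  · intro y hy
    apply hC i y
    rw [Subgroup.mem_centralizer_iff]
    intro z hz
    have := hcyc.isMulCommutative.is_comm.comm (⟨z, hz⟩ : P) ⟨y, hy⟩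
    exact congrArg Subtype.val this
  · intro i j hij
    have h1 := hij n₀ n₀.2
    rw [hlam i _ n₀.2, hlam j _ n₀.2] at h1
    have h2 : chi n₀ ^ (i : ℕ) = chi n₀ ^ (j : ℕ) := Units.ext h1
    exact Fin.ext (pow_injOn_Iio_orderOf (by rw [hord]; exact i.2) (by rw [hord]; exact j.2) h2)

end Lin

/-- **Simple modules in the principal block.** -/
theorem exists_simple {G : Type*} [Group G] [Finite G] (p : ℕ) [hp : Fact p.Prime]
    (P : Sylow p G) (hP : Nat.card P = p) (e : ℕ)
    (he : (Subgroup.centralizer ((P : Subgroup G) : Set G)).relIndex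
      (Subgroup.normalizer ((P : Subgroup G) : Set G)) = e)
    (F : Type*) [Field F] [IsAlgClosed F] [CharP F p] :
    ∃ (n : Fin e → ℕ) (ρ : ∀ i, Representation F G (Fin (n i) → F)),
      (∀ i, (ρ i).IsIrreducible) ∧
      (∀ i j, i ≠ j → IsEmpty (Representation.Equiv (ρ i) (ρ j))) ∧
      ∀ i (g : G), ∑ᶠ h ∈ {h : G | IsConj g h}, ρ i h =
        ((Subgroup.centralizer ({g} : Set G)).index : F) • 1 := by
  classical
  have : Fintype G := Fintype.ofFinite G
  obtain ⟨lam, hlin, hC, hdist⟩ := exists_lins (P : Subgroup G) hP e he F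
  have hPF : (Nat.card (P : Subgroup G) : F) = 0 := by
    rw [show Nat.card (P : Subgroup G) = p from hP]; exact CharP.cast_eq_zero F p
  have hN : ((reps (P : Subgroup G)).card : F) ≠ 0 := card_reps_ne_zero P hP
  choose L hL w hw using fun i =>
    Cfsg.Agent.Blocks.CyclicLower4.exists_simple (hlin i) hPF hN
  choose n ρ b hirr hb using fun i =>
    (have := hL i; exists_rep (F := F) (G := G) (MonoidAlgebra F G ⧸ L i))
  refine ⟨n, ρ, hirr, ?_, ?_⟩
  · intro i j hij
    refine ⟨fun φ => hij ?_⟩
    let f : (MonoidAlgebra F G ⧸ L i) ≃ₗ[F] (MonoidAlgebra F G ⧸ L j) :=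
      ((b i).trans φ.toLinearEquiv).trans (b j).symm
    obtain ⟨E⟩ := exists_linearEquiv (F := F) (G := G) f (fun g s => by
      apply (b j).injective
      rw [hb j]
      simp only [f, LinearEquiv.trans_apply, LinearEquiv.apply_symm_apply]
      rw [hb i]
      exact Representation.IntertwiningMap.isIntertwining _ _ φ.toIntertwiningMap g (b i s))
    have hE : Good (P : Subgroup G) (lam i) (E (w i)) := (hw i).map E
    have := hL j
    exact hdist i j (eq_of_good (p := p) hP hN (hlin i) (hlin j) hE (hw j))
  · intro i g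
    have := hL i
    have hfs := fun s => fun_smul (F := F) (p := p) (V := MonoidAlgebra F G ⧸ L i) hP (hC i) (hw i)
      (fun x : G => if IsConj g x then (1 : F) else 0)
      (fun x y => by
        have h1 : IsConj g (y * x * y⁻¹) ↔ IsConj g x := by
          have h2 : IsConj x (y * x * y⁻¹) := isConj_iff.2 ⟨y, rfl⟩
          exact ⟨fun k => k.trans h2.symm, fun k => k.trans h2⟩
        simp only [h1]) s
    have hsum : ∑ x : G, (if IsConj g x then (1 : F) else 0) =
        ((Subgroup.centralizer ({g} : Set G)).index : F) := by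
      rw [Finset.sum_boole]
      congr 1
      rw [← Cfsg.Agent.Blocks.Induced.ncard_conj_eq_index, Set.ncard_eq_toFinset_card _
        (Set.toFinite _)]
      congr 1
      ext y
      simp
    refine LinearMap.ext fun v => ?_
    obtain ⟨s, rfl⟩ := (b i).surjective v
    rw [finsum_mem_eq_finite_toFinset_sum _ (Set.toFinite _), LinearMap.sum_apply,
      LinearMap.smul_apply, Module.End.one_apply, ← hsum, ← map_smul, ← hfs s, map_sum]
    have h4 : ∀ x : G, b i ((if IsConj g x then (1 : F) else 0) • (el F x • s)) =
        if IsConj g x then ρ i x (b i s) else 0 := by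
      intro x
      split_ifs
      · rw [one_smul, hb i]
      · rw [zero_smul, map_zero]
    rw [Finset.sum_congr rfl fun x _ => h4 x, ← Finset.sum_filter]
    refine Finset.sum_congr ?_ fun x _ => rfl
    ext y
    simp

end Cfsg.Agent.Blocks.CyclicSimple
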