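import Mathlib
import Cfsg.Agent.Blocks.CyclicOrtho
import Cfsg.Agent.Blocks.CyclicClasses
import Cfsg.Agent.Blocks.BlockRank
import Cfsg.Agent.Blocks.CyclicSimple

/-!
# The lower bound for the number of characters in the principal block, `|P| = p`
-/

set_option autoImplicit false

namespace Cfsg.Agent.Blocks.CyclicAssembly

open Cfsg
open scoped ComplexConjugate
open Cfsg.Agent.Blocks.CyclicOrtho Cfsg.Agent.Blocks.CyclicClasses Cfsg.Agent.Blocks.Local
open Cfsg.Agent.Blocks.PPart Cfsg.Agent.Characters.Core Cfsg.Agent.Blocks.BlockRank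

universe u

/-- The residue field is algebraically closed. -/
theorem isAlgClosed_resField {M : Ideal AlgInt} [hMp : M.IsPrime] [hmax : M.IsMaximal] :
    IsAlgClosed (ResField M) := by
  classical
  apply IsAlgClosed.of_exists_root
  intro f hf hirr
  let φ : AlgInt →+* ResField M := (red M).comp (inclLocal M)
  have hφ : Function.Surjective φ := by
    intro x
    obtain ⟨a, ha⟩ := exists_algInt_redC_eq x
    refine ⟨a, ?_⟩
    rw [← ha, redC_def (memLocalRing_algInt a)]
    rfl
  -- lift to a monic polynomial over the algebraic integers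
  obtain ⟨g, hg, hgd, hgm⟩ := Polynomial.lifts_and_natDegree_eq_and_monic
    (f := φ) (p := f)
    ((Polynomial.mem_lifts f).mpr (by
      obtain ⟨g, hg⟩ := Polynomial.map_surjective φ hφ f
      exact ⟨g, hg⟩)) hf
  have hgC : (g.map (algebraMap AlgInt ℂ)).degree ≠ 0 := by
    intro h0
    rw [Polynomial.Monic.degree_map hgm, Polynomial.degree_eq_natDegree hgm.ne_zero, hgd] at h0
    have h1 : f.natDegree = 0 := by exact_mod_cast h0
    exact hirr.natDegree_pos.ne' h1
  obtain ⟨z, hz⟩ := IsAlgClosed.exists_root (g.map (algebraMap AlgInt ℂ)) hgC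
  have hzint : IsIntegral AlgInt z := by
    refine ⟨g, hgm, ?_⟩
    rw [Polynomial.IsRoot, Polynomial.eval_map] at hz
    exact hz
  have hzint' : IsIntegral ℤ z := isIntegral_trans (A := AlgInt) z hzint
  refine ⟨φ ⟨z, hzint'⟩, ?_⟩
  rw [← hg, Polynomial.eval_map]
  have h2 := Polynomial.hom_eval₂ g (RingHom.id AlgInt) (algebraMap AlgInt ℂ) ⟨z, hzint'⟩
  rw [Polynomial.IsRoot, Polynomial.eval_map] at hz
  have h5 : Polynomial.eval₂ (RingHom.id AlgInt) ⟨z, hzint'⟩ g = 0 := by
    apply Subtype.ext
    exact h2.trans hz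
  have h4 := Polynomial.hom_eval₂ g (RingHom.id AlgInt) φ ⟨z, hzint'⟩
  rw [RingHom.comp_id] at h4
  rw [← h4, h5, map_zero]

variable {G : Type u} [Group G] [Finite G] {p : ℕ} [Fact p.Prime] (P : Sylow p G)
  (hP : Nat.card P = p)

include hP

/-- The lower bound: `r` simple modules in the principal block give `r + t` irreducible
characters. -/
theorem add_card_cls_le {M : Ideal AlgInt} [hMp : M.IsPrime] (hM : IsPModular p M)
    {ι : Type*} [Finite ι] (n : ι → ℕ)
    (ρ : ∀ i, Representation (ResField M) G (Fin (n i) → ResField M))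
    (hirr : ∀ i, (ρ i).IsIrreducible)
    (hne : ∀ i j, i ≠ j → IsEmpty (Representation.Equiv (ρ i) (ρ j)))
    (hcen : ∀ i (g : G), ∑ᶠ h ∈ {h : G | IsConj g h}, ρ i h =
      ((Subgroup.centralizer ({g} : Set G)).index : ResField M) • 1) :
    Nat.card ι + Nat.card (Cls P) ≤ Nat.card (principalBlock M G) := by
  classical
  have := Fintype.ofFinite G
  have := finite_cls P
  have : Finite (IrrCharacter G) := finite_irr
  have := Fintype.ofFinite (IrrCharacter G)
  have hmax : M.IsMaximal := isMaximal_of_isPModular hM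
  have halg : IsAlgClosed (ResField M) := isAlgClosed_resField
  have hp0 : (p : ℂ) ≠ 0 := by exact_mod_cast (Fact.out : p.Prime).ne_zero
  have hone : IsIrrCharacter G (fun _ : G => (1 : ℂ)) := isIrr_one
  let χ₀ : IrrCharacter G := ⟨_, hone⟩
  have hB : IsPBlock M (principalBlock M G) := ⟨χ₀, rfl⟩
  have hχ₀ : χ₀ ∈ principalBlock M G := by
    show SameBlock M _ _
    exact Osima.sameBlock_refl hM _
  have hcc : ∀ g : G, centralChar (χ₀ : G → ℂ) g =
      ((Subgroup.centralizer ({g} : Set G)).index : ℂ) := by
    intro g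
    rw [Basic.centralChar_def]
    show _ * (1 : ℂ) / 1 = _
    rw [mul_one, div_one]
  -- class representatives
  choose x hxP hx1 hxc using fun c : Cls P => c.2
  let f : Cls P → G → ℂ := fun c g => if ∃ z, IsPPart p g z ∧ IsConj (x c) z then 1 else 0
  have hf01 : ∀ c g, f c g = if ∃ z, IsPPart p g z ∧ IsConj (x c) z then 1 else 0 := fun _ _ => rfl
  have hxx : ∀ c c' : Cls P, (∃ z, IsPPart p (x c') z ∧ IsConj (x c) z) ↔ c = c' := by
    intro c c'
    have hup : IsPPart p (x c') (x c') :=
      isPPart_of_isPGroup ⟨1, by rw [orderOf_eq P hP (hxP c') (hx1 c'), pow_one]⟩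
    constructor
    · rintro ⟨z, hz, hcz⟩
      rw [isPPart_unique hz hup] at hcz
      apply Subtype.ext
      rw [← hxc c, ← hxc c']
      exact ConjClasses.mk_eq_mk_iff_isConj.mpr hcz
    · rintro rfl
      exact ⟨_, hup, IsConj.refl _⟩
  refine add_le_card hM hB hχ₀ ρ hirr hne ?_ f ?_ ?_ ?_ ?_
  · intro i g
    rw [hcc, redC_natCast, ← hcen i g]
    have h1 : Central.classSum (ResField M) g =
        ∑ h, MonoidAlgebra.single h (Central.classInd (ResField M) g h) := by
      apply Central.ext_coeff
      intro y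
      rw [MonoidAlgebra.coeff_sum, Finsupp.finsetSum_apply]
      simp only [MonoidAlgebra.coeff_single, Finsupp.single_apply]
      rw [Finset.sum_ite_eq']
      simp only [Finset.mem_univ, if_true]
      rfl
    rw [h1, map_sum, finsum_mem_eq_finite_toFinset_sum _ (Set.toFinite _), ]
    have h2 : ∀ h : G, (ρ i).asAlgebraHom (MonoidAlgebra.single h
        (Central.classInd (ResField M) g h)) = if IsConj g h then ρ i h else 0 := by
      intro h
      rw [Representation.asAlgebraHom_single]
      unfold Central.classInd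
      split_ifs
      · rw [one_smul]
      · rw [zero_smul]
    rw [Finset.sum_congr rfl fun h _ => h2 h, ← Finset.sum_filter]
    refine Finset.sum_congr ?_ fun _ _ => rfl
    ext h
    simp
  · intro c
    have h1 : f c = ∑ χ : IrrCharacter G with χ ∈ principalBlock M G,
        ((p : ℂ)⁻¹ * conj ((χ : G → ℂ) (x c))) • (χ : G → ℂ) := by
      funext g
      have h2 := kernel_eq P hP hM (hxP c) (hx1 c) g
      rw [Orthogonality.finsum_mem_eq_sum_filter] at h2
      rw [Finset.sum_apply, hf01]
      have h4 : ∑ χ : IrrCharacter G with χ ∈ principalBlock M G,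
          (((p : ℂ)⁻¹ * conj ((χ : G → ℂ) (x c))) • (χ : G → ℂ)) g =
          (p : ℂ)⁻¹ * ∑ χ : IrrCharacter G with χ ∈ principalBlock M G,
            (χ : G → ℂ) g * conj ((χ : G → ℂ) (x c)) := by
        rw [Finset.mul_sum]
        refine Finset.sum_congr rfl fun χ _ => ?_
        rw [Pi.smul_apply, smul_eq_mul]
        ring
      rw [h4, h2]
      by_cases hz : ∃ z, IsPPart p g z ∧ IsConj (x c) z
      · rw [if_pos hz, if_pos hz, inv_mul_cancel₀ hp0]
      · rw [if_neg hz, if_neg hz, mul_zero]
    rw [h1]
    refine Submodule.sum_mem _ fun χ hχ => Submodule.smul_mem _ _ (Submodule.subset_span ?_)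
    exact ⟨χ, (Finset.mem_filter.1 hχ).2, rfl⟩
  · intro c g
    rw [hf01]
    split_ifs
    · exact memLocalRing_one
    · exact memLocalRing_zero
  · intro c g hg
    rw [hf01, if_neg, redC_zero]
    rintro ⟨z, hz, hxz⟩
    have h1 := isPPart_unique hz (isPPart_of_not_dvd hg)
    subst h1
    exact hx1 c (isConj_one_left.mp hxz)
  · have := Fintype.ofFinite (Cls P)
    rw [Fintype.linearIndependent_iff]
    intro a ha c'
    have h1 := congrFun ha (x c')
    rw [Finset.sum_apply] at h1
    have h2 : ∀ c : Cls P, (a c • fun g => redC M (f c g)) (x c') = if c = c' then a c else 0 := by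
      intro c
      rw [Pi.smul_apply, hf01]
      simp only [hxx c c']
      split_ifs
      · rw [redC_one, smul_eq_mul, mul_one]
      · rw [redC_zero, smul_zero]
    rw [Finset.sum_congr rfl fun c _ => h2 c, Finset.sum_ite_eq', if_pos (Finset.mem_univ _)] at h1
    exact h1

/-- The number of classes of nontrivial elements of `P` is `(p - 1) / e`. -/
theorem card_cls_eq (e : ℕ) (he : (Subgroup.centralizer ((P : Subgroup G) : Set G)).relIndex
    (Subgroup.normalizer ((P : Subgroup G) : Set G)) = e) : Nat.card (Cls P) = (p - 1) / e := by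
  have h1 := card_cls P hP
  rw [he] at h1
  have h2 : 0 < e := by
    rw [← he]
    exact Nat.pos_of_ne_zero Subgroup.index_ne_zero_of_finite
  rw [← h1, Nat.mul_div_cancel _ h2]

/-- **Lower bound**: the principal block has at least `e + (p - 1) / e` irreducible characters. -/
theorem lower {M : Ideal AlgInt} (hM : IsPModular p M) (e : ℕ)
    (he : (Subgroup.centralizer ((P : Subgroup G) : Set G)).relIndex
      (Subgroup.normalizer ((P : Subgroup G) : Set G)) = e) :
    e + (p - 1) / e ≤ Nat.card (principalBlock M G) := by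
  have hMp : M.IsPrime := isPrime_of_isPModular hM
  have hmax : M.IsMaximal := isMaximal_of_isPModular hM
  have halg : IsAlgClosed (ResField M) := isAlgClosed_resField
  have hch : CharP (ResField M) p := charP_resField hM
  obtain ⟨n, ρ, h1, h2, h3⟩ := CyclicSimple.exists_simple p P hP e he (ResField M)
  have h4 := add_card_cls_le P hP hM n ρ h1 h2 h3
  rw [Nat.card_fin, card_cls_eq P hP e he] at h4
  exact h4

end Cfsg.Agent.Blocks.CyclicAssembly
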