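import Mathlib

/-!
# Fourier analysis on `ZMod p` for Brauer's theorem on blocks with a Sylow subgroup of prime order
-/

set_option autoImplicit false

namespace Cfsg.Agent.Blocks.CyclicGram

open scoped ComplexConjugate
open ZMod

variable {p : ℕ} [hp : Fact p.Prime]

/-- conjugate of the standard additive character -/
theorem conj_std (m : ZMod p) : conj (stdAddChar m : ℂ) = stdAddChar (-m) := by
  rw [AddChar.map_neg_eq_inv, stdAddChar_apply, ← Circle.coe_inv_eq_conj, Circle.coe_inv]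

theorem sum_std (b : ZMod p) : ∑ m : ZMod p, (stdAddChar (m * b) : ℂ) = if b = 0 then (p : ℂ) else 0 := by
  have h := AddChar.sum_mulShift (R := ZMod p) (R' := ℂ) (ψ := stdAddChar) b
    (ZMod.isPrimitive_stdAddChar p)
  rw [ZMod.card] at h
  rw [h]
  push_cast
  rfl

/-- The twisted sum over one multiplier. -/
theorem sum_prod (i j : ZMod p) (hi : i ≠ 0) (hj : j ≠ 0) (h : ZMod p) (hh : h ≠ 0) :
    ∑ m : ZMod p, ((stdAddChar (-(i * m)) : ℂ) - 1) * ((stdAddChar (j * (h * m)) : ℂ) - 1) =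
      (p : ℂ) + if j * h = i then (p : ℂ) else 0 := by
  have h1 : ∀ m : ZMod p, ((stdAddChar (-(i * m)) : ℂ) - 1) * ((stdAddChar (j * (h * m)) : ℂ) - 1)
      = (stdAddChar (m * (j * h - i)) : ℂ) - stdAddChar (m * (-i)) -
        stdAddChar (m * (j * h)) + 1 := by
    intro m
    have h2 : (stdAddChar (m * (j * h - i)) : ℂ) =
        stdAddChar (-(i * m)) * stdAddChar (j * (h * m)) := by
      rw [← AddChar.map_add_eq_mul]
      congr 1
      ring
    have h3 : m * (-i) = -(i * m) := by ring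
    have h4 : m * (j * h) = j * (h * m) := by ring
    rw [h2, h3, h4]
    ring
  rw [Finset.sum_congr rfl fun m _ => h1 m, Finset.sum_add_distrib, Finset.sum_sub_distrib,
    Finset.sum_sub_distrib, sum_std, sum_std, sum_std, if_neg (neg_ne_zero.2 hi),
    if_neg (mul_ne_zero hj hh)]
  simp only [Finset.sum_const, Finset.card_univ, ZMod.card, nsmul_eq_mul, mul_one, sub_zero]
  by_cases hc : j * h = i
  · rw [if_pos hc, if_pos (sub_eq_zero.2 hc)]
  · rw [if_neg hc, if_neg (fun h' => hc (sub_eq_zero.1 h'))]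
    ring

/-- The Gram matrix. -/
theorem gram {I : Type*} [Fintype I] (H : Subgroup (ZMod p)ˣ) [Fintype H]
    (f : I → ZMod p → ℂ) (c : I → ZMod p → ℤ)
    (h1 : ∀ χ i, (c χ i : ℂ) = (p : ℂ)⁻¹ * ∑ m : ZMod p, f χ m * ((stdAddChar (-(i * m)) : ℂ) - 1))
    (h2 : ∀ m n : ZMod p, m ≠ 0 → n ≠ 0 → (∃ h ∈ H, n = (h : ZMod p) * m) →
      ∑ χ, f χ m * conj (f χ n) = (p : ℂ))
    (h3 : ∀ m n : ZMod p, m ≠ 0 → n ≠ 0 → (¬ ∃ h ∈ H, n = (h : ZMod p) * m) →
      ∑ χ, f χ m * conj (f χ n) = 0)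
    (i j : ZMod p) (hi : i ≠ 0) (hj : j ≠ 0) :
    ∑ χ, (c χ i : ℂ) * (c χ j : ℂ) =
      (Fintype.card H : ℂ) + (Finset.univ.filter fun h : H => j * ((h : (ZMod p)ˣ) : ZMod p) = i).card := by
  classical
  have hp0 : (p : ℂ) ≠ 0 := Nat.cast_ne_zero.2 hp.out.ne_zero
  have hstar : ∀ χ i, (c χ i : ℂ) =
      (p : ℂ)⁻¹ * ∑ m : ZMod p, conj (f χ m) * ((stdAddChar (i * m) : ℂ) - 1) := by
    intro χ i
    have h4 : (c χ i : ℂ) = conj (c χ i : ℂ) := by simp
    rw [h4, h1, map_mul, map_sum]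
    congr 1
    · simp
    · refine Finset.sum_congr rfl fun m _ => ?_
      rw [map_mul, map_sub, map_one, conj_std, neg_neg]
  -- expand
  have h5 : ∀ χ, (c χ i : ℂ) * (c χ j : ℂ) = (p : ℂ)⁻¹ * (p : ℂ)⁻¹ *
      ∑ m : ZMod p, ∑ n : ZMod p, ((stdAddChar (-(i * m)) : ℂ) - 1) *
        ((stdAddChar (j * n) : ℂ) - 1) * (f χ m * conj (f χ n)) := by
    intro χ
    rw [h1 χ i, hstar χ j, mul_mul_mul_comm, Finset.sum_mul_sum]
    congr 1
    refine Finset.sum_congr rfl fun m _ => Finset.sum_congr rfl fun n _ => ?_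
    ring
  rw [Finset.sum_congr rfl fun χ _ => h5 χ, ← Finset.mul_sum, Finset.sum_comm]
  have h6 : ∀ m : ZMod p, ∑ χ, ∑ n : ZMod p, ((stdAddChar (-(i * m)) : ℂ) - 1) *
        ((stdAddChar (j * n) : ℂ) - 1) * (f χ m * conj (f χ n)) =
      (p : ℂ) * ∑ h : H, ((stdAddChar (-(i * m)) : ℂ) - 1) *
        ((stdAddChar (j * (((h : (ZMod p)ˣ) : ZMod p) * m)) : ℂ) - 1) := by
    intro m
    by_cases hm : m = 0
    · subst hm
      simp
    rw [Finset.sum_comm]
    have h7 : ∀ n : ZMod p, ∑ χ, ((stdAddChar (-(i * m)) : ℂ) - 1) *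
        ((stdAddChar (j * n) : ℂ) - 1) * (f χ m * conj (f χ n)) =
        ((stdAddChar (-(i * m)) : ℂ) - 1) * ((stdAddChar (j * n) : ℂ) - 1) *
          ((p : ℂ) * (if ∃ h : H, ((h : (ZMod p)ˣ) : ZMod p) * m = n then 1 else 0)) := by
      intro n
      rw [← Finset.mul_sum]
      by_cases hn : n = 0
      · subst hn
        simp
      congr 1
      split_ifs with hex
      · obtain ⟨h, hh⟩ := hex
        rw [mul_one]
        exact h2 m n hm hn ⟨h, h.2, hh.symm⟩
      · rw [mul_zero]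
        exact h3 m n hm hn (fun ⟨h, hh, hh'⟩ => hex ⟨⟨h, hh⟩, hh'.symm⟩)
    rw [Finset.sum_congr rfl fun n _ => h7 n]
    have hinj : Function.Injective (fun h : H => ((h : (ZMod p)ˣ) : ZMod p) * m) := by
      intro h h' hh
      exact Subtype.ext (Units.ext (mul_right_cancel₀ hm hh))
    have h8 : ∀ n : ZMod p, ((stdAddChar (-(i * m)) : ℂ) - 1) * ((stdAddChar (j * n) : ℂ) - 1) *
          ((p : ℂ) * (if ∃ h : H, ((h : (ZMod p)ˣ) : ZMod p) * m = n then 1 else 0)) =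
        if n ∈ Finset.univ.image (fun h : H => ((h : (ZMod p)ˣ) : ZMod p) * m) then
          (p : ℂ) * (((stdAddChar (-(i * m)) : ℂ) - 1) * ((stdAddChar (j * n) : ℂ) - 1)) else 0 := by
      intro n
      have : (∃ h : H, ((h : (ZMod p)ˣ) : ZMod p) * m = n) ↔
          n ∈ Finset.univ.image (fun h : H => ((h : (ZMod p)ˣ) : ZMod p) * m) := by
        simp
      by_cases hc : ∃ h : H, ((h : (ZMod p)ˣ) : ZMod p) * m = n
      · rw [if_pos hc, if_pos (this.1 hc)]
        ring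
      · rw [if_neg hc, if_neg (fun h => hc (this.2 h))]
        ring
    rw [Finset.sum_congr rfl fun n _ => h8 n, Finset.sum_ite_mem, Finset.univ_inter,
      Finset.sum_image (fun x _ y _ h => hinj h), ← Finset.mul_sum]
  rw [Finset.sum_congr rfl fun m _ => h6 m, ← Finset.mul_sum, Finset.sum_comm]
  have h9 : ∀ h : H, ∑ m : ZMod p, ((stdAddChar (-(i * m)) : ℂ) - 1) *
        ((stdAddChar (j * (((h : (ZMod p)ˣ) : ZMod p) * m)) : ℂ) - 1) =
      (p : ℂ) + if j * ((h : (ZMod p)ˣ) : ZMod p) = i then (p : ℂ) else 0 := fun h =>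
    sum_prod i j hi hj _ (Units.ne_zero _)
  rw [Finset.sum_congr rfl fun h _ => h9 h, Finset.sum_add_distrib, Finset.sum_const,
    Finset.card_univ, nsmul_eq_mul, ← Finset.sum_filter, Finset.sum_const, nsmul_eq_mul]
  field_simp

end Cfsg.Agent.Blocks.CyclicGram
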