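import Cfsg.Agent.S0925
import Cfsg.Agent.S0947
import Cfsg.Agent.S0914
import Cfsg.Agent.S0135
import Cfsg.Agent.Blocks.Basic
import Cfsg.Agent.Characters.Core
import Cfsg.Agent.Characters.Linear
import Cfsg.Agent.Blocks.CyclicComb
import Cfsg.Agent.Blocks.CyclicGram
import Cfsg.Agent.Blocks.CyclicGroup

/-!
# Principal block of a group with Sylow `p`-subgroup of order `p`: the upper bound
-/

set_option autoImplicit false
set_option linter.unusedSectionVars false
set_option linter.unusedVariables false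
open Cfsg

namespace Cfsg.Agent.Blocks.CyclicUpper

open scoped ComplexConjugate
open ZMod
open Cfsg.Agent.Blocks.Basic Cfsg.Agent.Characters.Core
open Cfsg.Agent.Blocks.CyclicComb Cfsg.Agent.Blocks.CyclicGram Cfsg.Agent.Blocks.CyclicGroup

variable {G : Type*} [Group G] [Finite G] {p : ℕ} [hp : Fact p.Prime] {M : Ideal AlgInt}

theorem zpowers_eq (P : Sylow p G) (hP : Nat.card P = p) {x : G} (hx : x ∈ P) (hx1 : x ≠ 1) :
    Subgroup.zpowers x = (P : Subgroup G) := by
  have hle : Subgroup.zpowers x ≤ (P : Subgroup G) := by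
    rw [Subgroup.zpowers_le]; exact hx
  apply Subgroup.eq_of_le_of_card_ge hle
  have h1 : Nat.card (Subgroup.zpowers x) ∣ p := by
    have := Subgroup.card_dvd_of_le hle
    rwa [hP] at this
  rcases (Nat.dvd_prime hp.out).1 h1 with h | h
  · exfalso
    rw [Nat.card_zpowers, orderOf_eq_one_iff] at h
    exact hx1 h
  · rw [h, hP]

theorem orderOf_eq (P : Sylow p G) (hP : Nat.card P = p) {x : G} (hx : x ∈ P) (hx1 : x ≠ 1) :
    orderOf x = p := by
  rw [← Nat.card_zpowers, zpowers_eq P hP hx hx1, hP]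

/-- The principal block has square norm sum `p` at nontrivial elements of `P`. -/
theorem sum_sq (hM : IsPModular p M) (P : Sylow p G) (hP : Nat.card P = p) {x : G} (hx : x ∈ P)
    (hx1 : x ≠ 1) :
    ∑ᶠ ζ ∈ principalBlock M G, ‖(ζ : G → ℂ) x‖ ^ 2 = (p : ℝ) := by
  have hz := zpowers_eq P hP hx hx1
  set C := Subgroup.centralizer ({x} : Set G) with hC
  have hPC : (P : Subgroup G) ≤ C := by
    rw [← hz, Subgroup.zpowers_le, hC, Subgroup.mem_centralizer_iff]
    intro y hy
    rw [Set.mem_singleton_iff.1 hy]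
  have hcomm : ∀ c : C, ∀ y ∈ (P : Subgroup G), (c : G) * y = y * c := by
    intro c y hy
    rw [← hz] at hy
    obtain ⟨k, rfl⟩ := Subgroup.mem_zpowers_iff.1 hy
    have h1 : Commute (c : G) x :=
      ((Subgroup.mem_centralizer_iff.1 c.2) x (Set.mem_singleton x)).symm
    exact (h1.zpow_right k).eq
  let Q : Sylow p C := P.subtype hPC
  have hQmem : ∀ y : C, y ∈ (Q : Subgroup C) → (y : G) ∈ (P : Subgroup G) := by
    intro y hy
    exact Subgroup.mem_subgroupOf.1 hy
  have hQcard : Nat.card Q = p :=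
    (Nat.card_congr (Subgroup.subgroupOfEquivOfLe hPC).toEquiv).trans hP
  have hQN : Subgroup.normalizer ((Q : Subgroup C) : Set C) ≤
      Subgroup.centralizer ((Q : Subgroup C) : Set C) := by
    intro c _
    rw [Subgroup.mem_centralizer_iff]
    intro y hy
    exact Subtype.ext (hcomm c y (hQmem y hy)).symm
  have hK := MonoidHom.ker_transferSylow_isComplement' Q hQN
  have hKidx : (MonoidHom.transferSylow Q hQN).ker.index = p := by
    rw [hK.symm.index_eq_card]
    exact hQcard
  have hle : (MonoidHom.transferSylow Q hQN).ker ≤ pPrimeCore p C := by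
    apply le_sSup
    refine ⟨inferInstance, ?_⟩
    rw [Nat.coprime_comm]
    exact (Nat.Prime.coprime_iff_not_dvd hp.out).2 (MonoidHom.not_dvd_card_ker_transferSylow Q hQN)
  have hidx : ∃ k : ℕ, (pPrimeCore p C).index = p ^ k := by
    have h1 : (pPrimeCore p C).index ∣ p := by
      have := Subgroup.index_dvd_of_le hle
      rwa [hKidx] at this
    obtain ⟨k, _, hk⟩ := (Nat.dvd_prime_pow hp.out).1 (show (pPrimeCore p C).index ∣ p ^ 1 by
      rwa [pow_one])
    exact ⟨k, hk⟩
  have hord := orderOf_eq P hP hx hx1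
  have h1 := (Cfsg.Agent.S0947.result p M hM x ⟨1, by rw [hord, pow_one]⟩ hx1 1
    (by rw [orderOf_one]; exact hp.out.one_lt.ne' ∘ Nat.dvd_one.1)).2 hidx
  have h2 : (p : ℕ) ^ (Nat.card C).factorization p = p :=
    (Q.card_eq_multiplicity).symm.trans hQcard
  simp only [OneMemClass.coe_one, mul_one] at h1
  rw [h1]
  rw [h2]

theorem conj_irr (χ : IrrCharacter G) (g : G) : conj ((χ : G → ℂ) g) = (χ : G → ℂ) g⁻¹ :=
  (isCharacter_apply_inv (isIrr_isCharacter χ.2) g).symm

theorem sum_mul_conj_of_isConj (hM : IsPModular p M) (P : Sylow p G) (hP : Nat.card P = p)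
    [Fintype (principalBlock M G)] {x y : G} (hx : x ∈ P) (hx1 : x ≠ 1) (hxy : IsConj x y) :
    ∑ χ : principalBlock M G, ((χ : IrrCharacter G) : G → ℂ) x *
      conj (((χ : IrrCharacter G) : G → ℂ) y) = (p : ℂ) := by
  have h1 := sum_sq hM P hP hx hx1
  rw [← finsum_set_coe_eq_finsum_mem, finsum_eq_sum_of_fintype] at h1
  have h2 : ∀ χ : principalBlock M G, ((χ : IrrCharacter G) : G → ℂ) x *
      conj (((χ : IrrCharacter G) : G → ℂ) y) =
      ((‖((χ : IrrCharacter G) : G → ℂ) x‖ ^ 2 : ℝ) : ℂ) := by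
    intro χ
    rw [← irr_isConj (χ : IrrCharacter G).2 hxy, Complex.mul_conj, Complex.normSq_eq_norm_sq]
  rw [Finset.sum_congr rfl fun χ _ => h2 χ, ← Complex.ofReal_sum, h1]
  simp

theorem isPPart_self {x : G} (hx : orderOf x = p) : IsPPart p x x :=
  ⟨1, mul_one x, Commute.one_right x, ⟨1, by rw [hx, pow_one]⟩, by
    rw [orderOf_one]; exact hp.out.one_lt.ne' ∘ Nat.dvd_one.1⟩

theorem isPBlock_principal : IsPBlock M (principalBlock M G) :=
  ⟨⟨fun _ => 1, isIrrCharacter_one⟩, rfl⟩

theorem sum_mul_conj_of_not_isConj (hM : IsPModular p M) (P : Sylow p G) (hP : Nat.card P = p)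
    [Fintype (principalBlock M G)] {x y : G} (hx : x ∈ P) (hx1 : x ≠ 1) (hy : y ∈ P)
    (hy1 : y ≠ 1) (hxy : ¬ IsConj x y) :
    ∑ χ : principalBlock M G, ((χ : IrrCharacter G) : G → ℂ) x *
      conj (((χ : IrrCharacter G) : G → ℂ) y) = 0 := by
  have h1 := (Cfsg.Agent.S0925.result p M hM (G := G)).2 x y x y
    (isPPart_self (orderOf_eq P hP hx hx1)) (isPPart_self (orderOf_eq P hP hy hy1)) hxy
    (principalBlock M G) isPBlock_principal
  rw [← finsum_set_coe_eq_finsum_mem, finsum_eq_sum_of_fintype] at h1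
  rw [← h1]
  exact Finset.sum_congr rfl fun χ _ => by rw [conj_irr]

/-! ### Multiplicities -/

/-- The homomorphism `Multiplicative (ZMod p) →* G` given by `u z`. -/
def uHom (z : G) (hz : orderOf z = p) : Multiplicative (ZMod p) →* G where
  toFun a := u z (Multiplicative.toAdd a)
  map_one' := u_zero
  map_mul' a b := u_add hz _ _

theorem exists_mult (χ : IrrCharacter G) {z : G} (hz : orderOf z = p) (i : ZMod p) :
    ∃ n : ℕ, (p : ℂ)⁻¹ * ∑ m : ZMod p, (χ : G → ℂ) (u z m) * (stdAddChar (-(i * m)) : ℂ) = n := by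
  have h1 : IsCharacter (Multiplicative (ZMod p)) ((χ : G → ℂ) ∘ uHom z hz) :=
    isCharacter_comp (uHom z hz) (isIrr_isCharacter χ.2)
  have h2 : IsCharacter (Multiplicative (ZMod p)) (fun g =>
      (((AddChar.mulShift (stdAddChar (N := p)) i).toMonoidHom.toHomUnits g : ℂˣ) : ℂ)) :=
    Cfsg.Agent.Characters.Linear.isCharacter_hom _
  obtain ⟨n, hn⟩ := classInner_isNat h1 h2
  refine ⟨n, ?_⟩
  rw [← hn]
  unfold classInner
  have hc : (Nat.card (Multiplicative (ZMod p)) : ℂ) = p := by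
    rw [Nat.card_congr (Multiplicative.toAdd (α := ZMod p)), Nat.card_zmod]
  rw [hc]
  congr 1
  rw [← Equiv.sum_comp (Multiplicative.toAdd (α := ZMod p))]
  refine Finset.sum_congr rfl fun a _ => ?_
  show _ = (χ : G → ℂ) (u z (Multiplicative.toAdd a)) *
    conj (stdAddChar (i * Multiplicative.toAdd a) : ℂ)
  rw [conj_std]

theorem charDegree_dvd {χ : G → ℂ} (hχ : IsIrrCharacter G χ) : charDegree χ ∣ Nat.card G := by
  obtain ⟨n, ρ, hρ, rfl⟩ := hχ
  have h1 : ρ.character 1 = (Module.finrank ℂ (Fin n → ℂ) : ℂ) := Representation.char_one ρ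
  rw [charDegree_of_eq h1]
  have := hρ
  exact Cfsg.Agent.S0135.result ρ

/-- Fourier inversion. -/
theorem inversion (f : ZMod p → ℂ) (m : ZMod p) :
    ∑ i : ZMod p, ((p : ℂ)⁻¹ * ∑ n : ZMod p, f n * (stdAddChar (-(i * n)) : ℂ)) *
      (stdAddChar (i * m) : ℂ) = f m := by
  have hp0 : (p : ℂ) ≠ 0 := Nat.cast_ne_zero.2 hp.out.ne_zero
  have h1 : ∀ i : ZMod p, ((p : ℂ)⁻¹ * ∑ n : ZMod p, f n * (stdAddChar (-(i * n)) : ℂ)) *
      (stdAddChar (i * m) : ℂ) =
      (p : ℂ)⁻¹ * ∑ n : ZMod p, f n * (stdAddChar (i * (m - n)) : ℂ) := by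
    intro i
    rw [mul_assoc, Finset.sum_mul]
    congr 1
    refine Finset.sum_congr rfl fun n _ => ?_
    rw [mul_assoc, ← AddChar.map_add_eq_mul]
    congr 2
    ring
  rw [Finset.sum_congr rfl fun i _ => h1 i, ← Finset.mul_sum, Finset.sum_comm]
  have h2 : ∀ n : ZMod p, ∑ i : ZMod p, f n * (stdAddChar (i * (m - n)) : ℂ) =
      if n = m then f n * (p : ℂ) else 0 := by
    intro n
    rw [← Finset.mul_sum, sum_std]
    by_cases h : n = m
    · rw [if_pos h, if_pos (by rw [h, sub_self])]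
    · rw [if_neg h, if_neg (fun h' => h (sub_eq_zero.1 h').symm), mul_zero]
  rw [Finset.sum_congr rfl fun n _ => h2 n, Finset.sum_ite_eq' Finset.univ m]
  simp only [Finset.mem_univ, if_true]
  field_simp

open scoped Classical in
/-- The structure of the principal block on `P`, if it has at least `e + (p - 1) / e` members:
the values on `P \ {1}` are given by an integer matrix `a` with rows `±(1, …, 1)` or `±` a unit
vector. -/
theorem structure_thm (hM : IsPModular p M) (P : Sylow p G) (hP : Nat.card P = p) (e : ℕ)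
    (he : (Subgroup.centralizer ((P : Subgroup G) : Set G)).relIndex
      (Subgroup.normalizer ((P : Subgroup G) : Set G)) = e)
    (hlow : e + (p - 1) / e ≤ Nat.card (principalBlock M G)) :
    ∃ (z : G) (hz : orderOf z = p) (a : principalBlock M G → ((ZMod p)ˣ ⧸ fuse z hz) → ℤ)
      (n : principalBlock M G → ℕ),
      Subgroup.zpowers z = (P : Subgroup G) ∧ Nat.card (fuse z hz) = e ∧
      Nat.card ((ZMod p)ˣ ⧸ fuse z hz) = (p - 1) / e ∧ e * ((p - 1) / e) = p - 1 ∧
      Nat.card (principalBlock M G) = e + (p - 1) / e ∧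
      (∀ χ, (∀ i, a χ i = 1) ∨ (∀ i, a χ i = -1) ∨
        (∃ i₀, ∀ i, a χ i = if i = i₀ then 1 else 0) ∨
        (∃ i₀, ∀ i, a χ i = if i = i₀ then -1 else 0)) ∧
      (∀ i j, ∑ᶠ χ, a χ i * a χ j = (e : ℤ) + if i = j then 1 else 0) ∧
      (∀ (χ : principalBlock M G) (m : ZMod p), m ≠ 0 →
        ((χ : IrrCharacter G) : G → ℂ) (u z m) =
        ∑ i : (ZMod p)ˣ, (a χ (QuotientGroup.mk i) : ℂ) * (stdAddChar ((i : ZMod p) * m) : ℂ)) ∧
      (∀ χ : principalBlock M G,
        (charDegree ((χ : IrrCharacter G) : G → ℂ) : ℤ) = p * n χ + e * ∑ᶠ ω, a χ ω) := by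
  classical
  have hMp : M.IsPrime := hM.2.1.isPrime
  have hfin := finite_irr (G := G)
  have : Fintype (principalBlock M G) := Fintype.ofFinite _
  have hp0 : (p : ℂ) ≠ 0 := Nat.cast_ne_zero.2 hp.out.ne_zero
  -- a generator of `P`
  obtain ⟨z, hzP, hz1⟩ : ∃ z ∈ (P : Subgroup G), z ≠ 1 := by
    by_contra h
    push Not at h
    have : (P : Subgroup G) = ⊥ := (Subgroup.eq_bot_iff_forall _).2 h
    rw [this, Subgroup.card_bot] at hP
    exact hp.out.one_lt.ne hP
  have hz : orderOf z = p := orderOf_eq P hP hzP hz1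
  have hzP' : Subgroup.zpowers z = (P : Subgroup G) := zpowers_eq P hP hzP hz1
  have huP : ∀ m : ZMod p, u z m ∈ P := fun m => by
    have := u_mem z m
    rw [hzP'] at this
    exact this
  have hu1 : ∀ m : ZMod p, m ≠ 0 → u z m ≠ 1 := fun m hm h => hm ((u_eq_one_iff hz).1 h)
  set H := fuse z hz with hH
  have hHcard : Nat.card H = e := by rw [hH, card_fuse hz _ hzP', he]
  have : Fintype H := Fintype.ofFinite _
  have hHcard' : Fintype.card H = e := by rw [← Nat.card_eq_fintype_card, hHcard]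
  have hepos : 0 < e := by rw [← hHcard]; exact Nat.card_pos
  let Ω := (ZMod p)ˣ ⧸ H
  have : Fintype Ω := Fintype.ofFinite _
  have hunits : Fintype.card (ZMod p)ˣ = p - 1 := ZMod.card_units p
  have hmulcard : e * Fintype.card Ω = p - 1 := by
    have := Subgroup.card_eq_card_quotient_mul_card_subgroup H
    rw [Nat.card_eq_fintype_card, hunits, hHcard, Nat.card_eq_fintype_card] at this
    rw [this, mul_comm]
  have hΩ : (p - 1) / e = Fintype.card Ω := by
    rw [← hmulcard, Nat.mul_div_cancel_left _ hepos]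
  -- multiplicities
  have hex : ∀ (χ : principalBlock M G) (i : ZMod p), ∃ n : ℕ,
      (p : ℂ)⁻¹ * ∑ m : ZMod p, ((χ : IrrCharacter G) : G → ℂ) (u z m) *
        (stdAddChar (-(i * m)) : ℂ) = n := fun χ i => exists_mult (χ : IrrCharacter G) hz i
  choose mul hmul using hex
  let f : principalBlock M G → ZMod p → ℂ := fun χ m => ((χ : IrrCharacter G) : G → ℂ) (u z m)
  let c : principalBlock M G → ZMod p → ℤ := fun χ i => (mul χ i : ℤ) - mul χ 0
  have hc : ∀ χ i, (c χ i : ℂ) =
      (p : ℂ)⁻¹ * ∑ m : ZMod p, f χ m * ((stdAddChar (-(i * m)) : ℂ) - 1) := by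
    intro χ i
    have h1 : (c χ i : ℂ) = (mul χ i : ℂ) - (mul χ 0 : ℂ) := by
      show (((mul χ i : ℤ) - (mul χ 0 : ℤ) : ℤ) : ℂ) = _
      push_cast
      rfl
    rw [h1, ← hmul, ← hmul, ← mul_sub, ← Finset.sum_sub_distrib]
    congr 1
    refine Finset.sum_congr rfl fun m _ => ?_
    rw [zero_mul, neg_zero, AddChar.map_zero_eq_one, mul_sub]
  have hgram := gram H f c hc
    (fun m n hm hn h => sum_mul_conj_of_isConj hM P hP (huP m) (hu1 m hm)
      ((isConj_u_iff hz hm hn).2 h))
    (fun m n hm hn h => sum_mul_conj_of_not_isConj hM P hP (huP m) (hu1 m hm) (huP n) (hu1 n hn)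
      (fun h' => h ((isConj_u_iff hz hm hn).1 h')))
  -- invariance
  have hfinv : ∀ χ, ∀ h ∈ H, ∀ m : ZMod p, f χ ((h : ZMod p) * m) = f χ m := by
    intro χ h hh m
    by_cases hm : m = 0
    · rw [hm, mul_zero]
    · have h1 : IsConj (u z m) (u z ((h : ZMod p) * m)) :=
        (isConj_u_iff hz hm (mul_ne_zero (Units.ne_zero h) hm)).2 ⟨h, hh, rfl⟩
      exact (irr_isConj (χ : IrrCharacter G).2 h1).symm
  have hcinv : ∀ χ, ∀ h ∈ H, ∀ i : ZMod p, c χ (i * (h : ZMod p)) = c χ i := by
    intro χ h hh i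
    have h1 : (c χ (i * (h : ZMod p)) : ℂ) = (c χ i : ℂ) := by
      rw [hc, hc]
      congr 1
      rw [← Equiv.sum_comp (Units.mulLeft h)
        (fun m => f χ m * ((stdAddChar (-(i * m)) : ℂ) - 1))]
      refine Finset.sum_congr rfl fun m _ => ?_
      rw [Units.mulLeft_apply, hfinv χ h hh m, mul_assoc]
    exact_mod_cast h1
  let a : principalBlock M G → Ω → ℤ := fun χ ω => c χ ((ω.out : (ZMod p)ˣ) : ZMod p)
  have hca : ∀ χ (i : (ZMod p)ˣ), c χ (i : ZMod p) = a χ (QuotientGroup.mk i) := by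
    intro χ i
    have h1 : (QuotientGroup.mk ((QuotientGroup.mk i : Ω).out) : Ω) = QuotientGroup.mk i :=
      QuotientGroup.out_eq' _
    rw [QuotientGroup.eq] at h1
    have h2 := hcinv χ _ h1 (((QuotientGroup.mk i : Ω).out : (ZMod p)ˣ) : ZMod p)
    rw [← Units.val_mul, mul_inv_cancel_left] at h2
    exact h2
  have hgrama : ∀ ω ω' : Ω, ∑ χ, a χ ω * a χ ω' = (e : ℤ) + if ω = ω' then 1 else 0 := by
    intro ω ω'
    have h1 := hgram ((ω.out : (ZMod p)ˣ) : ZMod p) ((ω'.out : (ZMod p)ˣ) : ZMod p)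
      (Units.ne_zero _) (Units.ne_zero _)
    have h2 : ((Finset.univ.filter fun h : H => ((ω'.out : (ZMod p)ˣ) : ZMod p) *
        ((h : (ZMod p)ˣ) : ZMod p) = ((ω.out : (ZMod p)ˣ) : ZMod p)).card : ℤ) =
        if ω = ω' then 1 else 0 := by
      split_ifs with hω
      · subst hω
        have : (Finset.univ.filter fun h : H => ((ω.out : (ZMod p)ˣ) : ZMod p) *
          ((h : (ZMod p)ˣ) : ZMod p) = ((ω.out : (ZMod p)ˣ) : ZMod p)) = {1} := by
          ext h
          simp only [Finset.mem_filter, Finset.mem_univ, true_and, Finset.mem_singleton]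
          rw [← Units.val_mul, Units.val_inj, mul_eq_left]
          exact ⟨fun h => Subtype.ext h, fun h => by rw [h]; rfl⟩
        rw [this]
        simp
      · have : (Finset.univ.filter fun h : H => ((ω'.out : (ZMod p)ˣ) : ZMod p) *
          ((h : (ZMod p)ˣ) : ZMod p) = ((ω.out : (ZMod p)ˣ) : ZMod p)) = ∅ := by
          rw [Finset.filter_eq_empty_iff]
          intro h _ hh
          rw [← Units.val_mul, Units.val_inj] at hh
          apply hω
          rw [← QuotientGroup.out_eq' ω, ← QuotientGroup.out_eq' ω', ← hh]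
          refine (QuotientGroup.eq.2 ?_).symm
          rw [inv_mul_cancel_left]
          exact h.2
        rw [this]
        simp
    rw [hHcard'] at h1
    have h3 : ((∑ χ, a χ ω * a χ ω' : ℤ) : ℂ) = (((e : ℤ) + if ω = ω' then 1 else 0 : ℤ) : ℂ) := by
      rw [← h2]
      push_cast
      exact h1
    exact_mod_cast h3
  -- Fourier inversion for the restriction
  have hinv : ∀ χ (m : ZMod p), ∑ i : ZMod p, (mul χ i : ℂ) * (stdAddChar (i * m) : ℂ) = f χ m := by
    intro χ m
    rw [← inversion (f χ) m]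
    exact Finset.sum_congr rfl fun i _ => by rw [← hmul]
  have hdeg : ∀ χ : principalBlock M G,
      charDegree ((χ : IrrCharacter G) : G → ℂ) = ∑ i : ZMod p, mul χ i := by
    intro χ
    apply charDegree_of_eq
    have h1 := hinv χ 0
    simp only [mul_zero, AddChar.map_zero_eq_one, mul_one] at h1
    have h2 : f χ 0 = ((χ : IrrCharacter G) : G → ℂ) 1 := by
      show ((χ : IrrCharacter G) : G → ℂ) (u z 0) = _
      rw [u_zero]
    rw [← h2, ← h1]
    push_cast
    rfl
  have hne : ∀ χ, ∃ ω, a χ ω ≠ 0 := by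
    intro χ
    by_contra hcon
    push Not at hcon
    have h1 : ∀ i : ZMod p, mul χ i = mul χ 0 := by
      intro i
      have h2 : c χ i = 0 := by
        by_cases hi : i = 0
        · rw [hi]
          show (mul χ 0 : ℤ) - mul χ 0 = 0
          ring
        · have := hca χ (Units.mk0 i hi)
          rw [Units.val_mk0, hcon] at this
          exact this
      have h3 : (mul χ i : ℤ) = mul χ 0 := by
        have h4 : (mul χ i : ℤ) - mul χ 0 = 0 := h2
        linarith
      exact_mod_cast h3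
    -- the value at `z` is zero
    have h2 : ((χ : IrrCharacter G) : G → ℂ) z = 0 := by
      have h3 := hinv χ 1
      have h4 : f χ 1 = ((χ : IrrCharacter G) : G → ℂ) z := by
        show ((χ : IrrCharacter G) : G → ℂ) (u z 1) = _
        rw [u_one hz]
      rw [← h4, ← h3]
      simp only [h1]
      rw [← Finset.mul_sum]
      have h5 := sum_std (p := p) 1
      rw [if_neg one_ne_zero] at h5
      rw [h5, mul_zero]
    have h3 : charDegree ((χ : IrrCharacter G) : G → ℂ) = p * mul χ 0 := by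
      rw [hdeg]
      simp only [h1]
      rw [Finset.sum_const, Finset.card_univ, ZMod.card, smul_eq_mul]
    have h4 : ¬ p ∣ Nat.card G / charDegree ((χ : IrrCharacter G) : G → ℂ) := by
      intro hdvd
      obtain ⟨k, hk⟩ := charDegree_dvd (χ : IrrCharacter G).2
      rw [hk, Nat.mul_div_cancel_left _ (charDegree_pos (χ : IrrCharacter G).2)] at hdvd
      have h5 : p ^ 2 ∣ Nat.card G := by
        rw [hk, h3, sq]
        exact mul_dvd_mul (Dvd.intro _ rfl) hdvd
      have h6 := (P.card_eq_multiplicity).symm.trans hP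
      have h7 : 2 ≤ (Nat.card G).factorization p :=
        (hp.out.pow_dvd_iff_le_factorization Nat.card_pos.ne').1 h5
      have h8 : p ^ 2 ≤ p := by
        calc p ^ 2 ≤ p ^ (Nat.card G).factorization p := Nat.pow_le_pow_right hp.out.pos h7
          _ = p := h6
      have h9 := hp.out.two_le
      nlinarith
    have h5 := (Cfsg.Agent.S0914.result p M hM (χ : IrrCharacter G)).1 h4
    have h6 : principalBlock M G = blockOf M ((χ : IrrCharacter G) : G → ℂ) :=
      isPBlock_eq_blockOf isPBlock_principal χ.2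
    have h7 : (⟨fun _ => 1, isIrrCharacter_one⟩ : IrrCharacter G) ∈ principalBlock M G :=
      mem_blockOf_self (⟨fun _ => 1, isIrrCharacter_one⟩ : IrrCharacter G)
    rw [h6, h5, Set.mem_singleton_iff] at h7
    rw [← h7] at h2
    exact one_ne_zero h2
  have hnon : Nonempty Ω := ⟨QuotientGroup.mk 1⟩
  have hcomb := comb e a hgrama hne (by
    rw [← hΩ, ← Nat.card_eq_fintype_card (α := principalBlock M G)]
    exact hlow)
  refine ⟨z, hz, a, fun χ => mul χ 0, hzP', hHcard, ?_, ?_, ?_, hcomb.2, ?_, ?_, ?_⟩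
  · rw [Nat.card_eq_fintype_card, hΩ]
  · rw [hΩ, hmulcard]
  · rw [Nat.card_eq_fintype_card, hcomb.1, hΩ]
  · intro i j
    rw [finsum_eq_sum_of_fintype]
    exact hgrama i j
  · intro χ m hm
    have h1 := hinv χ m
    have h2 : ∀ i : ZMod p, (mul χ i : ℂ) * (stdAddChar (i * m) : ℂ) =
        (c χ i : ℂ) * (stdAddChar (i * m) : ℂ) + (mul χ 0 : ℂ) * (stdAddChar (i * m) : ℂ) := by
      intro i
      rw [← add_mul]
      congr 1
      show _ = (((mul χ i : ℤ) - (mul χ 0 : ℤ) : ℤ) : ℂ) + _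
      push_cast
      ring
    rw [Finset.sum_congr rfl fun i _ => h2 i, Finset.sum_add_distrib, ← Finset.mul_sum,
      sum_std, if_neg hm, mul_zero, add_zero] at h1
    rw [← Finset.sum_erase_add _ _ (Finset.mem_univ (0 : ZMod p))] at h1
    have h5 : c χ 0 = 0 := by
      show (mul χ 0 : ℤ) - mul χ 0 = 0
      ring
    rw [h5, Int.cast_zero, zero_mul, add_zero] at h1
    have h6 : ((χ : IrrCharacter G) : G → ℂ) (u z m) = f χ m := rfl
    rw [h6, ← h1]
    refine (Finset.sum_bij (fun (i : (ZMod p)ˣ) _ => (i : ZMod p)) ?_ ?_ ?_ ?_).symm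
    · intro i _
      exact Finset.mem_erase.2 ⟨Units.ne_zero i, Finset.mem_univ _⟩
    · intro i _ j _ hij
      exact Units.ext hij
    · intro i hi
      exact ⟨Units.mk0 i (Finset.mem_erase.1 hi).1, Finset.mem_univ _, rfl⟩
    · intro i _
      rw [hca]
  · intro χ
    have hd := hdeg χ
    rw [finsum_eq_sum_of_fintype]
    have h2 : ((charDegree ((χ : IrrCharacter G) : G → ℂ) : ℕ) : ℤ) =
        ∑ i : ZMod p, (c χ i + mul χ 0) := by
      rw [hd]
      push_cast
      refine Finset.sum_congr rfl fun i _ => ?_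
      show _ = ((mul χ i : ℤ) - mul χ 0) + mul χ 0
      ring
    rw [h2, Finset.sum_add_distrib, Finset.sum_const, Finset.card_univ, ZMod.card, nsmul_eq_mul,
      add_comm]
    congr 1
    -- sum over all = sum over units
    have h4 : ∑ i : ZMod p, c χ i = ∑ i : (ZMod p)ˣ, c χ (i : ZMod p) := by
      rw [← Finset.sum_erase_add _ _ (Finset.mem_univ (0 : ZMod p))]
      have h5 : c χ 0 = 0 := by
        show (mul χ 0 : ℤ) - mul χ 0 = 0
        ring
      rw [h5, add_zero]
      refine (Finset.sum_bij (fun (i : (ZMod p)ˣ) _ => (i : ZMod p)) ?_ ?_ ?_ ?_).symm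
      · intro i _
        exact Finset.mem_erase.2 ⟨Units.ne_zero i, Finset.mem_univ _⟩
      · intro i _ j _ hij
        exact Units.ext hij
      · intro i hi
        exact ⟨Units.mk0 i (Finset.mem_erase.1 hi).1, Finset.mem_univ _, rfl⟩
      · intro i _
        rfl
    rw [h4]
    simp only [hca]
    rw [← Finset.sum_fiberwise Finset.univ (fun i : (ZMod p)ˣ => (QuotientGroup.mk i : Ω)),
      Finset.mul_sum]
    refine Finset.sum_congr rfl fun ω _ => ?_
    have h6 : ∀ i ∈ Finset.univ.filter (fun i : (ZMod p)ˣ => (QuotientGroup.mk i : Ω) = ω),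
        a χ (QuotientGroup.mk i) = a χ ω := fun i hi => by rw [(Finset.mem_filter.1 hi).2]
    rw [Finset.sum_congr rfl h6, Finset.sum_const, nsmul_eq_mul]
    congr 1
    have h7 := QuotientGroup.card_preimage_mk H ({ω} : Set Ω)
    rw [Nat.card_eq_fintype_card (α := ({ω} : Set Ω)), hHcard] at h7
    simp only [Fintype.card_unique, mul_one] at h7
    rw [← h7, Nat.card_eq_card_toFinset]
    congr 2
    ext i
    simp

/-- The upper bound, in the form: if the principal block has at least `e + (p - 1) / e` members then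
it has exactly that many and the degrees are `±1` or `±e` modulo `p`. -/
theorem upper (hM : IsPModular p M) (P : Sylow p G) (hP : Nat.card P = p) (e : ℕ)
    (he : (Subgroup.centralizer ((P : Subgroup G) : Set G)).relIndex
      (Subgroup.normalizer ((P : Subgroup G) : Set G)) = e)
    (hlow : e + (p - 1) / e ≤ Nat.card (principalBlock M G)) :
    Nat.card (principalBlock M G) = e + (p - 1) / e ∧
      ∀ χ ∈ principalBlock M G,
        ((charDegree (χ : G → ℂ) : ℤ) ≡ 1 [ZMOD p] ∨ (charDegree (χ : G → ℂ) : ℤ) ≡ -1 [ZMOD p] ∨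
        (charDegree (χ : G → ℂ) : ℤ) ≡ (e : ℤ) [ZMOD p] ∨
        (charDegree (χ : G → ℂ) : ℤ) ≡ -(e : ℤ) [ZMOD p]) := by
  classical
  obtain ⟨z, hz, a, n, -, -, hΩ, hmul, hcard, hrows, -, -, hdeg⟩ :=
    structure_thm hM P hP e he hlow
  have : Fintype ((ZMod p)ˣ ⧸ fuse z hz) := Fintype.ofFinite _
  refine ⟨hcard, fun χ' hχ' => ?_⟩
  have h1 := hdeg ⟨χ', hχ'⟩
  rw [finsum_eq_sum_of_fintype] at h1
  have hpm : ∀ x y : ℤ, (charDegree (χ' : G → ℂ) : ℤ) = p * x + y →
      (charDegree (χ' : G → ℂ) : ℤ) ≡ y [ZMOD p] := by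
    intro x y h
    rw [h, Int.modEq_iff_dvd]
    exact ⟨-x, by ring⟩
  have hpe : ((e : ℤ) * Fintype.card ((ZMod p)ˣ ⧸ fuse z hz)) = p - 1 := by
    have h2 : ((e * Fintype.card ((ZMod p)ˣ ⧸ fuse z hz) : ℕ) : ℤ) = ((p - 1 : ℕ) : ℤ) := by
      rw [← Nat.card_eq_fintype_card, hΩ, hmul]
    rw [Nat.cast_sub hp.out.one_lt.le] at h2
    push_cast at h2
    exact h2
  rcases hrows ⟨χ', hχ'⟩ with h | h | ⟨ω₀, h⟩ | ⟨ω₀, h⟩
  · right; left
    apply hpm (n ⟨χ', hχ'⟩ + 1)
    rw [h1]
    simp only [h]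
    rw [Finset.sum_const, Finset.card_univ, nsmul_eq_mul, mul_one, hpe]
    ring
  · left
    apply hpm (n ⟨χ', hχ'⟩ - 1)
    rw [h1]
    simp only [h]
    rw [Finset.sum_const, Finset.card_univ, nsmul_eq_mul, mul_neg_one, mul_neg, hpe]
    ring
  · right; right; left
    apply hpm (n ⟨χ', hχ'⟩)
    rw [h1]
    simp only [h]
    rw [Finset.sum_ite_eq' Finset.univ ω₀]
    simp
  · right; right; right
    apply hpm (n ⟨χ', hχ'⟩)
    rw [h1]
    simp only [h]
    rw [Finset.sum_ite_eq' Finset.univ ω₀]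
    simp

end Cfsg.Agent.Blocks.CyclicUpper
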