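import Cfsg.Prelude.Def_Blocks
import Cfsg.Agent.Characters.Core
import Mathlib.GroupTheory.GroupAction.ConjAct
import Mathlib.GroupTheory.ClassEquation

/-!
# Blocks and normal subgroups: auxiliary facts

Sums over conjugacy classes, induced central characters as sums over cosets, and the
characters of a group lying over a block of a normal subgroup.
-/

set_option autoImplicit false

open scoped ComplexConjugate
open Cfsg

namespace Cfsg.Agent.Blocks.Fong

universe u

/-! ### A minimal API for the local ideal -/

section Loc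

variable {M : Ideal AlgInt}

theorem coe_ne_zero_of_not_mem {b : AlgInt} (hb : b ∉ M) : (b : ℂ) ≠ 0 := by
  intro h
  apply hb
  have : b = 0 := by exact_mod_cast h
  rw [this]
  exact M.zero_mem

theorem lring_coe (hM : M.IsPrime) (a : AlgInt) : MemLocalRing M (a : ℂ) := by
  refine ⟨a, 1, ?_, by simp⟩
  exact fun h => hM.ne_top ((Ideal.eq_top_iff_one M).2 h)

theorem lideal_zero (hM : M.IsPrime) : MemLocalIdeal M 0 := by
  refine ⟨0, 1, M.zero_mem, ?_, by simp⟩
  exact fun h => hM.ne_top ((Ideal.eq_top_iff_one M).2 h)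

theorem lideal_add (hM : M.IsPrime) {z w : ℂ} (hz : MemLocalIdeal M z) (hw : MemLocalIdeal M w) :
    MemLocalIdeal M (z + w) := by
  obtain ⟨a, b, ha, hb, rfl⟩ := hz
  obtain ⟨c, d, hc, hd, rfl⟩ := hw
  refine ⟨a * d + b * c, b * d, ?_, ?_, ?_⟩
  · exact M.add_mem (M.mul_mem_right _ ha) (M.mul_mem_left _ hc)
  · exact fun h => (hM.mem_or_mem h).elim hb hd
  · have hb0 := coe_ne_zero_of_not_mem hb
    have hd0 := coe_ne_zero_of_not_mem hd
    push_cast
    field_simp

theorem lideal_mul_left (hM : M.IsPrime) {z w : ℂ} (hz : MemLocalRing M z)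
    (hw : MemLocalIdeal M w) : MemLocalIdeal M (z * w) := by
  obtain ⟨a, b, hb, rfl⟩ := hz
  obtain ⟨c, d, hc, hd, rfl⟩ := hw
  refine ⟨a * c, b * d, M.mul_mem_left _ hc, ?_, ?_⟩
  · exact fun h => (hM.mem_or_mem h).elim hb hd
  · have hb0 := coe_ne_zero_of_not_mem hb
    have hd0 := coe_ne_zero_of_not_mem hd
    push_cast
    field_simp

theorem lideal_mul_right (hM : M.IsPrime) {z w : ℂ} (hz : MemLocalIdeal M z)
    (hw : MemLocalRing M w) : MemLocalIdeal M (z * w) := by
  rw [mul_comm]
  exact lideal_mul_left hM hw hz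

theorem lideal_neg {z : ℂ} (hz : MemLocalIdeal M z) : MemLocalIdeal M (-z) := by
  obtain ⟨a, b, ha, hb, rfl⟩ := hz
  refine ⟨-a, b, M.neg_mem ha, hb, ?_⟩
  push_cast
  ring

theorem lideal_sub (hM : M.IsPrime) {z w : ℂ} (hz : MemLocalIdeal M z) (hw : MemLocalIdeal M w) :
    MemLocalIdeal M (z - w) := by
  rw [sub_eq_add_neg]
  exact lideal_add hM hz (lideal_neg hw)

theorem lideal_sum (hM : M.IsPrime) {ι : Type*} (s : Finset ι) {f : ι → ℂ}
    (hf : ∀ i ∈ s, MemLocalIdeal M (f i)) : MemLocalIdeal M (∑ i ∈ s, f i) := by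
  classical
  induction s using Finset.induction_on with
  | empty => simpa using lideal_zero hM
  | insert a s ha ih =>
    rw [Finset.sum_insert ha]
    exact lideal_add hM (hf a (Finset.mem_insert_self a s))
      (ih fun i hi => hf i (Finset.mem_insert_of_mem hi))

theorem not_lideal_one : ¬ MemLocalIdeal M 1 := by
  rintro ⟨a, b, ha, hb, h⟩
  have hb0 := coe_ne_zero_of_not_mem hb
  rw [div_eq_one_iff_eq hb0] at h
  apply hb
  have : a = b := by exact_mod_cast h
  rwa [← this]

/-- The local ideal is prime in the local ring (one half). -/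
theorem lideal_coe_iff (hM : M.IsPrime) {a : AlgInt} : MemLocalIdeal M (a : ℂ) ↔ a ∈ M := by
  constructor
  · rintro ⟨c, d, hc, hd, h⟩
    have hd0 := coe_ne_zero_of_not_mem hd
    rw [div_eq_iff hd0] at h
    have h' : c = a * d := by exact_mod_cast h
    rw [h'] at hc
    exact (hM.mem_or_mem hc).resolve_right hd
  · intro h
    exact ⟨a, 1, h, fun h1 => hM.ne_top ((Ideal.eq_top_iff_one M).2 h1), by simp⟩

theorem lideal_natCast_of_dvd {p : ℕ} (hM : IsPModular p M) {n : ℕ} (h : p ∣ n) :
    MemLocalIdeal M (n : ℂ) := by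
  have h1 : ((n : AlgInt) : ℂ) = (n : ℂ) := by push_cast; rfl
  rw [← h1, lideal_coe_iff hM.2.1.isPrime]
  obtain ⟨k, rfl⟩ := h
  push_cast
  exact M.mul_mem_right _ hM.2.2

end Loc

/-! ### Conjugacy classes -/

section Classes

variable {G : Type u} [Group G]

/-- The size of a conjugacy class is the index of the centralizer. -/
theorem card_isConj_eq_index (g : G) :
    Nat.card {x : G // IsConj g x} = (Subgroup.centralizer ({g} : Set G)).index := by
  rw [Subgroup.index]
  symm
  apply Nat.card_eq_of_bijective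
    (f := Quotient.lift (fun x : G => (⟨x * g * x⁻¹, isConj_iff.2 ⟨x, rfl⟩⟩ : {x : G // IsConj g x}))
      (by
        intro a b hab
        have h := QuotientGroup.leftRel_apply.1 hab
        rw [Subgroup.mem_centralizer_singleton_iff] at h
        rw [Subtype.mk.injEq]
        calc a * g * a⁻¹ = a * (g * (a⁻¹ * b)) * b⁻¹ := by group
          _ = a * ((a⁻¹ * b) * g) * b⁻¹ := by rw [h]
          _ = b * g * b⁻¹ := by group))
  constructor
  · rintro ⟨a⟩ ⟨b⟩ hab
    apply Quotient.sound
    apply QuotientGroup.leftRel_apply.2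
    rw [Subgroup.mem_centralizer_singleton_iff]
    have h : a * g * a⁻¹ = b * g * b⁻¹ := congrArg Subtype.val hab
    calc a⁻¹ * b * g = a⁻¹ * (b * g * b⁻¹) * b := by group
      _ = a⁻¹ * (a * g * a⁻¹) * b := by rw [h]
      _ = g * (a⁻¹ * b) := by group
  · rintro ⟨x, hx⟩
    obtain ⟨c, rfl⟩ := isConj_iff.1 hx
    exact ⟨QuotientGroup.mk c, rfl⟩

theorem classFun_of_isConj {f : G → ℂ} (hf : IsClassFunction G f) {g h : G} (hgh : IsConj g h) :
    f g = f h := by
  obtain ⟨c, rfl⟩ := isConj_iff.1 hgh
  exact (hf g c).symm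

theorem centralizer_index_conj (g h : G) :
    (Subgroup.centralizer ({h * g * h⁻¹} : Set G)).index =
      (Subgroup.centralizer ({g} : Set G)).index := by
  have : (Subgroup.centralizer ({h * g * h⁻¹} : Set G)) =
      (Subgroup.centralizer ({g} : Set G)).map (MulAut.conj h).toMonoidHom := by
    ext x
    rw [Subgroup.mem_centralizer_singleton_iff, Subgroup.mem_map_equiv,
      Subgroup.mem_centralizer_singleton_iff]
    simp only [MulAut.conj_symm_apply]
    constructor
    · intro hx
      calc h⁻¹ * x * h * g = h⁻¹ * (x * (h * g * h⁻¹)) * h := by group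
        _ = h⁻¹ * ((h * g * h⁻¹) * x) * h := by rw [hx]
        _ = g * (h⁻¹ * x * h) := by group
    · intro hx
      calc x * (h * g * h⁻¹) = h * ((h⁻¹ * x * h) * g) * h⁻¹ := by group
        _ = h * (g * (h⁻¹ * x * h)) * h⁻¹ := by rw [hx]
        _ = h * g * h⁻¹ * x := by group
  rw [this]
  exact Subgroup.index_map_equiv _ (MulAut.conj h)

theorem centralChar_isClassFunction {χ : G → ℂ} (hχ : IsClassFunction G χ) :
    IsClassFunction G (centralChar χ) := by
  intro g h
  unfold centralChar
  rw [centralizer_index_conj, hχ]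

/-- A sum of a class function over the group, class by class. -/
theorem sum_eq_sum_conjClasses [Fintype G] [Fintype (ConjClasses G)] {F : G → ℂ}
    (hF : IsClassFunction G F) :
    ∑ g : G, F g = ∑ K : ConjClasses G,
      ((Subgroup.centralizer ({K.out} : Set G)).index : ℂ) * F K.out := by
  classical
  rw [← Finset.sum_fiberwise (Finset.univ : Finset G) (fun g => ConjClasses.mk g) F]
  refine Finset.sum_congr rfl fun K _ => ?_
  have hK : ConjClasses.mk K.out = K := Quotient.out_eq K
  have h1 : ∀ g ∈ (Finset.univ : Finset G).filter (fun g => ConjClasses.mk g = K), F g = F K.out := by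
    intro g hg
    rw [Finset.mem_filter] at hg
    have : IsConj K.out g := by
      rw [← ConjClasses.mk_eq_mk_iff_isConj, hK, hg.2]
    exact (classFun_of_isConj hF this).symm
  rw [Finset.sum_congr rfl h1, Finset.sum_const, nsmul_eq_mul]
  congr 2
  rw [← card_isConj_eq_index, Nat.card_eq_fintype_card, Fintype.card_subtype]
  congr 1
  ext g
  simp only [Finset.mem_filter, Finset.mem_univ, true_and]
  conv_lhs => rw [← hK]
  rw [ConjClasses.mk_eq_mk_iff_isConj, isConj_comm]

open scoped Classical in
/-- An induced central character as a sum over conjugacy classes of the subgroup. -/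
theorem inducedCentralChar_eq_sum (H : Subgroup G) [Finite H] [Fintype (ConjClasses H)]
    {ξ : H → ℂ} (hξ : IsClassFunction H ξ) (g : G) :
    inducedCentralChar H ξ g =
      ∑ K ∈ (Finset.univ : Finset (ConjClasses H)).filter
        (fun K : ConjClasses H => IsConj g ((K.out : H) : G)), centralChar ξ K.out := by
  have := Fintype.ofFinite H
  have h0 : inducedCentralChar H ξ g =
      ∑ h ∈ (Finset.univ : Finset H).filter (fun h : H => IsConj g (h : G)), ξ h / ξ 1 := by
    unfold inducedCentralChar
    apply finsum_mem_eq_sum_of_inter_support_eq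
    congr 1
    ext h
    simp
  have hmk : ∀ h : H, IsConj ((ConjClasses.mk h).out) h := by
    intro h
    rw [← ConjClasses.mk_eq_mk_iff_isConj]
    exact Quotient.out_eq (ConjClasses.mk h)
  have hmk' : ∀ h : H, IsConj ((((ConjClasses.mk h).out : H)) : G) (h : G) := by
    intro h
    obtain ⟨c, hc⟩ := isConj_iff.1 (hmk h)
    exact isConj_iff.2 ⟨(c : G), congrArg Subtype.val hc⟩
  rw [h0]
  rw [← Finset.sum_fiberwise_of_maps_to
    (t := (Finset.univ : Finset (ConjClasses H)).filter
        (fun K : ConjClasses H => IsConj g ((K.out : H) : G))) (g := fun h => ConjClasses.mk h)]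
  · refine Finset.sum_congr rfl fun K hK => ?_
    rw [Finset.mem_filter] at hK
    have hKout : ConjClasses.mk K.out = K := Quotient.out_eq K
    have h1 : ∀ h ∈ ((Finset.univ : Finset H).filter (fun h : H => IsConj g (h : G))).filter
        (fun h => ConjClasses.mk h = K), ξ h / ξ 1 = ξ K.out / ξ 1 := by
      intro h hh
      rw [Finset.mem_filter] at hh
      have := hmk h
      rw [hh.2] at this
      rw [classFun_of_isConj hξ this]
    rw [Finset.sum_congr rfl h1, Finset.sum_const, nsmul_eq_mul]
    unfold centralChar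
    rw [mul_div_assoc]
    congr 2
    rw [← card_isConj_eq_index, Nat.card_eq_fintype_card, Fintype.card_subtype]
    congr 1
    ext h
    simp only [Finset.mem_filter, Finset.mem_univ, true_and]
    constructor
    · rintro ⟨_, h3⟩
      rw [← h3]
      exact hmk h
    · intro h3
      have h4 : ConjClasses.mk h = K := by
        rw [← hKout]
        exact (ConjClasses.mk_eq_mk_iff_isConj.2 h3).symm
      refine ⟨?_, h4⟩
      have := hmk' h
      rw [h4] at this
      exact hK.2.trans this
  · intro h hh
    rw [Finset.mem_filter] at hh ⊢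
    exact ⟨Finset.mem_univ _, hh.2.trans (hmk' h).symm⟩

open scoped Classical in
/-- Counting elements of a subgroup in a conjugacy class of the group, class by class. -/
theorem card_isConj_eq_sum (H : Subgroup G) [Finite H] [Fintype (ConjClasses H)] (g : G) :
    Nat.card {h : H // IsConj g (h : G)} =
      ∑ K ∈ (Finset.univ : Finset (ConjClasses H)).filter
        (fun K : ConjClasses H => IsConj g ((K.out : H) : G)),
        (Subgroup.centralizer ({K.out} : Set H)).index := by
  have h1 : IsClassFunction H (fun _ : H => (1 : ℂ)) := fun _ _ => rfl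
  have h2 := inducedCentralChar_eq_sum H h1 g
  have h3 : inducedCentralChar H (fun _ : H => (1 : ℂ)) g =
      (Nat.card {h : H // IsConj g (h : G)} : ℂ) := by
    have := Fintype.ofFinite H
    unfold inducedCentralChar
    rw [finsum_mem_eq_sum_of_inter_support_eq
      (t := (Finset.univ : Finset H).filter (fun h : H => IsConj g (h : G)))]
    · rw [Finset.sum_const, div_one, nsmul_eq_mul, mul_one, Nat.card_eq_fintype_card,
        Fintype.card_subtype]
    · congr 1
      ext h
      simp
  rw [h3] at h2
  have h4 : ∀ K : ConjClasses H, centralChar (fun _ : H => (1 : ℂ)) K.out =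
      ((Subgroup.centralizer ({K.out} : Set H)).index : ℂ) := by
    intro K
    unfold centralChar
    rw [mul_one, div_one]
  simp_rw [h4] at h2
  exact_mod_cast h2

end Classes

/-! ### Block congruences -/

section Congruence

variable {G : Type u} [Group G] {M : Ideal AlgInt}

theorem sameBlock_refl (hM : M.IsPrime) (χ : G → ℂ) : SameBlock M χ χ := by
  intro g
  rw [sub_self]
  exact lideal_zero hM

theorem sameBlock_symm {χ ψ : G → ℂ} (h : SameBlock M χ ψ) : SameBlock M ψ χ := by
  intro g
  have := lideal_neg (h g)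
  rwa [neg_sub] at this

theorem sameBlock_trans (hM : M.IsPrime) {χ ψ φ : G → ℂ} (h : SameBlock M χ ψ)
    (h' : SameBlock M ψ φ) : SameBlock M χ φ := by
  intro g
  have := lideal_add hM (h g) (h' g)
  rwa [sub_add_sub_cancel] at this

theorem isPBlock_eq_blockOf (hM : M.IsPrime) {B : Set (IrrCharacter G)} (hB : IsPBlock M B)
    {χ : IrrCharacter G} (hχ : χ ∈ B) : B = blockOf M (χ : G → ℂ) := by
  obtain ⟨χ₀, rfl⟩ := hB
  ext ψ
  have h1 : SameBlock M (χ₀ : G → ℂ) (χ : G → ℂ) := hχ
  exact ⟨fun h => sameBlock_trans hM (sameBlock_symm h1) h, fun h => sameBlock_trans hM h1 h⟩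

theorem sameBlock_of_mem (hM : M.IsPrime) {B : Set (IrrCharacter G)} (hB : IsPBlock M B)
    {χ ψ : IrrCharacter G} (hχ : χ ∈ B) (hψ : ψ ∈ B) : SameBlock M (χ : G → ℂ) (ψ : G → ℂ) := by
  rw [isPBlock_eq_blockOf hM hB hχ] at hψ
  exact hψ

theorem mem_blockOf_self (hM : M.IsPrime) (χ : IrrCharacter G) : χ ∈ blockOf M (χ : G → ℂ) :=
  sameBlock_refl hM _

/-- Congruent central characters have congruent induced central characters. -/
theorem induced_congr (hM : M.IsPrime) (H : Subgroup G) [Finite H] {ξ θ : H → ℂ}
    (hξ : IsClassFunction H ξ) (hθ : IsClassFunction H θ) (h : SameBlock M ξ θ) (g : G) :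
    MemLocalIdeal M (inducedCentralChar H ξ g - inducedCentralChar H θ g) := by
  classical
  have : Finite (ConjClasses H) := Quotient.finite _
  have := Fintype.ofFinite (ConjClasses H)
  rw [inducedCentralChar_eq_sum H hξ, inducedCentralChar_eq_sum H hθ, ← Finset.sum_sub_distrib]
  exact lideal_sum hM _ fun K _ => h K.out

theorem index_centralizer_equiv {H : Type*} {K : Type*} [Group H] [Group K] (e : H ≃* K)
    (h : H) : (Subgroup.centralizer ({e h} : Set K)).index =
      (Subgroup.centralizer ({h} : Set H)).index := by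
  have h1 : (Subgroup.centralizer ({e h} : Set K)) =
      (Subgroup.centralizer ({h} : Set H)).map e.toMonoidHom := by
    ext x
    rw [Subgroup.mem_centralizer_singleton_iff, Subgroup.mem_map_equiv,
      Subgroup.mem_centralizer_singleton_iff]
    constructor
    · intro hx
      apply e.injective
      simpa using hx
    · intro hx
      have := congrArg e hx
      simpa using this
  rw [h1]
  exact Subgroup.index_map_equiv _ e

theorem centralChar_comp_equiv {H : Type*} {K : Type*} [Group H] [Group K] (e : H ≃* K)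
    (θ : K → ℂ) (h : H) : centralChar (fun x => θ (e x)) h = centralChar θ (e h) := by
  unfold centralChar
  rw [index_centralizer_equiv e h]
  simp only [map_one]

end Congruence

/-! ### Block idempotent coefficients -/

section Coeff

variable {G : Type u} [Group G]

open scoped Classical in
theorem blockCoeff_eq_sum [Fintype (IrrCharacter G)] (B : Set (IrrCharacter G)) (g : G) :
    blockCoeff B g = (Nat.card G : ℂ)⁻¹ *
      ∑ χ ∈ (Finset.univ : Finset (IrrCharacter G)).filter (fun χ => χ ∈ B),
        (χ : G → ℂ) 1 * conj ((χ : G → ℂ) g) := by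
  unfold blockCoeff
  congr 1
  apply finsum_mem_eq_sum_of_inter_support_eq
  congr 1
  ext χ
  simp

theorem blockCoeff_isClassFunction [Finite G] (B : Set (IrrCharacter G)) :
    IsClassFunction G (blockCoeff B) := by
  classical
  have := Characters.Core.finite_irr (G := G)
  have := Fintype.ofFinite (IrrCharacter G)
  intro g h
  rw [blockCoeff_eq_sum, blockCoeff_eq_sum]
  congr 1
  refine Finset.sum_congr rfl fun χ _ => ?_
  rw [Characters.Core.isIrr_isClassFunction χ.2 g h]

/-- The value of an irreducible character on the idempotent attached to a set of irreducible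
characters. -/
theorem sum_blockCoeff_mul [Fintype G] (A : Set (IrrCharacter G)) (χ : IrrCharacter G) [Decidable (χ ∈ A)] :
    ∑ g : G, blockCoeff A g * (χ : G → ℂ) g = if χ ∈ A then (χ : G → ℂ) 1 else 0 := by
  classical
  have := Characters.Core.finite_irr (G := G)
  have := Fintype.ofFinite (IrrCharacter G)
  have hcard : (Nat.card G : ℂ) ≠ 0 := by
    rw [Nat.cast_ne_zero]
    exact Nat.card_pos.ne'
  have h1 : ∀ ψ : IrrCharacter G, ∑ g : G, conj ((ψ : G → ℂ) g) * (χ : G → ℂ) g =
      if χ = ψ then (Nat.card G : ℂ) else 0 := by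
    intro ψ
    have h2 := Characters.Core.classInner_irr χ.2 ψ.2
    unfold classInner at h2
    rw [inv_mul_eq_iff_eq_mul₀ hcard] at h2
    have h3 : ∑ g : G, conj ((ψ : G → ℂ) g) * (χ : G → ℂ) g =
        ∑ g : G, (χ : G → ℂ) g * conj ((ψ : G → ℂ) g) :=
      Finset.sum_congr rfl fun g _ => mul_comm _ _
    rw [h3, h2]
    by_cases h : χ = ψ
    · subst h
      simp
    · have h' : (χ : G → ℂ) ≠ (ψ : G → ℂ) := fun h' => h (Subtype.ext h')
      rw [if_neg h, if_neg h', mul_zero]
  calc ∑ g : G, blockCoeff A g * (χ : G → ℂ) g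
      = ∑ g : G, ∑ ψ ∈ (Finset.univ : Finset (IrrCharacter G)).filter (fun ψ => ψ ∈ A),
        ((Nat.card G : ℂ)⁻¹ * (ψ : G → ℂ) 1) * (conj ((ψ : G → ℂ) g) * (χ : G → ℂ) g) := by
        refine Finset.sum_congr rfl fun g _ => ?_
        rw [blockCoeff_eq_sum, Finset.mul_sum, Finset.sum_mul]
        refine Finset.sum_congr rfl fun ψ _ => ?_
        ring
    _ = ∑ ψ ∈ (Finset.univ : Finset (IrrCharacter G)).filter (fun ψ => ψ ∈ A),
        ((Nat.card G : ℂ)⁻¹ * (ψ : G → ℂ) 1) * ∑ g : G, (conj ((ψ : G → ℂ) g) * (χ : G → ℂ) g) := by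
        rw [Finset.sum_comm]
        refine Finset.sum_congr rfl fun ψ _ => ?_
        rw [Finset.mul_sum]
    _ = ∑ ψ ∈ (Finset.univ : Finset (IrrCharacter G)).filter (fun ψ => ψ ∈ A),
        if χ = ψ then (χ : G → ℂ) 1 else 0 := by
        refine Finset.sum_congr rfl fun ψ _ => ?_
        rw [h1]
        by_cases h : χ = ψ
        · subst h
          rw [if_pos rfl, if_pos rfl]
          field_simp
        · rw [if_neg h, if_neg h, mul_zero]
    _ = if χ ∈ A then (χ : G → ℂ) 1 else 0 := by
        rw [Finset.sum_ite_eq]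
        simp

end Coeff

/-! ### Characters over a block of a normal subgroup -/

section Over

variable {G : Type u} [Group G] (N : Subgroup G) [hN : N.Normal]

/-- The conjugate of an irreducible character of a normal subgroup. -/
noncomputable def cj (g : G) (θ : IrrCharacter N) : IrrCharacter N :=
  ⟨fun n => (θ : N → ℂ) (MulAut.conjNormal g n),
    Characters.Core.isIrr_comp ((MulAut.conjNormal (H := N) g).toMonoidHom)
      (MulAut.conjNormal (H := N) g).surjective θ.2⟩

theorem cj_apply (g : G) (θ : IrrCharacter N) (n : N) :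
    (cj N g θ : N → ℂ) n = (θ : N → ℂ) (MulAut.conjNormal g n) := rfl

theorem cj_cj (g h : G) (θ : IrrCharacter N) : cj N g (cj N h θ) = cj N (h * g) θ := by
  apply Subtype.ext
  funext n
  rw [cj_apply, cj_apply, cj_apply, map_mul]
  rfl

theorem cj_one (θ : IrrCharacter N) : cj N 1 θ = θ := by
  apply Subtype.ext
  funext n
  rw [cj_apply, map_one]
  rfl

theorem cj_apply_one (g : G) (θ : IrrCharacter N) : (cj N g θ : N → ℂ) 1 = (θ : N → ℂ) 1 := by
  rw [cj_apply, map_one]

theorem blockCoeff_conjNormal [Finite N] (b : Set (IrrCharacter N))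
    (hinv : ∀ (g : G) (θ : IrrCharacter N), θ ∈ b → cj N g θ ∈ b) (g : G) (n : N) :
    blockCoeff b (MulAut.conjNormal g n) = blockCoeff b n := by
  classical
  have := Characters.Core.finite_irr (G := N)
  have := Fintype.ofFinite (IrrCharacter N)
  rw [blockCoeff_eq_sum, blockCoeff_eq_sum]
  congr 1
  refine Finset.sum_bij' (fun ψ _ => cj N g ψ) (fun ψ _ => cj N g⁻¹ ψ) ?_ ?_ ?_ ?_ ?_
  · intro ψ hψ
    rw [Finset.mem_filter] at hψ ⊢
    exact ⟨Finset.mem_univ _, hinv g ψ hψ.2⟩
  · intro ψ hψ
    rw [Finset.mem_filter] at hψ ⊢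
    exact ⟨Finset.mem_univ _, hinv g⁻¹ ψ hψ.2⟩
  · intro ψ _
    rw [cj_cj, mul_inv_cancel, cj_one]
  · intro ψ _
    rw [cj_cj, inv_mul_cancel, cj_one]
  · intro ψ _
    rw [cj_apply_one, cj_apply]

/-- The irreducible characters of `G` having a constituent in `b` on restriction to `N`. -/
def lyingOver [Fintype N] (b : Set (IrrCharacter N)) : Set (IrrCharacter G) :=
  {χ | ∃ θ ∈ b, classInner (fun n : N => (χ : G → ℂ) n) (θ : N → ℂ) ≠ 0}

theorem mem_lyingOver [Fintype N] (b : Set (IrrCharacter N)) (χ : IrrCharacter G) :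
    χ ∈ lyingOver N b ↔ ∃ θ ∈ b, classInner (fun n : N => (χ : G → ℂ) n) (θ : N → ℂ) ≠ 0 := Iff.rfl

theorem restrict_isCharacter {χ : G → ℂ} (hχ : IsCharacter G χ) :
    IsCharacter N (fun n : N => χ n) :=
  Characters.Core.isCharacter_comp N.subtype hχ

/-- Every restriction has an irreducible constituent. -/
theorem exists_constituent [Fintype N] (χ : IrrCharacter G) :
    ∃ θ : IrrCharacter N, classInner (fun n : N => (χ : G → ℂ) n) (θ : N → ℂ) ≠ 0 := by
  by_contra hcon
  push Not at hcon
  have h1 := Characters.Core.classFunction_eq_zero (G := N) (f := fun n : N => (χ : G → ℂ) n)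
    (Characters.Core.isCharacter_isClassFunction
      (restrict_isCharacter N (Characters.Core.isIrr_isCharacter χ.2)))
    (fun θ hθ => hcon ⟨θ, hθ⟩)
  have h2 := congrFun h1 1
  obtain ⟨m, hm, h3⟩ := Characters.Core.isIrr_apply_one χ.2
  simp only [OneMemClass.coe_one, Pi.zero_apply] at h2
  rw [h3] at h2
  exact hm.ne' (by exact_mod_cast h2)

open scoped Classical in
/-- The idempotent coefficients of the characters over a `G`-invariant block of `N`. -/
theorem blockCoeff_lyingOver [Fintype G] [Fintype N] (b : Set (IrrCharacter N))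
    (hinv : ∀ (g : G) (θ : IrrCharacter N), θ ∈ b → cj N g θ ∈ b)
    (hcl : ∀ χ ∈ lyingOver N b, ∀ ψ : IrrCharacter N,
      classInner (fun n : N => (χ : G → ℂ) n) (ψ : N → ℂ) ≠ 0 → ψ ∈ b) (g : G) :
    blockCoeff (lyingOver N b) g = if h : g ∈ N then blockCoeff b ⟨g, h⟩ else 0 := by
  have := Characters.Core.finite_irr (G := G)
  have := Fintype.ofFinite (IrrCharacter G)
  have := Characters.Core.finite_irr (G := N)
  have := Fintype.ofFinite (IrrCharacter N)
  have hcardG : (Nat.card G : ℂ) ≠ 0 := by
    rw [Nat.cast_ne_zero]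
    exact Nat.card_pos.ne'
  have hcardN : (Nat.card N : ℂ) ≠ 0 := by
    rw [Nat.cast_ne_zero]
    exact Nat.card_pos.ne'
  -- the candidate
  let f : G → ℂ := fun g => if h : g ∈ N then blockCoeff b ⟨g, h⟩ else 0
  have hfcl : ∀ g h : G, f (h * g * h⁻¹) = f g := by
    intro g h
    by_cases hg : g ∈ N
    · have hg' : h * g * h⁻¹ ∈ N := hN.conj_mem g hg h
      have e1 : f g = blockCoeff b ⟨g, hg⟩ := dif_pos hg
      have e2 : f (h * g * h⁻¹) = blockCoeff b ⟨h * g * h⁻¹, hg'⟩ := dif_pos hg'
      rw [e1, e2, ← blockCoeff_conjNormal N b hinv h ⟨g, hg⟩]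
      rfl
    · have hg' : h * g * h⁻¹ ∉ N := fun h' => hg (by
        have := hN.conj_mem _ h' h⁻¹
        simpa [mul_assoc] using this)
      have e1 : f g = 0 := dif_neg hg
      have e2 : f (h * g * h⁻¹) = 0 := dif_neg hg'
      rw [e1, e2]
  let F : G → ℂ := fun g => conj (blockCoeff (lyingOver N b) g) - conj (f g)
  have hFcl : IsClassFunction G F := by
    intro g h
    change conj (blockCoeff (lyingOver N b) (h * g * h⁻¹)) - conj (f (h * g * h⁻¹)) =
      conj (blockCoeff (lyingOver N b) g) - conj (f g)
    rw [hfcl, blockCoeff_isClassFunction (lyingOver N b) g h]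
  have hF0 : F = 0 := by
    apply Characters.Core.classFunction_eq_zero hFcl
    intro χ' hχ'
    let χ : IrrCharacter G := ⟨χ', hχ'⟩
    -- the first part
    have h1 : ∑ g : G, blockCoeff (lyingOver N b) g * χ' g = if χ ∈ lyingOver N b then χ' 1 else 0 :=
      sum_blockCoeff_mul (lyingOver N b) χ
    -- the second part
    have h2 : ∑ g : G, f g * χ' g = if χ ∈ lyingOver N b then χ' 1 else 0 := by
      have h3 : ∑ g : G, f g * χ' g = ∑ n : N, blockCoeff b n * χ' n := by
        rw [← Finset.sum_subset (Finset.subset_univ ((Finset.univ : Finset G).filter (· ∈ N)))]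
        · rw [Finset.sum_subtype ((Finset.univ : Finset G).filter (· ∈ N)) (p := (· ∈ N))
            (by intro x; simp)]
          refine Finset.sum_congr rfl fun n _ => ?_
          have e1 : f (n : G) = blockCoeff b ⟨n, n.2⟩ := dif_pos n.2
          rw [e1]
        · intro x _ hx
          have hx' : x ∉ N := by simpa using hx
          have e1 : f x = 0 := dif_neg hx'
          rw [e1, zero_mul]
      rw [h3]
      have h4 : ∀ θ : IrrCharacter N, ∑ n : N, conj ((θ : N → ℂ) n) * χ' n =
          (Nat.card N : ℂ) * classInner (fun n : N => χ' n) (θ : N → ℂ) := by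
        intro θ
        unfold classInner
        rw [mul_inv_cancel_left₀ hcardN]
        exact Finset.sum_congr rfl fun n _ => mul_comm _ _
      have h5 : ∑ n : N, blockCoeff b n * χ' n =
          ∑ θ ∈ (Finset.univ : Finset (IrrCharacter N)).filter (fun θ => θ ∈ b),
            (θ : N → ℂ) 1 * classInner (fun n : N => χ' n) (θ : N → ℂ) := by
        calc ∑ n : N, blockCoeff b n * χ' n
            = ∑ n : N, ∑ θ ∈ (Finset.univ : Finset (IrrCharacter N)).filter (fun θ => θ ∈ b),
              ((Nat.card N : ℂ)⁻¹ * (θ : N → ℂ) 1) * (conj ((θ : N → ℂ) n) * χ' n) := by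
              refine Finset.sum_congr rfl fun n _ => ?_
              rw [blockCoeff_eq_sum, Finset.mul_sum, Finset.sum_mul]
              refine Finset.sum_congr rfl fun θ _ => ?_
              ring
          _ = _ := by
              rw [Finset.sum_comm]
              refine Finset.sum_congr rfl fun θ _ => ?_
              rw [← Finset.mul_sum, h4]
              field_simp
      rw [h5]
      have h6 : χ' 1 = ∑ θ : IrrCharacter N,
          (θ : N → ℂ) 1 * classInner (fun n : N => χ' n) (θ : N → ℂ) := by
        have h7 := congrFun (Characters.Core.classFunction_eq_sum (G := N)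
          (f := fun n : N => χ' n) (Characters.Core.isCharacter_isClassFunction
            (restrict_isCharacter N (Characters.Core.isIrr_isCharacter hχ')))) 1
        simp only [OneMemClass.coe_one, Finset.sum_apply, Pi.smul_apply, smul_eq_mul] at h7
        rw [h7]
        exact Finset.sum_congr rfl fun θ _ => mul_comm _ _
      by_cases hχ : χ ∈ lyingOver N b
      · rw [if_pos hχ, h6]
        apply Finset.sum_subset (Finset.filter_subset _ _)
        intro θ _ hθ
        have hθ' : θ ∉ b := by simpa using hθ
        have : classInner (fun n : N => χ' n) (θ : N → ℂ) = 0 := by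
          by_contra hne
          exact hθ' (hcl χ hχ θ hne)
        rw [this, mul_zero]
      · rw [if_neg hχ]
        apply Finset.sum_eq_zero
        intro θ hθ
        have hθ' : θ ∈ b := by simpa using hθ
        have : classInner (fun n : N => χ' n) (θ : N → ℂ) = 0 := by
          by_contra hne
          exact hχ ⟨θ, hθ', hne⟩
        rw [this, mul_zero]
    have h8 : ∑ g : G, F g * conj (χ' g) =
        conj (∑ g : G, blockCoeff (lyingOver N b) g * χ' g - ∑ g : G, f g * χ' g) := by
      rw [← Finset.sum_sub_distrib, map_sum]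
      refine Finset.sum_congr rfl fun g _ => ?_
      rw [map_sub, map_mul, map_mul]
      change (conj (blockCoeff (lyingOver N b) g) - conj (f g)) * conj (χ' g) = _
      ring
    unfold classInner
    rw [h8, h1, h2, sub_self, map_zero, mul_zero]
  have h9 := congrFun hF0 g
  change conj (blockCoeff (lyingOver N b) g) - conj (f g) = 0 at h9
  rw [← map_sub, map_eq_zero, sub_eq_zero] at h9
  exact h9

end Over

/-! ### Tools for Fong's theorem -/

section Tools

variable {G : Type u} [Group G] {M : Ideal AlgInt}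

/-- If the central character of `χ` takes the value one on a central element then some class
contributes a unit. -/
theorem exists_unit_term [Fintype G] (hM : M.IsPrime) {f χ : G → ℂ} (hf : IsClassFunction G f)
    (hχ : IsClassFunction G χ) (hχ1 : χ 1 ≠ 0) (hsum : ∑ g : G, f g * χ g = χ 1) :
    ∃ x : G, ¬ MemLocalIdeal M (f x * centralChar χ x) := by
  classical
  by_contra hcon
  push Not at hcon
  have : Finite (ConjClasses G) := Quotient.finite _
  have := Fintype.ofFinite (ConjClasses G)
  have hcl : IsClassFunction G (fun g => f g * χ g) := by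
    intro g h
    change f (h * g * h⁻¹) * χ (h * g * h⁻¹) = f g * χ g
    rw [hf, hχ]
  have h1 := sum_eq_sum_conjClasses hcl
  rw [hsum] at h1
  have h2 : (1 : ℂ) = ∑ K : ConjClasses G, f K.out * centralChar χ K.out := by
    have h3 : (1 : ℂ) = χ 1 * (χ 1)⁻¹ := (mul_inv_cancel₀ hχ1).symm
    rw [h3]
    nth_rewrite 1 [h1]
    rw [Finset.sum_mul]
    refine Finset.sum_congr rfl fun K _ => ?_
    unfold centralChar
    ring
  apply not_lideal_one (M := M)
  rw [h2]
  exact lideal_sum hM _ fun K _ => hcon K.out

/-- If a union of blocks has a unit coefficient then so has one of its blocks. -/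
theorem exists_block_of_blockCoeff [Finite G] (hM : M.IsPrime) (A : Set (IrrCharacter G))
    (hA : ∀ χ ∈ A, blockOf M (χ : G → ℂ) ⊆ A) (x : G) (hx : ¬ MemLocalIdeal M (blockCoeff A x)) :
    ∃ χ ∈ A, ¬ MemLocalIdeal M (blockCoeff (blockOf M (χ : G → ℂ)) x) := by
  classical
  by_contra hcon
  push Not at hcon
  apply hx
  have := Characters.Core.finite_irr (G := G)
  have := Fintype.ofFinite (IrrCharacter G)
  have h1 : blockCoeff A x =
      ∑ B ∈ ((Finset.univ : Finset (IrrCharacter G)).filter (fun χ => χ ∈ A)).image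
        (fun χ : IrrCharacter G => blockOf M (χ : G → ℂ)), blockCoeff B x := by
    rw [blockCoeff_eq_sum, ← Finset.sum_fiberwise_of_maps_to
      (s := (Finset.univ : Finset (IrrCharacter G)).filter (fun χ => χ ∈ A))
      (t := ((Finset.univ : Finset (IrrCharacter G)).filter (fun χ => χ ∈ A)).image
        (fun χ : IrrCharacter G => blockOf M (χ : G → ℂ)))
      (g := fun χ : IrrCharacter G => blockOf M (χ : G → ℂ))
      (fun χ hχ => Finset.mem_image_of_mem _ hχ), Finset.mul_sum]
    refine Finset.sum_congr rfl fun B hB => ?_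
    obtain ⟨χ, hχ, rfl⟩ := Finset.mem_image.1 hB
    have hχA : χ ∈ A := by simpa using hχ
    rw [blockCoeff_eq_sum]
    congr 1
    refine Finset.sum_congr ?_ fun _ _ => rfl
    ext ψ
    simp only [Finset.mem_filter, Finset.mem_univ, true_and]
    constructor
    · rintro ⟨_, h2⟩
      rw [← h2]
      exact mem_blockOf_self hM ψ
    · intro h2
      exact ⟨hA χ hχA h2, (isPBlock_eq_blockOf hM ⟨χ, rfl⟩ h2).symm⟩
  rw [h1]
  refine lideal_sum hM _ fun B hB => ?_
  obtain ⟨χ, hχ, rfl⟩ := Finset.mem_image.1 hB
  exact hcon χ (by simpa using hχ)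

theorem card_isConj_subtype (N : Subgroup G) [hN : N.Normal] (x : N) :
    Nat.card {h : N // IsConj (x : G) (h : G)} = Nat.card {g : G // IsConj (x : G) g} := by
  apply Nat.card_congr
  refine ⟨fun h => ⟨(h.1 : G), h.2⟩, fun g => ⟨⟨g.1, ?_⟩, g.2⟩, ?_, ?_⟩
  · obtain ⟨c, hc⟩ := isConj_iff.1 g.2
    rw [← hc]
    exact hN.conj_mem _ x.2 c
  · intro h
    rfl
  · intro g
    rfl

/-- The induced central character of a `G`-stable (modulo `M`) character of a normal subgroup. -/
theorem induced_eq_mul [Finite G] (hM : M.IsPrime) (N : Subgroup G) [hN : N.Normal] {θ : N → ℂ}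
    (hθ : IsClassFunction N θ) (x : N)
    (hst : ∀ g : G, MemLocalIdeal M (centralChar θ (MulAut.conjNormal g x) - centralChar θ x)) :
    ∃ t : ℕ, MemLocalIdeal M (inducedCentralChar N θ (x : G) - (t : ℂ) * centralChar θ x) ∧
      t * (Subgroup.centralizer ({x} : Set N)).index =
        (Subgroup.centralizer ({(x : G)} : Set G)).index := by
  classical
  have : Finite (ConjClasses N) := Quotient.finite _
  have := Fintype.ofFinite (ConjClasses N)
  have hout : ∀ K : ConjClasses N, IsConj (x : G) ((K.out : N) : G) →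
      ∃ g : G, K.out = MulAut.conjNormal g x := by
    intro K hK
    obtain ⟨c, hc⟩ := isConj_iff.1 hK
    refine ⟨c, ?_⟩
    apply Subtype.ext
    rw [MulAut.conjNormal_apply, hc]
  refine ⟨((Finset.univ : Finset (ConjClasses N)).filter
    (fun K : ConjClasses N => IsConj (x : G) ((K.out : N) : G))).card, ?_, ?_⟩
  · rw [inducedCentralChar_eq_sum N hθ, ← nsmul_eq_mul, ← Finset.sum_const,
      ← Finset.sum_sub_distrib]
    refine lideal_sum hM _ fun K hK => ?_
    obtain ⟨g, hg⟩ := hout K (Finset.mem_filter.1 hK).2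
    rw [hg]
    exact hst g
  · have h1 := card_isConj_eq_sum N (x : G)
    rw [card_isConj_subtype, card_isConj_eq_index] at h1
    rw [h1, ← smul_eq_mul, ← Finset.sum_const]
    refine Finset.sum_congr rfl fun K hK => ?_
    obtain ⟨g, hg⟩ := hout K (Finset.mem_filter.1 hK).2
    rw [hg]
    exact (index_centralizer_equiv (MulAut.conjNormal g) x).symm

end Tools

end Cfsg.Agent.Blocks.Fong
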