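import Mathlib.GroupTheory.Index
import Mathlib.GroupTheory.Sylow
import Mathlib.Data.Nat.Factorization.Basic
import Cfsg.Agent.Blocks.SylowIn

/-!
# Group-theoretic part of Fong's theorem on defect groups
-/

set_option autoImplicit false

namespace Cfsg.Agent.Blocks.FongGroup

open Cfsg.Agent.Blocks.SylowIn

variable {G : Type*} [Group G]

theorem map_conj_inf_normal (P N : Subgroup G) [hN : N.Normal] (k : G) :
    (P ⊓ N).map (MulAut.conj k).toMonoidHom = P.map (MulAut.conj k).toMonoidHom ⊓ N := by
  ext y
  rw [Subgroup.mem_map_equiv, Subgroup.mem_inf, Subgroup.mem_inf, Subgroup.mem_map_equiv,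
    MulAut.conj_symm_apply]
  constructor
  · rintro ⟨h1, h2⟩
    refine ⟨h1, ?_⟩
    have := hN.conj_mem _ h2 k
    simpa [mul_assoc] using this
  · rintro ⟨h1, h2⟩
    refine ⟨h1, ?_⟩
    have := hN.conj_mem _ h2 k⁻¹
    simpa [mul_assoc] using this

/-- A Sylow subgroup of the centralizer of `x ∈ N` meets the normal subgroup `N` in a Sylow
subgroup of the centralizer in `N`. -/
theorem sylow_inf_normal [Finite G] {p : ℕ} [Fact p.Prime] (N : Subgroup G) [hN : N.Normal]
    (x : N) (P : Subgroup G)
    (hP : ∃ S : Sylow p (Subgroup.centralizer ({(x : G)} : Set G)),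
      (S : Subgroup (Subgroup.centralizer ({(x : G)} : Set G))).map
        (Subgroup.centralizer ({(x : G)} : Set G)).subtype = P) :
    ∃ S : Sylow p (Subgroup.centralizer ({x} : Set N)),
      (S : Subgroup (Subgroup.centralizer ({x} : Set N))).map
        (Subgroup.centralizer ({x} : Set N)).subtype = (P ⊓ N).subgroupOf N := by
  have hP0 := hP
  obtain ⟨hPC, hPp, hPmax⟩ := exists_sylow_map_eq_iff.1 hP
  refine exists_sylow_map_eq_iff.2 ⟨?_, ?_, ?_⟩
  · intro y hy
    rw [Subgroup.mem_subgroupOf] at hy
    have h1 := hPC hy.1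
    rw [Subgroup.mem_centralizer_singleton_iff] at h1 ⊢
    exact Subtype.ext h1
  · exact (hPp.to_le inf_le_left).comap_subtype
  · intro Q hQC hQp hle
    have hQ'p : IsPGroup p (Q.map N.subtype) := hQp.map _
    have hQ'N : Q.map N.subtype ≤ N := Subgroup.map_subtype_le _
    have hQ'C : Q.map N.subtype ≤ Subgroup.centralizer ({(x : G)} : Set G) := by
      rintro _ ⟨y, hy, rfl⟩
      have h1 := hQC hy
      rw [Subgroup.mem_centralizer_singleton_iff] at h1 ⊢
      exact congrArg Subtype.val h1
    have h2 : IsPGroup p ((Q.map N.subtype).subgroupOf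
      (Subgroup.centralizer ({(x : G)} : Set G))) := hQ'p.comap_subtype
    obtain ⟨S, hS⟩ := h2.exists_le_sylow
    have h3 : Q.map N.subtype ≤ (S : Subgroup (Subgroup.centralizer ({(x : G)} : Set G))).map
        (Subgroup.centralizer ({(x : G)} : Set G)).subtype := by
      have := Subgroup.map_mono (f := (Subgroup.centralizer ({(x : G)} : Set G)).subtype) hS
      rwa [Subgroup.subgroupOf_map_subtype, inf_eq_left.2 hQ'C] at this
    obtain ⟨k, hk, hkP⟩ := exists_conj_of_sylow_map_eq hP0 ⟨S, rfl⟩
    have h4 : Q.map N.subtype ≤ (P ⊓ N).map (MulAut.conj k).toMonoidHom := by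
      rw [map_conj_inf_normal, hkP]
      exact le_inf h3 hQ'N
    have h5 : Nat.card ((P ⊓ N).map (MulAut.conj k).toMonoidHom) = Nat.card (P ⊓ N : Subgroup G) :=
      (Nat.card_congr ((P ⊓ N).equivMapOfInjective _ (MulAut.conj k).injective).toEquiv).symm
    have h6 : Nat.card (Q.map N.subtype) ≤ Nat.card (P ⊓ N : Subgroup G) := by
      rw [← h5]
      exact Subgroup.card_le_of_le h4
    have h7 : P ⊓ N ≤ Q.map N.subtype := by
      have := Subgroup.map_mono (f := N.subtype) hle
      rwa [Subgroup.subgroupOf_map_subtype, inf_assoc, inf_idem] at this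
    have h8 : P ⊓ N = Q.map N.subtype := Subgroup.eq_of_le_of_card_ge h7 h6
    rw [h8, Subgroup.subgroupOf, Subgroup.comap_map_eq_self_of_injective N.subtype_injective]

theorem factorization_card_pow {p k : ℕ} (hp : p.Prime) : (p ^ k).factorization p = k := by
  rw [Nat.factorization_pow, Finsupp.smul_apply, hp.factorization_self, smul_eq_mul, mul_one]

/-- The index computation of Fong's theorem. -/
theorem index_arith [Finite G] {p : ℕ} [hp : Fact p.Prime] (N : Subgroup G) [hN : N.Normal]
    (x : N) (P : Subgroup G)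
    (hP : ∃ S : Sylow p (Subgroup.centralizer ({(x : G)} : Set G)),
      (S : Subgroup (Subgroup.centralizer ({(x : G)} : Set G))).map
        (Subgroup.centralizer ({(x : G)} : Set G)).subtype = P) (t : ℕ)
    (ht : t * (Subgroup.centralizer ({x} : Set N)).index =
      (Subgroup.centralizer ({(x : G)} : Set G)).index) (hpt : ¬ p ∣ t) :
    ¬ p ∣ (P ⊔ N).index ∧
      (Nat.card P).factorization p =
        (Nat.card ((P ⊓ N).subgroupOf N)).factorization p + N.index.factorization p := by
  have hPN := sylow_inf_normal N x P hP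
  have h1 := card_of_sylow_map_eq hP
  have h2 := card_of_sylow_map_eq hPN
  have e1 := Subgroup.card_mul_index (Subgroup.centralizer ({(x : G)} : Set G))
  have e2 := Subgroup.card_mul_index (Subgroup.centralizer ({x} : Set N))
  have e3 := Subgroup.card_mul_index N
  have e4 : N.relIndex P * (P ⊔ N).index = N.index := by
    rw [← Subgroup.relIndex_sup_right P N]
    exact Subgroup.relIndex_mul_index le_sup_right
  have e5 : Nat.card ((P ⊓ N).subgroupOf N) * N.relIndex P = Nat.card P := by
    have h3 : Nat.card ((P ⊓ N).subgroupOf N) = Nat.card (N.subgroupOf P) := by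
      have h4 : Nat.card ((P ⊓ N).subgroupOf N) = Nat.card (P ⊓ N : Subgroup G) :=
        Nat.card_congr (Subgroup.subgroupOfEquivOfLe inf_le_right).toEquiv
      have h5 : Nat.card (N.subgroupOf P) = Nat.card ((P ⊓ N : Subgroup G).subgroupOf P) := by
        rw [inf_comm, Subgroup.inf_subgroupOf_right]
      have h6 : Nat.card ((P ⊓ N : Subgroup G).subgroupOf P) = Nat.card (P ⊓ N : Subgroup G) :=
        Nat.card_congr (Subgroup.subgroupOfEquivOfLe inf_le_left).toEquiv
      rw [h4, h5, h6]
    rw [h3]
    exact Subgroup.card_mul_index (N.subgroupOf P)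
  -- non-vanishing
  have n1 : Nat.card G ≠ 0 := Nat.card_pos.ne'
  have n2 : Nat.card N ≠ 0 := Nat.card_pos.ne'
  have n3 : Nat.card (Subgroup.centralizer ({(x : G)} : Set G)) ≠ 0 := Nat.card_pos.ne'
  have n4 : Nat.card (Subgroup.centralizer ({x} : Set N)) ≠ 0 := Nat.card_pos.ne'
  have n5 : (Subgroup.centralizer ({(x : G)} : Set G)).index ≠ 0 := Subgroup.index_ne_zero_of_finite
  have n6 : (Subgroup.centralizer ({x} : Set N)).index ≠ 0 := Subgroup.index_ne_zero_of_finite
  have n7 : N.index ≠ 0 := Subgroup.index_ne_zero_of_finite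
  have n8 : (P ⊔ N).index ≠ 0 := Subgroup.index_ne_zero_of_finite
  have n9 : N.relIndex P ≠ 0 := fun h => n7 (by rw [← e4, h, zero_mul])
  have n10 : Nat.card ((P ⊓ N).subgroupOf N) ≠ 0 := Nat.card_pos.ne'
  have n11 : Nat.card P ≠ 0 := Nat.card_pos.ne'
  have n12 : t ≠ 0 := fun h => hpt (h ▸ dvd_zero p)
  -- valuations
  have f1 := congrArg (fun m => m.factorization p) e1
  have f2 := congrArg (fun m => m.factorization p) e2
  have f3 := congrArg (fun m => m.factorization p) e3
  have f4 := congrArg (fun m => m.factorization p) e4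
  have f5 := congrArg (fun m => m.factorization p) e5
  have f6 := congrArg (fun m => m.factorization p) ht
  have f7 := congrArg (fun m => m.factorization p) h1
  have f8 := congrArg (fun m => m.factorization p) h2
  have f9 : t.factorization p = 0 := Nat.factorization_eq_zero_of_not_dvd hpt
  simp only [Nat.factorization_mul n3 n5, Nat.factorization_mul n4 n6, Nat.factorization_mul n2 n7,
    Nat.factorization_mul n9 n8, Nat.factorization_mul n10 n9, Nat.factorization_mul n12 n6,
    Finsupp.add_apply, factorization_card_pow hp.out] at f1 f2 f3 f4 f5 f6 f7 f8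
  have f10 : (P ⊔ N).index.factorization p = 0 := by omega
  refine ⟨?_, by omega⟩
  intro hdvd
  have := (hp.out.dvd_iff_one_le_factorization n8).1 hdvd
  omega

end Cfsg.Agent.Blocks.FongGroup
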