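import Mathlib
import Cfsg.Prelude.Def_Blocks
import Cfsg.Agent.Blocks.Local

/-!
# Galois conjugates of character values

One multiset of eigenvalues computes a character at all powers of an element; conjugates over the
rationals of a combination of character values are obtained by a power map on the group; algebraic
integers all of whose conjugates lie in one maximal ideal over `p` lie in all of them.
-/

set_option autoImplicit false

namespace Cfsg.Agent.Blocks.GaloisConj

open Module

/-- An endomorphism of finite order: one multiset of eigenvalues computes the traces of all powers. -/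
theorem exists_multiset_trace_pow {V : Type*} [AddCommGroup V] [Module ℂ V] [FiniteDimensional ℂ V]
    (f : Module.End ℂ V) {n : ℕ} (hn : n ≠ 0) (hf : f ^ n = 1) :
    ∃ s : Multiset ℂ, (∀ z ∈ s, z ^ n = 1) ∧
      ∀ k : ℕ, LinearMap.trace ℂ V (f ^ k) = (s.map (· ^ k)).sum := by
  classical
  have hss : f.IsSemisimple := by
    refine Module.End.isSemisimple_of_squarefree_aeval_eq_zero
      (p := (Polynomial.X ^ n - 1 : Polynomial ℂ)) ?_ (by simp [hf])
    have h := Polynomial.separable_X_pow_sub_C (1 : ℂ) (n := n) (by exact_mod_cast hn) one_ne_zero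
    have h' : (Polynomial.X ^ n - 1 : Polynomial ℂ).Separable := by simpa using h
    exact h'.squarefree
  have htop : ⨆ μ, f.eigenspace μ = ⊤ := hss.iSup_eigenspace_eq_top
  have hint : DirectSum.IsInternal fun μ : ℂ => f.eigenspace μ :=
    DirectSum.isInternal_submodule_of_iSupIndep_of_iSup_eq_top f.eigenspaces_iSupIndep htop
  have hfin : {μ : ℂ | f.eigenspace μ ≠ ⊥}.Finite :=
    WellFoundedGT.finite_ne_bot_of_iSupIndep f.eigenspaces_iSupIndep
  refine ⟨∑ μ ∈ hfin.toFinset, Multiset.replicate (finrank ℂ (f.eigenspace μ)) μ, ?_, ?_⟩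
  · intro z hz
    rw [Multiset.mem_sum] at hz
    obtain ⟨μ, hμ, hz⟩ := hz
    rw [Set.Finite.mem_toFinset] at hμ
    rw [Multiset.eq_of_mem_replicate hz]
    have hev : f.HasEigenvalue μ := hμ
    have h1 := hev.pow n
    rw [hf] at h1
    obtain ⟨v, hv⟩ := h1.exists_hasEigenvector
    have h2 := hv.apply_eq_smul
    have h3 : v = μ ^ n • v := by simpa using h2
    have h4 : (μ ^ n - 1) • v = 0 := by
      rw [sub_smul, one_smul, ← h3, sub_self]
    rcases smul_eq_zero.1 h4 with h | h
    · exact sub_eq_zero.1 h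
    · exact absurd h hv.2
  · intro k
    have hap : ∀ μ : ℂ, ∀ v ∈ f.eigenspace μ, (f ^ k) v = μ ^ k • v := by
      intro μ v hv
      rw [Module.End.mem_eigenspace_iff] at hv
      induction k with
      | zero => simp
      | succ k ih =>
        rw [pow_succ, Module.End.mul_apply, hv, map_smul, ih, smul_smul, pow_succ, mul_comm]
    have hmaps : ∀ μ : ℂ, Set.MapsTo (f ^ k) (f.eigenspace μ) (f.eigenspace μ) := by
      intro μ v hv
      rw [SetLike.mem_coe] at hv ⊢
      rw [hap μ v hv]
      exact Submodule.smul_mem _ _ hv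
    rw [LinearMap.trace_eq_sum_trace_restrict' hint hfin hmaps]
    have hms : ∀ F : Finset ℂ, ∀ r : ℂ → Multiset ℂ,
        ((∑ μ ∈ F, r μ).map (· ^ k)).sum = ∑ μ ∈ F, ((r μ).map (· ^ k)).sum := by
      intro F r
      induction F using Finset.induction_on with
      | empty => simp
      | insert a F ha ih => rw [Finset.sum_insert ha, Finset.sum_insert ha, Multiset.map_add,
          Multiset.sum_add, ih]
    rw [hms]
    refine Finset.sum_congr rfl fun μ _ => ?_
    have hr : (f ^ k).restrict (hmaps μ) = μ ^ k • (LinearMap.id : f.eigenspace μ →ₗ[ℂ] _) := by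
      ext v
      exact hap μ v v.2
    rw [hr, map_smul, LinearMap.trace_id, Multiset.map_replicate, Multiset.sum_replicate,
      nsmul_eq_mul, smul_eq_mul, mul_comm]

/-- A character value at all powers of `g`, as a sum of powers of roots of unity. -/
theorem exists_multiset_pow {G : Type*} [Group G] {χ : G → ℂ} (hχ : Cfsg.IsCharacter G χ) {n : ℕ}
    (hn : n ≠ 0) {g : G} (hg : g ^ n = 1) :
    ∃ s : Multiset ℂ, (∀ z ∈ s, z ^ n = 1) ∧ ∀ k : ℕ, χ (g ^ k) = (s.map (· ^ k)).sum := by
  obtain ⟨d, ρ, rfl⟩ := hχ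
  obtain ⟨s, hs1, hs2⟩ := exists_multiset_trace_pow (ρ g) hn (by rw [← map_pow, hg, map_one])
  refine ⟨s, hs1, fun k => ?_⟩
  rw [← hs2 k, ← map_pow]
  rfl

/-- Conjugate elements of an algebraically closed extension are related by an embedding of the
algebraic closure, which acts on `n`-th roots of unity as a power map. -/
theorem exists_embedding_aux {F E : Type*} [Field F] [Field E] [CharZero F] [Algebra F E]
    [IsAlgClosed E] {n : ℕ} (hn : n ≠ 0) {z w : E} (hz : IsIntegral F z)
    (h : IsConjRoot F z w) :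
    ∃ σ : algebraicClosure F E →+* E, (∀ c : algebraicClosure F E, (c : E) = z → σ c = w) ∧
      ∃ m : ℕ, m.Coprime n ∧ ∀ t : algebraicClosure F E, t ^ n = 1 → σ t = (t : E) ^ m := by
  have hzK : z ∈ algebraicClosure F E := mem_algebraicClosure_iff'.2 hz
  have hw : IsIntegral F w := by
    have h1 : minpoly F z = minpoly F w := h
    by_contra hw
    rw [minpoly.eq_zero hw] at h1
    exact minpoly.ne_zero hz h1
  have hwK : w ∈ algebraicClosure F E := mem_algebraicClosure_iff'.2 hw
  have : NeZero n := ⟨hn⟩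
  have : Normal F (algebraicClosure F E) := IsAlgClosure.normal F (algebraicClosure F E)
  have : CharZero (algebraicClosure F E) := charZero_of_injective_algebraMap
    (algebraMap F (algebraicClosure F E)).injective
  have h2 : IsConjRoot F (⟨w, hwK⟩ : algebraicClosure F E) ⟨z, hzK⟩ := by
    rw [← isConjRoot_algHom_iff (algebraicClosure F E).val]
    exact h.symm
  obtain ⟨τ, hτ⟩ := isConjRoot_iff_exists_algEquiv.1 h2
  refine ⟨(algebraMap (algebraicClosure F E) E).comp (τ : algebraicClosure F E →+* _), ?_, ?_⟩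
  · rintro c rfl
    exact congrArg (algebraMap (algebraicClosure F E) E) hτ
  · have : IsAlgClosed (algebraicClosure F E) := IsAlgClosure.isAlgClosed F
    have : NeZero (n : algebraicClosure F E) := ⟨by exact_mod_cast hn⟩
    obtain ⟨ζ, hζ⟩ := HasEnoughRootsOfUnity.exists_primitiveRoot (algebraicClosure F E) n
    have hζ' : IsPrimitiveRoot (τ ζ) n := hζ.map_of_injective τ.injective
    obtain ⟨m, -, hm⟩ := hζ.eq_pow_of_pow_eq_one hζ'.pow_eq_one
    refine ⟨m, ?_, fun t ht => ?_⟩
    · rw [← hm] at hζ'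
      exact (hζ.pow_iff_coprime (Nat.pos_of_ne_zero hn) m).1 hζ'
    · obtain ⟨i, -, rfl⟩ := hζ.eq_pow_of_pow_eq_one ht
      show ((τ (ζ ^ i) : algebraicClosure F E) : E) = _
      rw [map_pow, ← hm]
      push_cast
      rw [← pow_mul, ← pow_mul, mul_comm]

/-- Conjugate algebraic numbers are related by an embedding of the algebraic numbers, which acts on
`n`-th roots of unity as a power map. -/
theorem exists_embedding {n : ℕ} (hn : n ≠ 0) {z w : ℂ} (hz : IsIntegral ℚ z)
    (h : IsConjRoot ℚ z w) :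
    ∃ σ : algebraicClosure ℚ ℂ →+* ℂ, (∀ c : algebraicClosure ℚ ℂ, (c : ℂ) = z → σ c = w) ∧
      ∃ m : ℕ, m.Coprime n ∧ ∀ t : algebraicClosure ℚ ℂ, t ^ n = 1 → σ t = (t : ℂ) ^ m :=
  exists_embedding_aux hn hz h

/-- An embedding acting as a power map on roots of unity acts on character values by the power map
of the group. -/
theorem exists_map_character {G : Type*} [Group G] {χ : G → ℂ} (hχ : Cfsg.IsCharacter G χ) {n : ℕ}
    (hn : n ≠ 0) {g : G} (hg : g ^ n = 1) (σ : algebraicClosure ℚ ℂ →+* ℂ) (m : ℕ)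
    (hσ : ∀ t : algebraicClosure ℚ ℂ, t ^ n = 1 → σ t = (t : ℂ) ^ m) :
    ∃ c : algebraicClosure ℚ ℂ, (c : ℂ) = χ g ∧ σ c = χ (g ^ m) := by
  obtain ⟨s, hs1, hs2⟩ := exists_multiset_pow hχ hn hg
  have h1 := hs2 1
  rw [pow_one] at h1
  rw [h1, hs2 m]
  clear h1 hs2
  induction s using Multiset.induction_on with
  | empty => exact ⟨0, by simp, by simp⟩
  | cons a s ih =>
    obtain ⟨c, hc1, hc2⟩ := ih fun z hz => hs1 z (Multiset.mem_cons_of_mem hz)
    have ha := hs1 a (Multiset.mem_cons_self a s)
    have haK : a ∈ algebraicClosure ℚ ℂ := by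
      refine mem_algebraicClosure_iff'.2 (IsIntegral.of_pow (n := n) (Nat.pos_of_ne_zero hn) ?_)
      rw [ha]
      exact isIntegral_one
    refine ⟨⟨a, haK⟩ + c, ?_, ?_⟩
    · rw [Multiset.map_cons, Multiset.sum_cons, ← hc1]
      simp
    · rw [Multiset.map_cons, Multiset.sum_cons, ← hc2, map_add,
        hσ ⟨a, haK⟩ (Subtype.ext (by simpa using ha))]

/-- The centralizer of a power coprime to the exponent. -/
theorem centralizer_pow_eq {G : Type*} [Group G] {g : G} {n m : ℕ} (hg : g ^ n = 1)
    (hm : m.Coprime n) :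
    Subgroup.centralizer ({g ^ m} : Set G) = Subgroup.centralizer ({g} : Set G) := by
  have h1 : (orderOf g).Coprime m := Nat.Coprime.symm (hm.coprime_dvd_right (orderOf_dvd_of_pow_eq_one hg))
  obtain ⟨k, hk⟩ := exists_pow_eq_self_of_coprime h1.symm
  ext x
  rw [Subgroup.mem_centralizer_singleton_iff, Subgroup.mem_centralizer_singleton_iff]
  constructor
  · intro h
    have h2 : Commute x (g ^ m) := h
    have h3 := h2.pow_right k
    rw [hk] at h3
    exact h3
  · intro h
    have h2 : Commute x g := h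
    exact h2.pow_right m

/-- If all complex conjugates of an algebraic integer lie in one maximal ideal over `p`, it lies
in every maximal ideal over `p`. -/
theorem mem_of_forall_isConjRoot {p : ℕ} {M M' : Ideal Cfsg.AlgInt} (hM : Cfsg.IsPModular p M)
    (hM' : Cfsg.IsPModular p M') (r : Cfsg.AlgInt)
    (h : ∀ w : ℂ, IsConjRoot ℚ (r : ℂ) w → ∃ a : Cfsg.AlgInt, a ∈ M ∧ (a : ℂ) = w) : r ∈ M' := by
  classical
  have hMm : M.IsMaximal := hM.2.1
  have hMm' : M'.IsMaximal := hM'.2.1
  have : Fact p.Prime := ⟨hM.1⟩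
  have hrint : IsIntegral ℤ (r : ℂ) := r.2
  -- the minimal polynomial over `ℤ`
  set f : Polynomial ℤ := minpoly ℤ (r : ℂ) with hf
  have hmonic : f.Monic := minpoly.monic hrint
  have hfQ : minpoly ℚ (r : ℂ) = f.map (algebraMap ℤ ℚ) :=
    minpoly.isIntegrallyClosed_eq_field_fractions' ℚ hrint
  have hroot : ∀ w ∈ (f.map (algebraMap ℤ ℂ)).roots, ∃ a : Cfsg.AlgInt, a ∈ M ∧ (a : ℂ) = w := by
    intro w hw
    apply h w
    rw [isConjRoot_iff_mem_minpoly_aroots (IsIntegral.tower_top hrint), hfQ]
    rw [Polynomial.aroots, Polynomial.map_map]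
    exact hw
  -- split over `ℂ`
  have hsplit : (f.map (algebraMap ℤ ℂ)) =
      ((f.map (algebraMap ℤ ℂ)).roots.map fun a => Polynomial.X - Polynomial.C a).prod := by
    have h1 := (IsAlgClosed.splits (f.map (algebraMap ℤ ℂ))).eq_prod_roots_of_monic
      (hmonic.map _)
    exact h1
  obtain ⟨T, hT1, hT2⟩ : ∃ T : Multiset Cfsg.AlgInt, (∀ a ∈ T, a ∈ M) ∧
      T.map (fun a : Cfsg.AlgInt => (a : ℂ)) = (f.map (algebraMap ℤ ℂ)).roots := by
    generalize (f.map (algebraMap ℤ ℂ)).roots = S at hroot
    induction S using Multiset.induction_on with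
    | empty => exact ⟨0, by simp, by simp⟩
    | cons a S ih =>
      obtain ⟨T, hT1, hT2⟩ := ih fun w hw => hroot w (Multiset.mem_cons_of_mem hw)
      obtain ⟨b, hb1, hb2⟩ := hroot a (Multiset.mem_cons_self a S)
      refine ⟨b ::ₘ T, ?_, by rw [Multiset.map_cons, hT2, hb2]⟩
      intro c hc
      rcases Multiset.mem_cons.1 hc with rfl | hc
      · exact hb1
      · exact hT1 c hc
  have hAlg : f.map (algebraMap ℤ Cfsg.AlgInt) =
      (T.map fun a => Polynomial.X - Polynomial.C a).prod := by
    apply Polynomial.map_injective (algebraMap Cfsg.AlgInt ℂ) Subtype.coe_injective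
    rw [Polynomial.map_map, Polynomial.map_multiset_prod, Multiset.map_map]
    have h1 : (algebraMap Cfsg.AlgInt ℂ).comp (algebraMap ℤ Cfsg.AlgInt) = algebraMap ℤ ℂ :=
      Subsingleton.elim _ _
    rw [h1, hsplit, ← hT2, Multiset.map_map]
    congr 1
    refine Multiset.map_congr rfl fun a _ => ?_
    simp
  -- reduce mod `M`
  have hred : ∀ i, i < f.natDegree → (p : ℤ) ∣ f.coeff i := by
    intro i hi
    rw [← Cfsg.Agent.Blocks.Local.intCast_mem_iff hM]
    have h1 : (f.map (algebraMap ℤ Cfsg.AlgInt)).map (Ideal.Quotient.mk M) =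
        Polynomial.X ^ f.natDegree := by
      have hdeg : f.natDegree = Multiset.card T := by
        rw [← hmonic.natDegree_map (algebraMap ℤ Cfsg.AlgInt), hAlg,
          Polynomial.natDegree_multiset_prod_X_sub_C_eq_card]
      rw [hAlg, Polynomial.map_multiset_prod, Multiset.map_map, hdeg]
      have h2 : T.map (Polynomial.map (Ideal.Quotient.mk M) ∘
          fun a => Polynomial.X - Polynomial.C a) = T.map fun _ => Polynomial.X := by
        refine Multiset.map_congr rfl fun a ha => ?_
        have h3 : Ideal.Quotient.mk M a = 0 := Ideal.Quotient.eq_zero_iff_mem.2 (hT1 a ha)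
        simp [h3]
      rw [h2, Multiset.map_const', Multiset.prod_replicate]
    have h2 := congrArg (fun q => q.coeff i) h1
    simp only [Polynomial.coeff_map, Polynomial.coeff_X_pow, if_neg hi.ne] at h2
    have h3 := Ideal.Quotient.eq_zero_iff_mem.1 h2
    simpa using h3
  -- conclude mod `M'`
  have hpr : f.map (algebraMap ℤ (Cfsg.AlgInt ⧸ M')) = Polynomial.X ^ f.natDegree := by
    ext i
    rw [Polynomial.coeff_map, Polynomial.coeff_X_pow]
    rcases lt_trichotomy i f.natDegree with hi | hi | hi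
    · rw [if_neg hi.ne]
      obtain ⟨c, hc⟩ := hred i hi
      rw [hc, map_mul]
      have h4 : (algebraMap ℤ (Cfsg.AlgInt ⧸ M')) (p : ℤ) = 0 := by
        have h5 : Ideal.Quotient.mk M' (p : Cfsg.AlgInt) = 0 :=
          Ideal.Quotient.eq_zero_iff_mem.2 hM'.2.2
        simpa using h5
      rw [h4, zero_mul]
    · rw [if_pos hi, hi, hmonic.coeff_natDegree, map_one]
    · rw [if_neg hi.ne', Polynomial.coeff_eq_zero_of_natDegree_lt hi, map_zero]
  have hev : Polynomial.aeval (Ideal.Quotient.mk M' r) f = 0 := by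
    have h1 : Polynomial.aeval r f = 0 := by
      apply Subtype.coe_injective
      have h2 : (algebraMap Cfsg.AlgInt ℂ) (Polynomial.aeval r f) =
          Polynomial.aeval ((algebraMap Cfsg.AlgInt ℂ) r) f := by
        rw [Polynomial.aeval_algebraMap_apply]
      have h3 : Polynomial.aeval (r : ℂ) f = 0 := minpoly.aeval ℤ (r : ℂ)
      exact h2.trans h3
    have h2 : Polynomial.aeval (Ideal.Quotient.mk M' r) f =
        Ideal.Quotient.mk M' (Polynomial.aeval r f) := by
      have := Polynomial.aeval_algebraMap_apply (Cfsg.AlgInt ⧸ M') r f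
      exact this
    rw [h2, h1, map_zero]
  rw [← Ideal.Quotient.eq_zero_iff_mem]
  have h6 : (Ideal.Quotient.mk M' r) ^ f.natDegree = 0 := by
    rw [← hev, Polynomial.aeval_def, ← Polynomial.eval_map, hpr]
    simp
  exact eq_zero_of_pow_eq_zero h6

end Cfsg.Agent.Blocks.GaloisConj
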