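import Mathlib
import Cfsg.Prelude.Def_Blocks
import Cfsg.Agent.Blocks.Local
import Cfsg.Agent.Blocks.Basic
import Cfsg.Agent.Blocks.ConvCentral
import Cfsg.Agent.Blocks.OrbitSum
import Cfsg.Agent.Characters.Core
import Cfsg.Agent.S0913

/-!
# The min-max lemma for defect classes

* `omega_conv`: central characters are multiplicative for the convolution of class functions.
* `omega_blockCoeff`: the central character of the block idempotent.
* `exists_conv_eq_blockCoeff`: if `f` is a local-integral class function whose central characters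
  over `B` are units, then the block idempotent is `f * w` with `w` local-integral.
* `exists_centralizer_of_blockCoeff`: if moreover the block coefficient at `y` is a unit and
  `S` is a `p`-subgroup centralizing `y`, then `f x` is a unit for some `x` centralized by `S`.
-/

set_option autoImplicit false
set_option linter.unusedSectionVars false

open Cfsg

namespace Cfsg.Agent.Blocks.MinMax

open scoped ComplexConjugate
open Cfsg.Agent.Blocks.Local Cfsg.Agent.Blocks.ConvCentral

variable {G : Type*} [Group G] [Fintype G]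

/-- The central character of `χ` evaluated at the function `f`. -/
noncomputable def omega (χ f : G → ℂ) : ℂ := lin χ f / χ 1

theorem omega_def (χ f : G → ℂ) : omega χ f = lin χ f / χ 1 := rfl

theorem lin_add (χ f f' : G → ℂ) : lin χ (f + f') = lin χ f + lin χ f' := by
  simp only [lin_def, Pi.add_apply, add_mul, Finset.sum_add_distrib]

theorem lin_sub (χ f f' : G → ℂ) : lin χ (f - f') = lin χ f - lin χ f' := by
  simp only [lin_def, Pi.sub_apply, sub_mul, Finset.sum_sub_distrib]

theorem lin_smul (χ : G → ℂ) (c : ℂ) (f : G → ℂ) : lin χ (c • f) = c * lin χ f := by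
  simp only [lin_def, Pi.smul_apply, smul_eq_mul, mul_assoc, Finset.mul_sum]

theorem omega_add (χ f f' : G → ℂ) : omega χ (f + f') = omega χ f + omega χ f' := by
  rw [omega_def, omega_def, omega_def, lin_add, add_div]

theorem omega_sub (χ f f' : G → ℂ) : omega χ (f - f') = omega χ f - omega χ f' := by
  rw [omega_def, omega_def, omega_def, lin_sub, sub_div]

theorem omega_smul (χ : G → ℂ) (c : ℂ) (f : G → ℂ) : omega χ (c • f) = c * omega χ f := by
  rw [omega_def, omega_def, lin_smul, mul_div_assoc]

theorem omega_zero (χ : G → ℂ) : omega χ 0 = 0 := by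
  rw [omega_def, lin_def]; simp

/-- Central characters are multiplicative. -/
theorem omega_conv {χ : G → ℂ} (hχ : IsIrrCharacter G χ) {f f' : G → ℂ}
    (hf : IsClassFunction G f) : omega χ (conv f f') = omega χ f * omega χ f' := by
  have h := lin_conv hχ (f' := f') hf
  have h1 := irr_one_ne_zero hχ
  rw [omega_def, omega_def, omega_def]
  field_simp
  exact h

/-- The unit element of the convolution algebra. -/
noncomputable def delta : G → ℂ := by
  classical
  exact fun g => if g = 1 then 1 else 0

theorem delta_one : (delta : G → ℂ) 1 = 1 := by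
  classical
  unfold delta
  exact if_pos rfl

theorem delta_ne {g : G} (h : g ≠ 1) : (delta : G → ℂ) g = 0 := by
  classical
  unfold delta
  exact if_neg h

theorem isClassFunction_delta : IsClassFunction G (delta : G → ℂ) := by
  intro g h
  by_cases hg : g = 1
  · subst hg; simp
  · have : h * g * h⁻¹ ≠ 1 := by
      intro h'
      apply hg
      have := congrArg (fun z => h⁻¹ * z * h) h'
      simpa [mul_assoc] using this
    rw [delta_ne hg, delta_ne this]

theorem omega_delta {χ : G → ℂ} (hχ : χ 1 ≠ 0) : omega χ delta = 1 := by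
  classical
  rw [omega_def, lin_def, Finset.sum_eq_single 1]
  · rw [delta_one, one_mul, div_self hχ]
  · intro g _ hg
    rw [delta_ne hg, zero_mul]
  · simp

theorem isClassFunction_smul {f : G → ℂ} (hf : IsClassFunction G f) (c : ℂ) :
    IsClassFunction G (c • f) := fun g h => by
  simp only [Pi.smul_apply, hf g h]

theorem isClassFunction_add {f f' : G → ℂ} (hf : IsClassFunction G f)
    (hf' : IsClassFunction G f') : IsClassFunction G (f + f') := fun g h => by
  simp only [Pi.add_apply, hf g h, hf' g h]

theorem isClassFunction_sub {f f' : G → ℂ} (hf : IsClassFunction G f)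
    (hf' : IsClassFunction G f') : IsClassFunction G (f - f') := fun g h => by
  simp only [Pi.sub_apply, hf g h, hf' g h]

theorem isClassFunction_irr {χ : G → ℂ} (hχ : IsIrrCharacter G χ) : IsClassFunction G χ := by
  obtain ⟨n, ρ, _, rfl⟩ := hχ
  exact fun g h => ρ.char_conj g h

/-- A class function killed by all central characters vanishes. -/
theorem eq_zero_of_omega {f : G → ℂ} (hf : IsClassFunction G f)
    (h : ∀ χ : G → ℂ, IsIrrCharacter G χ → omega χ f = 0) : f = 0 := by
  refine Cfsg.Agent.Characters.Core.classFunction_eq_zero hf fun χ hχ => ?_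
  have h1 := h _ (Cfsg.Agent.Characters.Core.isIrr_conj hχ)
  rw [omega_def, div_eq_zero_iff] at h1
  have h2 := h1.resolve_right (irr_one_ne_zero (Cfsg.Agent.Characters.Core.isIrr_conj hχ))
  rw [lin_def] at h2
  change (Nat.card G : ℂ)⁻¹ * ∑ g : G, f g * conj (χ g) = 0
  rw [h2, mul_zero]

/-- Two class functions with the same central characters are equal. -/
theorem eq_of_omega {f f' : G → ℂ} (hf : IsClassFunction G f) (hf' : IsClassFunction G f')
    (h : ∀ χ : G → ℂ, IsIrrCharacter G χ → omega χ f = omega χ f') : f = f' := by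
  rw [← sub_eq_zero]
  refine eq_zero_of_omega (isClassFunction_sub hf hf') fun χ hχ => ?_
  rw [omega_sub, h χ hχ, sub_self]

theorem isClassFunction_blockCoeff (B : Set (IrrCharacter G)) :
    IsClassFunction G (blockCoeff B) := by
  intro g h
  rw [Cfsg.Agent.Blocks.Basic.blockCoeff_def, Cfsg.Agent.Blocks.Basic.blockCoeff_def]
  congr 1
  refine finsum_mem_congr rfl fun χ _ => ?_
  rw [isClassFunction_irr χ.2]

/-- The central characters of the block idempotent. -/
theorem omega_blockCoeff (B : Set (IrrCharacter G)) (ψ : IrrCharacter G)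
    [Decidable (ψ ∈ B)] : omega (ψ : G → ℂ) (blockCoeff B) = if ψ ∈ B then 1 else 0 := by
  classical
  have := Cfsg.Agent.Characters.Core.finite_irr (G := G)
  have := Fintype.ofFinite (IrrCharacter G)
  have hψ1 := irr_one_ne_zero ψ.2
  have key : lin (ψ : G → ℂ) (blockCoeff B) =
      ∑ χ ∈ B.toFinset, (χ : G → ℂ) 1 * classInner (ψ : G → ℂ) (χ : G → ℂ) := by
    rw [lin_def]
    have h1 : ∀ g : G, blockCoeff B g * (ψ : G → ℂ) g = ∑ χ ∈ B.toFinset,
        (χ : G → ℂ) 1 * ((Nat.card G : ℂ)⁻¹ * ((ψ : G → ℂ) g * conj ((χ : G → ℂ) g))) := by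
      intro g
      rw [Cfsg.Agent.Blocks.Basic.blockCoeff_def, finsum_mem_eq_toFinset_sum, Finset.mul_sum,
        Finset.sum_mul]
      refine Finset.sum_congr rfl fun χ _ => ?_
      ring
    rw [Finset.sum_congr rfl fun g _ => h1 g, Finset.sum_comm]
    refine Finset.sum_congr rfl fun χ _ => ?_
    rw [← Finset.mul_sum, ← Finset.mul_sum]
    rfl
  rw [omega_def, key]
  by_cases hψ : ψ ∈ B
  · rw [if_pos hψ, Finset.sum_eq_single ψ]
    · rw [Cfsg.Agent.Characters.Core.classInner_irr_self ψ.2, mul_one, div_self hψ1]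
    · intro χ _ hχ
      rw [Cfsg.Agent.Characters.Core.classInner_irr_ne ψ.2 χ.2
        (fun h => hχ (Subtype.ext h.symm)), mul_zero]
    · intro h
      exact absurd (Set.mem_toFinset.mpr hψ) h
  · rw [if_neg hψ, Finset.sum_eq_zero, zero_div]
    intro χ hχ
    rw [Cfsg.Agent.Characters.Core.classInner_irr_ne ψ.2 χ.2
      (fun h => hψ (by rw [Subtype.ext h]; exact Set.mem_toFinset.mp hχ)), mul_zero]

section Modular

variable {M : Ideal AlgInt} [hP : M.IsPrime]

theorem memLocalRing_conv {f f' : G → ℂ} (hf : ∀ g, MemLocalRing M (f g))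
    (hf' : ∀ g, MemLocalRing M (f' g)) (g : G) : MemLocalRing M (conv f f' g) := by
  rw [conv_apply]
  exact memLocalRing_sum fun x _ => memLocalRing_mul (hf x) (hf' _)

theorem memLocalRing_delta (g : G) : MemLocalRing M ((delta : G → ℂ) g) := by
  by_cases hg : g = 1
  · subst hg; rw [delta_one]; exact memLocalRing_one
  · rw [delta_ne hg]; exact memLocalRing_zero

/-- The central character of a local-integral class function is a local integer. -/
theorem memLocalRing_omega {χ f : G → ℂ} (hχ : IsIrrCharacter G χ) (hf : IsClassFunction G f)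
    (hfR : ∀ g, MemLocalRing M (f g)) : MemLocalRing M (omega χ f) := by
  classical
  -- expand along the conjugacy classes
  have hfib : ∀ c : ConjClasses G, ∑ g ∈ Finset.univ.filter (fun g => ConjClasses.mk g = c),
      f g * χ g = f (Quotient.out c) * (centralChar χ (Quotient.out c) * χ 1) := by
    intro c
    set y : G := Quotient.out c with hy
    have hyc : ConjClasses.mk y = c := Quotient.out_eq _
    have h1 := lin_classInd (isClassFunction_irr hχ) y
    rw [div_eq_iff (irr_one_ne_zero hχ), lin_def] at h1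
    rw [← h1, Finset.mul_sum, Finset.sum_filter]
    refine Finset.sum_congr rfl fun g _ => ?_
    by_cases hg : ConjClasses.mk g = c
    · rw [if_pos hg]
      have hyg : IsConj y g := by
        rw [← ConjClasses.mk_eq_mk_iff_isConj, hyc, hg]
      obtain ⟨t, ht⟩ := isConj_iff.1 hyg
      rw [classInd_of_isConj hyg, ← ht, hf]
      simp
    · rw [if_neg hg]
      have hyg : ¬ IsConj y g := by
        rw [← ConjClasses.mk_eq_mk_iff_isConj, hyc]
        exact fun h => hg h.symm
      rw [classInd_of_not hyg]
      simp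
  have := Fintype.ofFinite (ConjClasses G)
  have h2 : lin χ f = (∑ c : ConjClasses G, f (Quotient.out c) *
      centralChar χ (Quotient.out c)) * χ 1 := by
    rw [lin_def, ← Finset.sum_fiberwise (s := (Finset.univ : Finset G))
      (g := fun g => ConjClasses.mk g), Finset.sum_mul]
    refine Finset.sum_congr rfl fun c _ => ?_
    rw [hfib c]
    ring
  rw [omega_def, h2, mul_div_cancel_right₀ _ (irr_one_ne_zero hχ)]
  exact memLocalRing_sum fun c _ => memLocalRing_mul (hfR _)
    (memLocalRing_of_isIntegral (isIntegral_centralChar hχ _))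

/-- Partial inverse: for a finite set `T` of irreducible characters on which the central characters
of `f` are units there is a local-integral class function `w` with
`ω_ψ(w) ω_ψ(f) = 1 - ∏_{χ ∈ T} (1 - ω_ψ(f) / ω_χ(f))` for all `ψ`. -/
theorem exists_partial_inverse {f : G → ℂ} (hf : IsClassFunction G f)
    (hfR : ∀ g, MemLocalRing M (f g)) (T : Finset (IrrCharacter G))
    (hT : ∀ χ ∈ T, ¬ MemLocalIdeal M (omega (χ : G → ℂ) f)) :
    ∃ w : G → ℂ, IsClassFunction G w ∧ (∀ g, MemLocalRing M (w g)) ∧
      ∀ ψ : G → ℂ, IsIrrCharacter G ψ → omega ψ w * omega ψ f =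
        1 - ∏ χ ∈ T, (1 - omega ψ f / omega (χ : G → ℂ) f) := by
  classical
  induction T using Finset.induction_on with
  | empty =>
    refine ⟨0, fun _ _ => rfl, fun _ => memLocalRing_zero, fun ψ _ => ?_⟩
    rw [omega_zero]; simp
  | insert χ T hχT ih =>
    obtain ⟨w, hw, hwR, hwψ⟩ := ih fun χ hχ => hT χ (Finset.mem_insert_of_mem hχ)
    have hχu := hT χ (Finset.mem_insert_self χ T)
    have hcR : MemLocalRing M (omega (χ : G → ℂ) f)⁻¹ :=
      memLocalRing_inv (memLocalRing_omega χ.2 hf hfR) hχu
    set c := (omega (χ : G → ℂ) f)⁻¹ with hc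
    refine ⟨w + c • delta - c • conv f w, ?_, ?_, ?_⟩
    · exact isClassFunction_sub (isClassFunction_add hw (isClassFunction_smul
        isClassFunction_delta c)) (isClassFunction_smul (isClassFunction_conv hf hw) c)
    · intro g
      simp only [Pi.sub_apply, Pi.add_apply, Pi.smul_apply, smul_eq_mul]
      exact memLocalRing_sub (memLocalRing_add (hwR g) (memLocalRing_mul hcR
        (memLocalRing_delta g))) (memLocalRing_mul hcR (memLocalRing_conv hfR hwR g))
    · intro ψ hψ
      rw [Finset.prod_insert hχT, omega_sub, omega_add, omega_smul, omega_smul,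
        omega_delta (irr_one_ne_zero hψ), omega_conv hψ hf]
      have h1 := hwψ ψ hψ
      have h2 : ∏ χ ∈ T, (1 - omega ψ f / omega (χ : G → ℂ) f) = 1 - omega ψ w * omega ψ f := by
        rw [h1]; ring
      rw [h2, div_eq_mul_inv, ← hc]
      ring

/-- If the central characters over `B` of the local-integral class function `f` are units, then
the idempotent of `B` is the product of `f` with a local-integral class function (supported on `B`). -/
theorem exists_conv_eq_blockCoeff {f : G → ℂ} (hf : IsClassFunction G f)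
    (hfR : ∀ g, MemLocalRing M (f g)) (B : Set (IrrCharacter G))
    (hBR : ∀ g, MemLocalRing M (blockCoeff B g))
    (hB : ∀ χ ∈ B, ¬ MemLocalIdeal M (omega (χ : G → ℂ) f)) :
    ∃ w : G → ℂ, IsClassFunction G w ∧ (∀ g, MemLocalRing M (w g)) ∧
      blockCoeff B = conv f w ∧ ∀ ψ : IrrCharacter G, ψ ∉ B → omega (ψ : G → ℂ) w = 0 := by
  classical
  have := Cfsg.Agent.Characters.Core.finite_irr (G := G)
  have := Fintype.ofFinite (IrrCharacter G)
  obtain ⟨w, hw, hwR, hwψ⟩ := exists_partial_inverse (M := M) hf hfR B.toFinset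
    (fun χ hχ => hB χ (Set.mem_toFinset.mp hχ))
  have hcl := isClassFunction_conv (isClassFunction_blockCoeff B) hw
  refine ⟨conv (blockCoeff B) w, hcl, memLocalRing_conv hBR hwR, ?_, ?_⟩
  · refine eq_of_omega (isClassFunction_blockCoeff B) (isClassFunction_conv hf hcl) fun ψ hψ => ?_
    rw [omega_conv hψ hf, omega_conv hψ (isClassFunction_blockCoeff B)]
    have h1 := omega_blockCoeff B ⟨ψ, hψ⟩
    simp only at h1
    rw [h1]
    by_cases hψB : (⟨ψ, hψ⟩ : IrrCharacter G) ∈ B
    · rw [if_pos hψB]
      have h2 := hwψ ψ hψ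
      have h3 : ∏ χ ∈ B.toFinset, (1 - omega ψ f / omega (χ : G → ℂ) f) = 0 := by
        refine Finset.prod_eq_zero (Set.mem_toFinset.mpr hψB) ?_
        rw [div_self (ne_zero_of_not_memLocalIdeal (hB _ hψB)), sub_self]
      rw [h3, sub_zero] at h2
      rw [one_mul, mul_comm, h2]
    · rw [if_neg hψB]
      ring
  · intro ψ hψ
    rw [omega_conv ψ.2 (isClassFunction_blockCoeff B), omega_blockCoeff B ψ, if_neg hψ, zero_mul]

/-- Convolution and a `p`-group `S` centralizing `y`: if `(f * w)(y)` is not in the local ideal then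
`f x * w (x⁻¹ * y)` is not in the local ideal for some `x` centralized by `S`. -/
theorem exists_centralizer_of_conv {p : ℕ} [Fact p.Prime] (hM : IsPModular p M)
    {f w : G → ℂ} (hfR : ∀ g, MemLocalRing M (f g)) (hwR : ∀ g, MemLocalRing M (w g))
    {S : Subgroup G} (hS : IsPGroup p S) {y : G}
    (hSy : S ≤ Subgroup.centralizer ({y} : Set G))
    (hf : ∀ u ∈ S, ∀ x : G, f (u * x * u⁻¹) = f x)
    (hw : ∀ u ∈ S, ∀ x : G, w (u * x * u⁻¹) = w x)
    (h : ¬ MemLocalIdeal M (conv f w y)) :
    ∃ x ∈ Subgroup.centralizer (S : Set G), ¬ MemLocalIdeal M (f x * w (x⁻¹ * y)) := by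
  classical
  by_contra hcon
  push Not at hcon
  apply h
  let F : G → localRing M := fun x => ⟨f x * w (x⁻¹ * y), memLocalRing_mul (hfR x) (hwR _)⟩
  have hF : ∀ u ∈ S, ∀ x : G, F (u * x * u⁻¹) = F x := by
    intro u hu x
    apply Subtype.ext
    change f (u * x * u⁻¹) * w ((u * x * u⁻¹)⁻¹ * y) = f x * w (x⁻¹ * y)
    have h1 : y * u = u * y := by
      have := Subgroup.mem_centralizer_singleton_iff.mp (hSy hu)
      rw [this]
    have h2 : (u * x * u⁻¹)⁻¹ * y = u * (x⁻¹ * y) * u⁻¹ := by
      have h3 : u⁻¹ * y = y * u⁻¹ := by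
        rw [inv_mul_eq_iff_eq_mul, ← mul_assoc, ← h1, mul_assoc, mul_inv_cancel, mul_one]
      calc (u * x * u⁻¹)⁻¹ * y = u * x⁻¹ * (u⁻¹ * y) := by group
        _ = u * x⁻¹ * (y * u⁻¹) := by rw [h3]
        _ = u * (x⁻¹ * y) * u⁻¹ := by group
    rw [hf u hu, h2, hw u hu]
  obtain ⟨a, ha⟩ := Cfsg.Agent.Blocks.OrbitSum.sum_eq_sum_centralizer_add_smul S hS F hF
  have h4 : conv f w y = ((∑ x, F x : localRing M) : ℂ) := by
    rw [conv_apply]
    push_cast
    rfl
  rw [h4, ha]
  push_cast
  refine memLocalIdeal_add (memLocalIdeal_sum fun x hx => ?_) ?_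
  · exact hcon x (Finset.mem_filter.mp hx).2
  · rw [nsmul_eq_mul]
    exact memLocalIdeal_mul_right (memLocalIdeal_p hM) a.2

/-- **Min-max lemma**: if the idempotent coefficient of `B` at `y` is not in the local ideal, `f` is a
local-integral class function whose central characters over `B` are units, and `S` is a
`p`-subgroup centralizing `y`, then `f x` is not in the local ideal for some `x` centralized by
`S`. -/
theorem exists_centralizer_of_blockCoeff {p : ℕ} [Fact p.Prime] (hM : IsPModular p M)
    {f : G → ℂ} (hf : IsClassFunction G f) (hfR : ∀ g, MemLocalRing M (f g))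
    {B : Set (IrrCharacter G)} (hBR : ∀ g, MemLocalRing M (blockCoeff B g))
    (hB : ∀ χ ∈ B, ¬ MemLocalIdeal M (omega (χ : G → ℂ) f))
    {S : Subgroup G} (hS : IsPGroup p S) {y : G}
    (hSy : S ≤ Subgroup.centralizer ({y} : Set G)) (h : ¬ MemLocalIdeal M (blockCoeff B y)) :
    ∃ x ∈ Subgroup.centralizer (S : Set G), ¬ MemLocalIdeal M (f x) := by
  obtain ⟨w, hw, hwR, hwe, -⟩ := exists_conv_eq_blockCoeff hf hfR B hBR hB
  rw [hwe] at h
  obtain ⟨x, hx, hx'⟩ := exists_centralizer_of_conv hM hfR hwR hS hSy
    (fun u _ x => hf x u) (fun u _ x => hw x u) h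
  exact ⟨x, hx, fun h' => hx' (memLocalIdeal_mul_right h' (hwR _))⟩

theorem omega_classInd {χ : G → ℂ} (hχ : IsIrrCharacter G χ) (g : G) :
    omega χ (fun x => (classInd g x : ℂ)) = centralChar χ g :=
  lin_classInd (isClassFunction_irr hχ) g

end Modular

/-- **Min-max lemma, class form**: let `B` be a block, let the central characters of `B` at `g` be
units, let the idempotent coefficient of `B` at `y` be a unit, and let `S` be a `p`-subgroup
centralizing `y`. Then `S` centralizes a conjugate of `g`. -/
theorem exists_isConj_of_blockCoeff {p : ℕ} [Fact p.Prime] {M : Ideal AlgInt}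
    (hM : IsPModular p M) {B : Set (IrrCharacter G)} (hB : IsPBlock M B) {g y : G}
    (hg : ∃ χ ∈ B, ¬ MemLocalIdeal M (centralChar (χ : G → ℂ) g))
    (hy : ¬ MemLocalIdeal M (blockCoeff B y))
    {S : Subgroup G} (hS : IsPGroup p S) (hSy : S ≤ Subgroup.centralizer ({y} : Set G)) :
    ∃ x : G, IsConj g x ∧ S ≤ Subgroup.centralizer ({x} : Set G) := by
  have hP : M.IsPrime := isPrime_of_isPModular hM
  obtain ⟨χ, hχB, hχg⟩ := hg
  obtain ⟨x, hx, hx'⟩ := exists_centralizer_of_blockCoeff hM (isClassFunction_classInd g)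
    (fun z => memLocalRing_intCast _) (B := B) (fun z => Cfsg.Agent.S0913.result p M hM B hB z)
    (fun ψ hψ => by
      rw [omega_classInd ψ.2]
      intro h
      exact hχg ((Cfsg.Agent.Blocks.Basic.centralChar_memLocalIdeal_iff hB hχB hψ g).mpr h))
    hS hSy hy
  refine ⟨x, ?_, ?_⟩
  · by_contra hc
    apply hx'
    rw [classInd_of_not hc]
    simpa using memLocalIdeal_zero
  · intro s hs
    rw [Subgroup.mem_centralizer_singleton_iff]
    exact Subgroup.mem_centralizer_iff.mp hx s hs

end Cfsg.Agent.Blocks.MinMax
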