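import Mathlib
import Cfsg.Prelude.Def_Blocks
import Cfsg.Agent.Characters.Core
import Cfsg.Agent.Characters.ClassMul
import Cfsg.Agent.Blocks.LocalRing
import Cfsg.Agent.Blocks.Basic
import Cfsg.Agent.Blocks.SylowIn
import Cfsg.Agent.Blocks.DefectCard
import Cfsg.Agent.Blocks.AvgTrace
import Cfsg.Agent.Blocks.HeightZero
import Cfsg.Agent.Blocks.OrbitCount
import Cfsg.Agent.S0135
import Cfsg.Agent.S0145
import Cfsg.Agent.S0907
import Cfsg.Agent.S0908
import Cfsg.Agent.S0911
import Cfsg.Agent.S0913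

/-!
# The core of Green's theorem on defect groups as Sylow intersections

For a block `B` with defect group `D` and any Sylow `p`-subgroup `S` there is an element `u` in a
defect class of `B` with `S ∩ uSu⁻¹` of order `|D|` and centralized by `u`.
-/

set_option autoImplicit false

namespace Cfsg.Agent.Blocks.GreenCore

open Cfsg
open scoped ComplexConjugate
open Cfsg.Agent.Blocks.LocalRing
open Cfsg.Agent.Blocks.HeightZero (regSum regCoeff regCoeff_of_dvd regCoeff_of_not_dvd)
open Cfsg.Agent.Blocks.Basic (blockCoeff_def centralChar_def irr_isClassFunction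
  irr_one_ne_zero irr_one_eq_charDegree blockCoeff_isConj isPBlock_sameBlock isPBlock_mem_iff
  isPBlock_nonempty)

variable {p : ℕ} {M : Ideal AlgInt}

/-! ### A weighted orbit lemma -/

/-- Let a `p`-group `Q` act on a finite set `X` with all orbits of size divisible by `p ^ e`, and
let `f` be an invariant function with values in the local ring.  If `p ^ (-e) ∑ f` is not in the
local ideal, some point has orbit of size exactly `p ^ e` and value of `f` outside the local
ideal. -/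
theorem exists_orbit_of_sum {Q X : Type*} [Group Q] [MulAction Q X] [Fintype X]
    (hM : IsPModular p M) (hQ : IsPGroup p Q) (f : X → ℂ)
    (hf : ∀ (u : Q) (x : X), f (u • x) = f x) (hfR : ∀ x, MemLocalRing M (f x)) (e : ℕ)
    (he : ∀ x : X, p ^ e ∣ Nat.card (MulAction.orbit Q x))
    (hsum : ¬ MemLocalIdeal M ((∑ x, f x) / (p : ℂ) ^ e)) :
    ∃ x : X, Nat.card (MulAction.orbit Q x) = p ^ e ∧ ¬ MemLocalIdeal M (f x) := by
  classical
  have hpF : Fact p.Prime := ⟨hM.1⟩
  have hp0 : (p : ℂ) ≠ 0 := by exact_mod_cast hM.1.ne_zero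
  have hfinQ : Finite (Quotient (MulAction.orbitRel Q X)) := Quotient.finite _
  have : Fintype (Quotient (MulAction.orbitRel Q X)) := Fintype.ofFinite _
  have : ∀ ω : Quotient (MulAction.orbitRel Q X),
      Fintype (MulAction.orbitRel.Quotient.orbit ω) := fun ω => Fintype.ofFinite _
  by_contra hcon
  push Not at hcon
  apply hsum
  have h1 : ∑ x, f x = ∑ ω : Quotient (MulAction.orbitRel Q X),
      ∑ y : MulAction.orbitRel.Quotient.orbit ω, f (y : X) := by
    rw [← Fintype.sum_sigma']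
    exact Fintype.sum_equiv (MulAction.selfEquivSigmaOrbits' Q X) _ _ (fun x => rfl)
  rw [h1, Finset.sum_div]
  refine memLocalIdeal_sum hM _ _ fun ω _ => ?_
  induction ω using Quotient.inductionOn with
  | _ x =>
    have hset : MulAction.orbitRel.Quotient.orbit (Quotient.mk (MulAction.orbitRel Q X) x) =
        MulAction.orbit Q x := MulAction.orbitRel.Quotient.orbit_mk x
    have h2 : ∀ y : MulAction.orbitRel.Quotient.orbit (Quotient.mk (MulAction.orbitRel Q X) x),
        f (y : X) = f x := by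
      intro y
      have hy : (y : X) ∈ MulAction.orbit Q x := by
        rw [← hset]
        exact y.2
      obtain ⟨u, hu⟩ := hy
      rw [← hu]
      exact hf u x
    rw [Finset.sum_congr rfl fun y _ => h2 y, Finset.sum_const, nsmul_eq_mul, Finset.card_univ,
      ← Nat.card_eq_fintype_card, hset]
    obtain ⟨n, hn⟩ := hQ.card_orbit x
    obtain ⟨k, hk⟩ := he x
    have hk2 : (p ^ e * k : ℕ) = p ^ n := by rw [← hk, hn]
    have h3 : ((Nat.card (MulAction.orbit Q x) : ℕ) : ℂ) * f x / (p : ℂ) ^ e = (k : ℂ) * f x := by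
      rw [hk]
      push_cast
      field_simp
    rw [h3]
    by_cases hk1 : p ∣ k
    · exact memLocalIdeal_mul_right hM ((memLocalIdeal_natCast_iff hM k).2 hk1) (hfR x)
    · have hk3 : k = 1 := by
        have h4 : k ∣ p ^ n := ⟨p ^ e, by rw [← hk2]; ring⟩
        obtain ⟨m, -, hm⟩ := (Nat.dvd_prime_pow hM.1).1 h4
        rcases Nat.eq_zero_or_pos m with hm0 | hm0
        · rw [hm, hm0, pow_zero]
        · exact absurd (hm ▸ dvd_pow_self p hm0.ne') hk1
      rw [hk3, Nat.cast_one, one_mul]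
      exact hcon x (by rw [hk, hk3, mul_one])

/-! ### Averages over a Sylow subgroup -/

section Avg

variable {G : Type*} [Group G] [Fintype G]

/-- The average of a function over a subgroup. -/
noncomputable def avg (S : Subgroup G) (ψ : G → ℂ) : ℂ := (Nat.card S : ℂ)⁻¹ * ∑ᶠ s : S, ψ s

omit [Fintype G] in
theorem avg_def (S : Subgroup G) [Fintype S] (ψ : G → ℂ) :
    avg S ψ = (Nat.card S : ℂ)⁻¹ * ∑ s : S, ψ s := by
  rw [avg, finsum_eq_sum_of_fintype]

theorem isIntegral_avg (S : Subgroup G) {ψ : G → ℂ} (hψ : IsIrrCharacter G ψ) :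
    IsIntegral ℤ (avg S ψ) := by
  have : Fintype S := Fintype.ofFinite S
  rw [avg_def]
  have h := Cfsg.Agent.Blocks.AvgTrace.isIntegral_avg
    (Cfsg.Agent.Characters.Core.isIrr_isCharacter hψ) S 1 (fun u _ => Commute.one_left u)
  simpa using h

theorem memLocalRing_avg (hM : IsPModular p M) (S : Subgroup G) {ψ : G → ℂ}
    (hψ : IsIrrCharacter G ψ) : MemLocalRing M (avg S ψ) :=
  memLocalRing_of_isIntegral hM (isIntegral_avg S hψ)

omit [Fintype G] in
/-- A `p`-element conjugate to a `p`-regular element is trivial. -/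
theorem eq_one_of_isConj {S : Subgroup G} [Fact p.Prime] (hS : IsPGroup p S) {s : S} {x : G}
    (hx : ¬ p ∣ orderOf x) (h : IsConj (s : G) x) : s = 1 ∧ x = 1 := by
  obtain ⟨k, hk⟩ := IsPGroup.iff_orderOf.1 hS s
  have h1 : orderOf (s : G) = orderOf x :=
    (Cfsg.Agent.Blocks.HeightZero.orderOf_eq_of_isConj h).symm
  have h2 : orderOf (s : G) = p ^ k := by rw [Subgroup.orderOf_coe, hk]
  have hk0 : k = 0 := by
    by_contra hk0
    apply hx
    rw [← h1, h2]
    exact dvd_pow_self p hk0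
  rw [hk0, pow_zero] at h2
  rw [h2] at h1
  exact ⟨Subtype.ext (orderOf_eq_one_iff.1 h2), orderOf_eq_one_iff.1 h1.symm⟩

/-- The sum of all `[ψ_S, 1]` times the scalar product over the `p`-regular elements is the index
of `S`. -/
theorem sum_avg_mul_regSum [Fact p.Prime] (S : Subgroup G) (hS : IsPGroup p S)
    [Fintype (IrrCharacter G)] (χ : IrrCharacter G) :
    ∑ ψ : IrrCharacter G, avg S (ψ : G → ℂ) * regSum p (χ : G → ℂ) (ψ : G → ℂ) =
      (S.index : ℂ) := by
  classical
  have : Fintype S := Fintype.ofFinite S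
  have hS0 : (Nat.card S : ℂ) ≠ 0 := by exact_mod_cast Nat.card_pos.ne'
  have hχ1 : (χ : G → ℂ) 1 ≠ 0 := irr_one_ne_zero χ.2
  have h1 : ∀ x : G, ∑ ψ : IrrCharacter G, avg S (ψ : G → ℂ) * regCoeff p (ψ : G → ℂ) x =
      if x = 1 then (S.index : ℂ) else 0 := by
    intro x
    by_cases hx : p ∣ orderOf x
    · have hx1 : x ≠ 1 := by
        rintro rfl
        rw [orderOf_one] at hx
        exact (Fact.out : p.Prime).one_lt.ne' (Nat.dvd_one.1 hx)
      rw [if_neg hx1]
      refine Finset.sum_eq_zero fun ψ _ => ?_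
      rw [regCoeff_of_dvd _ hx, mul_zero]
    · have h2 : ∑ ψ : IrrCharacter G, avg S (ψ : G → ℂ) * regCoeff p (ψ : G → ℂ) x =
          (Nat.card S : ℂ)⁻¹ * ∑ s : S, ∑ ψ : IrrCharacter G,
            (ψ : G → ℂ) s * conj ((ψ : G → ℂ) x) := by
        rw [Finset.sum_comm, Finset.mul_sum]
        refine Finset.sum_congr rfl fun ψ _ => ?_
        rw [regCoeff_of_not_dvd _ hx, avg_def, mul_assoc, Finset.sum_mul]
      rw [h2]
      have h3 : ∀ s : S, ∑ ψ : IrrCharacter G, (ψ : G → ℂ) s * conj ((ψ : G → ℂ) x) =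
          if s = 1 ∧ x = 1 then (Nat.card G : ℂ) else 0 := by
        intro s
        rw [Cfsg.Agent.S0145.sum_irr_mul_conj]
        by_cases hc : IsConj (s : G) x
        · obtain ⟨hs1, hx1⟩ := eq_one_of_isConj hS hx hc
          rw [if_pos hc, if_pos ⟨hs1, hx1⟩, hx1]
          have h4 : (Subgroup.centralizer ({(1 : G)} : Set G)) = ⊤ := by
            rw [Subgroup.centralizer_eq_top_iff_subset]
            simp
          rw [h4, Nat.card_congr (Subgroup.topEquiv (G := G)).toEquiv]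
        · rw [if_neg hc, if_neg]
          rintro ⟨rfl, rfl⟩
          exact hc (IsConj.refl _)
      rw [Finset.sum_congr rfl fun s _ => h3 s]
      by_cases hx1 : x = 1
      · rw [if_pos hx1, Finset.sum_eq_single (1 : S)]
        · rw [if_pos ⟨rfl, hx1⟩]
          have h5 : (S.index : ℂ) * (Nat.card S : ℂ) = (Nat.card G : ℂ) := by
            exact_mod_cast S.index_mul_card
          rw [← h5]
          field_simp
        · intro s _ hs
          rw [if_neg (fun h => hs h.1)]
        · intro h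
          exact absurd (Finset.mem_univ _) h
      · rw [if_neg hx1]
        rw [Finset.sum_eq_zero (fun s _ => if_neg fun h => hx1 h.2), mul_zero]
  have h2 : ∑ ψ : IrrCharacter G, avg S (ψ : G → ℂ) * regSum p (χ : G → ℂ) (ψ : G → ℂ) =
      ∑ x : G, (∑ ψ : IrrCharacter G, avg S (ψ : G → ℂ) * regCoeff p (ψ : G → ℂ) x) *
        ((χ : G → ℂ) x / (χ : G → ℂ) 1) := by
    unfold regSum
    rw [Finset.sum_congr rfl (fun ψ _ => Finset.mul_sum _ _ _), Finset.sum_comm]
    refine Finset.sum_congr rfl fun x _ => ?_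
    rw [Finset.sum_mul]
    refine Finset.sum_congr rfl fun ψ _ => ?_
    ring
  rw [h2, Finset.sum_congr rfl fun x _ => by rw [h1 x]]
  simp [hχ1]

open Classical in
/-- The number `∑_{ψ ∈ B} [ψ_S, 1] ψ(1)` has the same `p`-part as the degree of a character of
height zero of `B`. -/
theorem not_memLocalIdeal_sum_avg (hM : IsPModular p M) (S : Sylow p G)
    [Fintype (IrrCharacter G)] {B : Set (IrrCharacter G)} (hB : IsPBlock M B)
    (χ₀ : IrrCharacter G) (hχ₀ : χ₀ ∈ B)
    (hmin : ∀ ψ ∈ B, (charDegree (χ₀ : G → ℂ)).factorization p ≤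
      (charDegree (ψ : G → ℂ)).factorization p) :
    ¬ MemLocalIdeal M (∑ ψ ∈ Finset.univ.filter (· ∈ B),
      avg (S : Subgroup G) (ψ : G → ℂ) * ((ψ : G → ℂ) 1 / (χ₀ : G → ℂ) 1)) := by
  have hpF : Fact p.Prime := ⟨hM.1⟩
  have hMp : M.IsPrime := hM.2.1.isPrime
  have hχ1 : (χ₀ : G → ℂ) 1 ≠ 0 := irr_one_ne_zero χ₀.2
  intro hcon
  have h1 := sum_avg_mul_regSum (S : Subgroup G) S.2 χ₀
  have h2 : ∑ ψ : IrrCharacter G, avg (S : Subgroup G) (ψ : G → ℂ) *
      regSum p (χ₀ : G → ℂ) (ψ : G → ℂ) =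
      ∑ ψ ∈ Finset.univ.filter (· ∈ B), avg (S : Subgroup G) (ψ : G → ℂ) *
        regSum p (χ₀ : G → ℂ) (ψ : G → ℂ) := by
    symm
    refine Finset.sum_subset (Finset.filter_subset _ _) fun ψ _ hψ => ?_
    have hψB : ψ ∉ B := by simpa using hψ
    rw [Cfsg.Agent.Blocks.HeightZero.regSum_eq_zero hM χ₀ ψ, mul_zero]
    exact fun h => hψB ((isPBlock_mem_iff hB hχ₀).2 h)
  have hR : ∀ ψ : IrrCharacter G, ψ ∈ B →
      MemLocalRing M ((ψ : G → ℂ) 1 / (χ₀ : G → ℂ) 1) := by
    intro ψ hψ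
    rw [irr_one_eq_charDegree ψ.2, irr_one_eq_charDegree χ₀.2]
    exact Cfsg.Agent.Blocks.DefectCard.memLocalRing_natDiv hM
      (Cfsg.Agent.Blocks.Basic.charDegree_pos χ₀.2).ne' (hmin ψ hψ)
  have h3 : MemLocalIdeal M ((S.index : ℂ) - regSum p (χ₀ : G → ℂ) (χ₀ : G → ℂ) *
      ∑ ψ ∈ Finset.univ.filter (· ∈ B),
        avg (S : Subgroup G) (ψ : G → ℂ) * ((ψ : G → ℂ) 1 / (χ₀ : G → ℂ) 1)) := by
    rw [← h1, h2, Finset.mul_sum, ← Finset.sum_sub_distrib]
    refine memLocalIdeal_sum hM _ _ fun ψ hψ => ?_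
    have hψB : ψ ∈ B := by simpa using hψ
    have h4 : regSum p (χ₀ : G → ℂ) (ψ : G → ℂ) =
        ((ψ : G → ℂ) 1 / (χ₀ : G → ℂ) 1) * regSum p (ψ : G → ℂ) (χ₀ : G → ℂ) := by
      have h5 := Cfsg.Agent.Blocks.HeightZero.mul_regSum_comm p χ₀ ψ
      field_simp
      linear_combination h5
    rw [h4]
    have h6 : avg (S : Subgroup G) (ψ : G → ℂ) * ((ψ : G → ℂ) 1 / (χ₀ : G → ℂ) 1 *
        regSum p (ψ : G → ℂ) (χ₀ : G → ℂ)) - regSum p (χ₀ : G → ℂ) (χ₀ : G → ℂ) *
          (avg (S : Subgroup G) (ψ : G → ℂ) * ((ψ : G → ℂ) 1 / (χ₀ : G → ℂ) 1)) =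
        avg (S : Subgroup G) (ψ : G → ℂ) * ((ψ : G → ℂ) 1 / (χ₀ : G → ℂ) 1) *
          (regSum p (ψ : G → ℂ) (χ₀ : G → ℂ) - regSum p (χ₀ : G → ℂ) (χ₀ : G → ℂ)) := by
      ring
    rw [h6]
    exact memLocalIdeal_mul_left hM (memLocalRing_mul hM (memLocalRing_avg hM _ ψ.2) (hR ψ hψB))
      (Cfsg.Agent.Blocks.HeightZero.memLocalIdeal_regSum_sub ψ χ₀ χ₀
        (isPBlock_sameBlock hB hψB hχ₀))
  have h7 : MemLocalIdeal M ((S.index : ℕ) : ℂ) := by
    have h8 := memLocalIdeal_add hM h3 (memLocalIdeal_mul_left hM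
      (Cfsg.Agent.Blocks.HeightZero.memLocalRing_regSum (p := p) (M := M) χ₀ χ₀) hcon)
    rwa [sub_add_cancel] at h8
  exact S.not_dvd_index ((memLocalIdeal_natCast_iff hM _).1 h7)

end Avg

/-! ### The main argument -/

section Main

variable {G : Type*} [Group G] [Fintype G]

open Cfsg.Agent.Blocks.Basic in
/-- The sum of the coefficients of the block idempotent over (the inverses of) a coset of `S`. -/
noncomputable def cosetSum (B : Set (IrrCharacter G)) (S : Subgroup G) (u : G) : ℂ :=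
  ∑ᶠ s : S, blockCoeff B (u * s)⁻¹

omit [Fintype G] in
theorem cosetSum_def (B : Set (IrrCharacter G)) (S : Subgroup G) [Fintype S] (u : G) :
    cosetSum B S u = ∑ s : S, blockCoeff B (u * s)⁻¹ := by
  rw [cosetSum, finsum_eq_sum_of_fintype]

open Classical in
theorem blockCoeff_inv [Fintype (IrrCharacter G)] (B : Set (IrrCharacter G)) (z : G) :
    blockCoeff B z⁻¹ = (Nat.card G : ℂ)⁻¹ *
      ∑ ψ ∈ Finset.univ.filter (· ∈ B), (ψ : G → ℂ) 1 * (ψ : G → ℂ) z := by
  rw [blockCoeff_def, finsum_mem_eq_toFinset_sum]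
  congr 1
  have hset : B.toFinset = Finset.univ.filter (· ∈ B) := by
    ext ψ
    simp
  rw [hset]
  refine Finset.sum_congr rfl fun ψ _ => ?_
  rw [Cfsg.Agent.Characters.Core.isCharacter_apply_inv
    (Cfsg.Agent.Characters.Core.isIrr_isCharacter ψ.2), Complex.conj_conj]

open Classical in
/-- Summing over a conjugacy class. -/
theorem sum_cosetSum [Fintype (IrrCharacter G)] (B : Set (IrrCharacter G)) (S : Subgroup G)
    (g : G) : (∑ u with IsConj g u, cosetSum B S u) * (S.index : ℂ) =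
      ∑ ψ ∈ Finset.univ.filter (· ∈ B),
        avg S (ψ : G → ℂ) * (ψ : G → ℂ) 1 * centralChar (ψ : G → ℂ) g := by
  have hS0 : (Nat.card S : ℂ) ≠ 0 := by exact_mod_cast Nat.card_pos.ne'
  have hG0 : (Nat.card G : ℂ) ≠ 0 := by exact_mod_cast Nat.card_pos.ne'
  have h5 : (S.index : ℂ) * (Nat.card S : ℂ) = (Nat.card G : ℂ) := by
    exact_mod_cast S.index_mul_card
  have h1 : ∑ u with IsConj g u, cosetSum B S u = (Nat.card G : ℂ)⁻¹ *
      ∑ ψ ∈ Finset.univ.filter (· ∈ B), (ψ : G → ℂ) 1 *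
        ∑ s : S, ∑ u with IsConj g u, (ψ : G → ℂ) (u * s) := by
    simp_rw [cosetSum_def, blockCoeff_inv, ← Finset.mul_sum]
    congr 1
    rw [Finset.sum_congr rfl fun u _ => Finset.sum_comm, Finset.sum_comm]
    refine Finset.sum_congr rfl fun ψ _ => ?_
    rw [Finset.sum_comm, Finset.mul_sum]
    refine Finset.sum_congr rfl fun s _ => ?_
    rw [Finset.mul_sum]
  rw [h1, mul_assoc, Finset.sum_mul, Finset.mul_sum]
  refine Finset.sum_congr rfl fun ψ _ => ?_
  have h2 : ∀ s : S, ∑ u with IsConj g u, (ψ : G → ℂ) (u * s) =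
      centralChar (ψ : G → ℂ) g * (ψ : G → ℂ) s := by
    intro s
    rw [Cfsg.Agent.Characters.ClassMul.sum_class_char_mul ψ.2, centralChar_def]
    ring
  rw [Finset.sum_congr rfl fun s _ => h2 s, ← Finset.mul_sum, avg_def, ← h5]
  have hi0 : (S.index : ℂ) ≠ 0 := by
    intro h
    rw [h, zero_mul] at h5
    exact hG0 h5.symm
  field_simp

omit [Fintype G] in
theorem cosetSum_conj [Finite G] (B : Set (IrrCharacter G)) (S : Subgroup G) (u v : G)
    (hv : v ∈ S) : cosetSum B S (v * u * v⁻¹) = cosetSum B S u := by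
  have : Fintype S := Fintype.ofFinite S
  rw [cosetSum_def, cosetSum_def]
  refine Fintype.sum_equiv (MulAut.conj (⟨v, hv⟩ : S)⁻¹).toEquiv _ _ fun s => ?_
  refine blockCoeff_isConj B (isConj_iff.2 ⟨v⁻¹, ?_⟩)
  simp only [MulEquiv.toEquiv_eq_coe, EquivLike.coe_coe, MulAut.conj_apply, Subgroup.coe_mul,
    InvMemClass.coe_inv]
  group

theorem memLocalRing_cosetSum (hM : IsPModular p M) {B : Set (IrrCharacter G)}
    (hB : IsPBlock M B) (S : Subgroup G) (u : G) : MemLocalRing M (cosetSum B S u) := by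
  have hpF : Fact p.Prime := ⟨hM.1⟩
  have : Fintype S := Fintype.ofFinite S
  rw [cosetSum_def]
  exact memLocalRing_sum hM _ _ fun s _ => Cfsg.Agent.S0913.result p M hM B hB _

open Classical in
/-- The `p`-part of the class sum of `cosetSum` over a class where the central character is a
unit is that of the degree of a character of height zero. -/
theorem not_memLocalIdeal_sum_cosetSum [M.IsPrime] (hM : IsPModular p M) (S : Sylow p G)
    {B : Set (IrrCharacter G)} (hB : IsPBlock M B) (χ₀ : IrrCharacter G) (hχ₀ : χ₀ ∈ B)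
    (hmin : ∀ ψ ∈ B, (charDegree (χ₀ : G → ℂ)).factorization p ≤
      (charDegree (ψ : G → ℂ)).factorization p) {g : G}
    (hg : ¬ MemLocalIdeal M (centralChar (χ₀ : G → ℂ) g)) :
    ¬ MemLocalIdeal M ((∑ u with IsConj g u, cosetSum B (S : Subgroup G) u) /
      (p : ℂ) ^ (charDegree (χ₀ : G → ℂ)).factorization p) := by
  have hpF : Fact p.Prime := ⟨hM.1⟩
  have hfin : Finite (IrrCharacter G) := Cfsg.Agent.Characters.Core.finite_irr
  have : Fintype (IrrCharacter G) := Fintype.ofFinite _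
  have hχ1 : (χ₀ : G → ℂ) 1 ≠ 0 := irr_one_ne_zero χ₀.2
  set n := charDegree (χ₀ : G → ℂ) with hn
  set h := n.factorization p with hh
  have hn0 : n ≠ 0 := (Cfsg.Agent.Blocks.Basic.charDegree_pos χ₀.2).ne'
  have hn' : n = p ^ h * (n / p ^ h) := (Nat.ordProj_mul_ordCompl_eq_self n p).symm
  have hnd : ¬ p ∣ n / p ^ h := Nat.not_dvd_ordCompl hM.1 hn0
  have hp0 : (p : ℂ) ^ h ≠ 0 := pow_ne_zero _ (by exact_mod_cast hM.1.ne_zero)
  have hR : ∀ ψ : IrrCharacter G, ψ ∈ B →
      MemLocalRing M ((ψ : G → ℂ) 1 / (χ₀ : G → ℂ) 1) := by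
    intro ψ hψ
    rw [irr_one_eq_charDegree ψ.2, irr_one_eq_charDegree χ₀.2]
    exact Cfsg.Agent.Blocks.DefectCard.memLocalRing_natDiv hM
      (Cfsg.Agent.Blocks.Basic.charDegree_pos χ₀.2).ne' (hmin ψ hψ)
  have hωR : ∀ ψ : IrrCharacter G, MemLocalRing M (centralChar (ψ : G → ℂ) g) := fun ψ =>
    memLocalRing_of_isIntegral hM (Cfsg.Agent.Blocks.HeightZero.isIntegral_centralChar ψ g)
  have hW := not_memLocalIdeal_sum_avg hM S hB χ₀ hχ₀ hmin
  set W := ∑ ψ ∈ Finset.univ.filter (· ∈ B),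
      avg (S : Subgroup G) (ψ : G → ℂ) * ((ψ : G → ℂ) 1 / (χ₀ : G → ℂ) 1) with hWdef
  have hWR : MemLocalRing M W := memLocalRing_sum hM _ _ fun ψ hψ =>
    memLocalRing_mul hM (memLocalRing_avg hM _ ψ.2) (hR ψ (by simpa using hψ))
  set V := ∑ ψ ∈ Finset.univ.filter (· ∈ B), avg (S : Subgroup G) (ψ : G → ℂ) *
      ((ψ : G → ℂ) 1 / (χ₀ : G → ℂ) 1) * centralChar (ψ : G → ℂ) g with hVdef
  have hVR : MemLocalRing M V := memLocalRing_sum hM _ _ fun ψ hψ => memLocalRing_mul hM
    (memLocalRing_mul hM (memLocalRing_avg hM _ ψ.2) (hR ψ (by simpa using hψ))) (hωR ψ)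
  have hVW : MemLocalIdeal M (V - W * centralChar (χ₀ : G → ℂ) g) := by
    rw [hVdef, hWdef, Finset.sum_mul, ← Finset.sum_sub_distrib]
    refine memLocalIdeal_sum hM _ _ fun ψ hψ => ?_
    have hψB : ψ ∈ B := by simpa using hψ
    rw [← mul_sub]
    exact memLocalIdeal_mul_left hM
      (memLocalRing_mul hM (memLocalRing_avg hM _ ψ.2) (hR ψ hψB))
      (isPBlock_sameBlock hB hψB hχ₀ g)
  intro hcon
  have hT := sum_cosetSum B (S : Subgroup G) g
  set T := ∑ u with IsConj g u, cosetSum B (S : Subgroup G) u with hTdef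
  have h1 : ∑ ψ ∈ Finset.univ.filter (· ∈ B),
        avg (S : Subgroup G) (ψ : G → ℂ) * (ψ : G → ℂ) 1 * centralChar (ψ : G → ℂ) g =
      (χ₀ : G → ℂ) 1 * V := by
    rw [hVdef, Finset.mul_sum]
    refine Finset.sum_congr rfl fun ψ _ => ?_
    field_simp
  have hχn : (χ₀ : G → ℂ) 1 = (p : ℂ) ^ h * ((n / p ^ h : ℕ) : ℂ) := by
    rw [irr_one_eq_charDegree χ₀.2, ← hn]
    conv_lhs => rw [hn']
    push_cast
    rfl
  have h2 : ((n / p ^ h : ℕ) : ℂ) * V = T / (p : ℂ) ^ h * ((S : Subgroup G).index : ℂ) := by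
    rw [div_mul_eq_mul_div, hT, h1, hχn]
    field_simp
  have h3 : MemLocalIdeal M (((n / p ^ h : ℕ) : ℂ) * V) := by
    rw [h2]
    exact memLocalIdeal_mul_right hM hcon (memLocalRing_natCast hM _)
  rcases (memLocalIdeal_mul_iff hM (memLocalRing_natCast hM _) hVR).1 h3 with h4 | h4
  · exact hnd ((memLocalIdeal_natCast_iff hM _).1 h4)
  · have h5 : MemLocalIdeal M (W * centralChar (χ₀ : G → ℂ) g) :=
      (memLocalIdeal_congr hM hVW).1 h4
    rcases (memLocalIdeal_mul_iff hM hWR (hωR χ₀)).1 h5 with h6 | h6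
    · exact hW h6
    · exact hg h6

omit [Fintype G] in
/-- The order of a `p`-subgroup centralizing a conjugate of `g` divides the order of a Sylow
`p`-subgroup of the centralizer of `g`. -/
theorem card_dvd_of_le_centralizer [Finite G] [Fact p.Prime] {g u : G} {D Q : Subgroup G}
    (hD : Cfsg.Agent.Blocks.Basic.IsSylowCentralizer p g D) (hgu : IsConj g u)
    (hQ : IsPGroup p Q) (hQC : Q ≤ Subgroup.centralizer ({u} : Set G)) :
    Nat.card Q ∣ Nat.card D := by
  obtain ⟨P, hP⟩ := hD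
  rw [Cfsg.Agent.Blocks.SylowIn.card_of_sylow_map_eq ⟨P, hP.symm⟩]
  obtain ⟨k, hk⟩ := IsPGroup.iff_card.mp hQ
  have h1 : p ^ k ∣ Nat.card (Subgroup.centralizer ({g} : Set G)) := by
    rw [← hk, ← Cfsg.Agent.Blocks.SylowIn.card_centralizer_of_isConj hgu]
    exact Subgroup.card_dvd_of_le hQC
  rw [hk]
  exact pow_dvd_pow p (((Fact.out : p.Prime).pow_dvd_iff_le_factorization Nat.card_pos.ne').1 h1)

/-- The core of Green's theorem. -/
theorem exists_green (hM : IsPModular p M) {B : Set (IrrCharacter G)} (hB : IsPBlock M B) {g : G}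
    (hg : IsDefectClass M B g) {D : Subgroup G}
    (hD : Cfsg.Agent.Blocks.Basic.IsSylowCentralizer p g D) (S : Sylow p G) :
    ∃ u : G, IsConj g u ∧
      (S : Subgroup G) ⊓ (S : Subgroup G).map (MulAut.conj u).toMonoidHom ≤
        Subgroup.centralizer ({u} : Set G) ∧
      Nat.card ((S : Subgroup G) ⊓ (S : Subgroup G).map (MulAut.conj u).toMonoidHom :
        Subgroup G) = Nat.card D := by
  classical
  have hpF : Fact p.Prime := ⟨hM.1⟩
  have hMp : M.IsPrime := hM.2.1.isPrime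
  have hfin : Finite (IrrCharacter G) := Cfsg.Agent.Characters.Core.finite_irr
  have : Fintype (IrrCharacter G) := Fintype.ofFinite _
  -- a character of height zero
  obtain ⟨χ₀, hχ₀, hmin⟩ : ∃ χ₀ ∈ B, ∀ ψ ∈ B, (charDegree (χ₀ : G → ℂ)).factorization p ≤
      (charDegree (ψ : G → ℂ)).factorization p :=
    Set.exists_min_image B (fun ψ => (charDegree (ψ : G → ℂ)).factorization p) (Set.toFinite B)
      (isPBlock_nonempty hB)
  set h := (charDegree (χ₀ : G → ℂ)).factorization p with hh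
  have hDdef : IsDefectGroup p M B D := ⟨g, hg, hD⟩
  have hbd : blockDefect p B = (Nat.card G).factorization p - h := by
    rw [Cfsg.Agent.Blocks.Basic.blockDefect_def]
    congr 1
    refine le_antisymm (Nat.sInf_le ⟨χ₀, hχ₀, rfl⟩) ?_
    refine le_csInf ⟨_, χ₀, hχ₀, rfl⟩ ?_
    rintro _ ⟨ψ, hψ, rfl⟩
    exact hmin ψ hψ
  have hcardD : Nat.card D = p ^ ((Nat.card G).factorization p - h) := by
    rw [Cfsg.Agent.S0908.result p M hM B hB D hDdef, hbd]
  have hle : h ≤ (Nat.card G).factorization p := by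
    obtain ⟨n, ρ, hρ, hχρ⟩ := χ₀.2
    have hdvd : charDegree (χ₀ : G → ℂ) ∣ Nat.card G := by
      have hirr : ρ.IsIrreducible := hρ
      have h1 := Cfsg.Agent.S0135.result ρ
      have h2 : charDegree (χ₀ : G → ℂ) = Module.finrank ℂ (Fin n → ℂ) := by
        apply Cfsg.Agent.Blocks.Basic.charDegree_of_eq
        rw [← hχρ, Representation.char_one]
      rwa [h2]
    exact (Nat.factorization_le_iff_dvd (Cfsg.Agent.Blocks.Basic.charDegree_pos χ₀.2).ne'
      Nat.card_pos.ne').2 hdvd p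
  -- `S` acts on the class of `g`
  set S' : Subgroup G := (S : Subgroup G) with hS'
  have hSp : IsPGroup p S' := S.2
  have : Fintype S' := Fintype.ofFinite S'
  have hcardS : Nat.card S' = p ^ h * p ^ ((Nat.card G).factorization p - h) := by
    rw [← pow_add, Nat.add_sub_cancel' hle]
    exact S.card_eq_multiplicity
  let X := {u : G // IsConj g u}
  have : Fintype X := Fintype.ofFinite X
  let _act : MulAction S' X :=
    { smul := fun v x => ⟨(v : G) * x.1 * (v : G)⁻¹, x.2.trans (isConj_iff.2 ⟨v, rfl⟩)⟩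
      one_smul := fun x => Subtype.ext (by
        change ((1 : S') : G) * x.1 * ((1 : S') : G)⁻¹ = x.1; simp)
      mul_smul := fun v w x => Subtype.ext (by
        change ((v * w : S') : G) * x.1 * ((v * w : S') : G)⁻¹ =
          (v : G) * ((w : G) * x.1 * (w : G)⁻¹) * (v : G)⁻¹
        push_cast
        group) }
  have hsmul : ∀ (v : S') (x : X), ((v • x : X) : G) = (v : G) * x.1 * (v : G)⁻¹ :=
    fun _ _ => rfl
  have hstab : ∀ x : X, Nat.card (MulAction.stabilizer S' x) =
      Nat.card (S' ⊓ Subgroup.centralizer ({x.1} : Set G) : Subgroup G) := by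
    intro x
    refine Nat.card_congr
      { toFun := fun v => ⟨((v : S') : G), ⟨(v : S').2, ?_⟩⟩
        invFun := fun v => ⟨⟨(v : G), v.2.1⟩, ?_⟩
        left_inv := fun v => rfl
        right_inv := fun v => rfl }
    · have h1 : ((v : S') • x : X) = x := v.2
      have h2 := congrArg Subtype.val h1
      rw [hsmul] at h2
      exact Subgroup.mem_centralizer_singleton_iff.2 (mul_inv_eq_iff_eq_mul.1 h2)
    · apply Subtype.ext
      rw [hsmul]
      exact mul_inv_eq_iff_eq_mul.2 (Subgroup.mem_centralizer_singleton_iff.1 v.2.2)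
  have hstabdvd : ∀ x : X, Nat.card (MulAction.stabilizer S' x) ∣ Nat.card D := by
    intro x
    rw [hstab]
    exact card_dvd_of_le_centralizer hD x.2 (hSp.to_le inf_le_left) inf_le_right
  have horb : ∀ x : X, Nat.card (MulAction.orbit S' x) * Nat.card (MulAction.stabilizer S' x) =
      Nat.card S' := by
    intro x
    rw [← Nat.card_prod]
    exact Nat.card_congr (MulAction.orbitProdStabilizerEquivGroup S' x)
  have hdvd : ∀ x : X, p ^ h ∣ Nat.card (MulAction.orbit S' x) := by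
    intro x
    obtain ⟨k, hk⟩ := hstabdvd x
    have h1 := horb x
    rw [hcardS, ← hcardD, hk] at h1
    refine ⟨k, Nat.eq_of_mul_eq_mul_right
      (Nat.card_pos : 0 < Nat.card (MulAction.stabilizer S' x)) ?_⟩
    rw [h1]
    ring
  obtain ⟨x, hx1, hx2⟩ := exists_orbit_of_sum hM hSp (fun x : X => cosetSum B S' x.1)
    (fun v x => by
      change cosetSum B S' ((v • x : X) : G) = cosetSum B S' x.1
      rw [hsmul]
      exact cosetSum_conj B S' x.1 v v.2)
    (fun x => memLocalRing_cosetSum hM hB S' x.1) h hdvd (by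
      have h1 := not_memLocalIdeal_sum_cosetSum hM S hB χ₀ hχ₀ hmin (hg.2.2 χ₀ hχ₀)
      rw [Finset.sum_subtype (Finset.univ.filter (IsConj g)) (p := IsConj g) (by simp)] at h1
      exact h1)
  have hstabx : Nat.card (MulAction.stabilizer S' x) = Nat.card D := by
    have h1 := horb x
    rw [hx1, hcardS] at h1
    rw [hcardD]
    exact Nat.eq_of_mul_eq_mul_left (pow_pos hM.1.pos h) h1
  set u : G := x.1 with hu
  -- `Q = S ∩ uSu⁻¹` acts on `S`
  set Q : Subgroup G := S' ⊓ S'.map (MulAut.conj u).toMonoidHom with hQ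
  have hQmem : ∀ v : G, v ∈ Q ↔ v ∈ S' ∧ u⁻¹ * v * u ∈ S' := by
    intro v
    rw [hQ, Subgroup.mem_inf, Subgroup.mem_map_equiv, MulAut.conj_symm_apply]
  have hQp : IsPGroup p Q := hSp.to_le inf_le_left
  let _act2 : MulAction Q S' :=
    { smul := fun v s => ⟨(u⁻¹ * (v : G) * u) * (s : G) * (v : G)⁻¹,
        S'.mul_mem (S'.mul_mem ((hQmem v).1 v.2).2 s.2) (S'.inv_mem ((hQmem v).1 v.2).1)⟩
      one_smul := fun s => Subtype.ext (by
        change (u⁻¹ * ((1 : Q) : G) * u) * (s : G) * ((1 : Q) : G)⁻¹ = s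
        simp)
      mul_smul := fun v w s => Subtype.ext (by
        change (u⁻¹ * ((v * w : Q) : G) * u) * (s : G) * ((v * w : Q) : G)⁻¹ =
          (u⁻¹ * (v : G) * u) * ((u⁻¹ * (w : G) * u) * (s : G) * (w : G)⁻¹) * (v : G)⁻¹
        push_cast
        group) }
  have hsmul2 : ∀ (v : Q) (s : S'), ((v • s : S') : G) =
      (u⁻¹ * (v : G) * u) * (s : G) * (v : G)⁻¹ := fun _ _ => rfl
  obtain ⟨s, hs1, hs2⟩ := exists_orbit_of_sum hM hQp (fun s : S' => blockCoeff B (u * s)⁻¹)
    (fun v s => by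
      change blockCoeff B (u * ((v • s : S') : G))⁻¹ = blockCoeff B (u * s)⁻¹
      rw [hsmul2]
      refine blockCoeff_isConj B (isConj_iff.2 ⟨(v : G)⁻¹, ?_⟩)
      group)
    (fun s => Cfsg.Agent.S0913.result p M hM B hB _) 0 (fun s => by simp) (by
      rw [pow_zero, div_one, ← cosetSum_def]
      exact hx2)
  have hfix : ∀ v : Q, v • s = s := by
    intro v
    rw [pow_zero, Nat.card_eq_one_iff_unique] at hs1
    have h1 := hs1.1.elim (⟨v • s, MulAction.mem_orbit _ _⟩ : MulAction.orbit Q s)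
      ⟨s, MulAction.mem_orbit_self s⟩
    exact congrArg Subtype.val h1
  have hQC : Q ≤ Subgroup.centralizer ({(u * (s : G))⁻¹} : Set G) := by
    intro v hv
    have h1 := congrArg Subtype.val (hfix ⟨v, hv⟩)
    rw [hsmul2] at h1
    rw [Subgroup.mem_centralizer_singleton_iff]
    have h2 : v * (u * (s : G)) = (u * (s : G)) * v := by
      rw [mul_inv_eq_iff_eq_mul] at h1
      calc v * (u * (s : G)) = u * (u⁻¹ * v * u * (s : G)) := by group
        _ = u * ((s : G) * v) := by rw [h1]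
        _ = (u * (s : G)) * v := by group
    have h3 : Commute v (u * (s : G)) := h2
    exact h3.inv_right.eq
  obtain ⟨P, hP⟩ := hD
  obtain ⟨y, R, hR⟩ := (Cfsg.Agent.S0911.result p M hM B hB g hg P (u * (s : G))⁻¹).1
    (Cfsg.Agent.S0913.result p M hM B hB _) hs2
  have hQR : Nat.card Q ≤ Nat.card D := by
    have h1 : Nat.card Q ∣ Nat.card ((R : Subgroup (Subgroup.centralizer
        ({(u * (s : G))⁻¹} : Set G))).map (Subgroup.centralizer
          ({(u * (s : G))⁻¹} : Set G)).subtype) :=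
      card_dvd_of_le_centralizer ⟨R, rfl⟩ (IsConj.refl _) hQp hQC
    refine (Nat.le_of_dvd Nat.card_pos h1).trans ((Subgroup.card_le_of_le hR).trans ?_)
    rw [← hP]
    exact le_of_eq (Subgroup.card_map_of_injective (MulAut.conj y).injective)
  -- `C_S(u) ≤ Q`
  have hCQ : S' ⊓ Subgroup.centralizer ({u} : Set G) ≤ Q := by
    intro v hv
    rw [hQmem]
    refine ⟨hv.1, ?_⟩
    have h1 := Subgroup.mem_centralizer_singleton_iff.1 hv.2
    have h2 : u⁻¹ * v * u = v := by
      rw [mul_assoc, h1, inv_mul_cancel_left]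
    rw [h2]
    exact hv.1
  have hcardCQ : Nat.card (S' ⊓ Subgroup.centralizer ({u} : Set G) : Subgroup G) =
      Nat.card D := by
    rw [← hstabx, hstab]
  have heq : S' ⊓ Subgroup.centralizer ({u} : Set G) = Q :=
    Subgroup.eq_of_le_of_card_ge hCQ (by rw [hcardCQ]; exact hQR)
  refine ⟨u, x.2, ?_, ?_⟩
  · rw [← hQ, ← heq]
    exact inf_le_right
  · rw [← hQ, ← heq]
    exact hcardCQ


end Main

end Cfsg.Agent.Blocks.GreenCore
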