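import Mathlib.GroupTheory.Sylow
import Mathlib.GroupTheory.Nilpotent
import Mathlib.GroupTheory.Subgroup.Centralizer
import Cfsg.Agent.Blocks.SylowIn

/-!
Reduction of Green's theorem (a defect group `D ≤ P` is `P ∩ xPx⁻¹`) to the normalizer of `D`.
-/

set_option autoImplicit false

namespace Cfsg.Agent.Blocks.GreenReduce

variable {G : Type*} [Group G]

/-- Normalizers grow in `p`-groups: if `D ≤ Q`, `Q` a finite `p`-group and every element of `Q` normalizing
`D` is in `D`, then `Q = D`. -/
theorem eq_of_normalizer_inf_le [Finite G] {p : ℕ} [Fact p.Prime] {D Q : Subgroup G} (hQ : IsPGroup p Q)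
    (hDQ : D ≤ Q) (h : Q ⊓ Subgroup.normalizer (D : Set G) ≤ D) : Q = D := by
  by_contra hne
  have hlt : D < Q := lt_of_le_of_ne hDQ (fun h => hne h.symm)
  have _ : Group.IsNilpotent Q := hQ.isNilpotent
  have hnc : NormalizerCondition Q := Group.normalizerCondition_of_isNilpotent
  have h1 : D.subgroupOf Q < ⊤ := by
    rw [lt_top_iff_ne_top]
    intro htop
    rw [Subgroup.subgroupOf_eq_top] at htop
    exact hlt.not_ge htop
  have h2 := hnc _ h1
  obtain ⟨x, hx, hxD⟩ := SetLike.exists_of_lt h2
  apply hxD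
  rw [Subgroup.mem_subgroupOf]
  apply h
  refine ⟨x.2, ?_⟩
  show (x : G) ∈ Subgroup.normalizer (D : Set G)
  rw [Subgroup.mem_normalizer_iff]
  rw [Subgroup.mem_normalizer_iff] at hx
  intro d
  constructor
  · intro hd
    have := (hx ⟨d, hDQ hd⟩).1 (by rw [Subgroup.mem_subgroupOf]; exact hd)
    rw [Subgroup.mem_subgroupOf] at this
    exact this
  · intro hd
    have hdQ : d ∈ Q := by
      have h3 := Q.mul_mem (Q.mul_mem (Q.inv_mem x.2) (hDQ hd)) x.2
      have h4 : (x : G)⁻¹ * (↑x * d * (↑x)⁻¹) * ↑x = d := by group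
      rwa [h4] at h3
    have := (hx ⟨d, hdQ⟩).2 (by rw [Subgroup.mem_subgroupOf]; exact hd)
    rw [Subgroup.mem_subgroupOf] at this
    exact this

/-- The reduction of Green's theorem to the normalizer of the defect group. -/
theorem reduce [Finite G] (p : ℕ) [Fact p.Prime] (D : Subgroup G) (P : Sylow p G) (hDP : D ≤ P)
    (h : ∀ S : Sylow p (Subgroup.normalizer (D : Set G)), ∃ x : Subgroup.normalizer (D : Set G),
      ¬ p ∣ orderOf x ∧
      (∃ T : Sylow p (Subgroup.centralizer ({x} : Set (Subgroup.normalizer (D : Set G)))),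
        (T : Subgroup (Subgroup.centralizer ({x} : Set (Subgroup.normalizer (D : Set G))))).map
          (Subgroup.centralizer ({x} : Set (Subgroup.normalizer (D : Set G)))).subtype =
            D.subgroupOf (Subgroup.normalizer (D : Set G))) ∧
      (S : Subgroup (Subgroup.normalizer (D : Set G))) ⊓
        (S : Subgroup (Subgroup.normalizer (D : Set G))).map (MulAut.conj x).toMonoidHom =
          D.subgroupOf (Subgroup.normalizer (D : Set G))) :
    ∃ x : G, ¬ p ∣ orderOf x ∧
      (∃ S : Sylow p (Subgroup.centralizer ({x} : Set G)),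
        (S : Subgroup (Subgroup.centralizer ({x} : Set G))).map
          (Subgroup.centralizer ({x} : Set G)).subtype = D) ∧
      (P : Subgroup G) ⊓ (P : Subgroup G).map (MulAut.conj x).toMonoidHom = D := by
  have hDp : IsPGroup p D := P.isPGroup'.to_le hDP
  -- a Sylow subgroup of the normalizer containing `P ∩ N(D)`
  have hPN : IsPGroup p ((P : Subgroup G).subgroupOf (Subgroup.normalizer (D : Set G))) :=
    P.isPGroup'.comap_subtype
  obtain ⟨S, hS⟩ := hPN.exists_le_sylow
  obtain ⟨x, hx, hT, hxS⟩ := h S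
  have hDN : D ≤ Subgroup.normalizer (D : Set G) := Subgroup.le_normalizer
  rw [Cfsg.Agent.Blocks.SylowIn.exists_sylow_map_eq_iff] at hT
  obtain ⟨hT1, hT2, hT3⟩ := hT
  have hDC : D ≤ Subgroup.centralizer ({(x : G)} : Set G) := by
    intro d hd
    have h1 := hT1 (show (⟨d, hDN hd⟩ : Subgroup.normalizer (D : Set G)) ∈ _ by
      rw [Subgroup.mem_subgroupOf]; exact hd)
    rw [Subgroup.mem_centralizer_singleton_iff] at h1 ⊢
    exact congrArg Subtype.val h1
  refine ⟨x, by rwa [Subgroup.orderOf_coe], ?_, ?_⟩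
  · rw [Cfsg.Agent.Blocks.SylowIn.exists_sylow_map_eq_iff]
    refine ⟨hDC, hDp, ?_⟩
    intro Q hQC hQ hDQ
    apply eq_of_normalizer_inf_le hQ hDQ
    intro q hq
    have h1 := hT3 ((Q ⊓ Subgroup.normalizer (D : Set G)).subgroupOf (Subgroup.normalizer (D : Set G)))
      (by
        intro y hy
        rw [Subgroup.mem_subgroupOf] at hy
        have h2 := hQC hy.1
        rw [Subgroup.mem_centralizer_singleton_iff] at h2 ⊢
        exact Subtype.ext h2)
      ((show IsPGroup p (Q ⊓ Subgroup.normalizer (D : Set G) : Subgroup G) from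
        hQ.to_le inf_le_left).comap_subtype)
      (by
        intro y hy
        rw [Subgroup.mem_subgroupOf] at hy ⊢
        exact ⟨hDQ hy, y.2⟩)
    have h2 : (⟨q, hq.2⟩ : Subgroup.normalizer (D : Set G)) ∈
        (Q ⊓ Subgroup.normalizer (D : Set G)).subgroupOf (Subgroup.normalizer (D : Set G)) := by
      rw [Subgroup.mem_subgroupOf]
      exact hq
    rw [h1, Subgroup.mem_subgroupOf] at h2
    exact h2
  · apply eq_of_normalizer_inf_le (p := p)
    · exact P.isPGroup'.to_le inf_le_left
    · refine le_inf hDP ?_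
      intro d hd
      refine ⟨(x : G)⁻¹ * d * x, ?_, ?_⟩
      · have h1 := hDC hd
        rw [Subgroup.mem_centralizer_singleton_iff] at h1
        have h2 : (x : G)⁻¹ * d * x = d := by
          rw [mul_assoc, h1, inv_mul_cancel_left]
        rw [h2]
        exact hDP hd
      · simp only [MulEquiv.toMonoidHom_eq_coe, MonoidHom.coe_coe, MulAut.conj_apply]
        group
    · rintro q ⟨⟨hq1, hq2⟩, hq3⟩
      obtain ⟨r, hr, hrq⟩ := hq2
      simp only [MulEquiv.toMonoidHom_eq_coe, MonoidHom.coe_coe, MulAut.conj_apply] at hrq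
      have h1 : (⟨q, hq3⟩ : Subgroup.normalizer (D : Set G)) ∈
          (S : Subgroup (Subgroup.normalizer (D : Set G))) ⊓
        (S : Subgroup (Subgroup.normalizer (D : Set G))).map (MulAut.conj x).toMonoidHom := by
        refine ⟨hS (by rw [Subgroup.mem_subgroupOf]; exact hq1), ?_⟩
        have hrN : r ∈ Subgroup.normalizer (D : Set G) := by
          have h2 := Subgroup.mul_mem _ (Subgroup.mul_mem _ (Subgroup.inv_mem _ x.2) hq3) x.2
          rw [← hrq] at h2
          have h3 : (x : G)⁻¹ * (↑x * r * (↑x)⁻¹) * ↑x = r := by group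
          rwa [h3] at h2
        refine ⟨⟨r, hrN⟩, hS (by rw [Subgroup.mem_subgroupOf]; exact hr), ?_⟩
        apply Subtype.ext
        simpa using hrq
      rw [hxS, Subgroup.mem_subgroupOf] at h1
      exact h1

end Cfsg.Agent.Blocks.GreenReduce
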