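import Mathlib
import Cfsg.Prelude.Def_Blocks
import Cfsg.Agent.Blocks.Basic
import Cfsg.Agent.Blocks.LocalRing
import Cfsg.Agent.Blocks.DefectCard
import Cfsg.Agent.Blocks.Twist
import Cfsg.Agent.CharactersDeep.ModCongr

/-!
# Height zero characters on the section of a defect class (S0927)
-/

set_option autoImplicit false
set_option linter.unusedSectionVars false

open scoped ComplexConjugate
open Cfsg Cfsg.Agent.Blocks.LocalRing

namespace Cfsg.Agent.Blocks.HeightZeroSection

variable {p : ℕ} {M : Ideal AlgInt} {G : Type*} [Group G] [Finite G]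

/-- Defect classes are `p`-regular. -/
theorem not_dvd_orderOf (hM : IsPModular p M) {B : Set (IrrCharacter G)}
    (hvan : ∀ y : G, p ∣ orderOf y → ∑ᶠ χ ∈ B, (χ : G → ℂ) 1 * conj ((χ : G → ℂ) y) = 0)
    {y : G} (hy : ¬ MemLocalIdeal M (blockCoeff B y)) : ¬ p ∣ orderOf y := by
  intro h
  apply hy
  rw [Basic.blockCoeff_def, hvan y h, mul_zero]
  exact memLocalIdeal_zero hM

/-- The `p`-part of the class size of a defect class is the least `p`-part of the degrees. -/
theorem factorization_index_eq (hM : IsPModular p M) {B : Set (IrrCharacter G)}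
    (hvan : ∀ y : G, p ∣ orderOf y → ∑ᶠ χ ∈ B, (χ : G → ℂ) 1 * conj ((χ : G → ℂ) y) = 0)
    {y : G} (hy : IsDefectClass M B y) {χ : IrrCharacter G} (hχ : χ ∈ B)
    (h0 : blockHeight p B (χ : G → ℂ) = 0) :
    (Subgroup.centralizer ({y} : Set G)).index.factorization p =
      (charDegree (χ : G → ℂ)).factorization p := by
  apply le_antisymm
  · exact DefectCard.factorization_index_le hM χ.2 y (hy.2.2 χ hχ)
  · rw [Basic.blockHeight_def, Nat.sub_eq_zero_iff_le] at h0
    refine h0.trans ?_
    exact DefectCard.le_factorization_index hM B hvan y hy.2.1 _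
      fun ψ hψ => Nat.sInf_le ⟨ψ, hψ, rfl⟩

/-- `χ x y ∉ J` for `χ` of height zero, `y` a defect class and `x` a `p`-element commuting
with it. -/
theorem not_memLocalIdeal_apply (hM : IsPModular p M) {B : Set (IrrCharacter G)}
    (hvan : ∀ y : G, p ∣ orderOf y → ∑ᶠ χ ∈ B, (χ : G → ℂ) 1 * conj ((χ : G → ℂ) y) = 0)
    {y : G} (hy : IsDefectClass M B y) {χ : IrrCharacter G} (hχ : χ ∈ B)
    (h0 : blockHeight p B (χ : G → ℂ) = 0) {x : G} (hxy : Commute x y)
    (hx : ∃ k : ℕ, orderOf x = p ^ k) : ¬ MemLocalIdeal M ((χ : G → ℂ) (x * y)) := by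
  have hreg := not_dvd_orderOf hM hvan hy.2.1
  have hfac := factorization_index_eq hM hvan hy hχ h0
  have hpart : IsPPart p (x * y) x := ⟨y, rfl, hxy, hx, hreg⟩
  have h1 := CharactersDeep.ModCongr.memLocalIdeal_character_sub hM χ.2 (x * y) x hpart
  rw [inv_mul_cancel_left] at h1
  rw [memLocalIdeal_congr hM h1]
  intro h2
  apply hy.2.2 χ hχ
  rw [Basic.centralChar_def, Basic.irr_one_eq_charDegree χ.2]
  have h3 := DefectCard.memLocalRing_natDiv (p := p) (a := (Subgroup.centralizer ({y} : Set G)).index)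
    hM (Basic.charDegree_pos χ.2).ne' hfac.ge
  have h4 := memLocalIdeal_mul_left hM h3 h2
  rw [div_mul_eq_mul_div] at h4
  exact h4

/-- Existence of a height zero character. -/
theorem exists_height_zero {B : Set (IrrCharacter G)} (hB : B.Nonempty) (p : ℕ) :
    ∃ χ ∈ B, blockHeight p B (χ : G → ℂ) = 0 := by
  obtain ⟨χ₀, hχ₀⟩ := hB
  have hne : ((fun χ : IrrCharacter G =>
      (charDegree (χ : G → ℂ)).factorization p) '' B).Nonempty := ⟨_, χ₀, hχ₀, rfl⟩
  obtain ⟨χ, hχ, hχe⟩ := Nat.sInf_mem hne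
  refine ⟨χ, hχ, ?_⟩
  rw [Basic.blockHeight_def, ← hχe, Nat.sub_self]

/-- The central characters at `x y` are units if `x` is central in a Sylow subgroup of `C(y)`. -/
theorem not_memLocalIdeal_centralChar [hpf : Fact p.Prime] (hM : IsPModular p M)
    {B : Set (IrrCharacter G)} (hB : IsPBlock M B)
    (hvan : ∀ y : G, p ∣ orderOf y → ∑ᶠ χ ∈ B, (χ : G → ℂ) 1 * conj ((χ : G → ℂ) y) = 0)
    {y : G} (hy : IsDefectClass M B y) (P : Sylow p (Subgroup.centralizer ({y} : Set G)))
    (x : Subgroup.centralizer ({y} : Set G))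
    (hx : x ∈ (P : Subgroup (Subgroup.centralizer ({y} : Set G))))
    (hxP : ∀ w ∈ (P : Subgroup (Subgroup.centralizer ({y} : Set G))), x * w = w * x)
    {χ : IrrCharacter G} (hχ : χ ∈ B) :
    ¬ MemLocalIdeal M (centralChar (χ : G → ℂ) ((x : G) * y)) := by
  have hMp := isPrime hM
  have hreg := not_dvd_orderOf hM hvan hy.2.1
  obtain ⟨ψ, hψ, hψ0⟩ := exists_height_zero (Basic.isPBlock_nonempty hB) p
  rw [Basic.centralChar_memLocalIdeal_iff hB hχ hψ]
  have hxy : Commute (x : G) y := Subgroup.mem_centralizer_singleton_iff.1 x.2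
  have hxord : ∃ k : ℕ, orderOf (x : G) = p ^ k := by
    obtain ⟨k, hk⟩ := P.isPGroup' ⟨x, hx⟩
    have hk' : (x : G) ^ p ^ k = 1 := by
      have h1 := congrArg (fun z : (P : Subgroup (Subgroup.centralizer ({y} : Set G))) =>
        ((z : Subgroup.centralizer ({y} : Set G)) : G)) hk
      simpa using h1
    obtain ⟨j, -, hj⟩ := (Nat.dvd_prime_pow hpf.out).1 (orderOf_dvd_of_pow_eq_one hk')
    exact ⟨j, hj⟩
  have hunit := not_memLocalIdeal_apply hM hvan hy hψ hψ0 hxy hxord
  have hfac := factorization_index_eq hM hvan hy hψ hψ0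
  have hpart : IsPPart p ((x : G) * y) (x : G) := ⟨y, rfl, hxy, hxord, hreg⟩
  obtain ⟨u, hu⟩ : ∃ u : G, u = (x : G) * y := ⟨_, rfl⟩
  rw [← hu] at hunit hpart ⊢
  obtain ⟨C', hC'⟩ : ∃ C' : Subgroup G, C' = Subgroup.centralizer ({u} : Set G) := ⟨_, rfl⟩
  -- `C(u) ≤ C(y)`
  have hC'C : C' ≤ Subgroup.centralizer ({y} : Set G) := by
    have h1 : (x : G) ∈ Subgroup.zpowers (u ^ (1 : ℤ)) := by
      apply Twist.mem_zpowers_zpow hpart
      intro h
      exact hpf.out.one_lt.ne' (by exact_mod_cast Int.eq_one_of_dvd_one (by positivity) h)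
    rw [zpow_one] at h1
    have h2 : y ∈ Subgroup.zpowers u := by
      have : y = (x : G)⁻¹ * u := by rw [hu, inv_mul_cancel_left]
      rw [this]
      exact Subgroup.mul_mem _ (Subgroup.inv_mem _ h1) (Subgroup.mem_zpowers u)
    intro g hg
    rw [hC', Subgroup.mem_centralizer_singleton_iff] at hg
    rw [Subgroup.mem_centralizer_singleton_iff]
    obtain ⟨n, hn⟩ := h2
    simp only at hn
    rw [← hn]
    exact ((show Commute g u from hg).zpow_right n).eq
  -- the Sylow subgroup is inside `C(u)`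
  have hQC' : (P : Subgroup (Subgroup.centralizer ({y} : Set G))).map
      (Subgroup.centralizer ({y} : Set G)).subtype ≤ C' := by
    rintro _ ⟨w, hw, rfl⟩
    rw [hC', Subgroup.mem_centralizer_singleton_iff, hu]
    have h1 := congrArg (fun z : Subgroup.centralizer ({y} : Set G) => (z : G)) (hxP w hw)
    simp only [Subgroup.coe_mul] at h1
    have h2 : (w : G) * y = y * (w : G) := Subgroup.mem_centralizer_singleton_iff.1 w.2
    change (w : G) * ((x : G) * y) = (x : G) * y * (w : G)
    rw [← mul_assoc, ← h1, mul_assoc, h2, mul_assoc]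
  have hQcard : Nat.card ((P : Subgroup (Subgroup.centralizer ({y} : Set G))).map
      (Subgroup.centralizer ({y} : Set G)).subtype) =
        p ^ (Nat.card (Subgroup.centralizer ({y} : Set G))).factorization p := by
    rw [← P.card_eq_multiplicity]
    exact Nat.card_congr ((P : Subgroup (Subgroup.centralizer ({y} : Set G))).equivMapOfInjective
      _ (Subgroup.subtype_injective _)).toEquiv.symm
  clear hx hxP hxy hxord hpart hu x
  generalize (P : Subgroup (Subgroup.centralizer ({y} : Set G))).map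
      (Subgroup.centralizer ({y} : Set G)).subtype = Q at hQC' hQcard
  generalize Subgroup.centralizer ({y} : Set G) = C at hC'C hQcard hfac
  have hv : (Nat.card C').factorization p = (Nat.card C).factorization p := by
    apply le_antisymm
    · exact (Nat.factorization_le_iff_dvd Nat.card_pos.ne' Nat.card_pos.ne').2
        (Subgroup.card_dvd_of_le hC'C) p
    · rw [← hpf.out.pow_dvd_iff_le_factorization Nat.card_pos.ne', ← hQcard]
      exact Subgroup.card_dvd_of_le hQC'
  have hidx : C'.index.factorization p = C.index.factorization p := by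
    have h1 : Nat.card C' * C'.index = Nat.card C * C.index := by
      rw [C'.card_mul_index, C.card_mul_index]
    have h2 : (Nat.card C' * C'.index).factorization p = (Nat.card C * C.index).factorization p := by
      rw [h1]
    rw [Nat.factorization_mul Nat.card_pos.ne' Subgroup.index_ne_zero_of_finite,
      Nat.factorization_mul Nat.card_pos.ne' Subgroup.index_ne_zero_of_finite,
      Finsupp.add_apply, Finsupp.add_apply, hv] at h2
    exact Nat.add_left_cancel h2
  intro hcon
  apply hunit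
  have hi0 : C'.index ≠ 0 := Subgroup.index_ne_zero_of_finite
  have hiC : (C'.index : ℂ) ≠ 0 := by exact_mod_cast hi0
  have hdC : ((charDegree (ψ : G → ℂ) : ℕ) : ℂ) ≠ 0 := by
    exact_mod_cast (Basic.charDegree_pos ψ.2).ne'
  have h3 := DefectCard.memLocalRing_natDiv (p := p) (a := charDegree (ψ : G → ℂ)) hM hi0
    (by rw [hidx, hfac])
  have h4 := memLocalIdeal_mul_left hM h3 hcon
  rw [Basic.centralChar_def, Basic.irr_one_eq_charDegree ψ.2, ← hC'] at h4
  have h5 : (((charDegree (ψ : G → ℂ) : ℕ) : ℂ) / (C'.index : ℂ)) *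
      ((C'.index : ℂ) * (ψ : G → ℂ) u / ((charDegree (ψ : G → ℂ) : ℕ) : ℂ)) =
      (ψ : G → ℂ) u := by
    field_simp
  rw [h5] at h4
  exact h4

end Cfsg.Agent.Blocks.HeightZeroSection
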