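import Mathlib

/-!
# Sylow 2-subgroups isomorphic to `Z/2^m × Z/2^m`

Helper file for S0945 and S0946.
-/

set_option autoImplicit false

namespace Cfsg.Agent.Blocks.Homocyclic

open Subgroup

theorem ncard_nsmul_le (k : ℕ) [NeZero k] : Set.ncard {a : ZMod k | 2 • a = 0} ≤ 2 := by
  classical
  have h := IsAddCyclic.card_nsmul_eq_zero_le (α := ZMod k) (n := 2) (by norm_num)
  rw [← Set.ncard_coe_finset] at h
  simpa using h

theorem ncard_pow_le (m : ℕ) :
    Set.ncard {x : Multiplicative (ZMod (2 ^ m) × ZMod (2 ^ m)) | x ^ 2 = 1} ≤ 4 := by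
  have h1 : ({x : Multiplicative (ZMod (2 ^ m) × ZMod (2 ^ m)) | x ^ 2 = 1}) =
      Multiplicative.ofAdd '' ({a : ZMod (2 ^ m) | 2 • a = 0} ×ˢ {a : ZMod (2 ^ m) | 2 • a = 0}) := by
    ext x
    constructor
    · intro hx
      refine ⟨Multiplicative.toAdd x, ?_, rfl⟩
      have hx' : 2 • Multiplicative.toAdd x = 0 := by
        rw [← toAdd_pow]
        exact congrArg Multiplicative.toAdd hx
      exact ⟨congrArg Prod.fst hx', congrArg Prod.snd hx'⟩
    · rintro ⟨⟨a, b⟩, ⟨ha, hb⟩, rfl⟩
      have hab : 2 • (a, b) = (0 : ZMod (2 ^ m) × ZMod (2 ^ m)) := Prod.ext ha hb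
      change (Multiplicative.ofAdd (a, b)) ^ 2 = 1
      rw [← ofAdd_nsmul, hab]
      rfl
  rw [h1, Set.ncard_image_of_injective _ Multiplicative.ofAdd.injective, Set.ncard_prod]
  have h2 := ncard_nsmul_le (2 ^ m)
  calc _ ≤ 2 * 2 := Nat.mul_le_mul h2 h2
    _ = 4 := by norm_num

theorem ncard_involutions_le (m : ℕ) :
    Set.ncard {x : Multiplicative (ZMod (2 ^ m) × ZMod (2 ^ m)) | orderOf x = 2} ≤ 3 := by
  have h := ncard_pow_le m
  have hsub : insert 1 {x : Multiplicative (ZMod (2 ^ m) × ZMod (2 ^ m)) | orderOf x = 2} ⊆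
      {x : Multiplicative (ZMod (2 ^ m) × ZMod (2 ^ m)) | x ^ 2 = 1} := by
    intro x hx
    rcases hx with rfl | hx
    · simp
    · have h1 : x ^ orderOf x = 1 := pow_orderOf_eq_one x
      rwa [(hx : orderOf x = 2)] at h1
  have h2 := Set.ncard_le_ncard hsub
  rw [Set.ncard_insert_of_notMem (by simp)] at h2
  omega

section

set_option linter.unusedSectionVars false

variable {G : Type*} [Group G] [Finite G]

theorem ncard_involutions_subgroup_le (P : Subgroup G) (m : ℕ)
    (e : P ≃* Multiplicative (ZMod (2 ^ m) × ZMod (2 ^ m))) :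
    Set.ncard {x : G | x ∈ P ∧ orderOf x = 2} ≤ 3 := by
  refine le_trans ?_ (ncard_involutions_le m)
  have : {x : G | x ∈ P ∧ orderOf x = 2} =
      (fun y => ((e.symm y : P) : G)) '' {x | orderOf x = 2} := by
    ext x
    constructor
    · rintro ⟨hx, h2⟩
      refine ⟨e ⟨x, hx⟩, ?_, by simp⟩
      change orderOf (e ⟨x, hx⟩) = 2
      rw [e.orderOf_eq, Subgroup.orderOf_mk, h2]
    · rintro ⟨y, hy, rfl⟩
      refine ⟨(e.symm y).2, ?_⟩
      rw [Subgroup.orderOf_coe, e.symm.orderOf_eq]
      exact hy
  rw [this]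
  exact Set.ncard_image_le (Set.toFinite _)

/-- An automorphism of odd order of a finite abelian `2`-group which fixes one of at most three
involutions is trivial; here stated for conjugation. -/
theorem commute_of_odd (P : Subgroup G) (hP : IsPGroup 2 P)
    (hcomm : ∀ x ∈ P, ∀ y ∈ P, x * y = y * x)
    (h3 : Set.ncard {x : G | x ∈ P ∧ orderOf x = 2} ≤ 3)
    (x : G) (hx : ∀ y ∈ P, x * y * x⁻¹ ∈ P) (k : ℕ) (hk : Odd k)
    (hxk : ∀ y ∈ P, x ^ k * y = y * x ^ k) (z : G) (hz : z ∈ P) (hz2 : orderOf z = 2)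
    (hxz : x * z * x⁻¹ = z) : ∀ y ∈ P, x * y * x⁻¹ = y := by
  set α : G → G := fun y => x * y * x⁻¹ with hα
  have hinj : Function.Injective α := fun a b hab => by
    simpa [hα] using hab
  have hmul : ∀ a b, α (a * b) = α a * α b := fun a b => by simp [hα]
  have hαP : ∀ y ∈ P, α y ∈ P := hx
  have hiter : ∀ (n : ℕ) y, α^[n] y = x ^ n * y * (x ^ n)⁻¹ := by
    intro n
    induction n with
    | zero => intro y; simp
    | succ n ih =>
      intro y
      rw [Function.iterate_succ_apply', ih, hα, pow_succ']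
      group
  have hk' : ∀ y ∈ P, α^[k] y = y := by
    intro y hy
    rw [hiter, hxk y hy, mul_inv_cancel_right]
  have hord : ∀ y, orderOf (α y) = orderOf y := by
    intro y
    exact (MulAut.conj x).orderOf_eq y
  -- α fixes all involutions in P
  have hinv : ∀ a ∈ P, orderOf a = 2 → α a = a := by
    intro a ha ha2
    by_contra hne
    have hne' : a ≠ z := by
      rintro rfl
      exact hne hxz
    have hne2 : α a ≠ z := by
      intro h
      exact hne' (hinj (h.trans hxz.symm))
    have hne3 : α (α a) ≠ z := by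
      intro h
      exact hne2 (hinj (h.trans hxz.symm))
    have hne4 : α (α a) ≠ α a := fun h => hne (hinj h)
    have hαα : α (α a) = a := by
      by_contra hne5
      have hsub : ({z, a, α a, α (α a)} : Set G) ⊆ {x : G | x ∈ P ∧ orderOf x = 2} := by
        intro w hw
        simp only [Set.mem_insert_iff, Set.mem_singleton_iff] at hw
        rcases hw with rfl | rfl | rfl | rfl
        · exact ⟨hz, hz2⟩
        · exact ⟨ha, ha2⟩
        · exact ⟨hαP _ ha, by rw [hord, ha2]⟩
        · exact ⟨hαP _ (hαP _ ha), by rw [hord, hord, ha2]⟩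
      have hc := Set.ncard_le_ncard hsub
      rw [Set.ncard_insert_of_notMem (by
          simp only [Set.mem_insert_iff, Set.mem_singleton_iff, not_or]
          exact ⟨hne'.symm, hne2.symm, hne3.symm⟩),
        Set.ncard_insert_of_notMem (by
          simp only [Set.mem_insert_iff, Set.mem_singleton_iff, not_or]
          exact ⟨fun h => hne h.symm, fun h => hne5 h.symm⟩),
        Set.ncard_insert_of_notMem (by
          simp only [Set.mem_singleton_iff]
          exact hne4.symm), Set.ncard_singleton] at hc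
      omega
    obtain ⟨r, hr⟩ := hk
    have h2r : ∀ n : ℕ, α^[2 * n] a = a := by
      intro n
      induction n with
      | zero => simp
      | succ n ih =>
        rw [Nat.mul_succ, Function.iterate_add_apply]
        change α^[2 * n] (α (α a)) = a
        rw [hαα, ih]
    have := hk' a ha
    rw [hr, add_comm, Function.iterate_add_apply, h2r, Function.iterate_one] at this
    exact hne this
  -- now all elements
  have hmain : ∀ (i : ℕ) (y : G), y ∈ P → y ^ (2 ^ i) = 1 → α y = y := by
    intro i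
    induction i with
    | zero =>
      intro y _ hy1
      have : y = 1 := by simpa using hy1
      subst this
      simp [hα]
    | succ i ih =>
      intro y hy hyi
      have h1 : α (y ^ 2) = y ^ 2 := ih (y ^ 2) (P.pow_mem hy 2) (by
        rw [← pow_mul, ← pow_succ', hyi])
      set t := y⁻¹ * α y with ht
      have htP : t ∈ P := P.mul_mem (P.inv_mem hy) (hαP y hy)
      have hαy : α y = y * t := by rw [ht]; group
      have ht2 : t ^ 2 = 1 := by
        have h2 : α (y ^ 2) = (y * t) ^ 2 := by
          rw [pow_two, hmul, hαy, pow_two]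
        rw [h1, (show Commute y t from hcomm y hy t htP).mul_pow] at h2
        exact (mul_eq_left.1 h2.symm)
      have hαt : α t = t := by
        by_cases ht1 : t = 1
        · rw [ht1]; simp [hα]
        · exact hinv t htP (orderOf_eq_prime ht2 ht1)
      have hit : ∀ n : ℕ, α^[n] y = y * t ^ n := by
        intro n
        induction n with
        | zero => simp
        | succ n ihn =>
          rw [Function.iterate_succ_apply', ihn, hmul, hαy]
          have : α (t ^ n) = t ^ n := by
            have hpow : ∀ j : ℕ, α (t ^ j) = t ^ j := by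
              intro j
              induction j with
              | zero => simp [hα]
              | succ j ihj => rw [pow_succ, hmul, ihj, hαt]
            exact hpow n
          rw [this, mul_assoc, ← pow_succ']
      have htk : t ^ k = 1 := by
        have := hk' y hy
        rw [hit] at this
        exact mul_eq_left.1 this
      obtain ⟨r, hr⟩ := hk
      rw [hr, pow_succ, pow_mul, ht2, one_pow, one_mul] at htk
      rw [hαy, htk, mul_one]
  intro y hy
  obtain ⟨i, hi⟩ := hP ⟨y, hy⟩
  refine hmain i y hy ?_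
  simpa using congrArg Subtype.val hi

variable (P : Sylow 2 G)

theorem odd_relIndex (hcomm : ∀ x ∈ P, ∀ y ∈ P, x * y = y * x) :
    Odd ((centralizer (P : Set G)).relIndex (normalizer (P : Set G))) := by
  have hPC : (P : Subgroup G) ≤ centralizer (P : Set G) := by
    intro x hx
    rw [mem_centralizer_iff]
    intro y hy
    exact hcomm y hy x hx
  have hPN : (P : Subgroup G) ≤ normalizer (P : Set G) := le_normalizer
  have h1 : (centralizer (P : Set G)).relIndex (normalizer (P : Set G)) ∣
      (P : Subgroup G).relIndex (normalizer (P : Set G)) := relIndex_dvd_of_le_left _ hPC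
  have h2 : (P : Subgroup G).relIndex (normalizer (P : Set G)) ∣ (P : Subgroup G).index :=
    relIndex_dvd_index_of_le hPN
  rw [← Nat.not_even_iff_odd, even_iff_two_dvd]
  intro h
  exact P.not_dvd_index (h.trans (h1.trans h2))

theorem pow_mem_centralizer (x : G) (hx : x ∈ normalizer (P : Set G)) :
    x ^ ((centralizer (P : Set G)).relIndex (normalizer (P : Set G))) ∈
      centralizer (P : Set G) := by
  have := Subgroup.pow_index_mem ((centralizer (P : Set G)).subgroupOf (normalizer (P : Set G)))
    ⟨x, hx⟩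
  exact this

/-- the key statement: an element of the normalizer which centralizes a nontrivial element of `P`
centralizes `P`. -/
theorem mem_centralizer_of_commute (m : ℕ)
    (e : (P : Subgroup G) ≃* Multiplicative (ZMod (2 ^ m) × ZMod (2 ^ m)))
    (z : G) (hz : z ∈ (P : Subgroup G)) (hz1 : z ≠ 1) (x : G)
    (hx : x ∈ normalizer (P : Set G)) (hxz : z * x = x * z) : x ∈ centralizer (P : Set G) := by
  have hcomm : ∀ x ∈ P, ∀ y ∈ P, x * y = y * x := by
    intro x hx y hy
    have : (⟨x, hx⟩ : (P : Subgroup G)) * ⟨y, hy⟩ = ⟨y, hy⟩ * ⟨x, hx⟩ := by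
      apply e.injective
      rw [map_mul, map_mul, mul_comm]
    exact congrArg Subtype.val this
  have hodd := odd_relIndex P hcomm
  have hpow := pow_mem_centralizer P x hx
  -- pass to a power of `z`
  obtain ⟨i, hi⟩ := P.2.exists_card_eq.imp (fun _ h => h)
  have hord : ∃ j, orderOf z = 2 ^ (j + 1) := by
    obtain ⟨n, hn⟩ := P.2 ⟨z, hz⟩
    have hn' : z ^ (2 ^ n) = 1 := by simpa using congrArg Subtype.val hn
    obtain ⟨j, hj, hj'⟩ := (Nat.dvd_prime_pow Nat.prime_two).1 (orderOf_dvd_of_pow_eq_one hn')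
    cases j with
    | zero => exact absurd (orderOf_eq_one_iff.1 (by simpa using hj')) hz1
    | succ j => exact ⟨j, hj'⟩
  obtain ⟨j, hj⟩ := hord
  have hz2 : orderOf (z ^ (2 ^ j)) = 2 := by
    rw [orderOf_pow, hj, Nat.gcd_eq_right (pow_dvd_pow 2 (Nat.le_succ j)), pow_succ]
    exact Nat.mul_div_cancel_left _ (by positivity)
  have hxz' : x * z ^ (2 ^ j) * x⁻¹ = z ^ (2 ^ j) := by
    have : Commute x (z ^ (2 ^ j)) := (show Commute x z from hxz.symm).pow_right _
    rw [this.eq, mul_inv_cancel_right]
  have hmain := commute_of_odd (P : Subgroup G) P.2 hcomm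
    (ncard_involutions_subgroup_le (P : Subgroup G) m e) x
    (fun y hy => (mem_set_normalizer_iff.1 hx y).1 hy) _ hodd
    (fun y hy => ((mem_centralizer_iff.1 hpow) y hy).symm) (z ^ (2 ^ j))
    ((P : Subgroup G).pow_mem hz _) hz2 hxz'
  rw [mem_centralizer_iff]
  intro y hy
  have := hmain y hy
  rw [mul_inv_eq_iff_eq_mul] at this
  exact this.symm

/-- the conjugacy orbit of an involution under the normalizer has size the relative index. -/
theorem ncard_orbit (m : ℕ)
    (e : (P : Subgroup G) ≃* Multiplicative (ZMod (2 ^ m) × ZMod (2 ^ m)))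
    (z : G) (hz : z ∈ (P : Subgroup G)) (hz1 : z ≠ 1) :
    Set.ncard {w : G | ∃ x ∈ normalizer (P : Set G), x * z * x⁻¹ = w} =
      (centralizer (P : Set G)).relIndex (normalizer (P : Set G)) := by
  letI : MulAction (normalizer (P : Set G)) G :=
    MulAction.compHom G ((MulAut.conj (G := G)).comp (normalizer (P : Set G)).subtype)
  have hsmul : ∀ (x : normalizer (P : Set G)) (g : G), x • g = (x : G) * g * (x : G)⁻¹ :=
    fun x g => rfl
  have h1 := MulAction.index_stabilizer (normalizer (P : Set G)) z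
  have h2 : MulAction.orbit (normalizer (P : Set G)) z =
      {w : G | ∃ x ∈ normalizer (P : Set G), x * z * x⁻¹ = w} := by
    ext w
    constructor
    · rintro ⟨x, rfl⟩
      exact ⟨x, x.2, rfl⟩
    · rintro ⟨x, hx, rfl⟩
      exact ⟨⟨x, hx⟩, rfl⟩
  have h3 : MulAction.stabilizer (normalizer (P : Set G)) z =
      (centralizer (P : Set G)).subgroupOf (normalizer (P : Set G)) := by
    ext x
    rw [MulAction.mem_stabilizer_iff, hsmul, mem_subgroupOf]
    constructor
    · intro h
      refine mem_centralizer_of_commute P m e z hz hz1 x x.2 ?_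
      rw [mul_inv_eq_iff_eq_mul] at h
      exact h.symm
    · intro h
      have := mem_centralizer_iff.1 h z hz
      rw [← this, mul_inv_cancel_right]
  rw [← h2, ← h1, h3]
  rfl

theorem exists_involution (m : ℕ) (hm : 1 ≤ m)
    (e : (P : Subgroup G) ≃* Multiplicative (ZMod (2 ^ m) × ZMod (2 ^ m))) :
    ∃ z ∈ (P : Subgroup G), orderOf z = 2 := by
  haveI : Fact (Nat.Prime 2) := ⟨Nat.prime_two⟩
  have hcard : 2 ∣ Nat.card (P : Subgroup G) := by
    rw [Nat.card_congr e.toEquiv, Nat.card_congr Multiplicative.toAdd, Nat.card_prod,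
      Nat.card_zmod]
    exact Dvd.dvd.mul_left (dvd_pow_self 2 (by omega)) _
  obtain ⟨z, hz⟩ := exists_prime_orderOf_dvd_card' 2 hcard
  exact ⟨z, z.2, by rw [Subgroup.orderOf_coe, hz]⟩

theorem orbit_subset (z : G) (hz : z ∈ (P : Subgroup G)) (hz2 : orderOf z = 2) :
    {w : G | ∃ x ∈ normalizer (P : Set G), x * z * x⁻¹ = w} ⊆
      {x : G | x ∈ (P : Subgroup G) ∧ orderOf x = 2} := by
  rintro w ⟨x, hx, rfl⟩
  refine ⟨(mem_set_normalizer_iff.1 hx z).1 hz, ?_⟩
  rw [← hz2]
  exact (MulAut.conj x).orderOf_eq z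

theorem relIndex_eq_one_or_three (m : ℕ) (hm : 1 ≤ m)
    (e : (P : Subgroup G) ≃* Multiplicative (ZMod (2 ^ m) × ZMod (2 ^ m))) :
    (centralizer (P : Set G)).relIndex (normalizer (P : Set G)) = 1 ∨
      (centralizer (P : Set G)).relIndex (normalizer (P : Set G)) = 3 := by
  have hcomm : ∀ x ∈ P, ∀ y ∈ P, x * y = y * x := by
    intro x hx y hy
    have : (⟨x, hx⟩ : (P : Subgroup G)) * ⟨y, hy⟩ = ⟨y, hy⟩ * ⟨x, hx⟩ := by
      apply e.injective
      rw [map_mul, map_mul, mul_comm]
    exact congrArg Subtype.val this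
  obtain ⟨z, hz, hz2⟩ := exists_involution P m hm e
  have hz1 : z ≠ 1 := by
    rintro rfl
    simp at hz2
  obtain ⟨r, hr⟩ := odd_relIndex P hcomm
  have h3 : (centralizer (P : Set G)).relIndex (normalizer (P : Set G)) ≤ 3 := by
    rw [← ncard_orbit P m e z hz hz1]
    exact (Set.ncard_le_ncard (orbit_subset P z hz hz2)).trans
      (ncard_involutions_subgroup_le (P : Subgroup G) m e)
  omega

/-- when the index is three, any two involutions of `P` are conjugate in the normalizer. -/
theorem isConj_of_relIndex_eq_three (m : ℕ)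
    (e : (P : Subgroup G) ≃* Multiplicative (ZMod (2 ^ m) × ZMod (2 ^ m)))
    (h : (centralizer (P : Set G)).relIndex (normalizer (P : Set G)) = 3)
    (z w : G) (hz : z ∈ (P : Subgroup G)) (hz2 : orderOf z = 2)
    (hw : w ∈ (P : Subgroup G)) (hw2 : orderOf w = 2) :
    ∃ x ∈ normalizer (P : Set G), x * z * x⁻¹ = w := by
  have hz1 : z ≠ 1 := by
    rintro rfl
    simp at hz2
  have heq : {w : G | ∃ x ∈ normalizer (P : Set G), x * z * x⁻¹ = w} =
      {x : G | x ∈ (P : Subgroup G) ∧ orderOf x = 2} := by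
    apply Set.eq_of_subset_of_ncard_le (orbit_subset P z hz hz2)
    rw [ncard_orbit P m e z hz hz1, h]
    exact ncard_involutions_subgroup_le (P : Subgroup G) m e
  have : w ∈ {w : G | ∃ x ∈ normalizer (P : Set G), x * z * x⁻¹ = w} := by
    rw [heq]
    exact ⟨hw, hw2⟩
  exact this

/-- every involution is conjugate to one in the Sylow `2`-subgroup. -/
theorem exists_isConj_mem (s : G) (hs : orderOf s = 2) :
    ∃ s' ∈ (P : Subgroup G), orderOf s' = 2 ∧ IsConj s s' := by
  haveI : Fact (Nat.Prime 2) := ⟨Nat.prime_two⟩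
  have hp : IsPGroup 2 (zpowers s) := by
    apply IsPGroup.of_card (n := 1)
    rw [Nat.card_zpowers, hs, pow_one]
  obtain ⟨Q, hQ⟩ := hp.exists_le_sylow
  obtain ⟨g, hg⟩ := MulAction.exists_smul_eq G Q P
  refine ⟨g * s * g⁻¹, ?_, ?_, ?_⟩
  · have hsQ : s ∈ Q := hQ (mem_zpowers s)
    rw [← hg]
    change g * s * g⁻¹ ∈ ((g • Q : Sylow 2 G) : Subgroup G)
    rw [Sylow.coe_subgroup_smul]
    exact Subgroup.smul_mem_pointwise_smul s (MulAut.conj g) _ hsQ
  · rw [← hs]
    exact (MulAut.conj g).orderOf_eq s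
  · exact isConj_iff.2 ⟨g, rfl⟩

end

end Cfsg.Agent.Blocks.Homocyclic
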