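import Mathlib
import Cfsg.Agent.Blocks.HomocyclicComb

/-!
# The analytic main lemma for S0949
-/

set_option autoImplicit false

namespace Cfsg.Agent.Blocks.HomocyclicMain

open Finset AddChar

/-- the arithmetic endgame -/
theorem arith (a b : ℤ) (ha : (16 : ℤ) ∣ a - 1) (hb : (16 : ℤ) ∣ b - 1)
    (h : (1 + a + b) * (a * b + a + b) = 9 * (a * b)) : a = 1 ∧ b = 1 := by
  obtain ⟨i, hi⟩ := ha
  obtain ⟨j, hj⟩ := hb
  have ha' : a = 1 + 16 * i := by linarith
  have hb' : b = 1 + 16 * j := by linarith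
  set k := i + j with hk
  have hs : a + b = 2 + 16 * k := by rw [ha', hb', hk]; ring
  have key : (6 - 16 * k) * (a * b + (2 + 16 * k) + 9) = 72 := by
    have h1 : (1 + (a + b)) * (a * b + (a + b)) = 9 * (a * b) := by
      rw [← h]; ring
    rw [hs] at h1
    ring_nf at h1 ⊢
    linarith
  have hdvd : (6 - 16 * k) ∣ 72 := ⟨_, key.symm⟩
  have hle : |6 - 16 * k| ≤ 72 := Int.le_of_dvd (by norm_num) ((abs_dvd _ _).2 hdvd)
  rw [abs_le] at hle
  have hk1 : -4 ≤ k := by omega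
  have hk2 : k ≤ 4 := by omega
  have hk0 : k = 0 := by
    clear_value k
    interval_cases k <;> first | rfl | (exfalso; revert hdvd; decide)
  rw [hk0] at key hs
  have hab : a * b = 1 := by linarith
  have hsum : a + b = 2 := by linarith
  have hsq : (a - 1) * (a - 1) = 0 := by
    have : b = 2 - a := by linarith
    rw [this] at hab
    linarith
  have ha1 : a - 1 = 0 := by
    rcases mul_eq_zero.1 hsq with h | h <;> exact h
  constructor <;> linarith

section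

set_option linter.unusedSectionVars false

variable {A : Type*} [AddCommGroup A] [Fintype A] [DecidableEq A]

theorem orth (φ ψ : AddChar A ℂ) :
    ∑ a, φ a * ψ (-a) = if φ = ψ then (Fintype.card A : ℂ) else 0 := by
  classical
  have h := AddChar.sum_eq_ite (φ - ψ)
  simp only [AddChar.sub_apply] at h
  rw [h]
  by_cases h1 : φ = ψ
  · rw [if_pos h1, if_pos (by rw [h1, sub_self])]
  · rw [if_neg h1, if_neg (fun h2 => h1 (sub_eq_zero.1 h2))]

theorem coeff {F : A → ℂ} {m : AddChar A ℂ → ℤ} (hm : ∀ a, F a = ∑ ψ, (m ψ : ℂ) * ψ a)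
    (ψ : AddChar A ℂ) : ∑ a, F a * ψ (-a) = (Fintype.card A : ℂ) * m ψ := by
  simp_rw [hm, Finset.sum_mul]
  rw [Finset.sum_comm]
  have : ∀ φ : AddChar A ℂ, ∑ a, (m φ : ℂ) * φ a * ψ (-a) =
      if φ = ψ then (Fintype.card A : ℂ) * m ψ else 0 := by
    intro φ
    simp_rw [mul_assoc]
    rw [← Finset.mul_sum, orth]
    by_cases h : φ = ψ
    · rw [if_pos h, if_pos h, h, mul_comm]
    · rw [if_neg h, if_neg h, mul_zero]
  rw [Finset.sum_congr rfl (fun φ _ => this φ), Finset.sum_ite_eq' Finset.univ ψ]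
  simp

theorem coeff_diff {F : A → ℂ} {m : AddChar A ℂ → ℤ} (hm : ∀ a, F a = ∑ ψ, (m ψ : ℂ) * ψ a)
    (ψ : AddChar A ℂ) :
    ∑ a, F a * (1 - ψ (-a)) = (Fintype.card A : ℂ) * ((m 0 - m ψ : ℤ) : ℂ) := by
  have h0 := coeff hm 0
  have h1 := coeff hm ψ
  simp only [AddChar.zero_apply, mul_one] at h0
  simp_rw [mul_sub, mul_one, Finset.sum_sub_distrib]
  rw [h0, h1]
  push_cast
  ring

theorem sum_char_ne {ψ : AddChar A ℂ} (h : ψ ≠ 0) : ∑ a, ψ a = 0 :=
  AddChar.sum_eq_zero_iff_ne_zero.2 h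

theorem sum_char_neg_ne {ψ : AddChar A ℂ} (h : ψ ≠ 0) : ∑ a, ψ (-a) = 0 := by
  rw [← sum_char_ne h]
  exact Fintype.sum_equiv (Equiv.neg A) _ _ (fun a => rfl)

/-- change of weights. -/
theorem weight {ι : Type*} [Fintype ι] {F : ι → A → ℂ} {m : ι → AddChar A ℂ → ℤ}
    (hm : ∀ i a, F i a = ∑ ψ, (m i ψ : ℂ) * ψ a) (ψ : AddChar A ℂ) (w : ι → ℂ) :
    (Fintype.card A : ℂ) * ∑ i, w i * ((m i 0 - m i ψ : ℤ) : ℂ) =
      ∑ a, (1 - ψ (-a)) * ∑ i, w i * F i a := by
  rw [Finset.mul_sum]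
  simp_rw [Finset.mul_sum]
  rw [Finset.sum_comm]
  refine Finset.sum_congr rfl (fun i _ => ?_)
  have := coeff_diff (hm i) ψ
  calc (Fintype.card A : ℂ) * (w i * ((m i 0 - m i ψ : ℤ) : ℂ))
      = w i * ((Fintype.card A : ℂ) * ((m i 0 - m i ψ : ℤ) : ℂ)) := by ring
    _ = w i * ∑ a, F i a * (1 - ψ (-a)) := by rw [this]
    _ = ∑ a, (1 - ψ (-a)) * (w i * F i a) := by
        rw [Finset.mul_sum]
        exact Finset.sum_congr rfl (fun a _ => by ring)

theorem orbit_sum (σ : A ≃+ A) (hσ3 : ∀ a, σ (σ (σ a)) = a) (hσ1 : ∀ a, σ a = a → a = 0)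
    (g : A → ℂ) (a : A) (ha : a ≠ 0) :
    ∑ b, (if b = a ∨ b = σ a ∨ b = σ (σ a) then g b else 0) = g a + g (σ a) + g (σ (σ a)) := by
  have h1 : σ a ≠ a := fun h => ha (hσ1 a h)
  have h2 : σ (σ a) ≠ σ a := fun h => ha (hσ1 a (σ.injective h))
  have h3 : σ (σ a) ≠ a := by
    intro h
    have := congrArg σ h
    rw [hσ3] at this
    exact h1 this.symm
  rw [← Finset.sum_filter]
  have : Finset.univ.filter (fun b => b = a ∨ b = σ a ∨ b = σ (σ a)) = {a, σ a, σ (σ a)} := by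
    ext b
    simp
  rw [this, Finset.sum_insert (by simp [h1.symm, h3.symm]), Finset.sum_insert (by simp [h2.symm]),
    Finset.sum_singleton]
  ring

theorem main (hA : 16 ∣ Fintype.card A) (σ : A ≃+ A) (hσ3 : ∀ a, σ (σ (σ a)) = a)
    (hσ1 : ∀ a, σ a = a → a = 0)
    {ι : Type*} [Fintype ι] [DecidableEq ι] (F : ι → A → ℂ) (m : ι → AddChar A ℂ → ℤ)
    (hm : ∀ i a, F i a = ∑ ψ, (m i ψ : ℂ) * ψ a)
    (hpos : ∀ i, ∃ n : ℕ, 0 < n ∧ F i 0 = n) (o : ι) (ho : ∀ a, F o a = 1)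
    (O12 : ∀ a b, a ≠ 0 → b ≠ 0 → ∑ i, F i a * F i (-b) =
      if b = a ∨ b = σ a ∨ b = σ (σ a) then (Fintype.card A : ℂ) else 0)
    (O3 : ∀ a, a ≠ 0 → ∑ i, F i a * F i 0 = 0)
    (t : A) (ht : t ≠ 0) (ht2 : 2 • t = 0) (a₀ : A) (ha₀ : 2 • a₀ ≠ 0)
    (O4 : ∀ a, 2 • a ≠ 0 → ∑ i, (F i t) ^ 2 * F i a / F i 0 = 0) :
    ∃ i, i ≠ o ∧ ∀ a, F i a = 1 := by
  classical
  have hN0 : (Fintype.card A : ℂ) ≠ 0 := by
    have : 0 < Fintype.card A := Fintype.card_pos
    exact_mod_cast this.ne'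
  have hN16 : 16 ≤ Fintype.card A := Nat.le_of_dvd Fintype.card_pos hA
  -- conjugates of characters
  set c : AddChar A ℂ → AddChar A ℂ := fun ψ => ψ.compAddMonoidHom (σ : A →+ A) with hc
  have hcapp : ∀ ψ a, c ψ a = ψ (σ a) := fun ψ a => rfl
  have hc1 : ∀ ψ, c ψ = ψ → ψ = 0 := by
    intro ψ h
    rw [AddChar.eq_zero_iff]
    intro x
    have hinj : Function.Injective (fun a => σ a - a) := by
      intro a b hab
      have h1 : σ (a - b) = a - b := by
        rw [map_sub]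
        have h2 : σ a - a = σ b - b := hab
        have : σ a - σ b - (a - b) = (σ a - a) - (σ b - b) := by abel
        rw [← sub_eq_zero, this, h2, sub_self]
      exact sub_eq_zero.1 (hσ1 _ h1)
    obtain ⟨a, rfl⟩ := (Finite.injective_iff_surjective.1 hinj) x
    change ψ (σ a - a) = 1
    rw [AddChar.map_sub_eq_div, ← hcapp, h]
    exact div_self ((AddChar.val_isUnit ψ a).ne_zero)
  have hc2 : ∀ ψ, c (c ψ) = ψ → ψ = 0 := by
    intro ψ h
    apply hc1
    have h3 : c (c (c ψ)) = ψ := by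
      ext a
      simp only [hcapp, hσ3]
    rw [h] at h3
    exact h3
  have hcne : ∀ ψ, ψ ≠ 0 → c ψ ≠ 0 := by
    intro ψ h h'
    apply h
    rw [AddChar.eq_zero_iff] at h' ⊢
    intro x
    have := h' (σ.symm x)
    rwa [hcapp, AddEquiv.apply_symm_apply] at this
  -- Lemma H
  have hH : ∀ φ a, a ≠ 0 → ∑ i, ((m i 0 - m i φ : ℤ) : ℂ) * F i a =
      3 - φ a - φ (σ a) - φ (σ (σ a)) := by
    intro φ a ha
    have h1 : (Fintype.card A : ℂ) * ∑ i, F i a * ((m i 0 - m i φ : ℤ) : ℂ) =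
        (Fintype.card A : ℂ) * (3 - φ a - φ (σ a) - φ (σ (σ a))) := by
      rw [weight hm]
      have h2 : ∑ b, (1 - φ (-b)) * ∑ i, F i a * F i b =
          ∑ b, (1 - φ b) * ∑ i, F i a * F i (-b) := by
        apply Fintype.sum_equiv (Equiv.neg A)
        intro b
        simp
      rw [h2]
      have h3 : ∀ b, (1 - φ b) * ∑ i, F i a * F i (-b) =
          if b = a ∨ b = σ a ∨ b = σ (σ a) then (1 - φ b) * (Fintype.card A : ℂ) else 0 := by
        intro b
        by_cases hb : b = 0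
        · subst hb
          rw [AddChar.map_zero_eq_one, sub_self, zero_mul, zero_mul, ite_self]
        · rw [O12 a b ha hb, mul_ite, mul_zero]
      rw [Finset.sum_congr rfl (fun b _ => h3 b), orbit_sum σ hσ3 hσ1 _ a ha]
      ring
    have h4 := mul_left_cancel₀ hN0 h1
    rw [← h4]
    exact Finset.sum_congr rfl (fun i _ => mul_comm _ _)
  -- Gram matrix
  have hG : ∀ φ ψ : AddChar A ℂ, φ ≠ 0 → ψ ≠ 0 →
      ∑ i, ((m i 0 - m i φ : ℤ) : ℂ) * ((m i 0 - m i ψ : ℤ) : ℂ) =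
        3 + (if φ = ψ then 1 else 0) + (if c φ = ψ then 1 else 0) +
          (if c (c φ) = ψ then 1 else 0) := by
    intro φ ψ hφ hψ
    apply mul_left_cancel₀ hN0
    rw [weight hm]
    have h1 : ∀ a, (1 - ψ (-a)) * ∑ i, ((m i 0 - m i φ : ℤ) : ℂ) * F i a =
        3 - φ a - c φ a - c (c φ) a - 3 * ψ (-a) + φ a * ψ (-a) + c φ a * ψ (-a) +
          c (c φ) a * ψ (-a) := by
      intro a
      by_cases ha : a = 0
      · subst ha
        simp only [neg_zero, AddChar.map_zero_eq_one]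
        ring
      · rw [hH φ a ha]
        simp only [hcapp]
        ring
    rw [Finset.sum_congr rfl (fun a _ => h1 a)]
    simp only [Finset.sum_add_distrib, Finset.sum_sub_distrib, ← Finset.mul_sum]
    rw [orth, orth, orth, sum_char_ne hφ, sum_char_ne (hcne φ hφ),
      sum_char_ne (hcne _ (hcne φ hφ)), sum_char_neg_ne hψ]
    simp only [Finset.sum_const, Finset.card_univ, nsmul_eq_mul, sub_zero, mul_zero]
    split_ifs <;> ring
  -- the integer version
  have hGZ : ∀ φ ψ : AddChar A ℂ, φ ≠ 0 → ψ ≠ 0 →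
      ∑ i, (m i 0 - m i φ) * (m i 0 - m i ψ) =
        3 + (if φ = ψ then 1 else 0) + (if c φ = ψ then 1 else 0) +
          (if c (c φ) = ψ then 1 else 0) := by
    intro φ ψ hφ hψ
    have := hG φ ψ hφ hψ
    have h2 : ((∑ i, (m i 0 - m i φ) * (m i 0 - m i ψ) : ℤ) : ℂ) =
        ((3 + (if φ = ψ then 1 else 0) + (if c φ = ψ then 1 else 0) +
          (if c (c φ) = ψ then 1 else 0) : ℤ) : ℂ) := by
      rw [Int.cast_sum]
      simp only [Int.cast_mul, Int.cast_add, Int.cast_ite, Int.cast_one, Int.cast_zero,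
        Int.cast_ofNat]
      rw [← this]
    exact_mod_cast h2
  -- set up for the sunflower lemma
  let X := {ψ : AddChar A ℂ // ψ ≠ 0}
  let d : X → ι → ℤ := fun ψ i => m i 0 - m i ψ.1
  let r : X → X → Prop := fun ψ φ => φ.1 = ψ.1 ∨ c φ.1 = ψ.1 ∨ c (c φ.1) = ψ.1
  have hdo : ∀ ψ : X, d ψ o = 1 := by
    intro ψ
    have h1 := coeff_diff (hm o) ψ.1
    simp only [ho, one_mul] at h1
    rw [Finset.sum_sub_distrib, sum_char_neg_ne ψ.2] at h1
    simp only [Finset.sum_const, Finset.card_univ, nsmul_eq_mul, mul_one, sub_zero] at h1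
    have h2 : ((m o 0 - m o ψ.1 : ℤ) : ℂ) = 1 := by
      apply mul_left_cancel₀ hN0
      rw [← h1, mul_one]
    exact_mod_cast h2
  have hd4 : ∀ ψ : X, ∑ i, d ψ i * d ψ i = 4 := by
    intro ψ
    have := hGZ ψ.1 ψ.1 ψ.2 ψ.2
    rw [if_pos rfl, if_neg (fun h => ψ.2 (hc1 _ h)), if_neg (fun h => ψ.2 (hc2 _ h))] at this
    exact this
  have hrel : ∀ ψ φ : X, r ψ φ → d ψ = d φ := by
    intro ψ φ h
    have hge : 4 ≤ ∑ i, d φ i * d ψ i := by
      have := hGZ φ.1 ψ.1 φ.2 ψ.2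
      change ∑ i, d φ i * d ψ i = _ at this
      rw [this]
      rcases h with h | h | h
      · rw [if_pos h]; split_ifs <;> norm_num
      · rw [if_pos h]; split_ifs <;> norm_num
      · rw [if_pos h]; split_ifs <;> norm_num
    have hs : ∑ i, (d φ i - d ψ i) * (d φ i - d ψ i) ≤ 0 := by
      have : ∑ i, (d φ i - d ψ i) * (d φ i - d ψ i) =
          ∑ i, d φ i * d φ i + ∑ i, d ψ i * d ψ i - 2 * ∑ i, d φ i * d ψ i := by
        rw [Finset.mul_sum, ← Finset.sum_add_distrib, ← Finset.sum_sub_distrib]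
        exact Finset.sum_congr rfl (fun j _ => by ring)
      rw [this, hd4, hd4]
      linarith
    have hs0 : ∑ i, (d φ i - d ψ i) * (d φ i - d ψ i) = 0 :=
      le_antisymm hs (Finset.sum_nonneg (fun i _ => mul_self_nonneg _))
    have := (Finset.sum_eq_zero_iff_of_nonneg (fun i _ => mul_self_nonneg _)).1 hs0
    funext i
    have h5 := mul_self_eq_zero.1 (this i (Finset.mem_univ i))
    linarith
  have hnrel : ∀ ψ φ : X, ¬ r ψ φ → ∑ i, d ψ i * d φ i = 3 := by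
    intro ψ φ h
    have := hGZ φ.1 ψ.1 φ.2 ψ.2
    rw [if_neg (fun h' => h (Or.inl h')), if_neg (fun h' => h (Or.inr (Or.inl h'))),
      if_neg (fun h' => h (Or.inr (Or.inr h')))] at this
    have h2 : ∑ i, d ψ i * d φ i = ∑ i, (m i 0 - m i φ.1) * (m i 0 - m i ψ.1) :=
      Finset.sum_congr rfl (fun i _ => mul_comm _ _)
    rw [h2, this]
    norm_num
  have hex : ∀ a b e f : X, ∃ g, ¬ r g a ∧ ¬ r g b ∧ ¬ r g e ∧ ¬ r g f := by
    intro a b e f
    by_contra hcon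
    push Not at hcon
    set L : List (AddChar A ℂ) := [0, a.1, c a.1, c (c a.1), b.1, c b.1, c (c b.1),
      e.1, c e.1, c (c e.1), f.1, c f.1, c (c f.1)] with hL
    have hsub : (Finset.univ : Finset (AddChar A ℂ)) ⊆ L.toFinset := by
      intro ψ _
      rw [List.mem_toFinset]
      by_cases hψ : ψ = 0
      · rw [hψ, hL]; simp
      · by_contra hnot
        simp only [hL, List.mem_cons, List.not_mem_nil, or_false, not_or] at hnot
        obtain ⟨-, h1, h2, h3, h4, h5, h6, h7, h8, h9, h10, h11, h12⟩ := hnot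
        have h := hcon ⟨ψ, hψ⟩
          (by rintro (h | h | h); exacts [h1 h.symm, h2 h.symm, h3 h.symm])
          (by rintro (h | h | h); exacts [h4 h.symm, h5 h.symm, h6 h.symm])
          (by rintro (h | h | h); exacts [h7 h.symm, h8 h.symm, h9 h.symm])
        rcases h with h | h | h
        exacts [h10 h.symm, h11 h.symm, h12 h.symm]
    have h1 := Finset.card_le_card hsub
    rw [Finset.card_univ, AddChar.card_eq] at h1
    have h2 := List.toFinset_card_le L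
    have h3 : L.length = 13 := by rw [hL]; rfl
    omega
  -- the special character
  obtain ⟨ψ', hψ'⟩ := AddChar.exists_apply_ne_zero.2 ha₀
  have hψ0app : ∀ a, (ψ' + ψ') a = ψ' (2 • a) := by
    intro a
    rw [AddChar.add_apply, two_nsmul, AddChar.map_add_eq_mul]
  have hψ0 : ψ' + ψ' ≠ 0 := by
    rw [AddChar.ne_zero_iff]
    exact ⟨a₀, by rw [hψ0app]; exact hψ'⟩
  have htriv : ∀ a, 2 • a = 0 → (ψ' + ψ') a = 1 := by
    intro a ha
    rw [hψ0app, ha, AddChar.map_zero_eq_one]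
  obtain ⟨x, y, z, hxo, hyo, hzo, hxy, hxz, hyz, hdx, hdy, hdz, hrest, hallx, hally⟩ :=
    HomocyclicComb.sunflower o d r hdo hd4 hrel hnrel hex ⟨ψ' + ψ', hψ0⟩
  set ψ₀ : X := ⟨ψ' + ψ', hψ0⟩ with hψ₀
  -- expansion of sums against `d ψ₀`
  have hexp : ∀ w : ι → ℂ, ∑ i, w i * (d ψ₀ i : ℂ) =
      w o + w x * (d ψ₀ x : ℂ) + w y * (d ψ₀ y : ℂ) + w z * (d ψ₀ z : ℂ) := by
    intro w
    have h1 : ∑ i, w i * (d ψ₀ i : ℂ) = ∑ i ∈ ({o, x, y, z} : Finset ι), w i * (d ψ₀ i : ℂ) := by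
      symm
      apply Finset.sum_subset (Finset.subset_univ _)
      intro i _ hi
      simp only [Finset.mem_insert, Finset.mem_singleton, not_or] at hi
      rw [hrest i hi.1 hi.2.1 hi.2.2.1 hi.2.2.2]
      simp
    rw [h1, Finset.sum_insert (by simp [hxo.symm, hyo.symm, hzo.symm]),
      Finset.sum_insert (by simp [hxy, hxz]), Finset.sum_insert (by simp [hyz]),
      Finset.sum_singleton, hdo]
    push_cast
    ring
  -- values of constant rows
  have hconst : ∀ j : ι, (∀ ψ : X, d ψ j = d ψ₀ j) → ∀ a, F j a =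
      (d ψ₀ j : ℂ) + (if a = 0 then (Fintype.card A : ℂ) * (m j 0 - d ψ₀ j) else 0) := by
    intro j hj a
    have h1 : ∀ ψ : AddChar A ℂ, (m j ψ : ℂ) * ψ a =
        ((m j 0 : ℂ) - d ψ₀ j) * ψ a + (if ψ = 0 then (d ψ₀ j : ℂ) else 0) := by
      intro ψ
      by_cases hψ : ψ = 0
      · subst hψ
        rw [if_pos rfl, AddChar.zero_apply]
        ring
      · rw [if_neg hψ, add_zero]
        have h2 : m j 0 - m j ψ = d ψ₀ j := hj ⟨ψ, hψ⟩
        have h3 : m j ψ = m j 0 - d ψ₀ j := by linarith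
        rw [h3]
        push_cast
        ring
    rw [hm j a, Finset.sum_congr rfl (fun ψ _ => h1 ψ), Finset.sum_add_distrib, ← Finset.mul_sum,
      AddChar.sum_apply_eq_ite, Finset.sum_ite_eq' Finset.univ (0 : AddChar A ℂ)]
    by_cases ha : a = 0
    · simp only [ha, if_true, Finset.mem_univ]
      ring
    · simp only [ha, if_false, Finset.mem_univ, if_true]
      ring
  have hFx := hconst x hallx
  have hFy := hconst y hally
  obtain ⟨nx, hnx, hnx'⟩ := hpos x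
  obtain ⟨ny, hny, hny'⟩ := hpos y
  obtain ⟨nz, hnz, hnz'⟩ := hpos z
  -- relation (1)
  have R1 : (1 : ℂ) + nx * (d ψ₀ x : ℂ) + ny * (d ψ₀ y : ℂ) + nz * (d ψ₀ z : ℂ) = 0 := by
    have h1 := weight hm ψ₀.1 (fun i => F i 0)
    have h2 : ∑ a, (1 - ψ₀.1 (-a)) * ∑ i, F i 0 * F i a = 0 := by
      apply Finset.sum_eq_zero
      intro a _
      by_cases ha : a = 0
      · subst ha
        rw [neg_zero, AddChar.map_zero_eq_one, sub_self, zero_mul]
      · have : ∑ i, F i 0 * F i a = 0 := by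
          rw [← O3 a ha]
          exact Finset.sum_congr rfl (fun i _ => mul_comm _ _)
        rw [this, mul_zero]
    rw [h2] at h1
    have h3 := (mul_eq_zero.1 h1).resolve_left hN0
    have h4 := hexp (fun i => F i 0)
    simp only [ho, hnx', hny', hnz'] at h4
    rw [← h4]
    exact h3
  -- relation (2)
  have hσt : 2 • σ t = 0 := by rw [← map_nsmul, ht2, map_zero]
  have hσσt : 2 • σ (σ t) = 0 := by rw [← map_nsmul, hσt, map_zero]
  have R2 : (1 : ℂ) + F x t * (d ψ₀ x : ℂ) + F y t * (d ψ₀ y : ℂ) + F z t * (d ψ₀ z : ℂ) = 0 := by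
    have h1 := hH ψ₀.1 t ht
    rw [htriv t ht2, htriv _ hσt, htriv _ hσσt] at h1
    have h4 := hexp (fun i => F i t)
    simp only [ho] at h4
    rw [← h4]
    calc ∑ i, F i t * (d ψ₀ i : ℂ) = ∑ i, ((m i 0 - m i ψ₀.1 : ℤ) : ℂ) * F i t :=
          Finset.sum_congr rfl (fun i _ => mul_comm _ _)
      _ = 3 - 1 - 1 - 1 := h1
      _ = 0 := by norm_num
  -- relation (3)
  have R3 : (1 : ℂ) + (F x t) ^ 2 / nx * (d ψ₀ x : ℂ) + (F y t) ^ 2 / ny * (d ψ₀ y : ℂ) +
      (F z t) ^ 2 / nz * (d ψ₀ z : ℂ) = 0 := by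
    have h1 := weight hm ψ₀.1 (fun i => (F i t) ^ 2 / F i 0)
    have h2 : ∑ a, (1 - ψ₀.1 (-a)) * ∑ i, (F i t) ^ 2 / F i 0 * F i a = 0 := by
      apply Finset.sum_eq_zero
      intro a _
      by_cases ha : 2 • a = 0
      · rw [htriv (-a) (by rw [smul_neg, ha, neg_zero]), sub_self, zero_mul]
      · have : ∑ i, (F i t) ^ 2 / F i 0 * F i a = 0 := by
          rw [← O4 a ha]
          exact Finset.sum_congr rfl (fun i _ => by ring)
        rw [this, mul_zero]
    rw [h2] at h1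
    have h3 := (mul_eq_zero.1 h1).resolve_left hN0
    have h4 := hexp (fun i => (F i t) ^ 2 / F i 0)
    simp only [ho, hnx', hny', hnz', one_pow, div_one] at h4
    rw [← h4]
    exact h3
  -- signs
  have sq1 : ∀ e : ℤ, (e = 1 ∨ e = -1) → (e : ℂ) * e = 1 := by
    rintro e (rfl | rfl) <;> norm_num
  have hx2 := sq1 _ hdx
  have hy2 := sq1 _ hdy
  have hz2 := sq1 _ hdz
  have hFxt : F x t = (d ψ₀ x : ℂ) := by rw [hFx t, if_neg ht, add_zero]
  have hFyt : F y t = (d ψ₀ y : ℂ) := by rw [hFy t, if_neg ht, add_zero]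
  rw [hFxt, hFyt, hx2, hy2] at R2
  have hFzt : F z t = -3 * (d ψ₀ z : ℂ) := by
    have h1 : F z t * (d ψ₀ z : ℂ) = -3 := by linear_combination R2
    calc F z t = F z t * ((d ψ₀ z : ℂ) * d ψ₀ z) := by rw [hz2, mul_one]
      _ = (F z t * (d ψ₀ z : ℂ)) * d ψ₀ z := by ring
      _ = -3 * (d ψ₀ z : ℂ) := by rw [h1]
  rw [hFxt, hFyt, hFzt] at R3
  -- pass to integers
  have hnx0 : (nx : ℂ) ≠ 0 := by exact_mod_cast hnx.ne'
  have hny0 : (ny : ℂ) ≠ 0 := by exact_mod_cast hny.ne'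
  have hnz0 : (nz : ℂ) ≠ 0 := by exact_mod_cast hnz.ne'
  have key : (1 + (nx : ℂ) * d ψ₀ x + ny * d ψ₀ y) *
      (((nx : ℂ) * d ψ₀ x) * (ny * d ψ₀ y) + nx * d ψ₀ x + ny * d ψ₀ y) =
      9 * (((nx : ℂ) * d ψ₀ x) * (ny * d ψ₀ y)) := by
    set ex : ℂ := (d ψ₀ x : ℂ)
    set ey : ℂ := (d ψ₀ y : ℂ)
    set ez : ℂ := (d ψ₀ z : ℂ)
    have hnz1 : 1 + (nx : ℂ) * ex + ny * ey = - (nz * ez) := by linear_combination R1
    have R3' : (1 : ℂ) + ex / nx + ey / ny + 9 * ez / nz = 0 := by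
      have e1 : ex ^ 2 / (nx : ℂ) * ex = ex / nx := by
        rw [pow_two, hx2]; ring
      have e2 : ey ^ 2 / (ny : ℂ) * ey = ey / ny := by
        rw [pow_two, hy2]; ring
      have e3 : (-3 * ez) ^ 2 / (nz : ℂ) * ez = 9 * ez / nz := by
        have : (-3 * ez) ^ 2 = 9 * (ez * ez) := by ring
        rw [this, hz2]; ring
      rw [e1, e2, e3] at R3
      exact R3
    have R3'' : (nx : ℂ) * ny * nz + ex * ny * nz + ey * nx * nz + 9 * ez * nx * ny = 0 := by
      field_simp at R3'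
      linear_combination R3'
    rw [hnz1]
    have : -((nz : ℂ) * ez) * ((nx : ℂ) * ex * (ny * ey) + nx * ex + ny * ey) -
        9 * (nx * ex * (ny * ey)) =
        -(ex * ey * ez) * ((nx : ℂ) * ny * nz + ex * ny * nz + ey * nx * nz + 9 * ez * nx * ny)
          + (nx * ny * nz + 0) * 0 := by
      have hx2' : ex * ex = 1 := hx2
      have hy2' : ey * ey = 1 := hy2
      have hz2' : ez * ez = 1 := hz2
      linear_combination (ey * ez * ny * nz) * hx2' +
        (ex * ez * nx * nz) * hy2' + (9 * ex * ey * nx * ny) * hz2'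
    rw [← sub_eq_zero, this, R3'']
    ring
  have keyZ : (1 + (nx : ℤ) * d ψ₀ x + ny * d ψ₀ y) *
      (((nx : ℤ) * d ψ₀ x) * (ny * d ψ₀ y) + nx * d ψ₀ x + ny * d ψ₀ y) =
      9 * (((nx : ℤ) * d ψ₀ x) * (ny * d ψ₀ y)) := by
    exact_mod_cast key
  have hmod : ∀ j : ι, (∀ ψ : X, d ψ j = d ψ₀ j) → (d ψ₀ j = 1 ∨ d ψ₀ j = -1) → ∀ n : ℕ,
      F j 0 = n → (16 : ℤ) ∣ (n : ℤ) * d ψ₀ j - 1 := by
    intro j hj hpm n hn
    have h1 := hconst j hj 0
    rw [if_pos rfl, hn] at h1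
    have h2 : (n : ℤ) = d ψ₀ j + (Fintype.card A : ℤ) * (m j 0 - d ψ₀ j) := by
      exact_mod_cast h1
    have h3 : d ψ₀ j * d ψ₀ j = 1 := by
      rcases hpm with h | h <;> rw [h] <;> norm_num
    have h4 : (n : ℤ) * d ψ₀ j - 1 = (Fintype.card A : ℤ) * ((m j 0 - d ψ₀ j) * d ψ₀ j) := by
      rw [h2]
      linear_combination h3
    rw [h4]
    exact Dvd.dvd.mul_right (by exact_mod_cast hA) _
  obtain ⟨hfin, -⟩ := arith _ _ (hmod x hallx hdx nx hnx') (hmod y hally hdy ny hny') keyZ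
  -- conclusion
  have hd1 : d ψ₀ x = 1 := by
    rcases hdx with h | h
    · exact h
    · exfalso
      rw [h] at hfin
      have : (0 : ℤ) < nx := by exact_mod_cast hnx
      linarith
  refine ⟨x, hxo, fun a => ?_⟩
  by_cases ha : a = 0
  · rw [ha, hnx']
    rw [hd1, mul_one] at hfin
    exact_mod_cast hfin
  · rw [hFx a, if_neg ha, hd1]
    norm_num

end

end Cfsg.Agent.Blocks.HomocyclicMain
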