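import Mathlib
import Cfsg.Prelude.Def_Blocks
import Cfsg.Prelude.Def_Solvable
import Cfsg.Agent.Lib.Cores
import Cfsg.Agent.Characters.Core
import Cfsg.Agent.Characters.ClassMul
import Cfsg.Agent.Characters.Linear
import Cfsg.Agent.Blocks.Basic
import Cfsg.Agent.Blocks.PPart
import Cfsg.Agent.Blocks.Homocyclic
import Cfsg.Agent.Blocks.HomocyclicMain
import Cfsg.Agent.Blocks.PrincipalSection
import Cfsg.Agent.S0925

/-!
# The principal 2-block of a group with homocyclic Sylow 2-subgroup of rank two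

* `structure_vanish` : the class structure constant relation inside the principal block.
* `section_norm`, `section_orth` : column orthogonality inside the principal block.
-/

set_option autoImplicit false

open Cfsg
open scoped ComplexConjugate

namespace Cfsg.Agent.Blocks.HomocyclicStruct

open Subgroup Cfsg.Agent.Characters.Core

variable {G : Type*} [Group G] [Finite G]

/-- A product of two involutions has a real `2`-part. -/
theorem no_product (t z x : G) (ht : orderOf t = 2) (hx : IsPPart 2 z x) (hreal : ¬ IsConj x x⁻¹)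
    (a b : G) (hab : a * t * a⁻¹ * (b * t * b⁻¹) = z) : False := by
  haveI : Fact (Nat.Prime 2) := ⟨Nat.prime_two⟩
  have ht2 : t * t = 1 := by rw [← pow_two, ← ht, pow_orderOf_eq_one]
  set u := a * t * a⁻¹ with hu
  set v := b * t * b⁻¹ with hv
  have hu2 : u * u = 1 := by
    rw [hu]
    calc a * t * a⁻¹ * (a * t * a⁻¹) = a * (t * t) * a⁻¹ := by group
      _ = 1 := by rw [ht2]; group
  have hv2 : v * v = 1 := by
    rw [hv]
    calc b * t * b⁻¹ * (b * t * b⁻¹) = b * (t * t) * b⁻¹ := by group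
      _ = 1 := by rw [ht2]; group
  have huinv : u⁻¹ = u := inv_eq_of_mul_eq_one_left hu2
  have hvinv : v⁻¹ = v := inv_eq_of_mul_eq_one_left hv2
  have hz : u * z * u⁻¹ = z⁻¹ := by
    rw [← hab, huinv, mul_inv_rev, huinv, hvinv]
    calc u * (u * v) * u = (u * u) * v * u := by group
      _ = v * u := by rw [hu2, one_mul]
  have h1 := PPart.isPPart_conj hx u
  rw [hz] at h1
  have h2 : IsPPart 2 z⁻¹ x⁻¹ := by
    obtain ⟨y, rfl, hc, ⟨k, hk⟩, hy⟩ := hx
    refine ⟨y⁻¹, ?_, hc.inv_inv, ⟨k, by rw [orderOf_inv, hk]⟩, by rwa [orderOf_inv]⟩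
    rw [← mul_inv_rev, hc.eq]
  have h3 := PPart.isPPart_unique h1 h2
  exact hreal (isConj_iff.2 ⟨u, h3⟩)

theorem structure_vanish {M : Ideal AlgInt} (hM : IsPModular 2 M) (t x : G) (ht : orderOf t = 2)
    (hx : ∃ k : ℕ, orderOf x = 2 ^ k) (hreal : ¬ IsConj x x⁻¹) :
    ∑ᶠ χ ∈ principalBlock M G, ((χ : G → ℂ) t) ^ 2 / (χ : G → ℂ) 1 * (χ : G → ℂ) x = 0 := by
  classical
  haveI : Fact (Nat.Prime 2) := ⟨Nat.prime_two⟩
  have : Finite (IrrCharacter G) := finite_irr
  haveI := Fintype.ofFinite (IrrCharacter G)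
  haveI := Fintype.ofFinite G
  set c : IrrCharacter G → ℂ := fun χ => ((χ : G → ℂ) t) ^ 2 / (χ : G → ℂ) 1 with hc
  set θ : G → ℂ := ∑ χ : IrrCharacter G, c χ • (χ : G → ℂ) with hθ
  have hθcl : IsClassFunction G θ := by
    intro g h
    rw [hθ]
    simp only [Finset.sum_apply, Pi.smul_apply]
    refine Finset.sum_congr rfl fun χ _ => ?_
    rw [Basic.irr_conj χ.2]
  have hzero : ∀ z y : G, IsPPart 2 z y → ¬ IsConj y y⁻¹ → θ z = 0 := by
    intro z y hzy hy
    have h1 := Characters.ClassMul.card_conj_mul_conj t t z⁻¹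
    have hy' : IsPPart 2 z⁻¹ y⁻¹ := by
      obtain ⟨w, rfl, hcm, ⟨k, hk⟩, hw⟩ := hzy
      refine ⟨w⁻¹, ?_, hcm.inv_inv, ⟨k, by rw [orderOf_inv, hk]⟩, by rwa [orderOf_inv]⟩
      rw [← mul_inv_rev, hcm.eq]
    have hyreal : ¬ IsConj y⁻¹ (y⁻¹)⁻¹ := by
      rw [inv_inv]
      exact fun h => hy h.symm
    have h0 : Nat.card {p : G × G // p.1 * t * p.1⁻¹ * (p.2 * t * p.2⁻¹) = z⁻¹} = 0 := by
      have : IsEmpty {p : G × G // p.1 * t * p.1⁻¹ * (p.2 * t * p.2⁻¹) = z⁻¹} :=
        ⟨fun p => no_product t z⁻¹ y⁻¹ ht hy' hyreal p.1.1 p.1.2 p.2⟩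
      exact Nat.card_of_isEmpty
    rw [h0, Nat.cast_zero] at h1
    have hne : (Nat.card G : ℂ) ≠ 0 := card_ne_zero_complex
    have h2 := (mul_eq_zero.1 h1.symm).resolve_left hne
    rw [← h2, hθ]
    simp only [Finset.sum_apply, Pi.smul_apply, smul_eq_mul, hc]
    refine Finset.sum_congr rfl fun χ _ => ?_
    rw [isCharacter_apply_inv (isIrr_isCharacter χ.2) z, Complex.conj_conj]
    ring
  have key := (S0925.result (G := G) 2 M hM).1 θ hθcl x hx
    (fun u z huz hxz => hzero u z huz (fun h => hreal (by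
      have h3 : IsConj x z⁻¹ := hxz.trans h
      obtain ⟨g, hg⟩ := isConj_iff.1 hxz
      have h4 : IsConj z⁻¹ x⁻¹ := isConj_iff.2 ⟨g⁻¹, by rw [← hg]; group⟩
      exact h3.trans h4)))
    (principalBlock M G) PrincipalSection.isPBlock_principalBlock x x
    (PPart.isPPart_of_isPGroup hx) (IsConj.refl x)
  rw [← key]
  unfold blockPart
  refine finsum_mem_congr rfl fun χ _ => ?_
  have h6 : ∀ inst : Fintype G, @classInner G _ inst θ (χ : G → ℂ) = c χ :=
    fun inst => @classInner_sum_smul_irr G _ inst _ c χ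
  rw [h6]

section Sylow

set_option linter.unusedSectionVars false

variable (P : Sylow 2 G) (m : ℕ)
  (e : (P : Subgroup G) ≃* Multiplicative (ZMod (2 ^ m) × ZMod (2 ^ m)))

include e in
theorem comm_mem (x y : G) (hx : x ∈ (P : Subgroup G)) (hy : y ∈ (P : Subgroup G)) :
    x * y = y * x := by
  have : (⟨x, hx⟩ : (P : Subgroup G)) * ⟨y, hy⟩ = ⟨y, hy⟩ * ⟨x, hx⟩ := by
    apply e.injective
    rw [map_mul, map_mul, mul_comm]
  exact congrArg Subtype.val this

include e in
theorem exists_index_pPrimeCore (x : G) (hx : x ∈ (P : Subgroup G)) (hx1 : x ≠ 1) :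
    ∃ k : ℕ, (pPrimeCore 2 (centralizer ({x} : Set G))).index = 2 ^ k := by
  haveI : Fact (Nat.Prime 2) := ⟨Nat.prime_two⟩
  set K := centralizer ({x} : Set G) with hK
  have hPK : (P : Subgroup G) ≤ K := by
    intro y hy
    rw [hK, mem_centralizer_singleton_iff]
    exact comm_mem P m e y x hy hx
  set Q : Sylow 2 K := P.subtype hPK with hQ
  have hQmem : ∀ y : K, y ∈ (Q : Subgroup K) ↔ (y : G) ∈ (P : Subgroup G) := by
    intro y
    rfl
  have hNC : normalizer ((Q : Subgroup K) : Set K) ≤ centralizer ((Q : Subgroup K) : Set K) := by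
    intro y hy
    have hyN : (y : G) ∈ normalizer ((P : Subgroup G) : Set G) := by
      rw [mem_normalizer_iff]
      intro h
      constructor
      · intro hh
        have := (mem_normalizer_iff.1 hy ⟨h, hPK hh⟩).1 ((hQmem _).2 hh)
        exact (hQmem _).1 this
      · intro hh
        have hmem : (y : G)⁻¹ * ((y : G) * h * (y : G)⁻¹) * y ∈ K := by
          exact K.mul_mem (K.mul_mem (K.inv_mem y.2) (hPK hh)) y.2
        have hhK : h ∈ K := by
          have : (y : G)⁻¹ * ((y : G) * h * (y : G)⁻¹) * y = h := by group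
          rwa [this] at hmem
        exact (hQmem _).1 ((mem_normalizer_iff.1 hy ⟨h, hhK⟩).2 ((hQmem _).2 hh))
    have h1 := Homocyclic.mem_centralizer_of_commute P m e x hx hx1 (y : G) hyN
      (mem_centralizer_singleton_iff.1 y.2).symm
    rw [mem_centralizer_iff] at h1 ⊢
    intro h hh
    exact Subtype.ext (h1 h ((hQmem _).1 hh))
  have hcompl := MonoidHom.ker_transferSylow_isComplement' Q hNC
  have hnd := MonoidHom.not_dvd_card_ker_transferSylow Q hNC
  set N := (MonoidHom.transferSylow Q hNC).ker with hN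
  have hNn : N.Normal := MonoidHom.normal_ker _
  have hle : N ≤ pPrimeCore 2 K := by
    apply Lib.Cores.le_pPrimeCore hNn
    exact ((Nat.Prime.coprime_iff_not_dvd Nat.prime_two).2 hnd).symm
  obtain ⟨n, hn⟩ := Q.2.exists_card_eq
  have hidx : N.index = 2 ^ n := by
    rw [hcompl.symm.index_eq_card]
    exact hn
  have hdvd : (pPrimeCore 2 K).index ∣ 2 ^ n := by
    have := Subgroup.index_dvd_of_le hle
    rw [hidx] at this
    exact this
  obtain ⟨k, _, hk⟩ := (Nat.dvd_prime_pow Nat.prime_two).1 hdvd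
  exact ⟨k, hk⟩

include e in
/-- elements of `P` of order at least four are not real when `N(P)/C(P)` has odd order -/
theorem not_real (x : G) (hx : x ∈ (P : Subgroup G)) (hx2 : x ^ 2 ≠ 1) : ¬ IsConj x x⁻¹ := by
  haveI : Fact (Nat.Prime 2) := ⟨Nat.prime_two⟩
  intro h
  obtain ⟨g, hg⟩ := isConj_iff.1 h
  haveI : IsMulCommutative (P : Subgroup G) := ⟨⟨fun a b => Subtype.ext (comm_mem P m e a b a.2 b.2)⟩⟩
  obtain ⟨n, hn, hn'⟩ := Sylow.conj_eq_normalizer_conj_of_mem P x g⁻¹ hx (by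
    rw [inv_inv, hg]
    exact P.inv_mem hx)
  rw [inv_inv, hg] at hn'
  -- `n⁻¹ x n = x⁻¹`
  have hnn : n * n ∈ centralizer (P : Set G) := by
    apply Homocyclic.mem_centralizer_of_commute P m e x hx (fun h1 => hx2 (by rw [h1, one_pow]))
      (n * n) (Subgroup.mul_mem _ hn hn)
    have h1 : n⁻¹ * x⁻¹ * n = x := by
      have := congrArg (·⁻¹) hn'
      simp only [inv_inv, mul_inv_rev] at this
      rw [← mul_assoc] at this
      exact this.symm
    have h2 : n⁻¹ * (n⁻¹ * x * n) * n = x := by rw [← hn', h1]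
    calc x * (n * n) = (n * n) * (n⁻¹ * (n⁻¹ * x * n) * n) := by group
      _ = (n * n) * x := by rw [h2]
  have hodd := Homocyclic.odd_relIndex P (fun a ha b hb => comm_mem P m e a b ha hb)
  have hpow := Homocyclic.pow_mem_centralizer P n hn
  obtain ⟨r, hr⟩ := hodd
  rw [hr, pow_succ, pow_mul, pow_two] at hpow
  have hnC : n ∈ centralizer (P : Set G) := by
    have h1 : (n * n) ^ r ∈ centralizer (P : Set G) := Subgroup.pow_mem _ hnn r
    exact (Subgroup.mul_mem_cancel_left _ h1).1 hpow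
  have h3 := mem_centralizer_iff.1 hnC x hx
  have h4 : x⁻¹ = x := by
    rw [hn']
    calc n⁻¹ * x * n = n⁻¹ * (x * n) := by group
      _ = x := by rw [h3]; group
  apply hx2
  rw [pow_two]
  nth_rewrite 1 [← h4]
  exact inv_mul_cancel x

include e in
theorem orderOf_mem (x : G) (hx : x ∈ (P : Subgroup G)) : ∃ k : ℕ, orderOf x = 2 ^ k := by
  haveI : Fact (Nat.Prime 2) := ⟨Nat.prime_two⟩
  obtain ⟨n, hn⟩ := P.2 ⟨x, hx⟩
  have hn' : x ^ (2 ^ n) = 1 := by simpa using congrArg Subtype.val hn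
  obtain ⟨j, hj, hj'⟩ := (Nat.dvd_prime_pow Nat.prime_two).1 (orderOf_dvd_of_pow_eq_one hn')
  exact ⟨j, hj'⟩

include e in
/-- Norm relation. -/
theorem section_norm {M : Ideal AlgInt} (hM : IsPModular 2 M) (x y : G)
    (hx : x ∈ (P : Subgroup G)) (hx1 : x ≠ 1) (hxy : IsConj x y) :
    ∑ᶠ χ ∈ principalBlock M G, (χ : G → ℂ) x * (χ : G → ℂ) y⁻¹ =
      (Nat.card (P : Subgroup G) : ℂ) := by
  haveI : Fact (Nat.Prime 2) := ⟨Nat.prime_two⟩
  have h1 := PrincipalSection.sum_principalBlock_section hM x (orderOf_mem P m e x hx)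
    (H := centralizer ({x} : Set G)) rfl 1 1 (by rw [orderOf_one]; norm_num)
    (by rw [orderOf_one]; norm_num)
  have h2 := PrincipalSection.sum_principalBlock_of_pComplement
    (K := centralizer ({x} : Set G)) hM (exists_index_pPrimeCore P m e x hx hx1)
    (y := 1) (y' := 1) (by rw [orderOf_one]; norm_num) (by rw [orderOf_one]; norm_num)
  rw [h2] at h1
  simp only [OneMemClass.coe_one, mul_one] at h1
  have h3 : ∑ᶠ χ ∈ principalBlock M G, (χ : G → ℂ) x * (χ : G → ℂ) y⁻¹ =
      ∑ᶠ χ ∈ principalBlock M G, (χ : G → ℂ) x * conj ((χ : G → ℂ) x) := by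
    refine finsum_mem_congr rfl fun χ _ => ?_
    rw [isCharacter_apply_inv (isIrr_isCharacter χ.2) y, Basic.irr_isConj χ.2 hxy]
  rw [h3, h1]
  -- the 2-part of the order of the centralizer
  have hPK : (P : Subgroup G) ≤ centralizer ({x} : Set G) := by
    intro y hy
    rw [mem_centralizer_singleton_iff]
    exact comm_mem P m e y x hy hx
  have h4 := Sylow.card_eq_multiplicity (P.subtype hPK)
  have h5 : Nat.card (P.subtype hPK : Subgroup (centralizer ({x} : Set G))) =
      Nat.card (P : Subgroup G) :=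
    Nat.card_congr (Subgroup.subgroupOfEquivOfLe hPK).toEquiv
  rw [← h4, h5]

theorem section_orth {M : Ideal AlgInt} (hM : IsPModular 2 M) (x y : G)
    (hx : ∃ k : ℕ, orderOf x = 2 ^ k) (hy : ∃ k : ℕ, orderOf y = 2 ^ k) (hxy : ¬ IsConj x y) :
    ∑ᶠ χ ∈ principalBlock M G, (χ : G → ℂ) x * (χ : G → ℂ) y⁻¹ = 0 := by
  haveI : Fact (Nat.Prime 2) := ⟨Nat.prime_two⟩
  exact (S0925.result (G := G) 2 M hM).2 x y x y (PPart.isPPart_of_isPGroup hx)
    (PPart.isPPart_of_isPGroup hy) hxy (principalBlock M G)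
    PrincipalSection.isPBlock_principalBlock

end Sylow

end Cfsg.Agent.Blocks.HomocyclicStruct
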