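import Mathlib
import Cfsg.Agent.Blocks.HomocyclicStruct
import Cfsg.Agent.Blocks.ExistsModular

/-!
# Groups with homocyclic Sylow 2-subgroup of rank two and exponent at least 4

`exists_normal` : if `|N(P) : C(P)| = 3` then there is a proper normal subgroup containing `P`.
-/

set_option autoImplicit false
set_option linter.unusedSectionVars false

open Cfsg
open scoped ComplexConjugate

namespace Cfsg.Agent.Blocks.HomocyclicNormal

open Subgroup Cfsg.Agent.Characters.Core

/-- A character of `Multiplicative A` is an integral combination of additive characters. -/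
theorem exists_mult {A : Type} [AddCommGroup A] [Fintype A] [DecidableEq A]
    (χ : Multiplicative A → ℂ) (hχ : IsCharacter (Multiplicative A) χ) :
    ∃ m : AddChar A ℂ → ℤ, ∀ a, χ (Multiplicative.ofAdd a) = ∑ ψ, (m ψ : ℂ) * ψ a := by
  classical
  haveI : Fintype (Multiplicative A) := Fintype.ofFinite _
  have hN0 : (Fintype.card A : ℂ) ≠ 0 := by
    have : 0 < Fintype.card A := Fintype.card_pos
    exact_mod_cast this.ne'
  -- the Fourier coefficients
  have hcoef : ∀ ψ : AddChar A ℂ, ∃ n : ℕ, (Fintype.card A : ℂ)⁻¹ *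
      ∑ a, χ (Multiplicative.ofAdd a) * ψ (-a) = n := by
    intro ψ
    have hψ : IsCharacter (Multiplicative A) (fun g => ψ (Multiplicative.toAdd g)) :=
      Characters.Linear.isCharacter_hom (ψ.toMonoidHom.toHomUnits)
    obtain ⟨n, hn⟩ := classInner_isNat hχ hψ
    refine ⟨n, ?_⟩
    rw [← hn, classInner_def]
    congr 1
    · rw [← Nat.card_eq_fintype_card]
      rfl
    · refine Fintype.sum_equiv Multiplicative.ofAdd _ _ fun a => ?_
      rw [AddChar.map_neg_eq_conj]
      rfl
  choose n hn using hcoef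
  refine ⟨fun ψ => (n ψ : ℤ), fun a => ?_⟩
  have h1 : ∑ ψ : AddChar A ℂ, (((n ψ : ℕ) : ℤ) : ℂ) * ψ a =
      (Fintype.card A : ℂ)⁻¹ * ∑ b, χ (Multiplicative.ofAdd b) * ∑ ψ : AddChar A ℂ, ψ (a - b) := by
    have h2 : ∀ ψ : AddChar A ℂ, (((n ψ : ℕ) : ℤ) : ℂ) * ψ a =
        ∑ b, (Fintype.card A : ℂ)⁻¹ * (χ (Multiplicative.ofAdd b) * ψ (a - b)) := by
      intro ψ
      rw [Int.cast_natCast, ← hn ψ, mul_assoc, Finset.sum_mul, ← Finset.mul_sum]
      congr 1
      refine Finset.sum_congr rfl fun b _ => ?_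
      rw [sub_eq_add_neg, AddChar.map_add_eq_mul]
      ring
    rw [Finset.sum_congr rfl (fun ψ _ => h2 ψ), Finset.sum_comm, Finset.mul_sum]
    refine Finset.sum_congr rfl fun b _ => ?_
    rw [Finset.mul_sum, Finset.mul_sum]
  rw [h1]
  have h3 : ∀ b, χ (Multiplicative.ofAdd b) * ∑ ψ : AddChar A ℂ, ψ (a - b) =
      if b = a then χ (Multiplicative.ofAdd a) * (Fintype.card A : ℂ) else 0 := by
    intro b
    rw [AddChar.sum_apply_eq_ite]
    by_cases h : b = a
    · rw [if_pos h, if_pos (by rw [h, sub_self]), h]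
    · rw [if_neg h, if_neg (fun h' => h (sub_eq_zero.1 h').symm), mul_zero]
  rw [Finset.sum_congr rfl (fun b _ => h3 b), Finset.sum_ite_eq' Finset.univ a]
  simp only [Finset.mem_univ, if_true]
  field_simp

variable {G : Type*} [Group G] [Finite G] (P : Sylow 2 G) (m : ℕ)
  (e : (P : Subgroup G) ≃* Multiplicative (ZMod (2 ^ m) × ZMod (2 ^ m)))

include e in
/-- If `|N(P) : C(P)| = 3` then there is a proper normal subgroup containing `P`. -/
theorem exists_normal (hm : 2 ≤ m)
    (h3 : (centralizer (P : Set G)).relIndex (normalizer (P : Set G)) = 3) :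
    ∃ K : Subgroup G, K.Normal ∧ (P : Subgroup G) ≤ K ∧ K ≠ ⊤ := by
  classical
  haveI : Fact (Nat.Prime 2) := ⟨Nat.prime_two⟩
  obtain ⟨M, hM⟩ := ExistsModular.exists_isPModular Nat.prime_two
  haveI : M.IsPrime := Local.isPrime_of_isPModular hM
  haveI : Finite (IrrCharacter G) := finite_irr
  haveI := Fintype.ofFinite (IrrCharacter G)
  have hcomm := HomocyclicStruct.comm_mem P m e
  -- an element of the normalizer not centralizing
  obtain ⟨n, hn, hnC⟩ : ∃ n ∈ normalizer (P : Set G), n ∉ centralizer (P : Set G) := by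
    by_contra hcon
    push Not at hcon
    have : (centralizer (P : Set G)).relIndex (normalizer (P : Set G)) = 1 :=
      Subgroup.relIndex_eq_one.2 hcon
    omega
  have hn3 : n ^ 3 ∈ centralizer (P : Set G) := by
    have := Homocyclic.pow_mem_centralizer P n hn
    rwa [h3] at this
  set A := ZMod (2 ^ m) × ZMod (2 ^ m) with hAdef
  -- parametrization of `P`
  set f : A → G := fun a => ((e.symm (Multiplicative.ofAdd a) : (P : Subgroup G)) : G) with hf
  have hfP : ∀ a, f a ∈ (P : Subgroup G) := fun a => (e.symm (Multiplicative.ofAdd a)).2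
  have hf0 : f 0 = 1 := by
    simp only [hf, ofAdd_zero, map_one, OneMemClass.coe_one]
  have hfadd : ∀ a b, f (a + b) = f a * f b := by
    intro a b
    simp only [hf, ofAdd_add, map_mul, Subgroup.coe_mul]
  have hfneg : ∀ a, f (-a) = (f a)⁻¹ := by
    intro a
    rw [eq_inv_iff_mul_eq_one, ← hfadd, neg_add_cancel, hf0]
  have hfinj : Function.Injective f := by
    intro a b hab
    have h1 := e.symm.injective (Subtype.ext hab)
    exact Multiplicative.ofAdd.injective h1
  have hfsurj : ∀ x ∈ (P : Subgroup G), ∃ a, f a = x := by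
    intro x hx
    refine ⟨Multiplicative.toAdd (e ⟨x, hx⟩), ?_⟩
    simp only [hf, ofAdd_toAdd, MulEquiv.symm_apply_apply]
  have hfne : ∀ a, a ≠ 0 → f a ≠ 1 := by
    intro a ha h
    exact ha (hfinj (by rw [h, hf0]))
  -- the automorphism
  set τ : MulAut (P : Subgroup G) := (P : Subgroup G).normalizerMonoidHom ⟨n, hn⟩ with hτ
  have hτapp : ∀ x : (P : Subgroup G), ((τ x : (P : Subgroup G)) : G) = n * x * n⁻¹ := by
    intro x
    rfl
  set σ' : Multiplicative A ≃* Multiplicative A := (e.symm.trans τ).trans e with hσ'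
  set σ : A ≃+ A := AddEquiv.toMultiplicative.symm σ' with hσ
  have hfσ : ∀ a, f (σ a) = n * f a * n⁻¹ := by
    intro a
    have h1 : σ a = Multiplicative.toAdd (e (τ (e.symm (Multiplicative.ofAdd a)))) := rfl
    rw [h1]
    simp only [hf, ofAdd_toAdd, MulEquiv.symm_apply_apply]
    exact hτapp _
  have hσ3 : ∀ a, σ (σ (σ a)) = a := by
    intro a
    apply hfinj
    rw [hfσ, hfσ, hfσ]
    have h1 := mem_centralizer_iff.1 hn3 (f a) (hfP a)
    calc n * (n * (n * f a * n⁻¹) * n⁻¹) * n⁻¹ = n ^ 3 * f a * (n ^ 3)⁻¹ := by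
          simp only [pow_succ, pow_zero, one_mul, mul_inv_rev, mul_assoc]
      _ = f a := by rw [← h1, mul_inv_cancel_right]
  have hσ1 : ∀ a, σ a = a → a = 0 := by
    intro a ha
    by_contra hne
    apply hnC
    apply Homocyclic.mem_centralizer_of_commute P m e (f a) (hfP a) (hfne a hne) n hn
    have h1 := hfσ a
    rw [ha] at h1
    calc f a * n = (n * f a * n⁻¹) * n := by rw [← h1]
      _ = n * f a := by group
  -- conjugacy in `G` of elements of `P`
  have hconj : ∀ a b, a ≠ 0 → (IsConj (f a) (f b) ↔ (b = a ∨ b = σ a ∨ b = σ (σ a))) := by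
    intro a b ha
    constructor
    · intro h
      haveI : IsMulCommutative (P : Subgroup G) :=
        ⟨⟨fun x y => Subtype.ext (hcomm x y x.2 y.2)⟩⟩
      obtain ⟨g, hg⟩ := isConj_iff.1 h
      obtain ⟨n', hn', hn''⟩ := Sylow.conj_eq_normalizer_conj_of_mem P (f a) g⁻¹ (hfP a) (by
        rw [inv_inv, hg]
        exact hfP b)
      rw [inv_inv, hg] at hn''
      have hmem : f b ∈ {w : G | ∃ x ∈ normalizer (P : Set G), x * f a * x⁻¹ = w} :=
        ⟨n'⁻¹, Subgroup.inv_mem _ hn', by rw [inv_inv]; exact hn''.symm⟩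
      have hcard := Homocyclic.ncard_orbit P m e (f a) (hfP a) (hfne a ha)
      rw [h3] at hcard
      have h1 : σ a ≠ a := fun h => ha (hσ1 a h)
      have h2 : σ (σ a) ≠ σ a := fun h => ha (hσ1 a (σ.injective h))
      have h4 : σ (σ a) ≠ a := by
        intro h
        have := congrArg σ h
        rw [hσ3] at this
        exact h1 this.symm
      have hsub : ({f a, f (σ a), f (σ (σ a))} : Set G) ⊆
          {w : G | ∃ x ∈ normalizer (P : Set G), x * f a * x⁻¹ = w} := by
        intro w hw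
        simp only [Set.mem_insert_iff, Set.mem_singleton_iff] at hw
        rcases hw with rfl | rfl | rfl
        · exact ⟨1, Subgroup.one_mem _, by group⟩
        · exact ⟨n, hn, (hfσ a).symm⟩
        · refine ⟨n * n, Subgroup.mul_mem _ hn hn, ?_⟩
          rw [hfσ, hfσ]
          group
      have hcard2 : ({f a, f (σ a), f (σ (σ a))} : Set G).ncard = 3 := by
        rw [Set.ncard_insert_of_notMem, Set.ncard_insert_of_notMem, Set.ncard_singleton]
        · simp only [Set.mem_singleton_iff]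
          exact fun h => h2 (hfinj h).symm
        · simp only [Set.mem_insert_iff, Set.mem_singleton_iff, not_or]
          exact ⟨fun h => h1 (hfinj h).symm, fun h => h4 (hfinj h).symm⟩
      have heq := Set.eq_of_subset_of_ncard_le hsub (by rw [hcard, hcard2])
      rw [← heq] at hmem
      simp only [Set.mem_insert_iff, Set.mem_singleton_iff] at hmem
      rcases hmem with h | h | h
      · exact Or.inl (hfinj h)
      · exact Or.inr (Or.inl (hfinj h))
      · exact Or.inr (Or.inr (hfinj h))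
    · rintro (rfl | rfl | rfl)
      · exact IsConj.refl _
      · exact isConj_iff.2 ⟨n, (hfσ a).symm⟩
      · refine isConj_iff.2 ⟨n * n, ?_⟩
        rw [hfσ, hfσ]
        group
  -- the index type
  let ι := {χ : IrrCharacter G // χ ∈ principalBlock M G}
  haveI : Fintype ι := Fintype.ofFinite ι
  have hfin : ∀ w : IrrCharacter G → ℂ, ∑ᶠ χ ∈ principalBlock M G, w χ = ∑ i : ι, w i.1 := by
    intro w
    rw [finsum_mem_eq_finite_toFinset_sum _ (Set.toFinite _)]
    symm
    refine Finset.sum_bij (fun i _ => i.1) ?_ ?_ ?_ ?_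
    · intro i _
      simpa using i.2
    · intro i _ j _ hij
      exact Subtype.ext hij
    · intro χ hχ
      exact ⟨⟨χ, by simpa using hχ⟩, Finset.mem_univ _, rfl⟩
    · intro i _
      rfl
  let F : ι → A → ℂ := fun i a => (i.1 : G → ℂ) (f a)
  have hFdef : ∀ i a, F i a = (i.1 : G → ℂ) (f a) := fun _ _ => rfl
  -- multiplicities
  have hmult : ∀ i : ι, ∃ μ : AddChar A ℂ → ℤ, ∀ a, F i a = ∑ ψ, (μ ψ : ℂ) * ψ a := by
    intro i
    exact exists_mult (fun x => (i.1 : G → ℂ) ((e.symm x : (P : Subgroup G)) : G))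
      (isCharacter_comp ((P : Subgroup G).subtype.comp e.symm.toMonoidHom)
        (isIrr_isCharacter i.1.2))
  choose μ hμ using hmult
  have hpos : ∀ i : ι, ∃ k : ℕ, 0 < k ∧ F i 0 = k := by
    intro i
    obtain ⟨k, hk, hk'⟩ := isIrr_apply_one i.1.2
    exact ⟨k, hk, by rw [hFdef, hf0, hk']⟩
  let o : ι := ⟨⟨fun _ => 1, Basic.isIrrCharacter_one⟩, PrincipalSection.one_mem_principalBlock⟩
  have hcardA : Fintype.card A = Nat.card (P : Subgroup G) := by
    rw [← Nat.card_eq_fintype_card, Nat.card_congr e.toEquiv]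
    rfl
  have hcardA' : Fintype.card A = 2 ^ m * 2 ^ m := by
    change Fintype.card (ZMod (2 ^ m) × ZMod (2 ^ m)) = _
    rw [Fintype.card_prod, ZMod.card]
  have hA16 : 16 ∣ Fintype.card A := by
    rw [hcardA', ← pow_add, show (16 : ℕ) = 2 ^ 4 by norm_num]
    exact pow_dvd_pow 2 (by omega)
  have O12 : ∀ a b, a ≠ 0 → b ≠ 0 → ∑ i, F i a * F i (-b) =
      if b = a ∨ b = σ a ∨ b = σ (σ a) then (Fintype.card A : ℂ) else 0 := by
    intro a b ha hb
    have h1 := hfin (fun χ => (χ : G → ℂ) (f a) * (χ : G → ℂ) (f b)⁻¹)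
    have h2 : ∑ i, F i a * F i (-b) = ∑ i : ι, (i.1 : G → ℂ) (f a) * (i.1 : G → ℂ) (f b)⁻¹ := by
      refine Finset.sum_congr rfl fun i _ => ?_
      rw [hFdef, hFdef, hfneg]
    rw [h2, ← h1]
    by_cases hc : IsConj (f a) (f b)
    · rw [if_pos ((hconj a b ha).1 hc), hcardA]
      exact HomocyclicStruct.section_norm P m e hM (f a) (f b) (hfP a) (hfne a ha) hc
    · rw [if_neg (fun h => hc ((hconj a b ha).2 h))]
      exact HomocyclicStruct.section_orth hM (f a) (f b)
        (HomocyclicStruct.orderOf_mem P m e _ (hfP a))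
        (HomocyclicStruct.orderOf_mem P m e _ (hfP b)) hc
  have O3 : ∀ a, a ≠ 0 → ∑ i, F i a * F i 0 = 0 := by
    intro a ha
    have h1 := hfin (fun χ => (χ : G → ℂ) (f a) * (χ : G → ℂ) (1 : G)⁻¹)
    have h2 : ∑ i, F i a * F i 0 = ∑ i : ι, (i.1 : G → ℂ) (f a) * (i.1 : G → ℂ) (1 : G)⁻¹ := by
      refine Finset.sum_congr rfl fun i _ => ?_
      rw [hFdef, hFdef, hf0, inv_one]
    rw [h2, ← h1]
    refine HomocyclicStruct.section_orth hM (f a) 1
      (HomocyclicStruct.orderOf_mem P m e _ (hfP a)) ⟨0, by simp⟩ ?_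
    intro h
    rw [isConj_one_left] at h
    exact hfne a ha h
  -- an involution of `A`
  obtain ⟨z, hz, hz2⟩ := Homocyclic.exists_involution P m (by omega) e
  obtain ⟨t, rfl⟩ := hfsurj z hz
  have ht : t ≠ 0 := by
    rintro rfl
    rw [hf0, orderOf_one] at hz2
    norm_num at hz2
  have ht2 : 2 • t = 0 := by
    apply hfinj
    rw [hf0, two_nsmul, hfadd, ← pow_two, ← hz2, pow_orderOf_eq_one]
  have ha₀ : 2 • ((1, 0) : A) ≠ 0 := by
    intro h
    have h1 : (2 : ZMod (2 ^ m)) = 0 := by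
      have := congrArg Prod.fst h
      simpa using this
    have h2 : ((2 : ℕ) : ZMod (2 ^ m)) = 0 := by exact_mod_cast h1
    rw [ZMod.natCast_eq_zero_iff] at h2
    have h3 := Nat.le_of_dvd (by norm_num) h2
    have h4 : 2 ^ 2 ≤ 2 ^ m := Nat.pow_le_pow_right (by norm_num) hm
    omega
  have O4 : ∀ a, 2 • a ≠ 0 → ∑ i, (F i t) ^ 2 * F i a / F i 0 = 0 := by
    intro a ha
    have h1 := hfin (fun χ => ((χ : G → ℂ) (f t)) ^ 2 / (χ : G → ℂ) 1 * (χ : G → ℂ) (f a))
    have h2 : ∑ i, (F i t) ^ 2 * F i a / F i 0 =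
        ∑ i : ι, ((i.1 : G → ℂ) (f t)) ^ 2 / (i.1 : G → ℂ) 1 * (i.1 : G → ℂ) (f a) := by
      refine Finset.sum_congr rfl fun i _ => ?_
      rw [hFdef, hFdef, hFdef, hf0]
      ring
    rw [h2, ← h1]
    refine HomocyclicStruct.structure_vanish hM (f t) (f a) hz2
      (HomocyclicStruct.orderOf_mem P m e _ (hfP a)) ?_
    apply HomocyclicStruct.not_real P m e (f a) (hfP a)
    intro h
    apply ha
    apply hfinj
    rw [hf0, two_nsmul, hfadd, ← pow_two, h]
  obtain ⟨i, hio, hi⟩ := HomocyclicMain.main hA16 σ hσ3 hσ1 F μ hμ hpos o (fun a => rfl) O12 O3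
    t ht ht2 (1, 0) ha₀ O4
  -- the linear character
  have hi1 : (i.1 : G → ℂ) 1 = 1 := by
    have := hi 0
    rwa [hFdef, hf0] at this
  obtain ⟨φ, hφ⟩ := Characters.Linear.exists_hom_of_isIrrCharacter i.1.2 hi1
  refine ⟨φ.ker, MonoidHom.normal_ker φ, ?_, ?_⟩
  · intro x hx
    obtain ⟨a, rfl⟩ := hfsurj x hx
    rw [MonoidHom.mem_ker]
    have := hi a
    rw [hFdef, hφ] at this
    exact Units.ext this
  · intro htop
    apply hio
    apply Subtype.ext
    apply Subtype.ext
    funext g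
    have hg : g ∈ φ.ker := by rw [htop]; exact Subgroup.mem_top g
    have h1 : φ g = 1 := MonoidHom.mem_ker.1 hg
    change (i.1 : G → ℂ) g = 1
    rw [hφ]
    simp [h1]

end Cfsg.Agent.Blocks.HomocyclicNormal
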