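import Mathlib
import Cfsg.Prelude.Def_Blocks
import Cfsg.Agent.Blocks.Local
import Cfsg.Agent.Blocks.Induced

/-!
# Sums of central characters over conjugation-invariant sets

* `exists_reps` : for a conjugation-invariant finite set `S` there is a finite set `T ⊆ S` with
  `∑ s ∈ S, χ s / χ 1 = ∑ t ∈ T, centralChar χ t` for every class function `χ`.
* `memLocalIdeal_sum_sub` : for `χ`, `ψ` in the same block the normalized sums over `S` agree
  modulo the local ideal.
* `sum_class_eq_centralChar` : the sum of `χ y / χ 1` over the class of `g` is `centralChar χ g`.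
-/

set_option autoImplicit false

namespace Cfsg.Agent.Blocks.InvSum

open Cfsg

variable {G : Type*} [Group G]

theorem eq_of_isConj {χ : G → ℂ} (hχ : IsClassFunction G χ) {g y : G} (h : IsConj g y) :
    χ y = χ g := by
  obtain ⟨x, hx⟩ := isConj_iff.1 h
  rw [← hx, hχ]

/-- The sum of `χ y / χ 1` over the class of `g` is `centralChar χ g`. -/
theorem sum_class_eq_centralChar [Finite G] {χ : G → ℂ} (hχ : IsClassFunction G χ) (g : G)
    (S : Finset G) (hS : ∀ y, y ∈ S ↔ IsConj g y) :
    ∑ y ∈ S, χ y / χ 1 = centralChar χ g := by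
  classical
  rw [Finset.sum_congr rfl (g := fun _ => χ g / χ 1) (fun y hy => by
    rw [eq_of_isConj hχ ((hS y).1 hy)])]
  rw [Finset.sum_const, nsmul_eq_mul]
  have : S.card = (Subgroup.centralizer ({g} : Set G)).index := by
    rw [← Cfsg.Agent.Blocks.Induced.ncard_conj_eq_index, ← Set.ncard_coe_finset]
    congr 1
    ext y
    simp [hS]
  rw [this]
  unfold centralChar
  ring

/-- The normalized sum of a class function over a conjugation-invariant set is a sum of central
character values over representatives. -/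
theorem exists_reps [Finite G] (S : Finset G) (hS : ∀ x y : G, IsConj x y → x ∈ S → y ∈ S) :
    ∃ T : Finset G, T ⊆ S ∧ ∀ χ : G → ℂ, IsClassFunction G χ →
      ∑ s ∈ S, χ s / χ 1 = ∑ t ∈ T, centralChar χ t := by
  classical
  let r : ConjClasses G → G := fun c => Quotient.out c
  have hr : ∀ c : ConjClasses G, ConjClasses.mk (r c) = c := fun c => Quotient.out_eq c
  have hrinj : Function.Injective r := fun a b hab => by rw [← hr a, ← hr b, hab]
  refine ⟨(S.image ConjClasses.mk).image r, ?_, ?_⟩
  · intro t ht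
    obtain ⟨c, hc, rfl⟩ := Finset.mem_image.1 ht
    obtain ⟨s, hs, rfl⟩ := Finset.mem_image.1 hc
    exact hS s _ (ConjClasses.mk_eq_mk_iff_isConj.1 (hr (ConjClasses.mk s))).symm hs
  · intro χ hχ
    rw [Finset.sum_image (fun a _ b _ hab => hrinj hab)]
    rw [← Finset.sum_fiberwise_of_maps_to (s := S) (t := S.image ConjClasses.mk)
      (g := ConjClasses.mk) (fun x hx => Finset.mem_image_of_mem _ hx) (fun h => χ h / χ 1)]
    refine Finset.sum_congr rfl fun c hc => ?_
    obtain ⟨s, hs, rfl⟩ := Finset.mem_image.1 hc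
    refine sum_class_eq_centralChar hχ _ _ fun y => ?_
    have hmk : IsConj (r (ConjClasses.mk s)) s :=
      ConjClasses.mk_eq_mk_iff_isConj.1 (hr (ConjClasses.mk s))
    rw [Finset.mem_filter]
    constructor
    · rintro ⟨_, h1⟩
      exact hmk.trans (ConjClasses.mk_eq_mk_iff_isConj.1 h1).symm
    · intro h1
      have h2 : IsConj s y := hmk.symm.trans h1
      exact ⟨hS _ _ h2 hs, (ConjClasses.mk_eq_mk_iff_isConj.2 h2).symm⟩

/-- For two class functions in the same block, the normalized sums over a conjugation-invariant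
set agree modulo the local ideal. -/
theorem memLocalIdeal_sum_sub [Finite G] {M : Ideal AlgInt} [M.IsPrime] {χ ψ : G → ℂ}
    (hχ : IsClassFunction G χ) (hψ : IsClassFunction G ψ) (h : SameBlock M χ ψ)
    (S : Finset G) (hS : ∀ x y : G, IsConj x y → x ∈ S → y ∈ S) :
    MemLocalIdeal M (∑ s ∈ S, χ s / χ 1 - ∑ s ∈ S, ψ s / ψ 1) := by
  obtain ⟨T, _, hT⟩ := exists_reps S hS
  rw [hT χ hχ, hT ψ hψ, ← Finset.sum_sub_distrib]
  exact Cfsg.Agent.Blocks.Local.memLocalIdeal_sum fun t _ => h t

end Cfsg.Agent.Blocks.InvSum
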