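import Mathlib.GroupTheory.SpecificGroups.KleinFour
import Mathlib.GroupTheory.Transfer
import Cfsg.Prelude.Def_Solvable
import Cfsg.Agent.Lib.Cores
import Cfsg.Agent.Blocks.Homocyclic

/-!
# Klein four Sylow 2-subgroups containing a central involution

The group then has a normal 2-complement (Burnside's transfer theorem).
-/

set_option autoImplicit false

open Subgroup Cfsg

namespace Cfsg.Agent.Blocks.KleinSylow

theorem orderOf_eq_two {V : Type*} [Group V] [hV : IsKleinFour V] {x : V} (hx : x ≠ 1) :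
    orderOf x = 2 := by
  apply orderOf_eq_prime _ hx
  rw [← hV.exponent_two]
  exact Monoid.pow_exponent_eq_one x

theorem orderOf_eq_two' {G : Type*} [Group G] {P : Subgroup G} (hP : IsKleinFour P) {x : G}
    (hxP : x ∈ P) (hx : x ≠ 1) : orderOf x = 2 := by
  have h : (⟨x, hxP⟩ : P) ≠ 1 := fun h => hx (congrArg Subtype.val h)
  have := orderOf_eq_two h
  rwa [Subgroup.orderOf_mk] at this

theorem exists_ne_one {G : Type*} [Group G] {P : Subgroup G} (hP : IsKleinFour P) :
    ∃ z ∈ P, orderOf z = 2 := by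
  have h4 : Nat.card P = 4 := hP.card_four
  have : Nontrivial P := by
    have : Finite P := Nat.finite_of_card_ne_zero (by omega)
    rw [← Finite.one_lt_card_iff_nontrivial]
    omega
  obtain ⟨z, hz⟩ := exists_ne (1 : P)
  refine ⟨z, z.2, orderOf_eq_two' hP z.2 (fun h => hz (Subtype.ext h))⟩

theorem comm_of_mem {G : Type*} [Group G] {P : Subgroup G} (hP : IsKleinFour P) {x y : G}
    (hx : x ∈ P) (hy : y ∈ P) : x * y = y * x := by
  have h := mul_comm_of_exponent_two (hP.exponent_two) (⟨x, hx⟩ : P) ⟨y, hy⟩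
  exact congrArg Subtype.val h

theorem isKleinFour_of_mulEquiv {V W : Type*} [Group V] [Group W] (e : V ≃* W)
    (hV : IsKleinFour V) : IsKleinFour W where
  card_four := by rw [← Nat.card_congr e.toEquiv]; exact hV.card_four
  exponent_two := by rw [← Monoid.exponent_eq_of_mulEquiv e]; exact hV.exponent_two

theorem ncard_involutions_le {G : Type*} [Group G] [Finite G] {P : Subgroup G}
    (hP : IsKleinFour P) : Set.ncard {x : G | x ∈ P ∧ orderOf x = 2} ≤ 3 := by
  have h4 : Nat.card P = 4 := hP.card_four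
  have hsub : insert 1 {x : G | x ∈ P ∧ orderOf x = 2} ⊆ (P : Set G) := by
    intro x hx
    rcases hx with rfl | hx
    · exact P.one_mem
    · exact hx.1
  have h2 := Set.ncard_le_ncard hsub
  rw [Set.ncard_insert_of_notMem (by simp)] at h2
  have h5 : (P : Set G).ncard = 4 := by
    rw [← Nat.card_coe_set_eq]
    exact h4
  rw [h5] at h2
  omega

variable {K : Type*} [Group K] [Finite K]

theorem normalizer_le_centralizer (Q : Sylow 2 K) (hQ : IsKleinFour (Q : Subgroup K)) (z : K)
    (hz : z ∈ Subgroup.center K) (hzQ : z ∈ (Q : Subgroup K)) (hz2 : orderOf z = 2) :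
    Subgroup.normalizer ((Q : Subgroup K) : Set K) ≤
      Subgroup.centralizer ((Q : Subgroup K) : Set K) := by
  intro x hx
  have hconj : ∀ y ∈ (Q : Subgroup K), x * y * x⁻¹ ∈ (Q : Subgroup K) := fun y hy =>
    (Subgroup.mem_normalizer_iff.1 hx y).1 hy
  obtain ⟨a, m, hm, hxo⟩ := Nat.exists_eq_pow_mul_and_not_dvd (n := orderOf x)
    (orderOf_pos x).ne' 2 (by norm_num)
  have hmodd : Odd m := Nat.odd_iff.2 (by omega)
  -- x ^ m is a 2-element normalizing Q
  have hxm : x ^ m ∈ (Q : Subgroup K) := by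
    have h1 : IsPGroup 2 (Subgroup.zpowers (x ^ m)) := by
      refine IsPGroup.of_card (n := a) ?_
      rw [Nat.card_zpowers, orderOf_pow, hxo, Nat.gcd_eq_right (Dvd.intro_left _ rfl),
        Nat.mul_div_cancel _ hmodd.pos]
    have h2 := h1.inf_normalizer_sylow Q
    have h3 : x ^ m ∈ Subgroup.zpowers (x ^ m) ⊓ Subgroup.normalizer ((Q : Subgroup K) : Set K) :=
      ⟨Subgroup.mem_zpowers _, Subgroup.pow_mem _ hx m⟩
    have h4 : x ^ m ∈ Subgroup.zpowers (x ^ m) ⊓ (Q : Subgroup K) := by
      rw [← h2]; exact h3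
    exact h4.2
  have h5 := Homocyclic.commute_of_odd (Q : Subgroup K) Q.2 (fun a ha b hb => comm_of_mem hQ ha hb)
    (ncard_involutions_le hQ) x hconj m hmodd (fun y hy => comm_of_mem hQ hxm hy) z hzQ hz2
    (by rw [Subgroup.mem_center_iff.1 hz x]; group)
  rw [Subgroup.mem_centralizer_iff]
  intro y hy
  have h6 := h5 y hy
  calc y * x = x * y * x⁻¹ * x := by rw [h6]
    _ = x * y := by group

/-- A group with a Klein four Sylow 2-subgroup containing a central involution has a normal
2-complement. -/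
theorem exists_index_pPrimeCore (Q : Sylow 2 K) (hQ : IsKleinFour (Q : Subgroup K)) (z : K)
    (hz : z ∈ Subgroup.center K) (hzQ : z ∈ (Q : Subgroup K)) (hz2 : orderOf z = 2) :
    ∃ k : ℕ, (pPrimeCore 2 K).index = 2 ^ k := by
  have hNC := normalizer_le_centralizer Q hQ z hz hzQ hz2
  have hcompl := MonoidHom.ker_transferSylow_isComplement' Q hNC
  have hnd := MonoidHom.not_dvd_card_ker_transferSylow Q hNC
  set N := (MonoidHom.transferSylow Q hNC).ker with hN
  have hNn : N.Normal := MonoidHom.normal_ker _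
  have hle : N ≤ pPrimeCore 2 K := by
    apply Lib.Cores.le_pPrimeCore hNn
    exact ((Nat.Prime.coprime_iff_not_dvd Nat.prime_two).2 hnd).symm
  have hidx : N.index = 4 := by
    rw [hcompl.symm.index_eq_card]
    exact hQ.card_four
  have hdvd : (pPrimeCore 2 K).index ∣ 2 ^ 2 := by
    have := Subgroup.index_dvd_of_le hle
    rw [hidx] at this
    exact this
  obtain ⟨k, _, hk⟩ := (Nat.dvd_prime_pow Nat.prime_two).1 hdvd
  exact ⟨k, hk⟩

end Cfsg.Agent.Blocks.KleinSylow
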