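import Mathlib
import Cfsg.Prelude.Def_Blocks
import Cfsg.Agent.Characters.Core
import Cfsg.Agent.Characters.Central
import Cfsg.Agent.Blocks.Basic
import Cfsg.Agent.Blocks.InvSum

/-!
# Characters of `G` lying over a character of a normal subgroup `N`

* `exists_over` : over every irreducible character of a subgroup lies one of `G`.
* `sum_mul_eq_of_over` : for `χ` over `θ` and a `G`-invariant function `f` on `N`,
  `(∑ n, f n * χ n) / χ 1 = (∑ n, f n * θ n) / θ 1`.
* `centralChar_eq_of_over` : the central character of `χ` at `n ∈ N` is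
  `inducedCentralChar N θ n` when `χ` lies over `θ`.
-/

set_option autoImplicit false

namespace Cfsg.Agent.Blocks.Over

open Cfsg Representation
open scoped ComplexConjugate
open Cfsg.Agent.Characters.Core

variable {G : Type*} [Group G]

/-- Over every irreducible character of a subgroup lies an irreducible character of the group. -/
theorem exists_over [Finite G] (H : Subgroup G) [Fintype H] (θ : IrrCharacter H) :
    ∃ χ : IrrCharacter G, classInner (fun n : H => (χ : G → ℂ) n) (θ : H → ℂ) ≠ 0 := by
  classical
  have := Fintype.ofFinite G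
  have := finite_irr (G := G)
  have := Fintype.ofFinite (IrrCharacter G)
  by_contra hcon
  push Not at hcon
  let f : G → ℂ := fun g => if g = 1 then 1 else 0
  have hf : IsClassFunction G f := by
    intro g h
    simp only [f]
    congr 1
    simp
  have h1 := classFunction_eq_sum hf
  have h2 : (fun n : H => f n) = ∑ χ : IrrCharacter G,
      classInner f (χ : G → ℂ) • (fun n : H => (χ : G → ℂ) n) := by
    funext n
    have := congrFun h1 (n : G)
    rw [this]
    simp only [Finset.sum_apply, Pi.smul_apply]
  have h3 : classInner (fun n : H => f n) (θ : H → ℂ) = 0 := by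
    rw [h2, classInner_sum_left]
    refine Finset.sum_eq_zero fun χ _ => ?_
    rw [classInner_smul_left, hcon χ, mul_zero]
  rw [classInner_def, Finset.sum_eq_single (1 : H)] at h3
  · have hθ : (θ : H → ℂ) 1 ≠ 0 := isIrr_apply_one_ne_zero θ.2
    have : f ((1 : H) : G) = 1 := by simp [f]
    rw [this, one_mul] at h3
    rcases mul_eq_zero.1 h3 with h | h
    · exact card_ne_zero_complex (inv_eq_zero.1 h)
    · exact hθ ((map_eq_zero _).1 h)
  · intro n _ hn
    have : f (n : G) = 0 := by
      simp only [f]
      rw [if_neg]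
      simpa using hn
    rw [this, zero_mul]
  · simp

/-- `∑ n, f n * χ (n m) = (∑ n, f n * χ n) / χ 1 * χ m` for a class function `f` and an irreducible
character `χ`. -/
theorem sum_mul_shift [Fintype G] {χ : G → ℂ} (hχ : IsIrrCharacter G χ) {f : G → ℂ}
    (hf : IsClassFunction G f) (m : G) :
    ∑ n, f n * χ (n * m) = (∑ n, f n * χ n) / χ 1 * χ m := by
  obtain ⟨d, ρ, hρ, rfl⟩ := hχ
  have h1 := Cfsg.Agent.Characters.Central.sum_classFun_smul ρ hρ hf
  have h2 := congrArg (fun T => LinearMap.trace ℂ _ (T * ρ m)) h1
  simp only [Finset.sum_mul, map_sum, smul_mul_assoc, map_smul, ← map_mul, one_mul,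
    smul_eq_mul] at h2
  exact h2

/-- For `χ` over `θ` and a `G`-invariant function `f` on the normal subgroup `N`, the element
`∑ f n • n` has the same central character at `χ` and at `θ`. -/
theorem sum_mul_eq_of_over [Finite G] (N : Subgroup G) [N.Normal] [Fintype N]
    {χ : G → ℂ} (hχ : IsIrrCharacter G χ) {θ : N → ℂ} (hθ : IsIrrCharacter N θ)
    (hover : classInner (fun n : N => χ n) θ ≠ 0) (f : N → ℂ)
    (hf : ∀ (g : G) (n : N), f (MulAut.conjNormal g n) = f n) :
    (∑ n : N, f n * χ n) / χ 1 = (∑ n : N, f n * θ n) / θ 1 := by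
  classical
  have := Fintype.ofFinite G
  set c : ℂ := (∑ n : N, f n * χ n) / χ 1 with hc
  set d : ℂ := (∑ n : N, f n * θ n) / θ 1 with hd
  -- the formula for `χ`
  have hA : ∀ m : N, ∑ n : N, f n * χ (n * m) = c * χ m := by
    intro m
    let F : G → ℂ := fun g => if h : g ∈ N then f ⟨g, h⟩ else 0
    have hF : IsClassFunction G F := by
      intro g h
      by_cases hg : g ∈ N
      · have hg' : h * g * h⁻¹ ∈ N := ‹N.Normal›.conj_mem g hg h
        simp only [F, hg, hg', dif_pos]
        exact hf h ⟨g, hg⟩
      · have hg' : ¬ h * g * h⁻¹ ∈ N := fun hh => hg (by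
          have := ‹N.Normal›.conj_mem _ hh h⁻¹
          simpa [mul_assoc] using this)
        simp only [F, hg, hg', dif_neg, not_false_iff]
    have hext : ∀ t : G → ℂ, ∑ g : G, F g * t g = ∑ n : N, f n * t n := by
      intro t
      rw [← Finset.sum_filter_add_sum_filter_not Finset.univ (fun g => g ∈ N)]
      rw [Finset.sum_eq_zero (s := Finset.univ.filter (fun g => ¬ g ∈ N)), add_zero]
      · rw [Finset.sum_subtype (p := fun g => g ∈ N) _ (by simp)]
        refine Finset.sum_congr rfl fun n _ => ?_
        simp [F]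
      · intro g hg
        have : ¬ g ∈ N := by simpa using hg
        simp [F, this]
    have := sum_mul_shift hχ hF (m : G)
    rw [hext (fun g => χ (g * m)), hext] at this
    exact this
  have hfN : IsClassFunction N f := by
    intro n h
    have := hf (h : G) n
    rw [← this]
    congr 1
  have hB : ∀ m : N, ∑ n : N, f n * θ (n * m) = d * θ m := fun m => sum_mul_shift hθ hfN m
  -- the double sum
  have hinv : ∀ x : N, θ x⁻¹ = conj (θ x) := isCharacter_apply_inv (isIrr_isCharacter hθ)
  have key : ∑ m : N, (∑ n : N, f n * χ (n * m)) * conj (θ m) =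
      ∑ m : N, χ m * (∑ n : N, f n * θ (n * m⁻¹)) := by
    have e1 : ∀ n : N, ∑ m : N, f n * χ (n * m) * conj (θ m) =
        ∑ m : N, f n * χ m * θ (n * m⁻¹) := by
      intro n
      refine Fintype.sum_equiv (Equiv.mulLeft n) _ _ fun m => ?_
      simp only [Equiv.coe_mulLeft]
      rw [← hinv]
      have : θ (n * (n * m)⁻¹) = θ m⁻¹ := by
        have h := isIrr_isClassFunction hθ m⁻¹ n
        rw [← h]
        congr 1
        group
      rw [this, Subgroup.coe_mul]
    simp only [Finset.sum_mul, Finset.mul_sum]
    rw [Finset.sum_comm]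
    rw [Finset.sum_congr rfl fun n _ => e1 n]
    rw [Finset.sum_comm]
    refine Finset.sum_congr rfl fun m _ => Finset.sum_congr rfl fun n _ => ?_
    ring
  have hL : ∑ m : N, (∑ n : N, f n * χ (n * m)) * conj (θ m) =
      c * ∑ m : N, χ m * conj (θ m) := by
    rw [Finset.mul_sum]
    refine Finset.sum_congr rfl fun m _ => ?_
    rw [hA m]
    ring
  have hR : ∑ m : N, χ m * (∑ n : N, f n * θ (n * m⁻¹)) = d * ∑ m : N, χ m * conj (θ m) := by
    rw [Finset.mul_sum]
    refine Finset.sum_congr rfl fun m _ => ?_
    rw [hB m⁻¹, hinv]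
    ring
  rw [hL, hR] at key
  refine mul_right_cancel₀ (fun h0 => hover ?_) key
  rw [classInner_def]
  rw [h0, mul_zero]

/-- **The central character over a normal subgroup**: if `χ` lies over `θ` then the central
character of `χ` at `n ∈ N` is the sum of `θ m / θ 1` over the `G`-conjugates `m` of `n`. -/
theorem centralChar_eq_of_over [Finite G] (N : Subgroup G) [N.Normal] [Fintype N]
    {χ : G → ℂ} (hχ : IsIrrCharacter G χ) {θ : N → ℂ} (hθ : IsIrrCharacter N θ)
    (hover : classInner (fun n : N => χ n) θ ≠ 0) (n : N) :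
    centralChar χ (n : G) = inducedCentralChar N θ (n : G) := by
  classical
  have := Fintype.ofFinite G
  let f : N → ℂ := fun m => if IsConj (n : G) (m : G) then 1 else 0
  have hf : ∀ (g : G) (m : N), f (MulAut.conjNormal g m) = f m := by
    intro g m
    have : IsConj (n : G) ((MulAut.conjNormal g m : N) : G) ↔ IsConj (n : G) (m : G) := by
      rw [MulAut.conjNormal_apply]
      have h1 : IsConj (m : G) (g * m * g⁻¹) := isConj_iff.2 ⟨g, rfl⟩
      exact ⟨fun h => h.trans h1.symm, fun h => h.trans h1⟩
    simp only [f, this]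
  have key := sum_mul_eq_of_over N hχ hθ hover f hf
  have e1 : (∑ m : N, f m * χ m) / χ 1 = centralChar χ (n : G) := by
    let S : Finset G := Finset.univ.filter fun y => IsConj (n : G) y
    rw [← Cfsg.Agent.Blocks.InvSum.sum_class_eq_centralChar (isIrr_isClassFunction hχ) (n : G) S
      (by simp [S])]
    rw [← Finset.sum_div]
    congr 1
    have : ∑ m : N, f m * χ m = ∑ m ∈ (Finset.univ : Finset N).filter
        (fun m : N => IsConj (n : G) (m : G)), χ m := by
      rw [Finset.sum_filter]
      refine Finset.sum_congr rfl fun m _ => ?_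
      simp only [f]
      split_ifs <;> simp
    rw [this]
    symm
    refine Finset.sum_bij' (fun y hy => (⟨y, ?_⟩ : N)) (fun m _ => (m : G)) ?_ ?_ ?_ ?_ ?_
    · obtain ⟨c, hc⟩ := isConj_iff.1 (Finset.mem_filter.1 hy).2
      rw [← hc]
      exact ‹N.Normal›.conj_mem _ n.2 c
    · intro y hy
      rw [Finset.mem_filter] at hy ⊢
      exact ⟨Finset.mem_univ _, hy.2⟩
    · intro m hm
      rw [Finset.mem_filter] at hm ⊢
      exact ⟨Finset.mem_univ _, hm.2⟩
    · intro y hy; rfl
    · intro m hm; rfl
    · intro y hy; rfl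
  have e2 : (∑ m : N, f m * θ m) / θ 1 = inducedCentralChar N θ (n : G) := by
    rw [Cfsg.Agent.Blocks.Basic.inducedCentralChar_def,
      finsum_mem_eq_finite_toFinset_sum _ (Set.toFinite _)]
    rw [Finset.sum_div]
    have : (Set.toFinite {h : N | IsConj (n : G) (h : G)}).toFinset =
        (Finset.univ : Finset N).filter (fun m : N => IsConj (n : G) (m : G)) := by
      ext m
      simp
    rw [this, Finset.sum_filter]
    refine Finset.sum_congr rfl fun m _ => ?_
    simp only [f]
    split_ifs <;> simp
  rw [← e1, ← e2, key]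

end Cfsg.Agent.Blocks.Over
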