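import Mathlib
import Cfsg.Prelude.Def_Blocks
import Cfsg.Agent.Blocks.Local
import Cfsg.Agent.Blocks.Central
import Cfsg.Agent.Characters.Core
import Cfsg.Agent.Characters.Clifford

/-!
# Blocks and normal subgroups of order prime to `p`

Two irreducible characters in the same block lie over the same irreducible characters of a normal
subgroup of order prime to `p`.
-/

set_option autoImplicit false

namespace Cfsg.Agent.Blocks.PrimeNormal

open Cfsg Cfsg.Agent.Blocks.Local Cfsg.Agent.Characters.Core Cfsg.Agent.Characters.Clifford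
open Cfsg.Agent.Blocks.Central (ofFun ofFun_mem_center_iff omegaL omegaL_apply
  omegaL_eq_sum_centralChar isIntegral_irr)
open scoped ComplexConjugate

universe u

variable {G : Type u} [Group G]

/-- Central characters in the same block agree modulo the local ideal on class functions with
local integer values. -/
theorem memLocalIdeal_sum_sub [Fintype G] {M : Ideal AlgInt} [M.IsPrime] {χ ψ : G → ℂ}
    (hχ : IsClassFunction G χ) (hψ : IsClassFunction G ψ) (h : SameBlock M χ ψ) {F : G → ℂ}
    (hF : IsClassFunction G F) (hR : ∀ g, MemLocalRing M (F g)) :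
    MemLocalIdeal M ((∑ g, F g * χ g) / χ 1 - (∑ g, F g * ψ g) / ψ 1) := by
  classical
  have := Fintype.ofFinite (ConjClasses G)
  have hc : ofFun F ∈ Subalgebra.center ℂ (MonoidAlgebra ℂ G) := ofFun_mem_center_iff.2 hF
  have h1 := omegaL_eq_sum_centralChar hχ hc
  have h2 := omegaL_eq_sum_centralChar hψ hc
  rw [omegaL_apply] at h1 h2
  have h3 : (∑ g, F g * χ g) / χ 1 - (∑ g, F g * ψ g) / ψ 1 =
      ∑ c : ConjClasses G, F (Quotient.out c) *
        (centralChar χ (Quotient.out c : G) - centralChar ψ (Quotient.out c : G)) := by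
    calc (∑ g, F g * χ g) / χ 1 - (∑ g, F g * ψ g) / ψ 1
        = (∑ c : ConjClasses G, F (Quotient.out c) * centralChar χ (Quotient.out c : G)) -
          ∑ c : ConjClasses G, F (Quotient.out c) * centralChar ψ (Quotient.out c : G) :=
            congrArg₂ (· - ·) h1 h2
      _ = _ := by
        rw [← Finset.sum_sub_distrib]
        exact Finset.sum_congr rfl fun c _ => by ring
  rw [h3]
  exact memLocalIdeal_sum fun c _ => memLocalIdeal_mul_left (hR _) (h _)

/-- The restriction of an irreducible character to a normal subgroup: all constituents appear with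
the same multiplicity and have the same degree; `a` is the sum of the values of the distinct
constituents. -/
theorem restrict_eq [Fintype G] (N : Subgroup G) [N.Normal] [Fintype N] {χ : G → ℂ}
    (hχ : IsIrrCharacter G χ) {θ : N → ℂ} (hθ : IsIrrCharacter N θ)
    (h1 : classInner (fun n : N => χ n) θ ≠ 0) :
    ∃ S : Finset (IrrCharacter N), 0 < S.card ∧ (∀ η ∈ S, ∃ g : G, (η : N → ℂ) =
      θ ∘ (MulAut.conjNormal g : MulAut N)) ∧
      (fun n : N => χ n) = classInner (fun n : N => χ n) θ • ∑ η ∈ S, (η : N → ℂ) := by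
  classical
  have := finite_irr (G := N)
  have := Fintype.ofFinite (IrrCharacter N)
  have hcf : IsClassFunction N (fun n : N => χ n) :=
    isCharacter_isClassFunction (isCharacter_restrict N (isIrr_isCharacter hχ))
  refine ⟨Finset.univ.filter fun η : IrrCharacter N =>
    classInner (fun n : N => χ n) (η : N → ℂ) ≠ 0, ?_, ?_, ?_⟩
  · exact Finset.card_pos.2 ⟨⟨θ, hθ⟩, by simpa using h1⟩
  · intro η hη
    exact exists_conj_of_constituents N hχ hθ η.2 h1 (Finset.mem_filter.1 hη).2
  · conv_lhs => rw [classFunction_eq_sum hcf]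
    rw [Finset.smul_sum, ← Finset.sum_filter_add_sum_filter_not Finset.univ
      (fun η : IrrCharacter N => classInner (fun n : N => χ n) (η : N → ℂ) ≠ 0)]
    rw [Finset.sum_eq_zero (s := Finset.univ.filter fun η : IrrCharacter N =>
      ¬ classInner (fun n : N => χ n) (η : N → ℂ) ≠ 0), add_zero]
    · refine Finset.sum_congr rfl fun η hη => ?_
      obtain ⟨g, hg⟩ := exists_conj_of_constituents N hχ hθ η.2 h1 (Finset.mem_filter.1 hη).2
      have h2 := classInner_restrict_conjNormal (N := N) (isIrr_isClassFunction hχ) θ g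
      rw [← hg] at h2
      rw [h2]
    · intro η hη
      have h2 := (Finset.mem_filter.1 hη).2
      rw [not_not] at h2
      rw [h2, zero_smul]

/-- **Main theorem.** If `χ`, `ψ` lie in the same block and `N` is a normal subgroup of order prime
to `p`, the irreducible constituents of `χ` restricted to `N` are constituents of `ψ` restricted
to `N`. -/
theorem constituent_of_sameBlock [Fintype G] {p : ℕ} {M : Ideal AlgInt} (hM : IsPModular p M)
    (N : Subgroup G) [N.Normal] [Fintype N] (hN : ¬ p ∣ Nat.card N) {χ ψ : G → ℂ}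
    (hχ : IsIrrCharacter G χ) (hψ : IsIrrCharacter G ψ) (h : SameBlock M χ ψ) {θ : N → ℂ}
    (hθ : IsIrrCharacter N θ) (h1 : classInner (fun n : N => χ n) θ ≠ 0) :
    classInner (fun n : N => ψ n) θ ≠ 0 := by
  classical
  have hprime := isPrime_of_isPModular hM
  intro h2
  obtain ⟨S, hS0, hS, hSeq⟩ := restrict_eq N hχ hθ h1
  set m := classInner (fun n : N => χ n) θ with hm
  have hNc : (Nat.card N : ℂ) ≠ 0 := card_ne_zero_complex
  have hχ1 := isIrr_apply_one_ne_zero hχ
  have hψ1 := isIrr_apply_one_ne_zero hψ
  have hθ1 := isIrr_apply_one_ne_zero hθ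
  -- degrees
  have hη1 : ∀ η ∈ S, (η : N → ℂ) 1 = θ 1 := by
    intro η hη
    obtain ⟨g, hg⟩ := hS η hη
    rw [hg, Function.comp_apply, map_one]
  have hval : ∀ n : N, χ n = m * ∑ η ∈ S, (η : N → ℂ) n := by
    intro n
    have := congrFun hSeq n
    simpa [Finset.sum_apply] using this
  have hdeg : χ 1 = m * (S.card * θ 1) := by
    have h3 := hval 1
    rw [Finset.sum_congr rfl hη1, Finset.sum_const, nsmul_eq_mul] at h3
    simpa using h3
  -- the class function
  let c : ℂ := θ 1 * (Nat.card N : ℂ)⁻¹
  let F : G → ℂ := fun g => if g ∈ N then c * (conj (χ g) / m) else 0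
  have hm_int : ∀ n : N, IsIntegral ℤ (conj (χ n) / m) := by
    intro n
    have hmreal : conj m = m := by
      obtain ⟨k, hk⟩ := classInner_isNat (isCharacter_restrict N (isIrr_isCharacter hχ))
        (isIrr_isCharacter hθ)
      rw [hm, hk]
      simp
    rw [hval n, map_mul, hmreal, mul_div_cancel_left₀ _ h1, map_sum]
    refine IsIntegral.sum _ fun η _ => ?_
    have h4 := isIntegral_irr η.2 n
    exact h4.map ((starRingEnd ℂ).toIntAlgHom)
  have hF : IsClassFunction G F := by
    intro g x
    have hiff : x * g * x⁻¹ ∈ N ↔ g ∈ N := by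
      constructor
      · intro hx
        have := ‹N.Normal›.conj_mem _ hx x⁻¹
        simpa [mul_assoc] using this
      · intro hg
        exact ‹N.Normal›.conj_mem _ hg x
    simp only [F, hiff]
    rw [isIrr_isClassFunction hχ g x]
  have hR : ∀ g, MemLocalRing M (F g) := by
    intro g
    by_cases hg : g ∈ N
    · simp only [F, hg, if_true]
      refine memLocalRing_mul (memLocalRing_mul ?_ ?_) ?_
      · exact memLocalRing_of_isIntegral (isIntegral_irr hθ 1)
      · exact memLocalRing_inv_natCast hM hN
      · exact memLocalRing_of_isIntegral (hm_int ⟨g, hg⟩)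
    · simp only [F, hg, if_false]
      exact memLocalRing_zero
  have hsum : ∀ ξ : G → ℂ, ∑ g, F g * ξ g =
      (θ 1 / m) * classInner (fun n : N => ξ n) (fun n : N => χ n) := by
    intro ξ
    have h3 : ∑ g, F g * ξ g = ∑ n : N, F n * ξ n := by
      rw [← Finset.sum_subset (Finset.subset_univ (Finset.univ.image (Subtype.val : N → G)))]
      · rw [Finset.sum_image (fun a _ b _ hab => Subtype.ext hab)]
      · intro g _ hg
        have : g ∉ N := fun hgN => hg (Finset.mem_image.2 ⟨⟨g, hgN⟩, Finset.mem_univ _, rfl⟩)
        simp only [F, this, if_false, zero_mul]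
    rw [h3, classInner_def, Finset.mul_sum, Finset.mul_sum]
    refine Finset.sum_congr rfl fun n _ => ?_
    simp only [F, n.2, if_true, c]
    ring
  have key := memLocalIdeal_sum_sub (isIrr_isClassFunction hχ) (isIrr_isClassFunction hψ) h hF hR
  rw [hsum χ, hsum ψ] at key
  -- inner products
  have e1 : classInner (fun n : N => χ n) (fun n : N => χ n) = m * (S.card * m) := by
    conv_lhs => rw [hSeq]
    rw [classInner_smul_left, classInner_sum_left]
    congr 1
    have h5 : ∀ η ∈ S, classInner (η : N → ℂ) (m • ∑ η ∈ S, (η : N → ℂ)) = m := by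
      intro η hη
      rw [← hSeq, ← classInner_conj_symm]
      obtain ⟨g, hg⟩ := hS η hη
      rw [hg, classInner_restrict_conjNormal (N := N) (isIrr_isClassFunction hχ) θ g, ← hm]
      obtain ⟨k, hk⟩ := classInner_isNat (isCharacter_restrict N (isIrr_isCharacter hχ))
        (isIrr_isCharacter hθ)
      rw [hm, hk]
      simp
    rw [Finset.sum_congr rfl h5, Finset.sum_const, nsmul_eq_mul]
  have e2 : classInner (fun n : N => ψ n) (fun n : N => χ n) = 0 := by
    rw [hSeq, classInner_smul_right, classInner_sum_right]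
    rw [Finset.sum_eq_zero, mul_zero]
    intro η hη
    obtain ⟨g, hg⟩ := hS η hη
    rw [hg, classInner_restrict_conjNormal (N := N) (isIrr_isClassFunction hψ) θ g, h2]
  rw [e1, e2, mul_zero, zero_div, sub_zero] at key
  have hS0' : (S.card : ℂ) ≠ 0 := by exact_mod_cast hS0.ne'
  have e3 : θ 1 / m * (m * (S.card * m)) / χ 1 = 1 := by
    rw [hdeg]
    field_simp
  rw [e3] at key
  exact not_memLocalIdeal_one key

end Cfsg.Agent.Blocks.PrimeNormal
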