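import Mathlib
import Cfsg.Prelude.Def_Blocks
import Cfsg.Agent.Lib.Cores
import Cfsg.Agent.Blocks.Homocyclic
import Cfsg.Agent.S0201
import Cfsg.Agent.S0946
import Cfsg.Agent.S0950

/-!
# Groups with quaternion Sylow 2-subgroups of order 8: the group theory behind S0951
-/

set_option autoImplicit false

open Cfsg

namespace Cfsg.Agent.Blocks.QuaternionCount

theorem q8_unique : ∀ x y : QuaternionGroup 2, x ^ 2 = 1 → y ^ 2 = 1 → x ≠ 1 → y ≠ 1 → x = y := by
  decide
theorem q8_pow_four : ∀ x : QuaternionGroup 2, x ^ 4 = 1 := by decide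
theorem q8_centralizer : ∀ x y : QuaternionGroup 2, x ^ 2 ≠ 1 → x * y = y * x →
    y = 1 ∨ y = x ∨ y = x ^ 2 ∨ y = x ^ 3 := by decide
theorem q8_conj_inv : ∀ x : QuaternionGroup 2, ∃ g, g * x * g⁻¹ = x⁻¹ := by decide

theorem q8_card : Nat.card (QuaternionGroup 2) = 8 := by
  rw [Nat.card_eq_fintype_card]; decide

/-- Burnside: a Sylow `p`-subgroup centralized by its normalizer gives a `p`-power index for the
`p'`-core. -/
theorem exists_index_pPrimeCore {C : Type*} [Group C] [Finite C] {p : ℕ} [hp : Fact p.Prime]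
    (T : Sylow p C) (h : Subgroup.normalizer (T : Set C) ≤ Subgroup.centralizer (T : Set C)) :
    ∃ k : ℕ, (pPrimeCore p C).index = p ^ k := by
  have hcompl := MonoidHom.ker_transferSylow_isComplement' T h
  set K := (MonoidHom.transferSylow T h).ker with hK
  have hKn : K.Normal := MonoidHom.normal_ker _
  have h1 : Nat.card K * Nat.card T = Nat.card C := hcompl.card_mul_card
  have h2 : K.index = Nat.card T := by
    have h3 := K.card_mul_index
    rw [← h1] at h3
    exact Nat.eq_of_mul_eq_mul_left Nat.card_pos h3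
  have h3 : Nat.card K = (T : Subgroup C).index := by
    have h4 := (T : Subgroup C).card_mul_index
    rw [← h1, mul_comm] at h4
    exact (Nat.eq_of_mul_eq_mul_right Nat.card_pos h4).symm
  have h4 : (Nat.card K).Coprime p := by
    rw [h3]
    exact ((Nat.Prime.coprime_iff_not_dvd hp.out).2 T.not_dvd_index).symm
  have h5 : K ≤ pPrimeCore p C := Lib.Cores.le_pPrimeCore hKn h4
  have h6 : (pPrimeCore p C).index ∣ K.index := Subgroup.index_dvd_of_le h5
  rw [h2] at h6
  obtain ⟨n, hn⟩ := IsPGroup.iff_card.1 T.isPGroup'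
  rw [hn] at h6
  obtain ⟨k, _, hk⟩ := (Nat.dvd_prime_pow hp.out).1 h6
  exact ⟨k, hk⟩

/-- A central element generating a `p`-subgroup lies in every Sylow `p`-subgroup. -/
theorem mem_sylow_of_central {C : Type*} [Group C] [Finite C] {p : ℕ} [Fact p.Prime]
    (T : Sylow p C) (z : C) (hz : z ∈ Subgroup.center C) (hord : ∃ k : ℕ, orderOf z = p ^ k) :
    z ∈ (T : Subgroup C) := by
  have h1 : IsPGroup p (Subgroup.zpowers z) := by
    obtain ⟨k, hk⟩ := hord
    exact IsPGroup.of_card (n := k) (by rw [Nat.card_zpowers, hk])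
  have h2 : (Subgroup.zpowers z).Normal := by
    refine ⟨fun x hx g => ?_⟩
    obtain ⟨n, rfl⟩ := hx
    have h3 : g * z ^ n * g⁻¹ = z ^ n := by
      have h4 : z ^ n ∈ Subgroup.center C := Subgroup.zpow_mem _ hz n
      rw [Subgroup.mem_center_iff] at h4
      rw [h4 g, mul_assoc, mul_inv_cancel, mul_one]
    change g * z ^ n * g⁻¹ ∈ _
    rw [h3]
    exact ⟨n, rfl⟩
  exact h1.le_sylow_of_normal T (Subgroup.mem_zpowers z)

theorem exists_sylow_mem {C : Type*} [Group C] {p : ℕ} (x : C)
    (hord : ∃ k : ℕ, orderOf x = p ^ k) : ∃ T : Sylow p C, x ∈ (T : Subgroup C) := by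
  have h1 : IsPGroup p (Subgroup.zpowers x) := by
    obtain ⟨k, hk⟩ := hord
    exact IsPGroup.of_card (n := k) (by rw [Nat.card_zpowers, hk])
  obtain ⟨T, hT⟩ := h1.exists_le_sylow
  exact ⟨T, hT (Subgroup.mem_zpowers x)⟩

section Q8

variable {G : Type*} [Group G] [Finite G] (S : Sylow 2 G)
  (e : (S : Subgroup G) ≃* QuaternionGroup 2)

include e

theorem nonempty_equiv (T : Sylow 2 G) : Nonempty ((T : Subgroup G) ≃* QuaternionGroup 2) :=
  ⟨(Sylow.equiv T S).trans e⟩

theorem pow_four_eq_one (x : G) (hx : ∃ k : ℕ, orderOf x = 2 ^ k) : x ^ 4 = 1 := by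
  obtain ⟨T, hT⟩ := exists_sylow_mem x hx
  obtain ⟨f⟩ := nonempty_equiv S e T
  have h1 : (⟨x, hT⟩ : (T : Subgroup G)) ^ 4 = 1 := by
    apply f.injective
    rw [map_pow, map_one]
    exact q8_pow_four _
  exact congrArg Subtype.val h1

/-- `C_G(x)` has a normal 2-complement for `x` of order four. -/
theorem exists_index_of_orderOf_four (x : G) (hx : orderOf x = 4) :
    ∃ k : ℕ, (pPrimeCore 2 (Subgroup.centralizer ({x} : Set G))).index = 2 ^ k := by
  set C := Subgroup.centralizer ({x} : Set G) with hC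
  obtain ⟨T⟩ : Nonempty (Sylow 2 C) := inferInstance
  have hxC : x ∈ C := by rw [hC, Subgroup.mem_centralizer_singleton_iff]
  have hcent : (⟨x, hxC⟩ : C) ∈ Subgroup.center C := by
    rw [Subgroup.mem_center_iff]
    intro g
    have h1 : (g : G) * x = x * g := Subgroup.mem_centralizer_singleton_iff.1 g.2
    exact Subtype.ext h1
  have hxT : (⟨x, hxC⟩ : C) ∈ (T : Subgroup C) :=
    mem_sylow_of_central T _ hcent ⟨2, by rw [Subgroup.orderOf_mk, hx]; norm_num⟩
  have hTmap : IsPGroup 2 ((T : Subgroup C).map C.subtype) := T.isPGroup'.map _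
  obtain ⟨T', hT'⟩ := hTmap.exists_le_sylow
  obtain ⟨f⟩ := nonempty_equiv S e T'
  have hx' : x ∈ (T' : Subgroup G) := hT' ⟨⟨x, hxC⟩, hxT, rfl⟩
  have hTc : (T : Subgroup C) ≤ Subgroup.center C := by
    intro t ht
    have ht' : (t : G) ∈ (T' : Subgroup G) := hT' ⟨t, ht, rfl⟩
    have h1 : (t : G) * x = x * t := Subgroup.mem_centralizer_singleton_iff.1 t.2
    have h2 : f ⟨x, hx'⟩ * f ⟨t, ht'⟩ = f ⟨t, ht'⟩ * f ⟨x, hx'⟩ := by
      rw [← map_mul, ← map_mul]
      congr 1
      exact Subtype.ext h1.symm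
    have h3 : f ⟨x, hx'⟩ ^ 2 ≠ 1 := by
      intro h4
      rw [← map_pow, ← map_one f] at h4
      have h5 := congrArg Subtype.val (f.injective h4)
      have h6 : x ^ 2 = 1 := h5
      have h7 := orderOf_dvd_of_pow_eq_one h6
      rw [hx] at h7
      norm_num at h7
    have h4 := q8_centralizer _ _ h3 h2
    have h5 : (t : G) = 1 ∨ (t : G) = x ∨ (t : G) = x ^ 2 ∨ (t : G) = x ^ 3 := by
      rcases h4 with h4 | h4 | h4 | h4
      · left
        rw [← map_one f] at h4
        exact congrArg Subtype.val (f.injective h4)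
      · right; left
        exact congrArg Subtype.val (f.injective h4)
      · right; right; left
        rw [← map_pow] at h4
        exact congrArg Subtype.val (f.injective h4)
      · right; right; right
        rw [← map_pow] at h4
        exact congrArg Subtype.val (f.injective h4)
    rw [Subgroup.mem_center_iff] at hcent ⊢
    have h6 : ∃ n : ℕ, t = (⟨x, hxC⟩ : C) ^ n := by
      rcases h5 with h5 | h5 | h5 | h5
      · exact ⟨0, Subtype.ext (by simpa using h5)⟩
      · exact ⟨1, Subtype.ext (by simpa using h5)⟩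
      · exact ⟨2, Subtype.ext (by simpa using h5)⟩
      · exact ⟨3, Subtype.ext (by simpa using h5)⟩
    obtain ⟨n, rfl⟩ := h6
    intro g
    exact (Commute.pow_right (show Commute g ⟨x, hxC⟩ from hcent g) n).eq
  refine exists_index_pPrimeCore T ?_
  intro g _
  rw [Subgroup.mem_centralizer_iff]
  intro t ht
  have h1 := hTc ht
  rw [Subgroup.mem_center_iff] at h1
  exact (h1 g).symm

/-- Elements of order four are conjugate when there is no normal complement. -/
theorem isConj_of_orderOf_four (hO : ∀ N : Subgroup G, N.Normal → Odd (Nat.card N) → N = ⊥)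
    (hG : (S : Subgroup G) ≠ ⊤) (x y : G) (hx : orderOf x = 4) (hy : orderOf y = 4) :
    IsConj x y := by
  have hnc : ∀ N : Subgroup G, N.Normal → ¬ Subgroup.IsComplement' N (S : Subgroup G) := by
    intro N hN hc
    have h1 : Nat.card N * Nat.card S = Nat.card G := hc.card_mul_card
    have h3 : Nat.card N = (S : Subgroup G).index := by
      have h4 := (S : Subgroup G).card_mul_index
      rw [← h1, mul_comm] at h4
      exact (Nat.eq_of_mul_eq_mul_right Nat.card_pos h4).symm
    have h5 : Odd (Nat.card N) := by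
      rw [h3, ← Nat.not_even_iff_odd, even_iff_two_dvd]
      exact S.not_dvd_index
    have h6 := hO N hN h5
    rw [h6, Subgroup.card_bot] at h3
    exact hG ((Subgroup.index_eq_one).1 h3.symm)
  -- move an element of order four into `S`
  have hmove : ∀ x : G, orderOf x = 4 → ∃ g : G, g * x * g⁻¹ ∈ (S : Subgroup G) := by
    intro x hx
    obtain ⟨T, hT⟩ := exists_sylow_mem (p := 2) x ⟨2, by rw [hx]; norm_num⟩
    obtain ⟨g, hg⟩ := MulAction.exists_smul_eq G T S
    refine ⟨g, ?_⟩
    rw [← hg]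
    exact ⟨x, hT, rfl⟩
  -- the case of elements of `S`
  have key : ∀ x y : G, orderOf x = 4 → orderOf y = 4 → x ∈ (S : Subgroup G) →
      y ∈ (S : Subgroup G) → IsConj x y := by
    intro x y hx hy hxS hyS
    obtain ⟨n, _, hn⟩ := Cfsg.Agent.S0950.result S e hnc (Subgroup.zpowers x) (Subgroup.zpowers y)
      (by rwa [Subgroup.zpowers_le]) (by rwa [Subgroup.zpowers_le])
      (by rw [Nat.card_zpowers, hx]) (by rw [Nat.card_zpowers, hy])
    have h1 : n * x * n⁻¹ ∈ Subgroup.zpowers y := by
      rw [hn]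
      exact ⟨x, Subgroup.mem_zpowers x, rfl⟩
    have h2 : orderOf (n * x * n⁻¹) = 4 := by
      have h3 : orderOf (MulAut.conj n x) = orderOf x :=
        orderOf_injective (MulAut.conj n).toMonoidHom (MulAut.conj n).injective x
      rw [MulAut.conj_apply] at h3
      rw [h3, hx]
    have h3 : n * x * n⁻¹ = y ∨ n * x * n⁻¹ = y⁻¹ := by
      obtain ⟨m, hm⟩ := h1
      have h4 : y ^ (m % 4) = n * x * n⁻¹ := by
        rw [← hm]
        have h5 := zpow_mod_orderOf y m
        rw [hy] at h5
        exact_mod_cast h5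
      have h5 : m % 4 = 0 ∨ m % 4 = 1 ∨ m % 4 = 2 ∨ m % 4 = 3 := by omega
      have hy4 : y ^ 4 = 1 := by rw [← hy]; exact pow_orderOf_eq_one y
      rcases h5 with h5 | h5 | h5 | h5
      · rw [h5, zpow_zero] at h4
        rw [← h4, orderOf_one] at h2
        norm_num at h2
      · left
        rw [h5, zpow_one] at h4
        exact h4.symm
      · exfalso
        rw [h5] at h4
        have h6 : (n * x * n⁻¹) ^ 2 = 1 := by
          rw [← h4]
          norm_cast
          rw [← pow_mul]
          exact hy4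
        have h7 := orderOf_dvd_of_pow_eq_one h6
        rw [h2] at h7
        norm_num at h7
      · right
        rw [h5] at h4
        rw [← h4]
        norm_cast
        rw [eq_inv_iff_mul_eq_one, ← pow_succ]
        exact hy4
    obtain ⟨g, hg⟩ := q8_conj_inv (e ⟨y, hyS⟩)
    have h4 : IsConj y y⁻¹ := by
      refine isConj_iff.2 ⟨((e.symm g : (S : Subgroup G)) : G), ?_⟩
      have h5 : e (e.symm g * ⟨y, hyS⟩ * (e.symm g)⁻¹) = e (⟨y, hyS⟩⁻¹) := by
        rw [map_mul, map_mul, map_inv, map_inv, MulEquiv.apply_symm_apply, hg]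
      exact congrArg Subtype.val (e.injective h5)
    rcases h3 with h3 | h3
    · exact isConj_iff.2 ⟨n, h3⟩
    · exact (isConj_iff.2 ⟨n, h3⟩).trans h4.symm
  obtain ⟨g, hg⟩ := hmove x hx
  obtain ⟨h, hh⟩ := hmove y hy
  have ho : ∀ g x : G, orderOf (g * x * g⁻¹) = orderOf x := by
    intro g x
    exact orderOf_injective (MulAut.conj g).toMonoidHom (MulAut.conj g).injective x
  have h1 := key (g * x * g⁻¹) (h * y * h⁻¹) (by rw [ho, hx]) (by rw [ho, hy]) hg hh
  exact ((isConj_iff.2 ⟨g, rfl⟩ : IsConj x (g * x * g⁻¹)).trans h1).trans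
    (isConj_iff.2 ⟨h, rfl⟩ : IsConj y (h * y * h⁻¹)).symm

end Q8

end Cfsg.Agent.Blocks.QuaternionCount
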