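import Mathlib
import Cfsg.Prelude.Def_Blocks
import Cfsg.Agent.Blocks.QuaternionCount

/-!
# The quotient by the centre of a group with quaternion Sylow 2-subgroups of order 8
-/

set_option autoImplicit false

open Cfsg

namespace Cfsg.Agent.Blocks.QuaternionQuot

open Cfsg.Agent.Blocks.QuaternionCount

variable {G : Type*} [Group G] [Finite G] (S : Sylow 2 G)
  (e : (S : Subgroup G) ≃* QuaternionGroup 2) (hZ : Nat.card (Subgroup.center G) = 2)

include hZ in
omit [Finite G] in
theorem exists_central : ∃ z ∈ Subgroup.center G, z ≠ 1 ∧ z ^ 2 = 1 ∧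
    ∀ w ∈ Subgroup.center G, w = 1 ∨ w = z := by
  have h1 : ∃ z : Subgroup.center G, z ≠ 1 ∧ ∀ w : Subgroup.center G, w = 1 ∨ w = z := by
    obtain ⟨a, b, hab, huniv⟩ := Nat.card_eq_two_iff.1 hZ
    have hu : ∀ w : Subgroup.center G, w = a ∨ w = b := by
      intro w
      have : w ∈ ({a, b} : Set (Subgroup.center G)) := by rw [huniv]; trivial
      simpa using this
    rcases hu 1 with h | h
    · subst h
      exact ⟨b, hab.symm, hu⟩
    · subst h
      exact ⟨a, hab, fun w => (hu w).symm⟩
  obtain ⟨z, hz, hw⟩ := h1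
  refine ⟨z, z.2, fun h => hz (Subtype.ext h), ?_, ?_⟩
  · have h2 : z ^ 2 = 1 := by
      rw [← hZ]
      exact pow_card_eq_one'
    exact congrArg Subtype.val h2
  · intro w hwc
    rcases hw ⟨w, hwc⟩ with h | h
    · left; exact congrArg Subtype.val h
    · right; exact congrArg Subtype.val h

include e in
theorem eq_of_sq {z x : G} (hz : z ∈ Subgroup.center G) (hz1 : z ≠ 1) (hz2 : z ^ 2 = 1)
    (hx : ∃ k : ℕ, orderOf x = 2 ^ k) (hx1 : x ≠ 1) (hx2 : x ^ 2 = 1) : x = z := by
  obtain ⟨T, hT⟩ := exists_sylow_mem x hx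
  obtain ⟨f⟩ := nonempty_equiv S e T
  have hzT : z ∈ (T : Subgroup G) := by
    refine mem_sylow_of_central T z hz ⟨1, ?_⟩
    rw [pow_one]
    exact orderOf_eq_prime hz2 hz1
  have h1 := q8_unique (f ⟨x, hT⟩) (f ⟨z, hzT⟩) (by
    rw [← map_pow, ← map_one f]; congr 1; exact Subtype.ext hx2) (by
    rw [← map_pow, ← map_one f]; congr 1; exact Subtype.ext hz2) (by
    rw [← map_one f]; intro h; exact hx1 (congrArg Subtype.val (f.injective h))) (by
    rw [← map_one f]; intro h; exact hz1 (congrArg Subtype.val (f.injective h)))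
  exact congrArg Subtype.val (f.injective h1)

include e hZ in
theorem sq_mem_center (x : G) (hx : ∃ k : ℕ, orderOf x = 2 ^ k) : x ^ 2 ∈ Subgroup.center G := by
  obtain ⟨z, hz, hz1, hz2, -⟩ := exists_central hZ
  by_cases h : x ^ 2 = 1
  · rw [h]; exact Subgroup.one_mem _
  · have h4 := pow_four_eq_one S e x hx
    have h5 : x ^ 2 = z := by
      refine eq_of_sq S e hz hz1 hz2 ⟨1, ?_⟩ h ?_
      · rw [pow_one]
        exact orderOf_eq_prime (by rw [← pow_mul]; exact h4) h
      · rw [← pow_mul]; exact h4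
    rw [h5]
    exact hz

/-- the Sylow 2-subgroup of the quotient -/
noncomputable def barSylow : Sylow 2 (G ⧸ Subgroup.center G) :=
  S.mapSurjective (QuotientGroup.mk'_surjective (Subgroup.center G))

include hZ in
omit [Finite G] in
theorem card_G : Nat.card G = 2 * Nat.card (G ⧸ Subgroup.center G) := by
  rw [← hZ, mul_comm, ← Subgroup.card_eq_card_quotient_mul_card_subgroup]

include e in
theorem factorization_G : (Nat.card G).factorization 2 = 3 := by
  have h1 : Nat.card S = 8 := by rw [Nat.card_congr e.toEquiv, q8_card]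
  have h2 := S.card_eq_multiplicity
  rw [h1] at h2
  have h3 : 2 ^ 3 = 2 ^ (Nat.card G).factorization 2 := by rw [← h2]; norm_num
  exact (Nat.pow_right_injective le_rfl h3).symm

include e hZ in
theorem card_barSylow : Nat.card (barSylow S) = 4 := by
  rw [(barSylow S).card_eq_multiplicity]
  have h1 := factorization_G S e
  rw [card_G hZ, Nat.factorization_mul (by norm_num) Nat.card_pos.ne', Finsupp.add_apply,
    Nat.Prime.factorization_self Nat.prime_two] at h1
  have h2 : (Nat.card (G ⧸ Subgroup.center G)).factorization 2 = 2 := by omega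
  rw [h2]; norm_num

include e hZ in
theorem isKleinFour_barSylow : IsKleinFour (barSylow S : Subgroup (G ⧸ Subgroup.center G)) := by
  have hcard := card_barSylow S e hZ
  refine ⟨hcard, ?_⟩
  have hnt : Nontrivial (barSylow S : Subgroup (G ⧸ Subgroup.center G)) := by
    rw [← Finite.one_lt_card_iff_nontrivial]
    have : Nat.card (barSylow S : Subgroup (G ⧸ Subgroup.center G)) = 4 := hcard
    omega
  rw [Monoid.exponent_eq_prime_iff Nat.prime_two]
  rintro ⟨g, hg⟩ hg1
  obtain ⟨s, hs, rfl⟩ := hg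
  refine orderOf_eq_prime ?_ hg1
  apply Subtype.ext
  change (QuotientGroup.mk' (Subgroup.center G) s) ^ 2 = 1
  rw [← map_pow]
  have h1 : s ^ 2 ∈ Subgroup.center G := by
    refine sq_mem_center S e hZ s ?_
    obtain ⟨k, hk⟩ := IsPGroup.iff_orderOf.1 S.isPGroup' ⟨s, hs⟩
    rw [Subgroup.orderOf_mk] at hk
    exact ⟨k, hk⟩
  exact (QuotientGroup.eq_one_iff _).2 h1

include e hZ in
/-- The normal complement in the quotient is impossible. -/
theorem eq_top_of_complement (hO : ∀ N : Subgroup G, N.Normal → Odd (Nat.card N) → N = ⊥)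
    (N' : Subgroup (G ⧸ Subgroup.center G)) (hN' : N'.Normal)
    (hc : Subgroup.IsComplement' N' (barSylow S : Subgroup (G ⧸ Subgroup.center G))) :
    (S : Subgroup G) = ⊤ := by
  have h2 : Fact (Nat.Prime 2) := ⟨Nat.prime_two⟩
  have h4 := card_barSylow S e hZ
  have hNcard : Nat.card N' * 4 = Nat.card (G ⧸ Subgroup.center G) := by
    rw [← h4]; exact hc.card_mul_card
  have hodd : Odd (Nat.card N') := by
    have h5 := (barSylow S).not_dvd_index
    have h6 := (barSylow S : Subgroup (G ⧸ Subgroup.center G)).card_mul_index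
    have h7 : Nat.card (barSylow S : Subgroup (G ⧸ Subgroup.center G)) = 4 := h4
    rw [h7, ← hNcard, mul_comm] at h6
    have h8 := Nat.eq_of_mul_eq_mul_right (by norm_num : 0 < 4) h6
    rw [← h8, ← Nat.not_even_iff_odd, even_iff_two_dvd]
    exact h5
  set N := N'.comap (QuotientGroup.mk' (Subgroup.center G)) with hN
  have hNn : N.Normal := hN'.comap _
  have hcardN : Nat.card N = 2 * Nat.card N' := by
    have h : Nat.card N = Nat.card (Subgroup.center G) * Nat.card N' :=
      QuotientGroup.card_preimage_mk (Subgroup.center G) (N' : Set (G ⧸ Subgroup.center G))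
    rw [h, hZ]
  have hZN : Subgroup.center G ≤ N := by
    intro x hx
    rw [hN, Subgroup.mem_comap, QuotientGroup.mk'_apply, (QuotientGroup.eq_one_iff x).2 hx]
    exact N'.one_mem
  have hfac : (Nat.card N).factorization 2 = 1 := by
    rw [hcardN, Nat.factorization_mul (by norm_num) Nat.card_pos.ne', Finsupp.add_apply,
      Nat.Prime.factorization_self Nat.prime_two, Nat.factorization_eq_zero_of_not_dvd]
    rw [← even_iff_two_dvd, Nat.not_even_iff_odd]
    exact hodd
  have hcZ : Nat.card ((Subgroup.center G).subgroupOf N) = 2 ^ (Nat.card N).factorization 2 := by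
    rw [hfac, pow_one, Nat.card_congr (Subgroup.subgroupOfEquivOfLe hZN).toEquiv, hZ]
  obtain ⟨k, hk⟩ := exists_index_pPrimeCore (p := 2)
    (Sylow.ofCard ((Subgroup.center G).subgroupOf N) hcZ) (by
      intro g _
      rw [Subgroup.mem_centralizer_iff]
      intro t ht
      have h5 : (t : G) ∈ Subgroup.center G := ht
      rw [Subgroup.mem_center_iff] at h5
      exact Subtype.ext (h5 g).symm)
  have hcore : pPrimeCore 2 G = ⊥ := by
    apply hO _ (Lib.Cores.pPrimeCore_normal 2)
    have h5 := Lib.Cores.pPrimeCore_coprime (G := G) 2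
    exact (Nat.coprime_two_right).1 h5
  have hcoreN : pPrimeCore 2 N = ⊥ := by
    have h5 := Lib.Cores.map_subtype_pPrimeCore 2 hNn
    rw [hcore, inf_bot_eq, Subgroup.map_eq_bot_iff, Subgroup.ker_subtype, le_bot_iff] at h5
    exact h5
  rw [hcoreN, Subgroup.index_bot, hcardN] at hk
  have h5 : Nat.card N' = 1 := by
    have h6 : Nat.card N' ∣ 2 ^ k := ⟨2, by rw [← hk, mul_comm]⟩
    exact Nat.eq_one_of_dvd_coprimes (Nat.Coprime.pow_left k
      ((Nat.coprime_two_right.2 hodd).symm)) h6 dvd_rfl
  rw [h5] at hNcard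
  have h6 := card_G hZ
  rw [← hNcard] at h6
  have h7 : Nat.card S = 8 := by rw [Nat.card_congr e.toEquiv, q8_card]
  exact Subgroup.eq_top_of_card_eq _ (by rw [h6]; exact h7)

include e hZ in
theorem isConj_of_involution (hO : ∀ N : Subgroup G, N.Normal → Odd (Nat.card N) → N = ⊥)
    (hG : (S : Subgroup G) ≠ ⊤) (s t : G ⧸ Subgroup.center G) (hs : orderOf s = 2)
    (ht : orderOf t = 2) : IsConj s t := by
  have hK := isKleinFour_barSylow S e hZ
  have hK2 : IsKleinFour (Multiplicative (ZMod (2 ^ 1) × ZMod (2 ^ 1))) :=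
    (inferInstance : IsKleinFour (Multiplicative (ZMod 2 × ZMod 2)))
  obtain ⟨f⟩ := IsKleinFour.nonempty_mulEquiv (G₁ := (barSylow S : Subgroup (G ⧸ Subgroup.center G)))
    (G₂ := Multiplicative (ZMod (2 ^ 1) × ZMod (2 ^ 1)))
  rcases Cfsg.Agent.S0946.result (barSylow S) 1 le_rfl f with ⟨N, hN, hc⟩ | h
  · exact absurd (eq_top_of_complement S e hZ hO N hN hc) hG
  · exact h s t hs ht

include e hZ in
/-- Centralizers of involutions of the quotient have normal 2-complements. -/
theorem exists_index_bar (t : G ⧸ Subgroup.center G) (ht : orderOf t = 2) :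
    ∃ k : ℕ, (pPrimeCore 2 (Subgroup.centralizer ({t} : Set (G ⧸ Subgroup.center G)))).index =
      2 ^ k := by
  have hK2 : IsKleinFour (Multiplicative (ZMod (2 ^ 1) × ZMod (2 ^ 1))) :=
    (inferInstance : IsKleinFour (Multiplicative (ZMod 2 × ZMod 2)))
  obtain ⟨T, hT⟩ := exists_sylow_mem (p := 2) t ⟨1, by rw [ht]; norm_num⟩
  have hK := isKleinFour_barSylow S e hZ
  obtain ⟨f'⟩ := IsKleinFour.nonempty_mulEquiv
    (G₁ := (barSylow S : Subgroup (G ⧸ Subgroup.center G)))
    (G₂ := Multiplicative (ZMod (2 ^ 1) × ZMod (2 ^ 1)))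
  have f := (Sylow.equiv T (barSylow S)).trans f'
  set C := Subgroup.centralizer ({t} : Set (G ⧸ Subgroup.center G)) with hC
  have hTC : (T : Subgroup (G ⧸ Subgroup.center G)) ≤ C := by
    intro x hx
    rw [hC, Subgroup.mem_centralizer_singleton_iff]
    have h1 : (⟨x, hx⟩ : (T : Subgroup (G ⧸ Subgroup.center G))) * ⟨t, hT⟩ = ⟨t, hT⟩ * ⟨x, hx⟩ := by
      apply f.injective
      rw [map_mul, map_mul, mul_comm]
    exact congrArg Subtype.val h1
  have ht1 : t ≠ 1 := by
    rintro rfl
    rw [orderOf_one] at ht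
    norm_num at ht
  refine exists_index_pPrimeCore (T.subtype hTC) ?_
  intro n hn
  have h1 : (n : G ⧸ Subgroup.center G) ∈ Subgroup.normalizer (T : Set (G ⧸ Subgroup.center G)) := by
    have hn' : n ∈ Subgroup.normalizer
      (((T : Subgroup (G ⧸ Subgroup.center G)).subgroupOf C : Subgroup C) : Set C) := hn
    change (n : G ⧸ Subgroup.center G) ∈
      Subgroup.normalizer ((T : Subgroup (G ⧸ Subgroup.center G)) : Set (G ⧸ Subgroup.center G))
    rw [Subgroup.mem_normalizer_iff] at hn' ⊢
    intro x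
    constructor
    · intro hx
      exact (hn' ⟨x, hTC hx⟩).1 hx
    · intro hx
      have hxC : x ∈ C := by
        have h2 := hTC hx
        have h3 := C.mul_mem (C.mul_mem (C.inv_mem n.2) h2) n.2
        have h4 : (n : G ⧸ Subgroup.center G)⁻¹ * (n * x * (n : G ⧸ Subgroup.center G)⁻¹) * n = x := by
          group
        rwa [h4] at h3
      exact (hn' ⟨x, hxC⟩).2 hx
  have h2 := Blocks.Homocyclic.mem_centralizer_of_commute T 1 f t hT ht1 n h1
    (Subgroup.mem_centralizer_singleton_iff.1 n.2).symm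
  rw [Subgroup.mem_centralizer_iff] at h2 ⊢
  intro x hx
  exact Subtype.ext (h2 x hx)

include e hZ in
/-- The 2-elements of the quotient. -/
theorem bar_two_element (x : G ⧸ Subgroup.center G) :
    (∃ k : ℕ, orderOf x = 2 ^ k) ↔ x = 1 ∨ orderOf x = 2 := by
  constructor
  · intro hx
    by_cases h1 : x = 1
    · left; exact h1
    · right
      have hK2 : IsKleinFour (Multiplicative (ZMod (2 ^ 1) × ZMod (2 ^ 1))) :=
        (inferInstance : IsKleinFour (Multiplicative (ZMod 2 × ZMod 2)))
      obtain ⟨T, hT⟩ := exists_sylow_mem (p := 2) x hx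
      have hK := isKleinFour_barSylow S e hZ
      have f : (T : Subgroup (G ⧸ Subgroup.center G)) ≃*
        (barSylow S : Subgroup (G ⧸ Subgroup.center G)) := Sylow.equiv T (barSylow S)
      have h2 : (⟨x, hT⟩ : (T : Subgroup (G ⧸ Subgroup.center G))) ^ 2 = 1 := by
        apply f.injective
        rw [map_pow, map_one]
        have h3 := Monoid.pow_exponent_eq_one (f ⟨x, hT⟩)
        rwa [hK.exponent_two] at h3
      exact orderOf_eq_prime (congrArg Subtype.val h2) h1
  · rintro (rfl | h)
    · exact ⟨0, by simp⟩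
    · exact ⟨1, by rw [h]; norm_num⟩

include e in
/-- The 2-elements of the group. -/
theorem two_element {z : G} (hz : z ∈ Subgroup.center G) (hz1 : z ≠ 1) (hz2 : z ^ 2 = 1) (x : G) :
    (∃ k : ℕ, orderOf x = 2 ^ k) ↔ x = 1 ∨ x = z ∨ orderOf x = 4 := by
  constructor
  · intro hx
    by_cases h1 : x = 1
    · left; exact h1
    · right
      by_cases h2 : x ^ 2 = 1
      · left
        exact eq_of_sq S e hz hz1 hz2 hx h1 h2
      · right
        have h4 := pow_four_eq_one S e x hx
        exact orderOf_eq_prime_pow (p := 2) (n := 1) (by simpa using h2) (by simpa using h4)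
  · rintro (rfl | rfl | h)
    · exact ⟨0, by simp⟩
    · exact ⟨1, by rw [pow_one]; exact orderOf_eq_prime hz2 hz1⟩
    · exact ⟨2, by rw [h]; norm_num⟩

end Cfsg.Agent.Blocks.QuaternionQuot
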