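import Mathlib
import Cfsg.Agent.Blocks.MinMax

/-!
# Relative traces and defect groups

`relTrace E a y = |E|⁻¹ ∑ t, a (t⁻¹ * y * t)` is the relative trace from `E` to `G` of an
`E`-invariant element `a` of the group algebra.

* `exists_relTrace_of_isDefectClass` / `exists_relTrace_of_isDefectGroup`: the idempotent of a
  block with defect group `D` is the relative trace of a `D`-invariant local-integral element.
* `exists_le_conj_of_relTrace`: if the relative trace from `E` is a unit at `y`, then every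
  `p`-subgroup centralizing `y` is contained in a conjugate of `E`.
-/

set_option autoImplicit false
set_option linter.unusedSectionVars false

open Cfsg

namespace Cfsg.Agent.Blocks.RelTraceForm

open Cfsg.Agent.Blocks.Local Cfsg.Agent.Blocks.ConvCentral Cfsg.Agent.Blocks.MinMax
open Cfsg.Agent.Blocks.Basic

variable {G : Type*} [Group G] [Fintype G]

/-- The relative trace from `E` to `G` of an `E`-invariant function on `G`. -/
noncomputable def relTrace (E : Subgroup G) (a : G → ℂ) (y : G) : ℂ :=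
  (Nat.card E : ℂ)⁻¹ * ∑ t : G, a (t⁻¹ * y * t)

theorem relTrace_def (E : Subgroup G) (a : G → ℂ) (y : G) :
    relTrace E a y = (Nat.card E : ℂ)⁻¹ * ∑ t : G, a (t⁻¹ * y * t) := rfl

/-- The number of elements in a left coset. -/
theorem card_filter_mk (E : Subgroup G) (q : G ⧸ E)
    [DecidablePred fun t : G => (t : G ⧸ E) = q] :
    (Finset.univ.filter (fun t : G => (t : G ⧸ E) = q)).card = Nat.card E := by
  classical
  have := Fintype.ofFinite E
  have h1 : Finset.univ.filter (fun t : G => (t : G ⧸ E) = q) =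
      (Finset.univ : Finset E).image (fun e : E => (Quotient.out q : G) * (e : G)) := by
    ext t
    simp only [Finset.mem_filter, Finset.mem_univ, true_and, Finset.mem_image]
    constructor
    · intro ht
      have h3 : ((Quotient.out q : G) : G ⧸ E) = (t : G ⧸ E) := by
        rw [ht]; exact Quotient.out_eq q
      exact ⟨⟨_, QuotientGroup.eq.mp h3⟩, by simp⟩
    · rintro ⟨e, rfl⟩
      rw [QuotientGroup.mk_mul_of_mem _ e.2]
      exact Quotient.out_eq q
  rw [h1, Finset.card_image_of_injective _ (fun e e' h => by simpa using h), Finset.card_univ,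
    Nat.card_eq_fintype_card]

/-- The relative trace as a sum over cosets. -/
theorem relTrace_eq_sum_quotient (E : Subgroup G) [Fintype (G ⧸ E)] {a : G → ℂ}
    (ha : ∀ e ∈ E, ∀ x : G, a (e * x * e⁻¹) = a x) (y : G) :
    relTrace E a y = ∑ q : G ⧸ E, a ((Quotient.out q : G)⁻¹ * y * (Quotient.out q : G)) := by
  classical
  have hcard : (Nat.card E : ℂ) ≠ 0 := by exact_mod_cast Nat.card_pos.ne'
  have h1 : ∑ t : G, a (t⁻¹ * y * t) =
      ∑ q : G ⧸ E, (Nat.card E : ℂ) * a ((Quotient.out q : G)⁻¹ * y * (Quotient.out q : G)) := by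
    rw [← Finset.sum_fiberwise (s := (Finset.univ : Finset G)) (g := fun t : G => (t : G ⧸ E))]
    refine Finset.sum_congr rfl fun q _ => ?_
    have h2 : ∀ t ∈ Finset.univ.filter (fun t : G => (t : G ⧸ E) = q),
        a (t⁻¹ * y * t) = a ((Quotient.out q : G)⁻¹ * y * (Quotient.out q : G)) := by
      intro t ht
      have h3 : ((Quotient.out q : G) : G ⧸ E) = (t : G ⧸ E) := by
        rw [(Finset.mem_filter.mp ht).2]; exact Quotient.out_eq q
      have h4 := QuotientGroup.eq.mp h3
      have h5 := ha _ h4 (t⁻¹ * y * t)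
      rw [← h5]
      congr 1
      group
    rw [Finset.sum_congr rfl h2, Finset.sum_const, nsmul_eq_mul, card_filter_mk]
  rw [relTrace_def, h1, ← Finset.mul_sum, inv_mul_cancel_left₀ hcard]

section Modular

variable {p : ℕ} {M : Ideal AlgInt}

theorem memLocalRing_relTrace [M.IsPrime] (E : Subgroup G) {a : G → ℂ}
    (haR : ∀ g, MemLocalRing M (a g)) (ha : ∀ e ∈ E, ∀ x : G, a (e * x * e⁻¹) = a x) (y : G) :
    MemLocalRing M (relTrace E a y) := by
  have := Fintype.ofFinite (G ⧸ E)
  rw [relTrace_eq_sum_quotient E ha]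
  exact memLocalRing_sum fun q _ => haR _

/-- If the relative trace from `E` is a unit at `y` and `S` is a `p`-subgroup centralizing `y`,
then `S` is contained in a conjugate of `E` (and `a` is a unit at the corresponding conjugate of
`y`). -/
theorem exists_le_conj_of_relTrace [Fact p.Prime] (hM : IsPModular p M) (E : Subgroup G)
    {a : G → ℂ} (haR : ∀ g, MemLocalRing M (a g))
    (ha : ∀ e ∈ E, ∀ x : G, a (e * x * e⁻¹) = a x) {y : G}
    (hy : ¬ MemLocalIdeal M (relTrace E a y)) {S : Subgroup G} (hS : IsPGroup p S)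
    (hSy : S ≤ Subgroup.centralizer ({y} : Set G)) :
    ∃ t : G, S.map (MulAut.conj t⁻¹).toMonoidHom ≤ E ∧ ¬ MemLocalIdeal M (a (t⁻¹ * y * t)) := by
  classical
  have hP : M.IsPrime := isPrime_of_isPModular hM
  have := Fintype.ofFinite (G ⧸ E)
  by_contra hcon
  push Not at hcon
  apply hy
  rw [relTrace_eq_sum_quotient E ha]
  have hwell : ∀ (q : G ⧸ E) (t : G), (t : G ⧸ E) = q →
      a ((Quotient.out q : G)⁻¹ * y * (Quotient.out q : G)) = a (t⁻¹ * y * t) := by
    intro q t ht
    have h3 : ((Quotient.out q : G) : G ⧸ E) = (t : G ⧸ E) := by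
      rw [ht]; exact Quotient.out_eq q
    have h4 := QuotientGroup.eq.mp h3
    have h5 := ha _ h4 (t⁻¹ * y * t)
    rw [← h5]
    congr 1
    group
  let F : G ⧸ E → localRing M := fun q =>
    ⟨a ((Quotient.out q : G)⁻¹ * y * (Quotient.out q : G)), haR _⟩
  have hF : ∀ (s : S) (q : G ⧸ E), F (s • q) = F q := by
    intro s q
    apply Subtype.ext
    change a ((Quotient.out (s • q) : G)⁻¹ * y * (Quotient.out (s • q) : G)) =
      a ((Quotient.out q : G)⁻¹ * y * (Quotient.out q : G))
    rw [hwell (s • q) ((s : G) * Quotient.out q) ?_]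
    · have hs := Subgroup.mem_centralizer_singleton_iff.mp (hSy s.2)
      congr 1
      calc ((s : G) * Quotient.out q)⁻¹ * y * ((s : G) * Quotient.out q) =
          (Quotient.out q)⁻¹ * ((s : G)⁻¹ * (y * (s : G))) * Quotient.out q := by group
        _ = (Quotient.out q)⁻¹ * ((s : G)⁻¹ * ((s : G) * y)) * Quotient.out q := by rw [hs]
        _ = _ := by group
    · conv_rhs => rw [← Quotient.out_eq q]
      rfl
  obtain ⟨b, hb⟩ := Cfsg.Agent.Blocks.OrbitSum.sum_eq_sum_fixed_add_smul hS F hF
  have h4 : (∑ q : G ⧸ E, a ((Quotient.out q : G)⁻¹ * y * (Quotient.out q : G))) =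
      ((∑ q, F q : localRing M) : ℂ) := by
    push_cast
    rfl
  rw [h4, hb]
  push_cast
  refine memLocalIdeal_add (memLocalIdeal_sum fun q hq => ?_) ?_
  · have hq' := (Finset.mem_filter.mp hq).2
    refine hcon (Quotient.out q) ?_
    rintro _ ⟨s, hs, rfl⟩
    have h5 := hq' ⟨s, hs⟩
    have h6 : ((s * Quotient.out q : G) : G ⧸ E) = ((Quotient.out q : G) : G ⧸ E) := by
      have h7 : (⟨s, hs⟩ : S) • ((Quotient.out q : G) : G ⧸ E) = ((Quotient.out q : G) : G ⧸ E) := by
        have h8 : ((Quotient.out q : G) : G ⧸ E) = q := Quotient.out_eq q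
        rw [h8]; exact h5
      exact h7
    have h9 := QuotientGroup.eq.mp h6.symm
    change (MulAut.conj (Quotient.out q : G)⁻¹) s ∈ E
    rw [MulAut.conj_apply, inv_inv]
    convert h9 using 1
    group
  · rw [nsmul_eq_mul]
    exact memLocalIdeal_mul_right (memLocalIdeal_p hM) b.2

/-- The idempotent of a block is the relative trace from the Sylow `p`-subgroup `D` of the
centralizer of a representative `g` of a class on which the central character is a unit, of an
element of the form `z ↦ w (g⁻¹ * z)` with `w` a local-integral class function. -/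
theorem exists_relTrace_of_centralChar [Fact p.Prime] (hM : IsPModular p M)
    {B : Set (IrrCharacter G)} (hB : IsPBlock M B) {g : G}
    (hg : ∃ χ ∈ B, ¬ MemLocalIdeal M (centralChar (χ : G → ℂ) g)) {D : Subgroup G}
    (hD : IsSylowCentralizer p g D) :
    ∃ w : G → ℂ, IsClassFunction G w ∧ (∀ z, MemLocalRing M (w z)) ∧
      (∀ ψ : IrrCharacter G, ψ ∉ B → omega (ψ : G → ℂ) w = 0) ∧
      (∀ d ∈ D, ∀ x : G, w (g⁻¹ * (d * x * d⁻¹)) = w (g⁻¹ * x)) ∧
      ∀ y, blockCoeff B y = relTrace D (fun z => w (g⁻¹ * z)) y := by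
  classical
  have hP : M.IsPrime := isPrime_of_isPModular hM
  obtain ⟨χ, hχB, hχg⟩ := hg
  obtain ⟨w, hw, hwR, hwe, hwB⟩ := exists_conv_eq_blockCoeff (M := M) (isClassFunction_classInd g)
    (fun z => memLocalRing_intCast _) B (fun z => Cfsg.Agent.S0913.result p M hM B hB z)
    (fun ψ hψ => by
      rw [omega_classInd ψ.2]
      intro h
      exact hχg ((centralChar_memLocalIdeal_iff hB hχB hψ g).mpr h))
  -- the index of `D` in the centralizer is prime to `p`
  obtain ⟨m, hm, hmp⟩ : ∃ m : ℕ, Nat.card (Subgroup.centralizer ({g} : Set G)) =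
      Nat.card D * m ∧ ¬ p ∣ m := by
    obtain ⟨P, rfl⟩ := hD
    refine ⟨(P : Subgroup (Subgroup.centralizer ({g} : Set G))).index, ?_, P.not_dvd_index⟩
    rw [Subgroup.card_map_of_injective (Subgroup.subtype_injective _), Subgroup.card_mul_index]
  have hDC := le_centralizer_of_isSylowCentralizer hD
  have hm0 : (m : ℂ) ≠ 0 := by
    intro h
    have : m = 0 := by exact_mod_cast h
    exact hmp (this ▸ dvd_zero p)
  have hD0 : (Nat.card D : ℂ) ≠ 0 := by exact_mod_cast Nat.card_pos.ne'
  have hinv : ∀ d ∈ D, ∀ x : G, w (g⁻¹ * (d * x * d⁻¹)) = w (g⁻¹ * x) := by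
    intro d hd x
    have h1 := Subgroup.mem_centralizer_singleton_iff.mp (hDC hd)
    have h2 : g⁻¹ * d = d * g⁻¹ := by
      rw [inv_mul_eq_iff_eq_mul, ← mul_assoc, ← h1, mul_assoc, mul_inv_cancel, mul_one]
    have h3 : g⁻¹ * (d * x * d⁻¹) = d * (g⁻¹ * x) * d⁻¹ := by
      calc g⁻¹ * (d * x * d⁻¹) = g⁻¹ * d * x * d⁻¹ := by group
        _ = d * g⁻¹ * x * d⁻¹ := by rw [h2]
        _ = d * (g⁻¹ * x) * d⁻¹ := by group
    rw [h3, hw]
  refine ⟨(m : ℂ)⁻¹ • w, isClassFunction_smul hw _, fun z => ?_, fun ψ hψ => ?_, ?_, ?_⟩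
  · exact memLocalRing_mul (memLocalRing_inv_natCast hM hmp) (hwR z)
  · rw [omega_smul, hwB ψ hψ, mul_zero]
  · intro d hd x
    simp only [Pi.smul_apply, hinv d hd x]
  · intro y
    rw [relTrace_def, hwe, conv_apply]
    have h1 : ∑ x : G, (classInd g x : ℂ) * w (x⁻¹ * y) =
        ∑ᶠ x ∈ {x : G | IsConj g x}, w (x⁻¹ * y) := by
      rw [finsum_mem_eq_finite_toFinset_sum _ (Set.toFinite _)]
      symm
      rw [Finset.sum_subset_zero_on_sdiff (Finset.subset_univ
        (Set.toFinite {x : G | IsConj g x}).toFinset) (g := fun x => (classInd g x : ℂ) *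
          w (x⁻¹ * y))]
      · intro x hx
        have hx' : ¬ IsConj g x := by simpa using hx
        rw [classInd_of_not hx']
        simp
      · intro x hx
        have hx' : IsConj g x := by simpa using hx
        rw [classInd_of_isConj hx']
        simp
    have h2 := Cfsg.Agent.Blocks.Induced.sum_conj_eq (fun x => w (x⁻¹ * y)) g
    have h3 : ∑ t : G, w ((t⁻¹ * g * t)⁻¹ * y) = ∑ t : G, w (g⁻¹ * (t⁻¹ * y * t)) := by
      rw [← Equiv.sum_comp (Equiv.inv G)]
      refine Finset.sum_congr rfl fun t _ => ?_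
      rw [Equiv.inv_apply, ← hw (g⁻¹ * (t⁻¹ * y * t)) t]
      congr 1
      group
    rw [h3, hm] at h2
    rw [h1]
    simp only [Pi.smul_apply, smul_eq_mul]
    rw [← Finset.mul_sum, h2]
    push_cast
    field_simp

/-- The idempotent of a block with a defect class represented by `g` is a relative trace from a
Sylow `p`-subgroup `D` of the centralizer of `g`. -/
theorem exists_relTrace_of_isDefectGroup [Fact p.Prime] (hM : IsPModular p M)
    {B : Set (IrrCharacter G)} (hB : IsPBlock M B) {D : Subgroup G} (hD : IsDefectGroup p M B D) :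
    ∃ a : G → ℂ, (∀ z, MemLocalRing M (a z)) ∧ (∀ d ∈ D, ∀ x : G, a (d * x * d⁻¹) = a x) ∧
      ∀ y, blockCoeff B y = relTrace D a y := by
  have hP : M.IsPrime := isPrime_of_isPModular hM
  obtain ⟨g, hg, hDg⟩ := isDefectGroup_iff.1 hD
  obtain ⟨χ, hχ⟩ := isPBlock_nonempty hB
  obtain ⟨w, -, hwR, -, hinv, hrel⟩ := exists_relTrace_of_centralChar hM hB
    ⟨χ, hχ, hg.2.2 χ hχ⟩ hDg
  exact ⟨fun z => w (g⁻¹ * z), fun z => hwR _, hinv, hrel⟩

/-- If the block idempotent is a relative trace from `E`, then every defect group of the block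
is contained in a conjugate of `E`. -/
theorem exists_conj_le_of_isDefectGroup [Fact p.Prime] (hM : IsPModular p M)
    {B : Set (IrrCharacter G)} {D : Subgroup G} (hD : IsDefectGroup p M B D) (E : Subgroup G)
    {a : G → ℂ} (haR : ∀ g, MemLocalRing M (a g))
    (ha : ∀ e ∈ E, ∀ x : G, a (e * x * e⁻¹) = a x)
    (hB : ∀ y, blockCoeff B y = relTrace E a y) :
    ∃ t : G, D.map (MulAut.conj t).toMonoidHom ≤ E := by
  obtain ⟨g, hg, hDg⟩ := isDefectGroup_iff.1 hD
  have h1 := hg.2.1
  rw [hB g] at h1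
  obtain ⟨t, ht, -⟩ := exists_le_conj_of_relTrace hM E haR ha h1
    (isPGroup_of_isSylowCentralizer hDg) (le_centralizer_of_isSylowCentralizer hDg)
  exact ⟨t⁻¹, ht⟩

end Modular

end Cfsg.Agent.Blocks.RelTraceForm
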