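import Mathlib
import Cfsg.Prelude.Def_Blocks

/-!
# The residue field of the ring of algebraic integers at a maximal ideal `M` above `p`

Facts about `Cfsg.AlgInt ⧸ M` for `Cfsg.IsPModular p M`: characteristic `p`, algebraic over the
prime field, algebraically closed; roots of unity of order prime to `p` biject with the nonzero
residues.
-/

set_option autoImplicit false

namespace Cfsg.Agent.Blocks.Residue

/-- An integer prime to `p` is not in `M`. -/
theorem natCast_notMem {p : ℕ} {M : Ideal Cfsg.AlgInt} (hM : Cfsg.IsPModular p M) {m : ℕ}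
    (hm : ¬ p ∣ m) : (m : Cfsg.AlgInt) ∉ M := by
  obtain ⟨hp, hmax, hpM⟩ := hM
  intro h
  have hcop : IsCoprime (p : ℤ) (m : ℤ) :=
    Nat.isCoprime_iff_coprime.mpr ((Nat.Prime.coprime_iff_not_dvd hp).mpr hm)
  obtain ⟨u, v, huv⟩ := hcop
  apply hmax.ne_top
  rw [Ideal.eq_top_iff_one]
  have e : (1 : Cfsg.AlgInt) = (u : Cfsg.AlgInt) * (p : Cfsg.AlgInt) + (v : Cfsg.AlgInt) * (m : Cfsg.AlgInt) := by
    have := congrArg (fun z : ℤ => (z : Cfsg.AlgInt)) huv
    push_cast at this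
    exact this.symm
  rw [e]
  exact M.add_mem (M.mul_mem_left _ hpM) (M.mul_mem_left _ h)

/-- Reduction modulo `M` is injective on roots of unity of order prime to `p`. -/
theorem eq_of_sub_mem {p : ℕ} {M : Ideal Cfsg.AlgInt} (hM : Cfsg.IsPModular p M)
    {ε₁ ε₂ : Cfsg.AlgInt} (h1 : ∃ m : ℕ, ¬ p ∣ m ∧ (ε₁ : ℂ) ^ m = 1)
    (h2 : ∃ m : ℕ, ¬ p ∣ m ∧ (ε₂ : ℂ) ^ m = 1) (h : ε₁ - ε₂ ∈ M) : ε₁ = ε₂ := by
  have hM' := hM
  obtain ⟨hp, hmax, hpM⟩ := hM
  obtain ⟨m, hm, h1⟩ := h1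
  obtain ⟨n, hn, h2⟩ := h2
  have e1 : ε₁ ^ m = 1 := Subtype.ext (by simpa using h1)
  have e2 : ε₂ ^ n = 1 := Subtype.ext (by simpa using h2)
  have hmn : ¬ p ∣ m * n := fun hd => (hp.dvd_mul.mp hd).elim hm hn
  have hn0 : n ≠ 0 := fun h0 => hn (h0 ▸ dvd_zero p)
  -- `ε = ε₁ * ε₂ ^ (n - 1)`
  set δ : Cfsg.AlgInt := ε₂ ^ (n - 1) with hδ
  have hδ2 : ε₂ * δ = 1 := by
    rw [hδ, ← pow_succ', Nat.sub_add_cancel (Nat.one_le_iff_ne_zero.mpr hn0), e2]
  have hδN : δ ^ (m * n) = 1 := by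
    rw [hδ, ← pow_mul, mul_comm (n - 1), mul_comm m n, mul_assoc, pow_mul, e2, one_pow]
  set ε := ε₁ * δ with hε
  have hεN : ε ^ (m * n) = 1 := by
    rw [hε, mul_pow, hδN, pow_mul, e1, one_pow, one_mul]
  have hε1 : ε - 1 ∈ M := by
    have : ε - 1 = δ * (ε₁ - ε₂) := by rw [hε]; linear_combination hδ2
    rw [this]; exact M.mul_mem_left _ h
  by_cases hne : ε = 1
  · have : ε₁ = ε₁ * (ε₂ * δ) := by rw [hδ2, mul_one]
    rw [this]
    calc ε₁ * (ε₂ * δ) = ε₂ * ε := by rw [hε]; ring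
      _ = ε₂ := by rw [hne, mul_one]
  · exfalso
    have hgeom : (∑ i ∈ Finset.range (m * n), ε ^ i) = 0 := by
      have := geom_sum_mul ε (m * n)
      rw [hεN, sub_self] at this
      rcases mul_eq_zero.mp this with h0 | h0
      · exact h0
      · exact absurd (sub_eq_zero.mp h0) hne
    apply natCast_notMem hM' hmn
    have hq : ∀ i : ℕ, ε ^ i - 1 ∈ M := by
      intro i
      rw [← geom_sum_mul ε i]
      exact M.mul_mem_left _ hε1
    have hs : (∑ i ∈ Finset.range (m * n), (ε ^ i - 1)) ∈ M := M.sum_mem fun i _ => hq i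
    rw [Finset.sum_sub_distrib, hgeom] at hs
    simpa using hs

/-- Every algebraic integer outside `M` is congruent to a root of unity of order prime to `p`. -/
theorem exists_root_sub_mem {p : ℕ} {M : Ideal Cfsg.AlgInt} (hM : Cfsg.IsPModular p M)
    (a : Cfsg.AlgInt) (ha : a ∉ M) :
    ∃ ε : Cfsg.AlgInt, (∃ m : ℕ, ¬ p ∣ m ∧ (ε : ℂ) ^ m = 1) ∧ a - ε ∈ M := by
  have hM' := hM
  obtain ⟨hp, hmax, hpM⟩ := hM
  have : Fact p.Prime := ⟨hp⟩
  let _ : Field (Cfsg.AlgInt ⧸ M) := Ideal.Quotient.field M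
  have hchar : CharP (Cfsg.AlgInt ⧸ M) p := by
    have h0 : ((p : ℕ) : Cfsg.AlgInt ⧸ M) = 0 := by
      have := (Ideal.Quotient.eq_zero_iff_mem (I := M)).mpr hpM
      simpa using this
    exact (CharP.charP_iff_prime_eq_zero hp).2 h0
  let _ : Algebra (ZMod p) (Cfsg.AlgInt ⧸ M) := ZMod.algebra _ p
  -- the image of `a` is integral over `ZMod p`
  set b : Cfsg.AlgInt ⧸ M := Ideal.Quotient.mk M a with hb
  have hb0 : b ≠ 0 := fun h0 => ha (Ideal.Quotient.eq_zero_iff_mem.mp h0)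
  have hbint : IsIntegral (ZMod p) b := by
    obtain ⟨f, hf, hfa'⟩ : IsIntegral ℤ a := integralClosure.isIntegral a
    refine ⟨f.map (Int.castRingHom (ZMod p)), hf.map _, ?_⟩
    rw [Polynomial.eval₂_map]
    have := Polynomial.hom_eval₂ f (algebraMap ℤ Cfsg.AlgInt) (Ideal.Quotient.mk M) a
    rw [hfa', map_zero] at this
    rw [this]
    congr 1
    exact Subsingleton.elim _ _
  obtain ⟨m, hm, hbm⟩ : ∃ m : ℕ, ¬ p ∣ m ∧ b ^ m = 1 := by
    have : FiniteDimensional (ZMod p) (IntermediateField.adjoin (ZMod p) {b}) :=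
      IntermediateField.adjoin.finiteDimensional hbint
    have hfin : Finite (IntermediateField.adjoin (ZMod p) {b}) :=
      Module.finite_of_finite (ZMod p)
    have := Fintype.ofFinite (IntermediateField.adjoin (ZMod p) {b})
    let b' : IntermediateField.adjoin (ZMod p) {b} := ⟨b, IntermediateField.mem_adjoin_simple_self _ _⟩
    have hb'0 : b' ≠ 0 := fun h0 => hb0 (congrArg Subtype.val h0)
    refine ⟨Fintype.card (IntermediateField.adjoin (ZMod p) {b}) - 1, ?_, ?_⟩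
    · obtain ⟨n, hn⟩ := FiniteField.card (IntermediateField.adjoin (ZMod p) {b}) p
      rw [hn.2]
      intro hd
      have h1 : p ∣ p ^ (n : ℕ) := dvd_pow_self p n.ne_zero
      have h2 : 1 ≤ p ^ (n : ℕ) := Nat.one_le_pow _ _ hp.pos
      have h3 : p ∣ 1 := by
        have := (Nat.dvd_sub h1 hd)
        rwa [Nat.sub_sub_self h2] at this
      exact hp.one_lt.ne' (Nat.dvd_one.mp h3)
    · have := FiniteField.pow_card_sub_one_eq_one b' hb'0
      exact congrArg Subtype.val this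
  have hm0 : m ≠ 0 := fun h0 => hm (h0 ▸ dvd_zero p)
  have : NeZero m := ⟨hm0⟩
  -- a primitive `m`-th root of unity in `ℂ`
  have hζ := Complex.isPrimitiveRoot_exp m hm0
  set ζ₀ : ℂ := Complex.exp (2 * Real.pi * Complex.I / m) with hζ₀
  have hζ₀int : IsIntegral ℤ ζ₀ := hζ.isIntegral (Nat.pos_of_ne_zero hm0)
  let ζ : Cfsg.AlgInt := ⟨ζ₀, hζ₀int⟩
  have hζ' : IsPrimitiveRoot ζ m := by
    rw [← IsPrimitiveRoot.coe_submonoidClass_iff]
    exact hζ
  have hprod := Polynomial.X_pow_sub_one_eq_prod (Nat.pos_of_ne_zero hm0) hζ'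
  have hev := congrArg (Polynomial.eval a) hprod
  rw [Polynomial.eval_prod] at hev
  simp only [Polynomial.eval_sub, Polynomial.eval_pow, Polynomial.eval_X, Polynomial.eval_one,
    Polynomial.eval_C] at hev
  have hmem : a ^ m - 1 ∈ M := by
    rw [← Ideal.Quotient.eq_zero_iff_mem, map_sub, map_pow, map_one]
    change b ^ m - 1 = 0
    rw [hbm, sub_self]
  rw [hev] at hmem
  have hprime : M.IsPrime := hmax.isPrime
  obtain ⟨ε, hε, hεM⟩ := (hprime.prod_mem_iff).mp hmem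
  refine ⟨ε, ⟨m, hm, ?_⟩, hεM⟩
  have := (Polynomial.mem_nthRootsFinset (Nat.pos_of_ne_zero hm0) _).mp hε
  have := congrArg Subtype.val this
  simpa using this


/-- The residue field has characteristic `p`. -/
theorem charP_residue {p : ℕ} {M : Ideal Cfsg.AlgInt} (hM : Cfsg.IsPModular p M) :
    CharP (Cfsg.AlgInt ⧸ M) p := by
  obtain ⟨hp, hmax, hpM⟩ := hM
  have h0 : ((p : ℕ) : Cfsg.AlgInt ⧸ M) = 0 := by
    have := (Ideal.Quotient.eq_zero_iff_mem (I := M)).mpr hpM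
    simpa using this
  exact (CharP.charP_iff_prime_eq_zero hp).2 h0

/-- Monic polynomials of positive degree over the residue ring have roots, so the residue
field is algebraically closed. -/
theorem exists_root_of_monic {M : Ideal Cfsg.AlgInt} (f : Polynomial (Cfsg.AlgInt ⧸ M))
    (hf : f.Monic) (hd : f.natDegree ≠ 0) : ∃ x : Cfsg.AlgInt ⧸ M, f.eval x = 0 := by
  classical
  -- lift `f` to a monic polynomial over `AlgInt`
  obtain ⟨g, hg, hgd, hgm⟩ := Polynomial.lifts_and_natDegree_eq_and_monic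
    (f := Ideal.Quotient.mk M) (p := f)
    ((Polynomial.mem_lifts f).mpr (by
      obtain ⟨g, hg⟩ := Polynomial.map_surjective (Ideal.Quotient.mk M)
        Ideal.Quotient.mk_surjective f
      exact ⟨g, hg⟩)) hf
  -- a complex root of `g`, which is an algebraic integer
  have hgC : (g.map (algebraMap Cfsg.AlgInt ℂ)).degree ≠ 0 := by
    intro h0
    rw [Polynomial.Monic.degree_map hgm, Polynomial.degree_eq_natDegree hgm.ne_zero, hgd] at h0
    exact hd (by exact_mod_cast h0)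
  obtain ⟨z, hz⟩ := IsAlgClosed.exists_root (g.map (algebraMap Cfsg.AlgInt ℂ)) hgC
  have hzint : IsIntegral Cfsg.AlgInt z := by
    refine ⟨g, hgm, ?_⟩
    rw [Polynomial.IsRoot, Polynomial.eval_map] at hz
    exact hz
  have hzint' : IsIntegral ℤ z := isIntegral_trans (A := Cfsg.AlgInt) z hzint
  refine ⟨Ideal.Quotient.mk M ⟨z, hzint'⟩, ?_⟩
  rw [← hg, Polynomial.eval_map]
  have h1 : Polynomial.eval (⟨z, hzint'⟩ : Cfsg.AlgInt) g = 0 := by
    apply Subtype.ext
    have h2 := Polynomial.hom_eval₂ g (RingHom.id Cfsg.AlgInt) (algebraMap Cfsg.AlgInt ℂ) ⟨z, hzint'⟩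
    rw [Polynomial.IsRoot, Polynomial.eval_map] at hz
    have h3 : (algebraMap Cfsg.AlgInt ℂ) (Polynomial.eval₂ (RingHom.id Cfsg.AlgInt) ⟨z, hzint'⟩ g) = 0 := by
      rw [h2]
      exact hz
    exact h3
  have h4 := Polynomial.hom_eval₂ g (RingHom.id Cfsg.AlgInt) (Ideal.Quotient.mk M) ⟨z, hzint'⟩
  rw [RingHom.comp_id] at h4
  rw [← h4]
  change Ideal.Quotient.mk M (Polynomial.eval₂ (RingHom.id Cfsg.AlgInt) ⟨z, hzint'⟩ g) = 0
  have h5 : Polynomial.eval₂ (RingHom.id Cfsg.AlgInt) ⟨z, hzint'⟩ g = 0 := h1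
  rw [h5, map_zero]

end Cfsg.Agent.Blocks.Residue
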