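import Mathlib
import Cfsg.Prelude.Def_Blocks
import Cfsg.Agent.Characters.Core
import Cfsg.Agent.Characters.Central
import Cfsg.Agent.Characters.Linear
import Cfsg.Agent.Blocks.Local
import Cfsg.Agent.S0135
import Cfsg.Agent.S0141

/-!
# Auxiliary lemmas for Reynolds' theorem

* `memLocalRing_natCast_div`: a quotient of natural numbers `a / b` with
  `v_p b ≤ v_p a` is a local integer.
* `sum_normal_eq_zero_or`: for an irreducible character `χ` and a normal subgroup `K`, the sum of
  `χ` over `K` is `0` or `|K| χ(1)`.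
* `exists_dvd_degree`: a character of a `p`-group whose restriction to the derived group does not
  contain the principal character has degree divisible by `p`.
* `exists_dvd_value`: the same for the value at a central element of a bigger group.
-/

set_option autoImplicit false

open scoped ComplexConjugate
open Cfsg Representation Module

namespace Cfsg.Agent.Blocks.ReynoldsAux

open Cfsg.Agent.Characters.Core Cfsg.Agent.Blocks.Local

section arith

theorem isIntegral_natCast_complex (n : ℕ) : IsIntegral ℤ (n : ℂ) := by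
  have := isIntegral_algebraMap (R := ℤ) (A := ℂ) (x := (n : ℤ))
  simpa using this

variable {p : ℕ} {M : Ideal AlgInt}

theorem memLocalRing_natCast_div (hM : IsPModular p M) {a b : ℕ} (hb : b ≠ 0)
    (h : b.factorization p ≤ a.factorization p) : MemLocalRing M ((a : ℂ) / (b : ℂ)) := by
  have hprime : M.IsPrime := isPrime_of_isPModular hM
  have hp : p.Prime := hM.1
  by_cases ha : a = 0
  · subst ha
    simpa using (memLocalRing_zero (M := M))
  have hdvd : p ^ b.factorization p ∣ a :=
    (Nat.Prime.pow_dvd_iff_le_factorization hp ha).2 h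
  obtain ⟨a', ha'⟩ := hdvd
  have hb' : ¬ p ∣ b / p ^ b.factorization p := Nat.not_dvd_ordCompl hp hb
  have hbb : p ^ b.factorization p * (b / p ^ b.factorization p) = b :=
    Nat.ordProj_mul_ordCompl_eq_self b p
  have hpc : (p : ℂ) ≠ 0 := by exact_mod_cast hp.ne_zero
  have hbc : ((b / p ^ b.factorization p : ℕ) : ℂ) ≠ 0 := by
    intro h0
    have h1 : b / p ^ b.factorization p = 0 := by exact_mod_cast h0
    rw [h1, mul_zero] at hbb
    exact hb hbb.symm
  have e : (a : ℂ) / (b : ℂ) = (a' : ℂ) * ((b / p ^ b.factorization p : ℕ) : ℂ)⁻¹ := by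
    conv_lhs => rw [← hbb]
    rw [ha']
    rw [Nat.cast_mul (p ^ b.factorization p) a', Nat.cast_mul (p ^ b.factorization p) (b / p ^ b.factorization p)]
    rw [mul_div_mul_left _ _ (by rw [Nat.cast_pow]; exact pow_ne_zero _ hpc), div_eq_mul_inv]
  rw [e]
  exact memLocalRing_mul (memLocalRing_natCast _) (memLocalRing_inv_natCast hM hb')

theorem charDegree_eq {G : Type*} [Group G] {χ : G → ℂ} {n : ℕ} (h : χ 1 = n) :
    charDegree χ = n := by
  change ⌊(χ 1).re⌋₊ = n
  rw [h, Complex.natCast_re, Nat.floor_natCast]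

theorem coe_charDegree {G : Type*} [Group G] {χ : G → ℂ} (hχ : IsCharacter G χ) :
    ((charDegree χ : ℕ) : ℂ) = χ 1 := by
  obtain ⟨n, hn⟩ := isCharacter_apply_one hχ
  rw [charDegree_eq hn, hn]

end arith

section normal

variable {G : Type*} [Group G]

theorem sum_normal_eq_zero_or {χ : G → ℂ} (hχ : IsIrrCharacter G χ)
    (K : Subgroup G) [hK : K.Normal] [Fintype K] :
    ∑ x : K, χ x = 0 ∨ ∑ x : K, χ x = (Nat.card K : ℂ) * χ 1 := by
  obtain ⟨n, ρ, hρ, rfl⟩ := hχ
  set f : Module.End ℂ (Fin n → ℂ) := ∑ x : K, ρ (x : G) with hf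
  have hcomm : ∀ g, f * ρ g = ρ g * f := by
    intro g
    rw [hf, Finset.sum_mul, Finset.mul_sum]
    refine Fintype.sum_equiv (MulAut.conjNormal (g⁻¹) : K ≃* K).toEquiv _ _ fun x => ?_
    rw [← map_mul, ← map_mul]
    congr 1
    simp only [MulEquiv.toEquiv_eq_coe, EquivLike.coe_coe, MulAut.conjNormal_apply, inv_inv]
    group
  have hsc := Cfsg.Agent.Characters.Central.eq_trace_smul_of_comm ρ hρ f hcomm
  have h1 : ρ.character 1 ≠ 0 := Cfsg.Agent.Characters.Central.char_one_ne_zero ρ hρ
  have htr : LinearMap.trace ℂ (Fin n → ℂ) f = ∑ x : K, ρ.character x := by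
    rw [hf, map_sum]
    rfl
  set c : ℂ := LinearMap.trace ℂ (Fin n → ℂ) f / ρ.character 1 with hc
  have hff : f * f = (Nat.card K : ℂ) • f := by
    conv_lhs => rw [hf, Finset.sum_mul]
    have : ∀ x ∈ (Finset.univ : Finset K), ρ (x : G) * f = f := by
      intro x _
      rw [hf, Finset.mul_sum]
      refine Fintype.sum_equiv (Equiv.mulLeft x) _ _ fun y => ?_
      rw [← map_mul]
      rfl
    rw [← hf, Finset.sum_congr rfl this, Finset.sum_const, Finset.card_univ, Fintype.card_eq_nat_card,
      ← Nat.cast_smul_eq_nsmul ℂ]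
  have hn : (1 : Module.End ℂ (Fin n → ℂ)) ≠ 0 := by
    intro h0
    apply h1
    change LinearMap.trace ℂ (Fin n → ℂ) (ρ 1) = 0
    rw [map_one, h0, map_zero]
  have hc2 : c * c = (Nat.card K : ℂ) * c := by
    rw [hsc, smul_mul_smul_comm, one_mul, smul_smul, smul_left_inj hn] at hff
    exact hff
  have hsum : ∑ x : K, ρ.character x = c * ρ.character 1 := by
    rw [← htr, hc, div_mul_cancel₀ _ h1]
  rcases eq_or_ne c 0 with h0 | h0
  · left
    rw [hsum, h0, zero_mul]
  · right
    rw [hsum, mul_right_cancel₀ h0 hc2]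

end normal

section pgroup

variable {G : Type*} [Group G] [Finite G]

omit [Finite G] in
/-- The sum of a character over a finite group mapping to `G` is a natural number. -/
theorem exists_nat_sum_comp {D : Type*} [Group D] [Fintype D] (f : D →* G) {χ : G → ℂ}
    (hχ : IsCharacter G χ) : ∃ n : ℕ, ∑ x : D, χ (f x) = n := by
  obtain ⟨n, hn⟩ := classInner_isNat (isCharacter_comp f hχ) (isCharacter_one (G := D))
  refine ⟨Nat.card D * n, ?_⟩
  have hne : (Nat.card D : ℂ) ≠ 0 := by exact_mod_cast Nat.card_pos.ne'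
  have e : classInner (χ ∘ f) (1 : D → ℂ) = (Nat.card D : ℂ)⁻¹ * ∑ x : D, χ (f x) := by
    change (Nat.card D : ℂ)⁻¹ * ∑ g : D, (χ ∘ f) g * conj ((1 : D → ℂ) g) = _
    simp
  rw [e, inv_mul_eq_iff_eq_mul₀ hne] at hn
  rw [hn]
  push_cast
  ring

omit [Finite G] in
/-- If the sum of a character along `f` vanishes, so does the sum of each of its constituents. -/
theorem sum_constituent_eq_zero [Fintype (IrrCharacter G)] {D : Type*} [Group D] [Fintype D]
    (f : D →* G) {χ : G → ℂ} (m : IrrCharacter G → ℕ)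
    (hm : χ = ∑ ψ : IrrCharacter G, m ψ • (ψ : G → ℂ))
    (h : ∑ x : D, χ (f x) = 0) (ψ : IrrCharacter G) (hψ : m ψ ≠ 0) :
    ∑ x : D, (ψ : G → ℂ) (f x) = 0 := by
  choose n hn using fun φ : IrrCharacter G => exists_nat_sum_comp f (isIrr_isCharacter φ.2)
  have h1 : ∑ x : D, χ (f x) = ((∑ φ : IrrCharacter G, m φ * n φ : ℕ) : ℂ) := by
    rw [hm]
    simp only [Finset.sum_apply, Pi.smul_apply]
    rw [Finset.sum_comm]
    push_cast
    refine Finset.sum_congr rfl fun φ _ => ?_
    rw [← hn φ, Finset.mul_sum]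
    refine Finset.sum_congr rfl fun x _ => ?_
    rw [nsmul_eq_mul]
  rw [h1] at h
  have h2 : ∑ φ : IrrCharacter G, m φ * n φ = 0 := by exact_mod_cast h
  have h3 := (Finset.sum_eq_zero_iff.1 h2) ψ (Finset.mem_univ _)
  have h4 : n ψ = 0 := by
    rcases Nat.mul_eq_zero.1 h3 with h5 | h5
    · exact absurd h5 hψ
    · exact h5
  rw [hn ψ, h4, Nat.cast_zero]

/-- The degree of an irreducible character divides the group order. -/
theorem exists_degree_dvd {χ : G → ℂ} (hχ : IsIrrCharacter G χ) :
    ∃ n : ℕ, χ 1 = n ∧ n ∣ Nat.card G := by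
  obtain ⟨n, ρ, hρ, rfl⟩ := hχ
  refine ⟨Module.finrank ℂ (Fin n → ℂ), by rw [char_one], ?_⟩
  exact Cfsg.Agent.S0135.result ρ

/-- A character of a `p`-group whose restriction to the derived group does not
contain the principal character has degree divisible by `p`. -/
theorem exists_dvd_degree {p : ℕ} [hp : Fact p.Prime] {P : Type*} [Group P] [Finite P]
    (hP : IsPGroup p P) [Fintype (commutator P)] {χ : P → ℂ} (hχ : IsCharacter P χ)
    (h : ∑ x : commutator P, χ x = 0) : ∃ n : ℕ, χ 1 = ((p * n : ℕ) : ℂ) := by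
  classical
  have := finite_irr (G := P)
  have := Fintype.ofFinite (IrrCharacter P)
  obtain ⟨m, hm⟩ := isCharacter_iff.1 hχ
  have key : ∀ ψ : IrrCharacter P, m ψ ≠ 0 → ∃ n : ℕ, (ψ : P → ℂ) 1 = ((p * n : ℕ) : ℂ) := by
    intro ψ hψ
    have h0 := sum_constituent_eq_zero (commutator P).subtype m hm h ψ hψ
    obtain ⟨d, hd, hdvd⟩ := exists_degree_dvd ψ.2
    obtain ⟨k, hk⟩ := (IsPGroup.iff_card (p := p) (G := P)).1 hP
    rw [hk, Nat.dvd_prime_pow hp.out] at hdvd
    obtain ⟨j, -, hj⟩ := hdvd
    rcases Nat.eq_zero_or_pos j with hj0 | hj0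
    · exfalso
      subst hj0
      rw [pow_zero] at hj
      subst hj
      obtain ⟨f, hf⟩ := Cfsg.Agent.Characters.Linear.exists_hom_of_isIrrCharacter ψ.2
        (by rw [hd]; simp)
      have h5 : ∀ x : commutator P, (ψ : P → ℂ) ((commutator P).subtype x) = 1 := by
        intro x
        have hx : f ((commutator P).subtype x) = 1 := by
          have : (commutator P).subtype x ∈ f.ker :=
            Abelianization.commutator_subset_ker f x.2
          exact this
        rw [hf]
        simp only [hx, Units.val_one]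
      rw [Finset.sum_congr rfl fun x _ => h5 x, Finset.sum_const, nsmul_eq_mul, mul_one] at h0
      have : (Finset.univ : Finset (commutator P)).card = 0 := by exact_mod_cast h0
      rw [Finset.card_univ] at this
      exact Fintype.card_ne_zero this
    · refine ⟨p ^ (j - 1), ?_⟩
      rw [hd, hj]
      congr 1
      rw [← pow_succ']
      congr 1
      omega
  choose! n hn using key
  refine ⟨∑ ψ : IrrCharacter P, m ψ * n ψ, ?_⟩
  rw [hm]
  simp only [Finset.sum_apply, Pi.smul_apply]
  rw [Finset.mul_sum]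
  push_cast
  refine Finset.sum_congr rfl fun ψ _ => ?_
  rcases eq_or_ne (m ψ) 0 with h0 | h0
  · simp [h0]
  · rw [hn ψ h0, nsmul_eq_mul]
    push_cast
    ring

/-- Value of a character at a central element, when it contains no linear character of the
`p`-group `P`. -/
theorem exists_dvd_value {p : ℕ} [hp : Fact p.Prime] {P : Type*} [Group P] [Finite P]
    (hP : IsPGroup p P) [Fintype (commutator P)] (f : P →* G) (g : G)
    (hg : ∀ c, g * c = c * g) {χ : G → ℂ} (hχ : IsCharacter G χ)
    (h : ∑ x : commutator P, χ (f x) = 0) : ∃ a : ℂ, IsIntegral ℤ a ∧ χ g = (p : ℂ) * a := by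
  classical
  have := finite_irr (G := G)
  have := Fintype.ofFinite (IrrCharacter G)
  obtain ⟨m, hm⟩ := isCharacter_iff.1 hχ
  have key : ∀ ψ : IrrCharacter G, m ψ ≠ 0 → ∃ a : ℂ, IsIntegral ℤ a ∧
      (ψ : G → ℂ) g = (p : ℂ) * a := by
    intro ψ hψ
    have h0 := sum_constituent_eq_zero (f.comp (commutator P).subtype) m hm h ψ hψ
    have hψc := isIrr_isCharacter ψ.2
    obtain ⟨n, hn⟩ := exists_dvd_degree hP (isCharacter_comp f hψc) h0
    rw [Function.comp_apply, map_one] at hn
    obtain ⟨k, ρ, hρ, hρψ⟩ := ψ.2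
    have hint := Cfsg.Agent.S0141.result ρ g
    have hcent : Subgroup.centralizer ({g} : Set G) = ⊤ := by
      rw [eq_top_iff]
      intro c _
      rw [Subgroup.mem_centralizer_singleton_iff]
      exact (hg c).symm
    rw [hcent, Subgroup.index_top, Nat.cast_one, one_mul, hρψ] at hint
    have h1 : (ψ : G → ℂ) 1 = (Module.finrank ℂ (Fin k → ℂ) : ℂ) := by
      rw [← hρψ, char_one]
    rw [← h1] at hint
    have h1ne : (ψ : G → ℂ) 1 ≠ 0 := Cfsg.Agent.Characters.Central.irr_one_ne_zero ψ.2
    refine ⟨(n : ℂ) * ((ψ : G → ℂ) g / (ψ : G → ℂ) 1), ?_, ?_⟩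
    · exact IsIntegral.mul (isIntegral_natCast_complex n) hint
    · rw [← mul_assoc]
      have : (p : ℂ) * (n : ℂ) = (ψ : G → ℂ) 1 := by rw [hn]; push_cast; ring
      rw [this, mul_div_cancel₀ _ h1ne]
  choose! a ha using key
  refine ⟨∑ ψ : IrrCharacter G, (m ψ : ℂ) * (if m ψ = 0 then 0 else a ψ), ?_, ?_⟩
  · refine IsIntegral.sum _ fun ψ _ => ?_
    refine IsIntegral.mul (isIntegral_natCast_complex (m ψ)) ?_
    split_ifs with h0
    · exact isIntegral_zero
    · exact (ha ψ h0).1
  · rw [hm]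
    simp only [Finset.sum_apply, Pi.smul_apply]
    rw [Finset.mul_sum]
    refine Finset.sum_congr rfl fun ψ _ => ?_
    rcases eq_or_ne (m ψ) 0 with h0 | h0
    · simp [h0]
    · rw [if_neg h0, (ha ψ h0).2, nsmul_eq_mul]
      ring

end pgroup

end Cfsg.Agent.Blocks.ReynoldsAux
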