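import Mathlib
import Cfsg.Prelude.Def_Blocks
import Cfsg.Agent.Lib.Cores
import Cfsg.Agent.Blocks.SectionSum
import Cfsg.Agent.Blocks.SylowIn
import Cfsg.Agent.Blocks.Induced
import Cfsg.Agent.S0947

/-!
# The principal block on the `p`-section of an element whose centralizer has a normal
`p`-complement
-/

set_option autoImplicit false

open Cfsg

namespace Cfsg.Agent.Blocks.SectionCount

/-- If `O_{p'}(C)` has `p`-power index then it consists of the `p`-regular elements. -/
theorem mem_pPrimeCore_iff {C : Type*} [Group C] [Finite C] (p : ℕ) [hp : Fact p.Prime]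
    (h : ∃ k : ℕ, (pPrimeCore p C).index = p ^ k) (y : C) :
    y ∈ pPrimeCore p C ↔ ¬ p ∣ orderOf y := by
  have hnormal : (pPrimeCore p C).Normal := Lib.Cores.pPrimeCore_normal p
  constructor
  · intro hy hdvd
    have h1 : (Nat.card (pPrimeCore p C)).Coprime p := Lib.Cores.pPrimeCore_coprime p
    have h2 : orderOf y ∣ Nat.card (pPrimeCore p C) := by
      have := orderOf_dvd_natCard (⟨y, hy⟩ : pPrimeCore p C)
      rwa [Subgroup.orderOf_mk] at this
    exact (Nat.Prime.coprime_iff_not_dvd hp.out).1 h1.symm (hdvd.trans h2)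
  · intro hy
    obtain ⟨k, hk⟩ := h
    have h1 : (QuotientGroup.mk y : C ⧸ pPrimeCore p C) = 1 := by
      rw [← orderOf_eq_one_iff]
      have h2 : orderOf (QuotientGroup.mk y : C ⧸ pPrimeCore p C) ∣ p ^ k := by
        rw [← hk]
        exact orderOf_dvd_natCard _
      have h3 : orderOf (QuotientGroup.mk y : C ⧸ pPrimeCore p C) ∣ orderOf y :=
        orderOf_map_dvd (QuotientGroup.mk' (pPrimeCore p C)) y
      have h4 : Nat.Coprime (p ^ k) (orderOf y) :=
        Nat.Coprime.pow_left _ ((Nat.Prime.coprime_iff_not_dvd hp.out).2 hy)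
      exact Nat.eq_one_of_dvd_coprimes h4 h2 h3
    exact (QuotientGroup.eq_one_iff y).1 h1

theorem card_eq_mul_pow {C : Type*} [Group C] [Finite C] (p : ℕ) [hp : Fact p.Prime]
    (h : ∃ k : ℕ, (pPrimeCore p C).index = p ^ k) :
    Nat.card C = Nat.card (pPrimeCore p C) * p ^ (Nat.card C).factorization p := by
  obtain ⟨k, hk⟩ := h
  have h1 : Nat.card C = Nat.card (pPrimeCore p C) * p ^ k := by
    rw [← hk, Subgroup.card_mul_index]
  have h2 : (Nat.card (pPrimeCore p C)).Coprime p := Lib.Cores.pPrimeCore_coprime p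
  have h3 : (Nat.card C).factorization p = k := by
    rw [h1, Nat.factorization_mul Nat.card_pos.ne' (pow_ne_zero _ hp.out.ne_zero),
      Finsupp.add_apply, Nat.factorization_eq_zero_of_not_dvd
        ((Nat.Prime.coprime_iff_not_dvd hp.out).1 h2.symm), hp.out.factorization_pow]
    simp
  rw [h3]
  exact h1

open scoped Classical in
theorem card_filter_regular {G : Type*} [Group G] [Fintype G] (p : ℕ) [hp : Fact p.Prime] (x : G)
    (h : ∃ k : ℕ, (pPrimeCore p (Subgroup.centralizer ({x} : Set G))).index = p ^ k) :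
    (Finset.univ.filter (fun y : G => Commute x y ∧ ¬ p ∣ orderOf y)).card =
      Nat.card (pPrimeCore p (Subgroup.centralizer ({x} : Set G))) := by
  have h1 := mem_pPrimeCore_iff p h
  rw [← Subgroup.card_subtype (Subgroup.centralizer ({x} : Set G))
    (pPrimeCore p (Subgroup.centralizer ({x} : Set G))), ← Fintype.card_subtype,
    ← Nat.card_eq_fintype_card]
  refine Nat.card_congr (Equiv.subtypeEquivRight fun y => ?_)
  rw [Subgroup.mem_map]
  constructor
  · rintro ⟨hc, hy⟩
    have hyC : y ∈ Subgroup.centralizer ({x} : Set G) := by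
      rw [Subgroup.mem_centralizer_singleton_iff]
      exact hc.symm.eq
    refine ⟨⟨y, hyC⟩, (h1 _).2 ?_, rfl⟩
    rwa [Subgroup.orderOf_mk]
  · rintro ⟨⟨y', hy'⟩, h2, rfl⟩
    have h3 := (h1 _).1 h2
    rw [Subgroup.orderOf_mk] at h3
    rw [Subgroup.mem_centralizer_singleton_iff] at hy'
    exact ⟨(show Commute y' x from hy').symm, h3⟩

open scoped Classical in
/-- The sum of the squared norms of the principal block over the part of the `p`-section with
`p`-part `x`. -/
theorem sum_principal {G : Type*} [Group G] [Fintype G] (p : ℕ) [hp : Fact p.Prime]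
    (M : Ideal AlgInt) (hM : IsPModular p M) (x : G) (hx : ∃ k : ℕ, orderOf x = p ^ k)
    (hx1 : x ≠ 1)
    (h : ∃ k : ℕ, (pPrimeCore p (Subgroup.centralizer ({x} : Set G))).index = p ^ k) :
    ∑ y ∈ Finset.univ.filter (fun y : G => Commute x y ∧ ¬ p ∣ orderOf y),
      (∑ᶠ χ ∈ principalBlock M G, ‖(χ : G → ℂ) (x * y)‖ ^ 2) =
      (Nat.card (Subgroup.centralizer ({x} : Set G)) : ℝ) := by
  have h1 : ∀ y ∈ Finset.univ.filter (fun y : G => Commute x y ∧ ¬ p ∣ orderOf y),
      (∑ᶠ χ ∈ principalBlock M G, ‖(χ : G → ℂ) (x * y)‖ ^ 2) =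
      ((p ^ (Nat.card (Subgroup.centralizer ({x} : Set G))).factorization p : ℕ) : ℝ) := by
    intro y hy
    obtain ⟨h2, h3⟩ := (Finset.mem_filter.1 hy).2
    have hyC : y ∈ Subgroup.centralizer ({x} : Set G) := by
      rw [Subgroup.mem_centralizer_singleton_iff]
      exact h2.symm.eq
    have h4 := (Cfsg.Agent.S0947.result p M hM x hx hx1 ⟨y, hyC⟩
      (by rwa [Subgroup.orderOf_mk])).2 h
    exact h4
  rw [Finset.sum_congr rfl h1, Finset.sum_const, card_filter_regular p x h, nsmul_eq_mul]
  have h5 := card_eq_mul_pow p h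
  conv_rhs => rw [h5]
  push_cast
  ring

/-- The sum of the orders of the centralizers over a class is the order of the group. -/
theorem sum_card_centralizer {G : Type*} [Group G] [Fintype G] (s : Finset G) (x : G)
    (hs : ∀ y, y ∈ s ↔ IsConj x y) :
    ∑ y ∈ s, (Nat.card (Subgroup.centralizer ({y} : Set G)) : ℝ) = (Nat.card G : ℝ) := by
  have h1 : ∀ y ∈ s, (Nat.card (Subgroup.centralizer ({y} : Set G)) : ℝ) =
      (Nat.card (Subgroup.centralizer ({x} : Set G)) : ℝ) := by
    intro y hy
    rw [SylowIn.card_centralizer_of_isConj ((hs y).1 hy)]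
  rw [Finset.sum_congr rfl h1, Finset.sum_const, nsmul_eq_mul]
  have h2 : s.card = (Subgroup.centralizer ({x} : Set G)).index := by
    rw [← Induced.ncard_conj_eq_index, ← Set.ncard_coe_finset]
    congr 1
    ext y
    exact hs y
  rw [h2]
  exact_mod_cast Subgroup.index_mul_card _

end Cfsg.Agent.Blocks.SectionCount
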