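import Mathlib

/-!
# Traces of non-isomorphic simple modules are linearly independent

Over an algebraically closed field `F`, for a finite family of pairwise non-isomorphic simple
modules of an `F`-algebra `A` there is an element of `A` with trace one on one of them and trace
zero on the others (Jacobson density).
-/

set_option autoImplicit false

namespace Cfsg.Agent.Blocks.SimpleTrace

variable {F : Type*} [Field F] {A : Type*} [Ring A] [Algebra F A]

section Smul

variable {V : Type*} [AddCommGroup V] [Module F V] [Module A V] [IsScalarTower F A V]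

/-- the action of an element of the algebra, as a linear map -/
noncomputable def act (a : A) : V →ₗ[F] V where
  toFun := fun s => a • s
  map_add' := fun x y => smul_add _ _ _
  map_smul' := fun c x => by
    rw [RingHom.id_apply, ← smul_one_smul A c x, ← smul_one_smul A c (a • x), smul_smul, smul_smul]
    congr 1
    rw [mul_smul_comm, mul_one, smul_mul_assoc, one_mul]

theorem act_apply (a : A) (s : V) : (act a : V →ₗ[F] V) s = a • s := rfl

theorem act_mul (a b : A) : (act (a * b) : V →ₗ[F] V) = act a * act b := by
  ext s; exact mul_smul a b s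

theorem act_one : (act (1 : A) : V →ₗ[F] V) = 1 := by
  ext s; exact one_smul A s

theorem act_add (a b : A) : (act (a + b) : V →ₗ[F] V) = act a + act b := by
  ext s; exact add_smul a b s

theorem act_smul (c : F) (a : A) : (act (c • a) : V →ₗ[F] V) = c • act a := by
  ext s; exact smul_assoc c a s

theorem act_sum {ι : Type*} (s : Finset ι) (f : ι → A) :
    (act (∑ i ∈ s, f i) : V →ₗ[F] V) = ∑ i ∈ s, act (f i) := by
  ext v
  rw [LinearMap.sum_apply, act_apply, Finset.sum_smul]
  rfl

end Smul

/-- Density: an element acting as a given rank one idempotent on one of the simple modules and as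
zero on the others. -/
theorem exists_trace_dual [IsAlgClosed F] {ι : Type*} [Finite ι] [DecidableEq ι] (S : ι → Type*)
    [∀ i, AddCommGroup (S i)] [∀ i, Module F (S i)] [∀ i, Module A (S i)]
    [∀ i, IsScalarTower F A (S i)] [∀ i, FiniteDimensional F (S i)]
    [∀ i, IsSimpleModule A (S i)] (hne : ∀ i j, i ≠ j → IsEmpty (S i ≃ₗ[A] S j)) (i : ι) :
    ∃ a : A, ∀ j, LinearMap.trace F (S j) (act a) = if i = j then 1 else 0 := by
  classical
  have : Fintype ι := Fintype.ofFinite ι
  have hnt : Nontrivial (S i) := IsSimpleModule.nontrivial A (S i)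
  obtain ⟨v, hv⟩ := exists_ne (0 : S i)
  obtain ⟨f₀, hf₀⟩ := Module.Projective.exists_dual_eq_one F hv
  let φ : S i →ₗ[F] S i := f₀.smulRight v
  have hφ : ∀ s, φ s = f₀ s • v := fun s => rfl
  -- A-endomorphisms of the product
  have hoff : ∀ (ψ : Module.End A (Π j, S j)) (j k : ι), j ≠ k → ∀ s : S j,
      (ψ (Pi.single j s)) k = 0 := by
    intro ψ j k hjk s
    let g : S j →ₗ[A] S k := (LinearMap.proj k).comp (ψ.comp (LinearMap.single A S j))
    have hg : g = 0 := by
      rcases LinearMap.bijective_or_eq_zero g with hb | hz
      · exact ((hne j k hjk).false (LinearEquiv.ofBijective g hb)).elim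
      · exact hz
    have : g s = 0 := by rw [hg]; rfl
    exact this
  have hdiag : ∀ (ψ : Module.End A (Π j, S j)), ∃ c : F, ∀ s : S i,
      (ψ (Pi.single i s)) i = c • s := by
    intro ψ
    let g : S i →ₗ[A] S i := (LinearMap.proj i).comp (ψ.comp (LinearMap.single A S i))
    obtain ⟨c, hc⟩ := (IsSimpleModule.algebraMap_end_bijective_of_isAlgClosed
      (A := A) (V := S i) F).2 g
    refine ⟨c, fun s => ?_⟩
    have : g s = c • s := by rw [← hc]; rfl
    exact this
  have hcomp : ∀ (ψ : Module.End A (Π j, S j)) (m : Π j, S j),
      (ψ m) i = (ψ (Pi.single i (m i))) i := by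
    intro ψ m
    have h1 : m = ∑ j, Pi.single j (m j) := (Finset.univ_sum_single m).symm
    conv_lhs => rw [h1, map_sum, Finset.sum_apply]
    rw [Finset.sum_eq_single i]
    · intro j _ hj
      exact hoff ψ j i hj (m j)
    · intro h; exact absurd (Finset.mem_univ _) h
  let f : Module.End (Module.End A (Π j, S j)) (Π j, S j) :=
    { toFun := fun m => Pi.single i (φ (m i))
      map_add' := fun x y => by
        rw [Pi.add_apply, map_add, Pi.single_add]
      map_smul' := fun ψ m => by
        rw [RingHom.id_apply]
        change Pi.single i (φ ((ψ m) i)) = ψ (Pi.single i (φ (m i)))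
        obtain ⟨c, hc⟩ := hdiag ψ
        rw [hcomp ψ m, hc, map_smul]
        ext k
        by_cases hk : k = i
        · subst hk
          rw [Pi.single_eq_same, hc]
        · rw [Pi.single_eq_of_ne hk, hoff ψ i k (Ne.symm hk)] }
  have hf : ∀ m, f m = Pi.single i (φ (m i)) := fun m => rfl
  obtain ⟨s, hs⟩ := Module.Finite.fg_top (R := F) (M := Π j, S j)
  obtain ⟨a, ha⟩ := jacobson_density f s
  have hall : ∀ m : Π j, S j, f m = a • m := by
    intro m
    have hm : m ∈ Submodule.span F (s : Set (Π j, S j)) := by rw [hs]; trivial
    induction hm using Submodule.span_induction with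
    | mem m hm => exact ha m hm
    | zero => rw [map_zero, smul_zero]
    | add x y _ _ hx hy => rw [map_add, hx, hy, smul_add]
    | smul c x _ hx =>
      have h1 : f (c • x) = c • f x := by
        rw [hf, hf, Pi.smul_apply, map_smul, Pi.single_smul]
      rw [h1, hx]
      have h2 := (act (F := F) a : (Π j, S j) →ₗ[F] (Π j, S j)).map_smul c x
      exact h2.symm
  refine ⟨a, fun j => ?_⟩
  by_cases hij : i = j
  · subst hij
    rw [if_pos rfl]
    have h1 : (act a : S i →ₗ[F] S i) = φ := by
      ext s
      have h2 := congrFun (hall (Pi.single i s)) i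
      rw [hf, Pi.single_eq_same, Pi.single_eq_same, Pi.smul_apply, Pi.single_eq_same] at h2
      exact h2.symm
    rw [h1]
    change LinearMap.trace F (S i) (f₀.smulRight v) = 1
    rw [LinearMap.trace_smulRight, hf₀]
  · rw [if_neg hij]
    have h1 : (act a : S j →ₗ[F] S j) = 0 := by
      ext s
      have h2 := congrFun (hall (Pi.single j s)) j
      rw [hf, Pi.smul_apply, Pi.single_eq_same, Pi.single_eq_of_ne (Ne.symm hij)] at h2
      exact h2.symm
    rw [h1, map_zero]

end Cfsg.Agent.Blocks.SimpleTrace
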